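import Mathlib

set_option autoImplicit false

namespace Cfsg.Agent.Lib.Helper27

section AbChain

variable {G : Type*} [CommGroup G]

/-- Elements of order dividing `p ^ k`. -/
def omegaSub (G : Type*) [CommGroup G] (p k : ℕ) : Subgroup G :=
  (powMonoidHom (p ^ k) : G →* G).ker

/-- The `p ^ j`-th powers. -/
def agemoSub (G : Type*) [CommGroup G] (p j : ℕ) : Subgroup G :=
  (powMonoidHom (p ^ j) : G →* G).range

theorem mem_omegaSub {p k : ℕ} {s : G} : s ∈ omegaSub G p k ↔ s ^ (p ^ k) = 1 := Iff.rfl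

theorem mem_agemoSub {p j : ℕ} {s : G} : s ∈ agemoSub G p j ↔ ∃ g : G, g ^ (p ^ j) = s :=
  Iff.rfl

/-- The characteristic subgroup `Ω_k ⊔ (℧^j ⊓ Ω_{k+1})`. -/
def abC (G : Type*) [CommGroup G] (p k j : ℕ) : Subgroup G :=
  omegaSub G p k ⊔ (agemoSub G p j ⊓ omegaSub G p (k + 1))

theorem abC_inv (p k j : ℕ) (α : MulAut G) {s : G} (hs : s ∈ abC G p k j) :
    α s ∈ abC G p k j := by
  unfold abC at hs ⊢
  rw [Subgroup.mem_sup] at hs ⊢
  obtain ⟨y, hy, z, hz, rfl⟩ := hs
  obtain ⟨hz1, hz2⟩ := Subgroup.mem_inf.mp hz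
  refine ⟨α y, ?_, α z, Subgroup.mem_inf.mpr ⟨?_, ?_⟩, (map_mul α y z).symm⟩
  · rw [mem_omegaSub] at hy ⊢
    rw [← map_pow, hy, map_one]
  · rw [mem_agemoSub] at hz1 ⊢
    obtain ⟨g, rfl⟩ := hz1
    exact ⟨α g, (map_pow α g _).symm⟩
  · rw [mem_omegaSub] at hz2 ⊢
    rw [← map_pow, hz2, map_one]

theorem abC_step {ι : Type} [Fintype ι] (p : ℕ) (hp : p.Prime) (x : ι → G) (e : ι → ℕ)
    (hspan : ∀ s : G, ∃ a : ι → ℕ, s = ∏ i, x i ^ a i)
    (hindep : ∀ a : ι → ℕ, ∏ i, x i ^ a i = 1 → ∀ i, p ^ e i ∣ a i)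
    (hord : ∀ i, x i ^ (p ^ e i) = 1) (hinj : Function.Injective e) (k j : ℕ) :
    ∃ y : G, abC G p k j = abC G p k (j + 1) ⊔ Subgroup.zpowers y := by
  classical
  obtain ⟨y, hy1, hy2⟩ : ∃ y : G, y ∈ abC G p k j ∧
      ∀ i, e i = j + k + 1 → x i ^ (p ^ j) ∈ Subgroup.zpowers y := by
    by_cases h : ∃ i, e i = j + k + 1
    · obtain ⟨i₀, hi₀⟩ := h
      refine ⟨x i₀ ^ (p ^ j), ?_, ?_⟩
      · apply Subgroup.mem_sup_right
        refine Subgroup.mem_inf.mpr ⟨⟨x i₀, rfl⟩, ?_⟩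
        rw [mem_omegaSub, ← pow_mul, ← pow_add, ← add_assoc, ← hi₀]
        exact hord i₀
      · intro i hi
        have hii : i = i₀ := hinj (hi.trans hi₀.symm)
        rw [hii]
        exact Subgroup.mem_zpowers _
    · exact ⟨1, one_mem _, fun i hi => (h ⟨i, hi⟩).elim⟩
  refine ⟨y, le_antisymm ?_ ?_⟩
  · unfold abC
    refine sup_le ?_ ?_
    · exact le_sup_left.trans le_sup_left
    · intro f hf0
      obtain ⟨⟨g, rfl⟩, hf⟩ := Subgroup.mem_inf.mp hf0
      obtain ⟨a, rfl⟩ := hspan g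
      have hf' : ∏ i, x i ^ (a i * p ^ (j + k + 1)) = 1 := by
        rw [mem_omegaSub] at hf
        have h1 : ((∏ i, x i ^ a i) ^ (p ^ j)) ^ (p ^ (k + 1)) = 1 := hf
        rw [← pow_mul, ← pow_add, ← add_assoc, ← Finset.prod_pow] at h1
        rw [← h1]
        refine Finset.prod_congr rfl (fun i _ => ?_)
        rw [pow_mul]
      have hdvd := hindep _ hf'
      show (∏ i, x i ^ a i) ^ (p ^ j) ∈ _
      rw [← Finset.prod_pow]
      apply Subgroup.prod_mem
      intro i _
      rcases lt_trichotomy (e i) (j + k + 1) with hlt | heq | hgt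
      · apply Subgroup.mem_sup_left
        apply Subgroup.mem_sup_left
        rw [mem_omegaSub, ← pow_mul, ← pow_mul]
        obtain ⟨d, hd⟩ : p ^ e i ∣ a i * (p ^ j * p ^ k) := by
          rw [← pow_add]
          exact Dvd.dvd.mul_left (pow_dvd_pow p (by omega)) _
        rw [hd, pow_mul, hord, one_pow]
      · apply Subgroup.mem_sup_right
        rw [← pow_mul, mul_comm, pow_mul]
        exact Subgroup.pow_mem _ (hy2 i heq) _
      · apply Subgroup.mem_sup_left
        apply Subgroup.mem_sup_right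
        have hpa : p ∣ a i := by
          have h1 : p ^ (j + k + 1) * p ∣ p ^ (j + k + 1) * a i := by
            rw [← pow_succ, mul_comm (p ^ (j + k + 1)) (a i)]
            exact (pow_dvd_pow p (by omega)).trans (hdvd i)
          exact Nat.dvd_of_mul_dvd_mul_left (pow_pos hp.pos _) h1
        obtain ⟨a', ha'⟩ := hpa
        refine Subgroup.mem_inf.mpr ⟨⟨x i ^ a', ?_⟩, ?_⟩
        · show (x i ^ a') ^ (p ^ (j + 1)) = (x i ^ a i) ^ (p ^ j)
          rw [ha', ← pow_mul, ← pow_mul, pow_succ]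
          congr 1
          ring
        · rw [mem_omegaSub, ← pow_mul, ← pow_mul]
          obtain ⟨d, hd⟩ : p ^ e i ∣ a i * (p ^ j * p ^ (k + 1)) := by
            rw [← pow_add, ← add_assoc]
            exact hdvd i
          rw [hd, pow_mul, hord, one_pow]
  · refine sup_le ?_ ?_
    · unfold abC
      refine sup_le le_sup_left ?_
      refine le_sup_of_le_right ?_
      refine inf_le_inf_right _ ?_
      rintro _ ⟨g, rfl⟩
      refine ⟨g ^ p, ?_⟩
      show (g ^ p) ^ (p ^ j) = g ^ (p ^ (j + 1))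
      rw [← pow_mul, pow_succ']
    · rw [Subgroup.zpowers_le]
      exact hy1

/-- Invariance under all automorphisms. -/
def AbAutInv (K : Subgroup G) : Prop := ∀ α : MulAut G, ∀ s ∈ K, α s ∈ K

/-- A chain of invariant subgroups from `A` to `B` with cyclic steps. -/
def ReachN (A B : Subgroup G) : Prop :=
  ∃ (M : ℕ) (c : ℕ → Subgroup G), c 0 = A ∧ c M = B ∧ (∀ t, AbAutInv (c t)) ∧
    ∀ t < M, c t ≤ c (t + 1) ∧ ∃ y, c (t + 1) = c t ⊔ Subgroup.zpowers y

theorem reachN_refl (A : Subgroup G) (hA : AbAutInv A) : ReachN A A :=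
  ⟨0, fun _ => A, rfl, rfl, fun _ => hA, fun t ht => absurd ht (Nat.not_lt_zero t)⟩

theorem reachN_snoc {A B B' : Subgroup G} (h : ReachN A B) (hB' : AbAutInv B') (hle : B ≤ B')
    (hstep : ∃ y, B' = B ⊔ Subgroup.zpowers y) : ReachN A B' := by
  obtain ⟨M, c, h0, hM, hinv, hst⟩ := h
  refine ⟨M + 1, fun t => if t ≤ M then c t else B', ?_, ?_, ?_, ?_⟩
  · show (if 0 ≤ M then c 0 else B') = A
    rw [if_pos (Nat.zero_le M), h0]
  · show (if M + 1 ≤ M then c (M + 1) else B') = B'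
    rw [if_neg (by omega)]
  · intro t
    show AbAutInv (if t ≤ M then c t else B')
    by_cases ht : t ≤ M
    · rw [if_pos ht]
      exact hinv t
    · rw [if_neg ht]
      exact hB'
  · intro t ht
    show (if t ≤ M then c t else B') ≤ (if t + 1 ≤ M then c (t + 1) else B') ∧
      ∃ y, (if t + 1 ≤ M then c (t + 1) else B') =
        (if t ≤ M then c t else B') ⊔ Subgroup.zpowers y
    by_cases htM : t < M
    · rw [if_pos htM.le, if_pos (show t + 1 ≤ M from htM)]
      exact hst t htM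
    · have h1 : t = M := by omega
      subst h1
      rw [if_pos le_rfl, if_neg (by omega), hM]
      exact ⟨hle, hstep⟩

theorem exists_char_chain {ι : Type} [Fintype ι] (p : ℕ) (hp : p.Prime) (x : ι → G)
    (e : ι → ℕ) (hspan : ∀ s : G, ∃ a : ι → ℕ, s = ∏ i, x i ^ a i)
    (hindep : ∀ a : ι → ℕ, ∏ i, x i ^ a i = 1 → ∀ i, p ^ e i ∣ a i)
    (hord : ∀ i, x i ^ (p ^ e i) = 1) (hinj : Function.Injective e) (N : ℕ)
    (hN : ∀ s : G, s ^ (p ^ N) = 1) : ReachN (⊥ : Subgroup G) ⊤ := by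
  have hC_N : ∀ k, abC G p k N = omegaSub G p k := by
    intro k
    unfold abC
    have h1 : agemoSub G p N = ⊥ := by
      rw [eq_bot_iff]
      rintro _ ⟨g, rfl⟩
      exact Subgroup.mem_bot.mpr (hN g)
    rw [h1, bot_inf_eq, sup_bot_eq]
  have hC_0 : ∀ k, abC G p k 0 = omegaSub G p (k + 1) := by
    intro k
    unfold abC
    have h1 : agemoSub G p 0 = ⊤ := by
      rw [eq_top_iff]
      intro s _
      refine ⟨s, ?_⟩
      show s ^ (p ^ 0) = s
      rw [pow_zero, pow_one]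
    have h2 : omegaSub G p k ≤ omegaSub G p (k + 1) := by
      intro s hs
      rw [mem_omegaSub] at hs ⊢
      rw [pow_succ, pow_mul, hs, one_pow]
    rw [h1, top_inf_eq, sup_eq_right.mpr h2]
  have hΩ : ∀ k, ReachN (⊥ : Subgroup G) (omegaSub G p k) := by
    intro k
    induction k with
    | zero =>
      have h1 : omegaSub G p 0 = ⊥ := by
        rw [eq_bot_iff]
        intro s hs
        rw [mem_omegaSub, pow_zero, pow_one] at hs
        exact Subgroup.mem_bot.mpr hs
      rw [h1]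
      refine reachN_refl ⊥ (fun α s hs => ?_)
      rw [Subgroup.mem_bot] at hs ⊢
      rw [hs, map_one]
    | succ k ih =>
      have hd : ∀ d, d ≤ N → ReachN (⊥ : Subgroup G) (abC G p k (N - d)) := by
        intro d
        induction d with
        | zero =>
          intro _
          rw [Nat.sub_zero, hC_N]
          exact ih
        | succ d ihd =>
          intro hdN
          have h1 := ihd (by omega)
          obtain ⟨y, hy⟩ := abC_step p hp x e hspan hindep hord hinj k (N - (d + 1))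
          have e1 : N - (d + 1) + 1 = N - d := by omega
          rw [e1] at hy
          refine reachN_snoc h1 (fun α s hs => abC_inv p k _ α hs) ?_ ⟨y, hy⟩
          rw [hy]
          exact le_sup_left
      have h2 := hd N le_rfl
      rw [Nat.sub_self, hC_0] at h2
      exact h2
  have htop : omegaSub G p N = ⊤ := by
    rw [eq_top_iff]
    intro s _
    exact hN s
  rw [← htop]
  exact hΩ N

theorem fin_chain_of_reachN (h : ReachN (⊥ : Subgroup G) ⊤) :
    ∃ (m : ℕ) (c : Fin (m + 1) → Subgroup G), c 0 = ⊥ ∧ c (Fin.last m) = ⊤ ∧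
      (∀ i, ∀ α : MulAut G, ∀ s ∈ c i, α s ∈ c i) ∧
      ∀ i : Fin m, c i.castSucc ≤ c i.succ ∧
        ∃ y, c i.succ = c i.castSucc ⊔ Subgroup.zpowers y := by
  obtain ⟨M, c, h0, hM, hinv, hst⟩ := h
  exact ⟨M, fun i => c i.val, h0, hM, fun i => hinv _, fun i => hst i.val i.2⟩

end AbChain

section Basis

theorem exists_basis (G : Type*) [CommGroup G] [Finite G] :
    ∃ (ι : Type) (_ : Fintype ι) (n : ι → ℕ) (x : ι → G), (∀ i, 1 < n i) ∧
      (∀ s : G, ∃ a : ι → ℕ, s = ∏ i, x i ^ a i) ∧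
      (∀ a : ι → ℕ, ∏ i, x i ^ a i = 1 → ∀ i, n i ∣ a i) ∧ (∀ i, x i ^ n i = 1) ∧
      Nonempty (G ≃* ((i : ι) → Multiplicative (ZMod (n i)))) := by
  classical
  obtain ⟨ι, _, n, hn, ⟨φ⟩⟩ := CommGroup.equiv_prod_multiplicative_zmod_of_finite G
  have hne : ∀ i, NeZero (n i) := fun i => NeZero.of_gt (hn i)
  have hx : ∀ (a : ι → ℕ) (i : ι),
      (∏ l, (Pi.mulSingle l (Multiplicative.ofAdd (1 : ZMod (n l))) :
        ∀ i, Multiplicative (ZMod (n i))) ^ a l) i =
        Multiplicative.ofAdd ((a i : ZMod (n i))) := by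
    intro a i
    rw [Finset.prod_apply, Finset.prod_eq_single i]
    · rw [Pi.pow_apply, Pi.mulSingle_eq_same, ← ofAdd_nsmul, nsmul_one]
    · intro l _ hl
      rw [Pi.pow_apply, Pi.mulSingle_eq_of_ne (Ne.symm hl), one_pow]
    · intro h
      exact absurd (Finset.mem_univ i) h
  refine ⟨ι, inferInstance, n,
    fun i => φ.symm (Pi.mulSingle i (Multiplicative.ofAdd (1 : ZMod (n i)))), hn, ?_, ?_, ?_,
    ⟨φ⟩⟩
  · intro s
    refine ⟨fun i => (Multiplicative.toAdd (φ s i)).val, ?_⟩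
    apply φ.injective
    rw [map_prod]
    simp only [map_pow, MulEquiv.apply_symm_apply]
    funext i
    rw [hx, ZMod.natCast_zmod_val]
    rfl
  · intro a ha i
    have h1 := congrArg φ ha
    rw [map_prod, map_one] at h1
    simp only [map_pow, MulEquiv.apply_symm_apply] at h1
    have h2 := congrFun h1 i
    rw [hx] at h2
    have h3 : ((a i : ℕ) : ZMod (n i)) = 0 := h2
    exact (ZMod.natCast_eq_zero_iff _ _).mp h3
  · intro i
    have h1 : ∏ l, (φ.symm (Pi.mulSingle l (Multiplicative.ofAdd (1 : ZMod (n l))))) ^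
        (Pi.single i (n i) : ι → ℕ) l =
        φ.symm (Pi.mulSingle i (Multiplicative.ofAdd (1 : ZMod (n i)))) ^ n i := by
      rw [Finset.prod_eq_single i]
      · rw [Pi.single_eq_same]
      · intro l _ hl
        rw [Pi.single_eq_of_ne hl, pow_zero]
      · intro h
        exact absurd (Finset.mem_univ i) h
    rw [← h1]
    apply φ.injective
    rw [map_prod, map_one]
    simp only [map_pow, MulEquiv.apply_symm_apply]
    funext l
    rw [hx]
    by_cases hl : l = i
    · subst hl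
      rw [Pi.single_eq_same, ZMod.natCast_self]
      rfl
    · rw [Pi.single_eq_of_ne hl, Nat.cast_zero]
      rfl

theorem exists_pbasis (G : Type*) [CommGroup G] [Finite G] (p : ℕ) [Fact p.Prime]
    (hG : IsPGroup p G) :
    ∃ (ι : Type) (_ : Fintype ι) (e : ι → ℕ) (x : ι → G), (∀ i, 0 < e i) ∧
      (∀ s : G, ∃ a : ι → ℕ, s = ∏ i, x i ^ a i) ∧
      (∀ a : ι → ℕ, ∏ i, x i ^ a i = 1 → ∀ i, p ^ e i ∣ a i) ∧
      (∀ i, x i ^ (p ^ e i) = 1) ∧
      Nonempty (G ≃* ((i : ι) → Multiplicative (ZMod (p ^ e i)))) := by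
  classical
  obtain ⟨ι, _, n, x, hn, hspan, hindep, hord, ⟨φ⟩⟩ := exists_basis G
  have hpow : ∀ i, ∃ m, n i = p ^ m := by
    intro i
    obtain ⟨k, hk⟩ := hG (x i)
    have h1 : n i ∣ p ^ k := by
      have h2 : ∏ l, x l ^ (Pi.single i (p ^ k) : ι → ℕ) l = 1 := by
        rw [Finset.prod_eq_single i]
        · rw [Pi.single_eq_same]
          exact hk
        · intro l _ hl
          rw [Pi.single_eq_of_ne hl, pow_zero]
        · intro h
          exact absurd (Finset.mem_univ i) h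
      have h3 := hindep _ h2 i
      rwa [Pi.single_eq_same] at h3
    obtain ⟨m, -, hm⟩ := (Nat.dvd_prime_pow (Fact.out : p.Prime)).mp h1
    exact ⟨m, hm⟩
  choose e he using hpow
  have hn' : n = fun i => p ^ e i := funext he
  subst hn'
  refine ⟨ι, inferInstance, e, x, ?_, hspan, hindep, hord, ⟨φ⟩⟩
  intro i
  by_contra h0
  have h00 : e i = 0 := by omega
  have h1 : 1 < p ^ e i := hn i
  rw [h00, pow_zero] at h1
  exact lt_irrefl _ h1

theorem exists_split {ι : Type} (M : ι → Type) [∀ i, CommGroup (M i)] (i j : ι)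
    (hij : i ≠ j) :
    ∃ (H : Type) (_ : CommGroup H), Nonempty ((∀ l, M l) ≃* (M i × M j) × H) := by
  classical
  let f : (∀ l, M l) →* (M i × M j) × (∀ l : {l // l ≠ i ∧ l ≠ j}, M l.1) :=
    { toFun := fun g => ((g i, g j), fun l => g l.1)
      map_one' := rfl
      map_mul' := fun _ _ => rfl }
  refine ⟨∀ l : {l // l ≠ i ∧ l ≠ j}, M l.1, inferInstance,
    ⟨MulEquiv.ofBijective f ⟨?_, ?_⟩⟩⟩
  · intro g g' h
    have h1 : g i = g' i := congrArg (fun t => t.1.1) h
    have h2 : g j = g' j := congrArg (fun t => t.1.2) h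
    have h3 : ∀ l : {l // l ≠ i ∧ l ≠ j}, g l.1 = g' l.1 := fun l =>
      congrFun (congrArg (fun t => t.2) h) l
    funext l
    by_cases hli : l = i
    · subst hli
      exact h1
    · by_cases hlj : l = j
      · subst hlj
        exact h2
      · exact h3 ⟨l, hli, hlj⟩
  · rintro ⟨⟨a, b⟩, r⟩
    refine ⟨fun l => if h1 : l = i then (cast (congrArg M h1.symm) a : M l) else
      if h2 : l = j then (cast (congrArg M h2.symm) b : M l) else r ⟨l, h1, h2⟩, ?_⟩
    refine Prod.ext (Prod.ext ?_ ?_) ?_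
    · show (if h1 : i = i then (cast (congrArg M h1.symm) a : M i) else
        if h2 : i = j then (cast (congrArg M h2.symm) b : M i) else r ⟨i, h1, h2⟩) = a
      rw [dif_pos rfl]
      rfl
    · show (if h1 : j = i then (cast (congrArg M h1.symm) a : M j) else
        if h2 : j = j then (cast (congrArg M h2.symm) b : M j) else r ⟨j, h1, h2⟩) = b
      rw [dif_neg hij.symm, dif_pos rfl]
      rfl
    · funext l
      show (if h1 : l.1 = i then (cast (congrArg M h1.symm) a : M l.1) else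
        if h2 : l.1 = j then (cast (congrArg M h2.symm) b : M l.1) else r ⟨l.1, h1, h2⟩) = r l
      rw [dif_neg l.2.1, dif_neg l.2.2]

theorem exists_decomp_of_not_injective (G : Type*) [CommGroup G] {ι : Type} (p : ℕ)
    (e : ι → ℕ) (φ : G ≃* ((i : ι) → Multiplicative (ZMod (p ^ e i)))) (i j : ι)
    (hij : i ≠ j) (hij' : e i = e j) :
    ∃ (H : Type) (_ : CommGroup H), Nonempty (G ≃*
      (Multiplicative (ZMod (p ^ e i)) × Multiplicative (ZMod (p ^ e i))) × H) := by
  obtain ⟨H, _, ⟨ψ⟩⟩ := exists_split (fun l => Multiplicative (ZMod (p ^ e l))) i j hij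
  have ψ' : ((l : ι) → Multiplicative (ZMod (p ^ e l))) ≃*
      (Multiplicative (ZMod (p ^ e i)) × Multiplicative (ZMod (p ^ e j))) × H := ψ
  rw [← hij'] at ψ'
  exact ⟨H, inferInstance, ⟨φ.trans ψ'⟩⟩

theorem ab_chain_or_decomp_comm (G : Type*) [CommGroup G] [Finite G] (p : ℕ) [Fact p.Prime]
    (hG : IsPGroup p G) :
    (∃ (m : ℕ) (c : Fin (m + 1) → Subgroup G), c 0 = ⊥ ∧ c (Fin.last m) = ⊤ ∧
      (∀ i, ∀ α : MulAut G, ∀ s ∈ c i, α s ∈ c i) ∧
      ∀ i : Fin m, c i.castSucc ≤ c i.succ ∧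
        ∃ y, c i.succ = c i.castSucc ⊔ Subgroup.zpowers y) ∨
    (∃ (n : ℕ) (H : Type) (_ : CommGroup H), 0 < n ∧
      Nonempty (G ≃* (Multiplicative (ZMod (p ^ n)) × Multiplicative (ZMod (p ^ n))) × H)) := by
  obtain ⟨ι, _, e, x, he, hspan, hindep, hord, ⟨φ⟩⟩ := exists_pbasis G p hG
  by_cases hinj : Function.Injective e
  · left
    obtain ⟨N, hN⟩ : ∃ N, ∀ s : G, s ^ (p ^ N) = 1 := by
      obtain ⟨N, hN⟩ := IsPGroup.iff_card.mp hG
      exact ⟨N, fun s => by rw [← hN]; exact pow_card_eq_one'⟩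
    exact fin_chain_of_reachN (exists_char_chain p Fact.out x e hspan hindep hord hinj N hN)
  · right
    rw [Function.Injective] at hinj
    push Not at hinj
    obtain ⟨i, j, hij', hij⟩ := hinj
    obtain ⟨H, hH, hiso⟩ := exists_decomp_of_not_injective G p e φ i j hij hij'
    exact ⟨e i, H, hH, he i, hiso⟩

theorem ab_chain_or_decomp {G : Type*} [Group G] [Finite G] (hcomm : ∀ a b : G, a * b = b * a)
    (p : ℕ) [Fact p.Prime] (hG : IsPGroup p G) :
    (∃ (m : ℕ) (c : Fin (m + 1) → Subgroup G), c 0 = ⊥ ∧ c (Fin.last m) = ⊤ ∧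
      (∀ i, ∀ α : MulAut G, ∀ s ∈ c i, α s ∈ c i) ∧
      ∀ i : Fin m, c i.castSucc ≤ c i.succ ∧
        ∃ y, c i.succ = c i.castSucc ⊔ Subgroup.zpowers y) ∨
    (∃ (n : ℕ) (H : Type) (_ : CommGroup H), 0 < n ∧
      Nonempty (G ≃* (Multiplicative (ZMod (p ^ n)) × Multiplicative (ZMod (p ^ n))) × H)) := by
  let _inst : CommGroup G := { ‹Group G› with mul_comm := hcomm }
  exact ab_chain_or_decomp_comm G p hG

end Basis

section Bad

theorem bad_map {A B : Type*} [Group A] [Group B] (f : A →* B) (hf : Function.Injective f)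
    (p : ℕ)
    (h : ∀ H : Subgroup B, (Nat.card ↥H).Coprime p →
      IsMulCommutative ↥H ∧ ∀ h ∈ H, h ^ (p - 1) = 1)
    (K : Subgroup A) (hK : (Nat.card ↥K).Coprime p) :
    IsMulCommutative ↥K ∧ ∀ k ∈ K, k ^ (p - 1) = 1 := by
  have hcard : Nat.card ↥(K.map f) = Nat.card ↥K := Subgroup.card_map_of_injective hf
  obtain ⟨hc, he⟩ := h (K.map f) (by rw [hcard]; exact hK)
  constructor
  · refine ⟨⟨fun a b => ?_⟩⟩
    apply Subtype.ext
    apply hf
    have h1 := hc.is_comm.comm (⟨f a, a, a.2, rfl⟩ : ↥(K.map f)) ⟨f b, b, b.2, rfl⟩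
    have h2 : f (a : A) * f (b : A) = f (b : A) * f (a : A) := congrArg Subtype.val h1
    show f ((a : A) * (b : A)) = f ((b : A) * (a : A))
    rw [map_mul, map_mul]
    exact h2
  · intro k hk
    apply hf
    rw [map_pow, map_one]
    exact he (f k) ⟨k, hk, rfl⟩

theorem exists_nonabelian_two_subgroup {A : Type*} [Group A] (σ r : A) (hσ : σ ^ 2 = 1)
    (hr : r ^ 4 = 1) (hconj : σ * r * σ⁻¹ = r⁻¹) (hne : σ * r ≠ r * σ) :
    ∃ K : Subgroup A, IsPGroup 2 K ∧ ¬ IsMulCommutative K := by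
  have hA : IsPGroup 2 (Subgroup.zpowers σ) := by
    rintro ⟨g, hg⟩
    obtain ⟨z, rfl⟩ := Subgroup.mem_zpowers_iff.mp hg
    refine ⟨1, Subtype.ext ?_⟩
    show (σ ^ z) ^ (2 ^ 1) = 1
    rw [pow_one, ← zpow_natCast, ← zpow_mul, mul_comm, zpow_mul, zpow_natCast, hσ, one_zpow]
  have hB : IsPGroup 2 (Subgroup.zpowers r) := by
    rintro ⟨g, hg⟩
    obtain ⟨z, rfl⟩ := Subgroup.mem_zpowers_iff.mp hg
    refine ⟨2, Subtype.ext ?_⟩
    show (r ^ z) ^ (2 ^ 2) = 1
    have h22 : (2 : ℕ) ^ 2 = 4 := by norm_num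
    rw [h22, ← zpow_natCast, ← zpow_mul, mul_comm, zpow_mul, zpow_natCast, hr, one_zpow]
  have hfw : ∀ h ∈ Subgroup.zpowers r, σ * h * σ⁻¹ ∈ Subgroup.zpowers r := by
    intro h hh
    obtain ⟨z, rfl⟩ := Subgroup.mem_zpowers_iff.mp hh
    rw [← conj_zpow, hconj]
    exact Subgroup.zpow_mem _ (Subgroup.inv_mem _ (Subgroup.mem_zpowers r)) z
  have hσσ : σ * σ = 1 := by
    rw [← sq]
    exact hσ
  have hnorm : Subgroup.zpowers σ ≤ Subgroup.normalizer (Subgroup.zpowers r : Set A) := by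
    rw [Subgroup.zpowers_le, Subgroup.mem_normalizer_iff]
    intro h
    constructor
    · exact hfw h
    · intro hh
      have h1 := hfw _ hh
      have e : σ * (σ * h * σ⁻¹) * σ⁻¹ = (σ * σ) * h * (σ * σ)⁻¹ := by group
      rw [e, hσσ, one_mul, inv_one, mul_one] at h1
      exact h1
  refine ⟨Subgroup.zpowers σ ⊔ Subgroup.zpowers r, hA.to_sup_of_normal_right' hB hnorm, ?_⟩
  intro hc
  apply hne
  have h1 := hc.is_comm.comm
    (⟨σ, Subgroup.mem_sup_left (Subgroup.mem_zpowers σ)⟩ :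
      ↥(Subgroup.zpowers σ ⊔ Subgroup.zpowers r))
    ⟨r, Subgroup.mem_sup_right (Subgroup.mem_zpowers r)⟩
  exact congrArg Subtype.val h1

/-- `(a, b) ↦ (b⁻¹, a)`. -/
def rotAut (C : Type*) [CommGroup C] : MulAut (C × C) where
  toFun t := (t.2⁻¹, t.1)
  invFun t := (t.2, t.1⁻¹)
  left_inv t := by simp
  right_inv t := by simp
  map_mul' s t := by simp [mul_comm]

/-- `(a, b) ↦ (b⁻¹, a * b⁻¹)`. -/
def thetaAut (C : Type*) [CommGroup C] : MulAut (C × C) where
  toFun t := (t.2⁻¹, t.1 * t.2⁻¹)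
  invFun t := (t.2 * t.1⁻¹, t.1⁻¹)
  left_inv t := by simp
  right_inv t := by simp
  map_mul' s t := by
    refine Prod.ext ?_ ?_
    · simp [mul_comm]
    · simp [mul_comm, mul_left_comm, mul_assoc]

theorem rotAut_apply (C : Type*) [CommGroup C] (t : C × C) : rotAut C t = (t.2⁻¹, t.1) := rfl

theorem thetaAut_apply (C : Type*) [CommGroup C] (t : C × C) :
    thetaAut C t = (t.2⁻¹, t.1 * t.2⁻¹) := rfl

theorem swap_sq (C : Type*) [CommGroup C] : (MulEquiv.prodComm : MulAut (C × C)) ^ 2 = 1 := by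
  rw [sq]
  ext t <;> rfl

theorem rot_pow_four (C : Type*) [CommGroup C] : rotAut C ^ 4 = 1 := by
  have e : rotAut C ^ 4 = rotAut C * rotAut C * rotAut C * rotAut C := by
    rw [pow_succ, pow_succ, pow_succ, pow_one]
  rw [e]
  apply MulEquiv.ext
  intro t
  simp [MulAut.mul_apply, rotAut_apply]

theorem swap_rot_conj (C : Type*) [CommGroup C] :
    (MulEquiv.prodComm : MulAut (C × C)) * rotAut C * (MulEquiv.prodComm : MulAut (C × C))⁻¹ =
      (rotAut C)⁻¹ := by
  apply MulEquiv.ext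
  intro t
  rfl

theorem theta_pow_three (C : Type*) [CommGroup C] : thetaAut C ^ 3 = 1 := by
  have e : thetaAut C ^ 3 = thetaAut C * thetaAut C * thetaAut C := by
    rw [pow_succ, pow_succ, pow_one]
  rw [e]
  apply MulEquiv.ext
  intro t
  simp [MulAut.mul_apply, thetaAut_apply]

theorem exists_bad_aut (p : ℕ) [Fact p.Prime] (n : ℕ) (hn : 0 < n) :
    ¬ ∀ K : Subgroup (MulAut (Multiplicative (ZMod (p ^ n)) × Multiplicative (ZMod (p ^ n)))),
      (Nat.card ↥K).Coprime p → IsMulCommutative ↥K ∧ ∀ k ∈ K, k ^ (p - 1) = 1 := by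
  have hp : p.Prime := Fact.out
  have : NeZero (p ^ n) := ⟨pow_ne_zero n hp.ne_zero⟩
  have hlt : 1 < p ^ n := Nat.one_lt_pow hn.ne' hp.one_lt
  have : Fact (1 < p ^ n) := ⟨hlt⟩
  intro hall
  obtain ⟨u, hu⟩ : ∃ u : Multiplicative (ZMod (p ^ n)), u = Multiplicative.ofAdd 1 := ⟨_, rfl⟩
  have hu1 : u ≠ 1 := by
    rw [hu]
    intro h
    have h1 : (1 : ZMod (p ^ n)) = 0 := h
    exact one_ne_zero h1
  by_cases hp2 : p = 2
  · have hθ1 : thetaAut (Multiplicative (ZMod (p ^ n))) ≠ 1 := by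
      intro h
      have h1 := congrArg (fun f : MulAut (Multiplicative (ZMod (p ^ n)) ×
        Multiplicative (ZMod (p ^ n))) => (f (1, u)).1) h
      have h2 : u⁻¹ = 1 := h1
      exact hu1 (inv_eq_one.mp h2)
    have : Fact (Nat.Prime 3) := ⟨by norm_num⟩
    have hord : orderOf (thetaAut (Multiplicative (ZMod (p ^ n)))) = 3 :=
      orderOf_eq_prime (theta_pow_three _) hθ1
    have hcard : (Nat.card ↥(Subgroup.zpowers (thetaAut (Multiplicative (ZMod (p ^ n)))))).Coprime
        p := by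
      rw [Nat.card_zpowers, hord, hp2]
      norm_num
    have h3 := (hall _ hcard).2 _ (Subgroup.mem_zpowers _)
    have h4 : p - 1 = 1 := by omega
    rw [h4, pow_one] at h3
    exact hθ1 h3
  · obtain ⟨K, hK2, hKc⟩ := exists_nonabelian_two_subgroup
      (MulEquiv.prodComm : MulAut (Multiplicative (ZMod (p ^ n)) × Multiplicative (ZMod (p ^ n))))
      (rotAut (Multiplicative (ZMod (p ^ n)))) (swap_sq _) (rot_pow_four _) (swap_rot_conj _) (by
        intro h
        have h1 := congrArg (fun f : MulAut (Multiplicative (ZMod (p ^ n)) ×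
          Multiplicative (ZMod (p ^ n))) => (f (u, 1)).1) h
        have h2 : u = u⁻¹ := h1
        rw [hu] at h2
        have h3 : (1 : ZMod (p ^ n)) = -1 := h2
        have h4 : ((2 : ℕ) : ZMod (p ^ n)) = 0 := by
          push_cast
          linear_combination h3
        have h5 : p ^ n ∣ 2 := (ZMod.natCast_eq_zero_iff _ _).mp h4
        have h6 : p ∣ 2 := (dvd_pow_self p hn.ne').trans h5
        exact hp2 ((Nat.prime_dvd_prime_iff_eq hp Nat.prime_two).mp h6))
    obtain ⟨k, hk⟩ := IsPGroup.iff_card.mp hK2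
    have hcop : (Nat.card ↥K).Coprime p := by
      rw [hk]
      apply Nat.Coprime.pow_left
      rw [Nat.coprime_primes Nat.prime_two hp]
      exact fun h => hp2 h.symm
    exact hKc (hall K hcop).1

/-- Extend an automorphism of `X` to `X × H` by the identity on `H`. -/
def prodLift (X H : Type*) [Group X] [Group H] : MulAut X →* MulAut (X × H) where
  toFun ρ := MulEquiv.prodCongr ρ (MulEquiv.refl H)
  map_one' := by
    apply MulEquiv.ext
    intro t
    rfl
  map_mul' a b := by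
    apply MulEquiv.ext
    intro t
    rfl

theorem prodLift_injective (X H : Type*) [Group X] [Group H] :
    Function.Injective (prodLift X H) := by
  intro a b h
  apply MulEquiv.ext
  intro x
  exact congrArg (fun f : MulAut (X × H) => (f (x, 1)).1) h

theorem not_decomp_of_pprime {G : Type*} [Group G] (p : ℕ) [Fact p.Prime]
    (h : ∀ K : Subgroup (MulAut G), (Nat.card ↥K).Coprime p →
      IsMulCommutative ↥K ∧ ∀ k ∈ K, k ^ (p - 1) = 1) :
    ¬ ∃ (n : ℕ) (H : Type) (_ : CommGroup H), 0 < n ∧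
      Nonempty (G ≃* (Multiplicative (ZMod (p ^ n)) × Multiplicative (ZMod (p ^ n))) × H) := by
  rintro ⟨n, H, _, hn, ⟨φ⟩⟩
  apply exists_bad_aut p n hn
  intro K hK
  exact bad_map ((MulAut.congr φ.symm).toMonoidHom.comp (prodLift _ H))
    (fun a b hab => prodLift_injective _ H ((MulAut.congr φ.symm).injective hab)) p h K hK

end Bad

end Cfsg.Agent.Lib.Helper27
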