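import Mathlib
import Cfsg.Agent.Lib.Helper27.AbDistinct
import Cfsg.Agent.Lib.Helper18.Frattini

set_option autoImplicit false

namespace Cfsg.Agent.Lib.Helper27

section BinomPoly

open Polynomial

/-- `(X + 1) ^ p = X ^ p + p X + 1 + p X² Q` for a prime `p`. -/
theorem exists_binom_poly (p : ℕ) (hp : p.Prime) :
    ∃ Q : ℤ[X], (X + 1 : ℤ[X]) ^ p = X ^ p + C (p : ℤ) * X + 1 + C (p : ℤ) * X ^ 2 * Q := by
  obtain ⟨f, hf⟩ : ∃ f : ℤ[X], f = (X + 1 : ℤ[X]) ^ p - X ^ p - C (p : ℤ) * X - 1 := ⟨_, rfl⟩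
  have hp0 : (p : ℤ) ≠ 0 := Int.natCast_ne_zero.mpr hp.ne_zero
  have hcoeff : ∀ i, f.coeff i = (p.choose i : ℤ) - (if i = p then 1 else 0) -
      (if i = 1 then (p : ℤ) else 0) - (if i = 0 then 1 else 0) := by
    intro i
    rw [hf, coeff_sub, coeff_sub, coeff_sub, coeff_X_add_one_pow, coeff_X_pow, coeff_C_mul_X,
      coeff_one]
  have h0 : f.coeff 0 = 0 := by
    rw [hcoeff]
    have h1 : (0 : ℕ) ≠ p := hp.ne_zero.symm
    simp [h1]
  have h1 : f.coeff 1 = 0 := by
    rw [hcoeff]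
    have h2 : (1 : ℕ) ≠ p := hp.one_lt.ne
    simp [h2]
  have hdvd : ∀ i, (p : ℤ) ∣ f.coeff i := by
    intro i
    rw [hcoeff]
    by_cases hi0 : i = 0
    · subst hi0
      have h2 : (0 : ℕ) ≠ p := hp.ne_zero.symm
      simp [h2]
    by_cases hi1 : i = 1
    · subst hi1
      have h2 : (1 : ℕ) ≠ p := hp.one_lt.ne
      simp [h2]
    by_cases hip : i = p
    · subst hip
      simp [hi0, hi1]
    · simp only [if_neg hi0, if_neg hi1, if_neg hip, sub_zero]
      by_cases hlt : i < p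
      · exact Int.natCast_dvd_natCast.mpr (hp.dvd_choose_self hi0 hlt)
      · rw [Nat.choose_eq_zero_of_lt (by omega)]
        simp
  obtain ⟨g, hg⟩ := (C_dvd_iff_dvd_coeff _ _).mpr hdvd
  have hg0 : g.coeff 0 = 0 := by
    have h2 := h0
    rw [hg, coeff_C_mul] at h2
    exact (mul_eq_zero.mp h2).resolve_left hp0
  have hg1 : g.coeff 1 = 0 := by
    have h2 := h1
    rw [hg, coeff_C_mul] at h2
    exact (mul_eq_zero.mp h2).resolve_left hp0
  have hX : (X : ℤ[X]) ^ 2 ∣ g := by
    rw [X_pow_dvd_iff]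
    intro d hd
    interval_cases d
    · exact hg0
    · exact hg1
  obtain ⟨Q, hQ⟩ := hX
  refine ⟨Q, ?_⟩
  have e : (X + 1 : ℤ[X]) ^ p = f + X ^ p + C (p : ℤ) * X + 1 := by
    rw [hf]
    ring
  rw [e, hg, hQ]
  ring

end BinomPoly

section Quad

variable {M : Type*} [AddCommGroup M]

/-- An endomorphism `γ` with `γ ^ p = 1` (`p ≥ 5`) of a finite abelian group `M` with
`|M / pM| ≤ p²` and `Ω₁(M) ≤ pM` is trivial modulo `pM`. -/
theorem quad_trivial [Finite M] (p : ℕ) [Fact p.Prime] (hp5 : 5 ≤ p)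
    (hΩ : ∀ m : M, p • m = 0 → ∃ m', m = p • m') (t : ℕ) (ht : t ≤ 2)
    (hcard : Nat.card M =
      p ^ t * Nat.card (AddMonoidHom.range (nsmulAddMonoidHom p : M →+ M)))
    (γ : AddMonoid.End M) (hγ : γ ^ p = 1) : ∀ m, ∃ m', γ m - m = p • m' := by
  have hp : p.Prime := Fact.out
  obtain ⟨B, hBdef⟩ : ∃ B : AddSubgroup M,
      B = AddMonoidHom.range (nsmulAddMonoidHom p : M →+ M) := ⟨_, rfl⟩
  have hB : ∀ m, m ∈ B ↔ ∃ m', m = p • m' := by
    intro m
    rw [hBdef, AddMonoidHom.mem_range]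
    constructor
    · rintro ⟨m', h⟩
      exact ⟨m', h.symm⟩
    · rintro ⟨m', h⟩
      exact ⟨m', h.symm⟩
  rw [← hBdef] at hcard
  obtain ⟨N, hN⟩ : ∃ N : AddMonoid.End M, N = γ - 1 := ⟨_, rfl⟩
  have hγN : γ = N + 1 := by
    rw [hN, sub_add_cancel]
  have hmul : ∀ (S T : AddMonoid.End M) m, (S * T) m = S (T m) := fun _ _ _ => rfl
  have hone : ∀ m, (1 : AddMonoid.End M) m = m := fun _ => rfl
  have hadd : ∀ (S T : AddMonoid.End M) m, (S + T) m = S m + T m := fun _ _ _ => rfl
  have hnat : ∀ m, ((p : ℕ) : AddMonoid.End M) m = p • m := fun _ => rfl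
  have hsub : ∀ (S T : AddMonoid.End M) m, (S - T) m = S m - T m := fun _ _ _ => rfl
  have hBst : ∀ (T : AddMonoid.End M) m, m ∈ B → T m ∈ B := by
    intro T m hm
    obtain ⟨m', rfl⟩ := (hB m).mp hm
    exact (hB _).mpr ⟨T m', map_nsmul T p m'⟩
  obtain ⟨Q, hQ⟩ := exists_binom_poly p hp
  obtain ⟨R, hR⟩ : ∃ R : AddMonoid.End M, R = Polynomial.aeval N Q := ⟨_, rfl⟩
  have hid : (1 : AddMonoid.End M) =
      N ^ p + (p : AddMonoid.End M) * N + 1 + (p : AddMonoid.End M) * N ^ 2 * R := by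
    have h1 := congrArg (Polynomial.aeval N) hQ
    simp only [map_pow, map_add, map_mul, map_one, Polynomial.aeval_X, map_natCast] at h1
    rw [← hγN, hγ] at h1
    rw [hR]
    exact h1
  have hid' : ∀ m : M, (N ^ p) m + p • N m + p • (N ^ 2) (R m) = 0 := by
    intro m
    have h1 : (1 : AddMonoid.End M) m =
        (N ^ p + (p : AddMonoid.End M) * N + 1 + (p : AddMonoid.End M) * N ^ 2 * R :
          AddMonoid.End M) m :=
      congrArg (fun T : AddMonoid.End M => T m) hid
    rw [hone, hadd, hadd, hadd, hmul, hmul, hmul, hnat, hnat, hone] at h1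
    have h2 : (N ^ p) m + p • N m + p • (N ^ 2) (R m) =
        ((N ^ p) m + p • N m + m + p • (N ^ 2) (R m)) - m := by abel
    rw [h2, ← h1, sub_self]
  obtain ⟨K, hK⟩ : ∃ K : ℕ → AddSubgroup M, ∀ j m, m ∈ K j ↔ (N ^ j) m ∈ B :=
    ⟨fun j =>
      { carrier := {m | (N ^ j) m ∈ B}
        zero_mem' := by
          show (N ^ j) 0 ∈ B
          rw [map_zero]
          exact B.zero_mem
        add_mem' := by
          intro a b ha hb
          show (N ^ j) (a + b) ∈ B
          rw [map_add]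
          exact B.add_mem ha hb
        neg_mem' := by
          intro a ha
          show (N ^ j) (-a) ∈ B
          rw [map_neg]
          exact B.neg_mem ha }, fun j m => Iff.rfl⟩
  have hK0 : K 0 = B := by
    ext m
    rw [hK, pow_zero, hone]
  have hKmono : ∀ j, K j ≤ K (j + 1) := by
    intro j m hm
    rw [hK] at hm ⊢
    rw [pow_succ', hmul]
    exact hBst N _ hm
  have hKstab : ∀ j, K (j + 1) = K j → ∀ i, K (j + i) = K j := by
    intro j hj i
    induction i with
    | zero => rfl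
    | succ i ih =>
      apply le_antisymm
      · intro m hm
        rw [← add_assoc, hK, pow_succ, hmul] at hm
        have h1 : N m ∈ K (j + i) := (hK _ _).mpr hm
        rw [ih, hK] at h1
        have h2 : m ∈ K (j + 1) := by
          rw [hK, pow_succ, hmul]
          exact h1
        rw [hj] at h2
        exact h2
      · rw [← ih, ← add_assoc]
        exact hKmono _
  have hKp : K p = ⊤ := by
    rw [eq_top_iff]
    intro m _
    rw [hK, hB]
    refine ⟨-(N m + (N ^ 2) (R m)), ?_⟩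
    have h1 := hid' m
    rw [smul_neg, smul_add, eq_neg_iff_add_eq_zero, ← add_assoc]
    exact h1
  have hK2 : K 2 = ⊤ := by
    by_contra hne
    have h01 : K 0 ≠ K 1 := by
      intro h
      have h1 := hKstab 0 h.symm p
      rw [zero_add, hKp] at h1
      apply hne
      rw [eq_top_iff, h1]
      exact (hKmono 0).trans (hKmono 1)
    have h12 : K 1 ≠ K 2 := by
      intro h
      have h1 := hKstab 1 h.symm (p - 1)
      rw [show 1 + (p - 1) = p by omega, hKp] at h1
      apply hne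
      rw [← h, ← h1]
    have d01 := AddSubgroup.card_dvd_of_le (hKmono 0)
    have d12 := AddSubgroup.card_dvd_of_le (hKmono 1)
    have d23 : Nat.card (K 2) ∣ Nat.card M := AddSubgroup.card_addSubgroup_dvd_card (K 2)
    obtain ⟨r1, hr1⟩ := d01
    obtain ⟨r2, hr2⟩ := d12
    obtain ⟨r3, hr3⟩ := d23
    have hr1ne : r1 ≠ 1 := by
      intro h
      apply h01
      exact AddSubgroup.eq_of_le_of_card_ge (hKmono 0) (by rw [hr1, h, mul_one])
    have hr2ne : r2 ≠ 1 := by
      intro h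
      apply h12
      exact AddSubgroup.eq_of_le_of_card_ge (hKmono 1) (by rw [hr2, h, mul_one])
    have hr3ne : r3 ≠ 1 := by
      intro h
      apply hne
      exact AddSubgroup.eq_top_of_card_eq _ (by rw [hr3, h, mul_one])
    have hpos : 0 < Nat.card (K 0) := Nat.card_pos
    have hprod : r1 * r2 * r3 = p ^ t := by
      have h1 : Nat.card M = Nat.card (K 0) * (r1 * r2 * r3) := by
        rw [hr3, hr2, hr1]
        ring
      rw [hcard, ← hK0, mul_comm] at h1
      exact (Nat.eq_of_mul_eq_mul_left hpos h1).symm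
    obtain ⟨j1, -, hj1⟩ := (Nat.dvd_prime_pow hp).mp
      (Dvd.intro (r2 * r3) (by rw [← mul_assoc]; exact hprod) : r1 ∣ p ^ t)
    obtain ⟨j2, -, hj2⟩ := (Nat.dvd_prime_pow hp).mp
      (Dvd.intro (r1 * r3) (by rw [← hprod]; ring) : r2 ∣ p ^ t)
    obtain ⟨j3, -, hj3⟩ := (Nat.dvd_prime_pow hp).mp
      (Dvd.intro (r1 * r2) (by rw [← hprod]; ring) : r3 ∣ p ^ t)
    have hj1' : j1 ≠ 0 := fun h => hr1ne (by rw [hj1, h, pow_zero])
    have hj2' : j2 ≠ 0 := fun h => hr2ne (by rw [hj2, h, pow_zero])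
    have hj3' : j3 ≠ 0 := fun h => hr3ne (by rw [hj3, h, pow_zero])
    rw [hj1, hj2, hj3, ← pow_add, ← pow_add] at hprod
    have hsum := Nat.pow_right_injective hp.two_le hprod
    omega
  have hN2 : ∀ m, ∃ m', (N ^ 2) m = p • m' := by
    intro m
    have h1 : m ∈ K 2 := hK2 ▸ AddSubgroup.mem_top m
    rw [hK, hB] at h1
    exact h1
  have hN4 : ∀ m, ∃ m', (N ^ 4) m = p • p • m' := by
    intro m
    obtain ⟨a, ha⟩ := hN2 m
    obtain ⟨b, hb⟩ := hN2 a
    refine ⟨b, ?_⟩
    have e : (N ^ 4) m = (N ^ 2) ((N ^ 2) m) := by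
      rw [← hmul, ← pow_add]
    rw [e, ha, map_nsmul, hb]
  have hNp : ∀ m, ∃ m', (N ^ p) m = p • p • m' := by
    intro m
    obtain ⟨b, hb⟩ := hN4 m
    refine ⟨(N ^ (p - 4)) b, ?_⟩
    have e : (N ^ p) m = (N ^ (p - 4)) ((N ^ 4) m) := by
      rw [← hmul, ← pow_add]
      congr 2
      omega
    rw [e, hb, map_nsmul, map_nsmul]
  intro m
  obtain ⟨a, ha⟩ := hNp m
  obtain ⟨b, hb⟩ := hN2 (R m)
  have h1 := hid' m
  rw [ha, hb] at h1
  have h2 : p • (N m + p • a + p • b) = 0 := by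
    rw [smul_add, smul_add]
    rw [← h1]
    abel
  obtain ⟨d, hd⟩ := hΩ _ h2
  refine ⟨d - a - b, ?_⟩
  have h3 : γ m - m = N m := by
    rw [hN, hsub, hone]
  rw [h3, smul_sub, smul_sub, ← hd]
  abel

end Quad

section QuadMul

theorem quad_trivial_comm {G : Type*} [CommGroup G] [Finite G] (p : ℕ) [Fact p.Prime]
    (hp5 : 5 ≤ p) (hΩ : ∀ x : G, x ^ p = 1 → ∃ y, x = y ^ p) (t : ℕ) (ht : t ≤ 2)
    (hcard : Nat.card G = p ^ t * Nat.card (agemoSub G p 1))
    (g : MulAut G) (hg : g ^ p = 1) : ∀ x, ∃ y, x⁻¹ * g x = y ^ p := by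
  have hΩ' : ∀ m : Additive G, p • m = 0 → ∃ m', m = p • m' := by
    intro m hm
    have h1 : (Additive.toMul m) ^ p = 1 := congrArg Additive.toMul hm
    obtain ⟨y, hy⟩ := hΩ (Additive.toMul m) h1
    exact ⟨Additive.ofMul y, congrArg Additive.ofMul hy⟩
  have hcard' : Nat.card (Additive G) = p ^ t *
      Nat.card (AddMonoidHom.range (nsmulAddMonoidHom p : Additive G →+ Additive G)) := by
    have e1 : Nat.card (Additive G) = Nat.card G := Nat.card_congr Additive.toMul
    have e2 : Nat.card (AddMonoidHom.range (nsmulAddMonoidHom p : Additive G →+ Additive G)) =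
        Nat.card (agemoSub G p 1) := by
      apply Nat.card_congr
      refine Equiv.subtypeEquiv Additive.toMul (fun m => ?_)
      constructor
      · rintro ⟨m', rfl⟩
        refine ⟨Additive.toMul m', ?_⟩
        rw [pow_one]
        rfl
      · rintro ⟨y, hy⟩
        rw [pow_one] at hy
        exact ⟨Additive.ofMul y, congrArg Additive.ofMul hy⟩
    rw [e1, e2, hcard]
  obtain ⟨γ, hγdef⟩ : ∃ γ : AddMonoid.End (Additive G),
      ∀ m, γ m = Additive.ofMul (g (Additive.toMul m)) :=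
    ⟨MonoidHom.toAdditive g.toMonoidHom, fun _ => rfl⟩
  have hγpow : ∀ k : ℕ, ∀ m : Additive G,
      (γ ^ k) m = Additive.ofMul ((g ^ k) (Additive.toMul m)) := by
    intro k
    induction k with
    | zero =>
      intro m
      rfl
    | succ k ih =>
      intro m
      rw [pow_succ', pow_succ']
      show γ ((γ ^ k) m) = Additive.ofMul (g ((g ^ k) (Additive.toMul m)))
      rw [ih, hγdef]
      rfl
  have hγ : γ ^ p = 1 := by
    apply AddMonoidHom.ext
    intro m
    have h := hγpow p m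
    rw [hg] at h
    exact h
  intro x
  obtain ⟨m', hm'⟩ := quad_trivial p hp5 hΩ' t ht hcard' γ hγ (Additive.ofMul x)
  refine ⟨Additive.toMul m', ?_⟩
  rw [hγdef] at hm'
  have h1 := congrArg Additive.toMul hm'
  have h2 : g x / x = (Additive.toMul m') ^ p := h1
  rw [← h2, div_eq_inv_mul]

theorem quad_trivial_comm' {G : Type*} [CommGroup G] [Finite G] (p : ℕ) [Fact p.Prime]
    (hG : IsPGroup p G) (hp5 : 5 ≤ p) (hΩ : ∀ x : G, x ^ p = 1 → ∃ y, x = y ^ p)
    (hfr : (frattini G).index ≤ p ^ 2) (g : MulAut G) (hg : g ^ p = 1) :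
    ∀ x, ∃ y, x⁻¹ * g x = y ^ p := by
  have hp : p.Prime := Fact.out
  have hle : frattini G ≤ agemoSub G p 1 :=
    Cfsg.Agent.Lib.Helper18.frattini_le_of_elementary (p := p) (agemoSub G p 1)
      (fun a b => by
        rw [mul_comm a b, mul_inv_cancel_right, mul_inv_cancel]
        exact one_mem _)
      (fun a => ⟨a, by rw [pow_one]; rfl⟩)
  have hdvd : (agemoSub G p 1).index ∣ (frattini G).index := Subgroup.index_dvd_of_le hle
  have hidxle : (agemoSub G p 1).index ≤ p ^ 2 :=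
    (Nat.le_of_dvd (Nat.pos_of_ne_zero Subgroup.index_ne_zero_of_finite) hdvd).trans hfr
  obtain ⟨e, he⟩ := IsPGroup.iff_card.mp hG
  have hdvd2 : (agemoSub G p 1).index ∣ p ^ e := by
    rw [← he]
    exact Subgroup.index_dvd_card _
  obtain ⟨t, -, ht⟩ := (Nat.dvd_prime_pow hp).mp hdvd2
  have ht2 : t ≤ 2 := by
    rw [ht] at hidxle
    exact (Nat.pow_le_pow_iff_right hp.one_lt).mp hidxle
  have hcard : Nat.card G = p ^ t * Nat.card (agemoSub G p 1) := by
    rw [← ht, mul_comm]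
    exact (Subgroup.card_mul_index _).symm
  exact quad_trivial_comm p hp5 hΩ t ht2 hcard g hg

theorem quad_trivial_group {G : Type*} [Group G] [Finite G] (hcomm : ∀ a b : G, a * b = b * a)
    (p : ℕ) [Fact p.Prime] (hG : IsPGroup p G) (hp5 : 5 ≤ p)
    (hΩ : ∀ x : G, x ^ p = 1 → ∃ y, x = y ^ p) (hfr : (frattini G).index ≤ p ^ 2)
    (g : MulAut G) (hg : g ^ p = 1) : ∀ x, ∃ y, x⁻¹ * g x = y ^ p := by
  let _inst : CommGroup G := { ‹Group G› with mul_comm := hcomm }
  exact quad_trivial_comm' p hG hp5 hΩ hfr g hg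

theorem omega_count_comm {G : Type*} [CommGroup G] [Finite G] (p : ℕ) [Fact p.Prime]
    {α : Type*} [Finite α] (f : α → G) (hf : Function.Injective f) (hfp : ∀ a, f a ^ p = 1) :
    Nat.card α ≤ (frattini G).index := by
  have hle : frattini G ≤ agemoSub G p 1 :=
    Cfsg.Agent.Lib.Helper18.frattini_le_of_elementary (p := p) (agemoSub G p 1)
      (fun a b => by
        rw [mul_comm a b, mul_inv_cancel_right, mul_inv_cancel]
        exact one_mem _)
      (fun a => ⟨a, by rw [pow_one]; rfl⟩)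
  have hdvd : (agemoSub G p 1).index ∣ (frattini G).index := Subgroup.index_dvd_of_le hle
  have h1 : (agemoSub G p 1).index = Nat.card (omegaSub G p 1) := by
    have hk := Subgroup.card_mul_index (omegaSub G p 1)
    have hr := Subgroup.card_mul_index (agemoSub G p 1)
    have hik : (omegaSub G p 1).index = Nat.card (agemoSub G p 1) := Subgroup.index_ker _
    rw [hik] at hk
    have hpos : 0 < Nat.card (agemoSub G p 1) := Nat.card_pos
    have h2 : Nat.card (agemoSub G p 1) * (agemoSub G p 1).index =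
        Nat.card (agemoSub G p 1) * Nat.card (omegaSub G p 1) := by
      rw [hr, ← hk, mul_comm]
    exact Nat.eq_of_mul_eq_mul_left hpos h2
  have h3 : Nat.card α ≤ Nat.card (omegaSub G p 1) :=
    Nat.card_le_card_of_injective
      (fun a => (⟨f a, by rw [mem_omegaSub, pow_one]; exact hfp a⟩ : ↥(omegaSub G p 1)))
      (fun a b hab => hf (congrArg Subtype.val hab))
  rw [← h1] at h3
  exact h3.trans (Nat.le_of_dvd (Nat.pos_of_ne_zero Subgroup.index_ne_zero_of_finite) hdvd)

theorem omega_count_group {G : Type*} [Group G] [Finite G] (hcomm : ∀ a b : G, a * b = b * a)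
    (p : ℕ) [Fact p.Prime] {α : Type*} [Finite α] (f : α → G) (hf : Function.Injective f)
    (hfp : ∀ a, f a ^ p = 1) : Nat.card α ≤ (frattini G).index := by
  let _inst : CommGroup G := { ‹Group G› with mul_comm := hcomm }
  exact omega_count_comm p f hf hfp

end QuadMul

end Cfsg.Agent.Lib.Helper27
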