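import Mathlib

set_option autoImplicit false

namespace Cfsg.Agent.Lib.Helper27

open Polynomial in
/-- An endomorphism of a nonzero finite vector space over `𝔽_p` whose `(p-1)`-st power is the
identity has an eigenvector. -/
theorem exists_eigenvector_of_pow {p : ℕ} [Fact p.Prime] {V : Type*} [AddCommGroup V]
    [Module (ZMod p) V] [Finite V] [Nontrivial V] (f : Module.End (ZMod p) V)
    (hf : f ^ (p - 1) = 1) : ∃ (μ : ZMod p) (v : V), v ≠ 0 ∧ f v = μ • v := by
  have hp : p.Prime := Fact.out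
  have hfp : f ^ p = f := by
    rw [← pow_sub_one_mul hp.ne_zero f, hf, one_mul]
  have hann : aeval f (X ^ p - X : (ZMod p)[X]) = 0 := by
    rw [map_sub, map_pow, aeval_X, hfp, sub_self]
  have hdvd : minpoly (ZMod p) f ∣ (X ^ p - X : (ZMod p)[X]) := minpoly.dvd (ZMod p) f hann
  have hsplit : Splits (X ^ p - X : (ZMod p)[X]) := by
    have h := FiniteField.splits_X_pow_card_sub_X (p := p) (K := ZMod p)
    rw [ZMod.card, Algebra.algebraMap_self, Polynomial.map_id] at h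
    exact h
  have hne : (X ^ p - X : (ZMod p)[X]) ≠ 0 := FiniteField.X_pow_card_sub_X_ne_zero (ZMod p) hp.one_lt
  have hint : IsIntegral (ZMod p) f := Algebra.IsIntegral.isIntegral f
  have hdeg : (minpoly (ZMod p) f).degree ≠ 0 := (minpoly.degree_pos hint).ne'
  obtain ⟨μ, hμ⟩ := (hsplit.of_dvd hne hdvd).exists_eval_eq_zero hdeg
  have hev : f.HasEigenvalue μ := Module.End.hasEigenvalue_of_isRoot hμ
  obtain ⟨v, hv⟩ := hev.exists_hasEigenvector
  exact ⟨μ, v, hv.2, hv.apply_eq_smul⟩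

theorem exists_generator_of_le_zpowers {Q : Type*} [Group Q] (B : Subgroup Q) (g₀ : Q)
    (hB : B ≤ Subgroup.zpowers g₀) : ∃ b ∈ B, ∀ c ∈ B, c ∈ Subgroup.zpowers b := by
  obtain ⟨⟨⟨b, hb₀⟩, hbB⟩, hgen⟩ :=
    IsCyclic.exists_generator (α := ↥(B.subgroupOf (Subgroup.zpowers g₀)))
  refine ⟨b, Subgroup.mem_subgroupOf.mp hbB, fun c hc => ?_⟩
  obtain ⟨k, hk⟩ := Subgroup.mem_zpowers_iff.mp
    (hgen ⟨⟨c, hB hc⟩, Subgroup.mem_subgroupOf.mpr hc⟩)
  refine Subgroup.mem_zpowers_iff.mpr ⟨k, ?_⟩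
  have h := congrArg
    (fun z : ↥(B.subgroupOf (Subgroup.zpowers g₀)) => ((z : ↥(Subgroup.zpowers g₀)) : Q)) hk
  simpa using h

/-- An endomorphism preserving a subgroup with cyclic image acts on the image by a power. -/
theorem exists_zpow_of_cyclic_image {G Q : Type*} [Group G] [Group Q] (ψ : G →* Q)
    (N : Subgroup G) (g₀ : Q) (hN : ∀ z ∈ N, ψ z ∈ Subgroup.zpowers g₀) (τ : G →* G)
    (hτN : ∀ z ∈ N, τ z ∈ N) (hτK : ∀ z, ψ z = 1 → ψ (τ z) = 1) :
    ∃ a : ℤ, ∀ z ∈ N, ψ (τ z) = ψ z ^ a := by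
  have hB : N.map ψ ≤ Subgroup.zpowers g₀ := by
    rintro _ ⟨z, hz, rfl⟩
    exact hN z hz
  obtain ⟨_, ⟨y, hy, rfl⟩, hgen⟩ := exists_generator_of_le_zpowers _ g₀ hB
  obtain ⟨a, ha⟩ := Subgroup.mem_zpowers_iff.mp (hgen _ ⟨τ y, hτN y hy, rfl⟩)
  refine ⟨a, fun z hz => ?_⟩
  obtain ⟨k, hk⟩ := Subgroup.mem_zpowers_iff.mp (hgen _ ⟨z, hz, rfl⟩)
  have h1 : ψ (z⁻¹ * y ^ k) = 1 := by
    rw [map_mul, map_inv, map_zpow, hk, inv_mul_cancel]
  have h2 := hτK _ h1
  rw [map_mul, map_mul, map_inv, map_inv, map_zpow, map_zpow, ← ha, inv_mul_eq_one] at h2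
  rw [h2, ← hk, ← zpow_mul, ← zpow_mul, mul_comm]

theorem exists_pow_eigen_comm {p : ℕ} [Fact p.Prime] {W : Type*} [CommGroup W] [Finite W]
    [Nontrivial W] [Module (ZMod p) (Additive W)] (f₀ : W →* W)
    (hpow : ∀ w : W, f₀^[p - 1] w = w) : ∃ (k : ℕ) (w : W), w ≠ 1 ∧ f₀ w = w ^ k := by
  obtain ⟨f, hf⟩ : ∃ f : Additive W →ₗ[ZMod p] Additive W,
      ∀ v : Additive W, f v = Additive.ofMul (f₀ (Additive.toMul v)) :=
    ⟨(MonoidHom.toAdditive f₀).toZModLinearMap p, fun v => rfl⟩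
  have key : ∀ (n : ℕ) (v : Additive W),
      (f ^ n) v = Additive.ofMul (f₀^[n] (Additive.toMul v)) := by
    intro n
    induction n with
    | zero =>
      intro v
      rfl
    | succ n ih =>
      intro v
      rw [pow_succ', Module.End.mul_apply, hf, ih v, toMul_ofMul, Function.iterate_succ_apply']
  have hfp : f ^ (p - 1) = 1 := by
    apply LinearMap.ext
    intro v
    rw [key, hpow]
    rfl
  obtain ⟨μ, v, hv0, hv⟩ := exists_eigenvector_of_pow f hfp
  refine ⟨μ.val, Additive.toMul v, ?_, ?_⟩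
  · intro h1
    apply hv0
    apply Additive.toMul.injective
    exact h1
  · have h2 : μ • v = μ.val • v := by
      conv_lhs => rw [← ZMod.natCast_zmod_val μ]
      exact Nat.cast_smul_eq_nsmul (ZMod p) μ.val v
    rw [h2, hf] at hv
    have h3 := congrArg Additive.toMul hv
    rw [toMul_ofMul, toMul_nsmul] at h3
    exact h3

/-- Multiplicative form of the eigenvector lemma. -/
theorem exists_pow_eigen {p : ℕ} [Fact p.Prime] {G : Type*} [Group G] (W : Subgroup G)
    [Finite W] (hcomm : ∀ a ∈ W, ∀ b ∈ W, a * b = b * a) (hexp : ∀ w ∈ W, w ^ p = 1)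
    (hW : W ≠ ⊥) (h : MulAut G) (hinv : ∀ w ∈ W, h w ∈ W) (hpow : h ^ (p - 1) = 1) :
    ∃ (k : ℕ) (w : G), w ∈ W ∧ w ≠ 1 ∧ h w = w ^ k := by
  letI inst1 : CommGroup ↥W := { (inferInstance : Group ↥W) with
    mul_comm := fun a b => Subtype.ext (hcomm a a.2 b b.2) }
  letI inst2 : Module (ZMod p) (Additive ↥W) := AddCommGroup.zmodModule (n := p) (fun x => by
    apply Additive.toMul.injective
    rw [toMul_nsmul, toMul_zero]
    exact Subtype.ext (hexp _ (Additive.toMul x).2))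
  haveI : Nontrivial ↥W := (Subgroup.nontrivial_iff_ne_bot W).mpr hW
  obtain ⟨f₀, hf₀⟩ : ∃ f₀ : ↥W →* ↥W, ∀ w : ↥W, ((f₀ w : ↥W) : G) = h w :=
    ⟨(h.toMonoidHom.comp W.subtype).codRestrict W (fun w => hinv w w.2), fun w => rfl⟩
  have key : ∀ (n : ℕ) (w : ↥W), ((f₀^[n] w : ↥W) : G) = (h ^ n) (w : G) := by
    intro n
    induction n with
    | zero =>
      intro w
      rfl
    | succ n ih =>
      intro w
      rw [Function.iterate_succ_apply', hf₀, ih w, pow_succ']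
      rfl
  have hp1 : ∀ w : ↥W, f₀^[p - 1] w = w := by
    intro w
    apply Subtype.ext
    rw [key, hpow]
    rfl
  obtain ⟨k, w, hw1, hw⟩ := exists_pow_eigen_comm (p := p) f₀ hp1
  refine ⟨k, (w : G), w.2, fun h1 => hw1 (Subtype.ext h1), ?_⟩
  rw [← hf₀, hw]
  rfl

theorem aut_center_mem' {G : Type*} [Group G] (h : MulAut G) {x : G}
    (hx : x ∈ Subgroup.center G) : h x ∈ Subgroup.center G := by
  rw [Subgroup.mem_center_iff] at hx ⊢
  intro g
  have h2 := congrArg h (hx (h⁻¹ g))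
  rw [map_mul, map_mul, MulAut.apply_inv_self] at h2
  exact h2

/-- A common central eigenvector for a commuting family of automorphisms of exponent dividing
`p - 1` of a nontrivial finite `p`-group. -/
theorem exists_central_eigen {p : ℕ} [Fact p.Prime] {G : Type*} [Group G] [Finite G]
    [Nontrivial G] (hG : IsPGroup p G) (𝓗 : Set (MulAut G))
    (hcomm : ∀ a ∈ 𝓗, ∀ b ∈ 𝓗, a * b = b * a) (hexp : ∀ h ∈ 𝓗, h ^ (p - 1) = 1) :
    ∃ v : G, v ≠ 1 ∧ v ∈ Subgroup.center G ∧ ∀ h ∈ 𝓗, h v ∈ Subgroup.zpowers v := by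
  classical
  obtain ⟨𝒲, h𝒲⟩ : ∃ 𝒲 : Set (Subgroup G), 𝒲 = {W | W ≠ ⊥ ∧ W ≤ Subgroup.center G ∧
      (∀ w ∈ W, w ^ p = 1) ∧ ∀ h ∈ 𝓗, ∀ x ∈ W, h x ∈ W} := ⟨_, rfl⟩
  -- the family is nonempty
  have hne : ∃ k : ℕ, ∃ W ∈ 𝒲, Nat.card W = k := by
    have hdvd : p ∣ Nat.card (Subgroup.center G) := by
      refine (hG.to_subgroup (Subgroup.center G)).card_eq_or_dvd.resolve_left ?_
      have h1 := (Subgroup.one_lt_card_iff_ne_bot (Subgroup.center G)).mpr hG.bot_lt_center.ne'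
      omega
    obtain ⟨z, hz⟩ := exists_prime_orderOf_dvd_card' p hdvd
    refine ⟨_, { carrier := {z | z ∈ Subgroup.center G ∧ z ^ p = 1}
                 one_mem' := ⟨Subgroup.one_mem _, one_pow _⟩
                 mul_mem' := ?_
                 inv_mem' := ?_ }, ?_, rfl⟩
    · rintro a b ⟨ha, hap⟩ ⟨hb, hbp⟩
      refine ⟨Subgroup.mul_mem _ ha hb, ?_⟩
      have hc : Commute a b := (Subgroup.mem_center_iff.mp ha b).symm
      rw [hc.mul_pow, hap, hbp, one_mul]
    · rintro a ⟨ha, hap⟩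
      exact ⟨Subgroup.inv_mem _ ha, by rw [inv_pow, hap, inv_one]⟩
    · rw [h𝒲]
      refine ⟨?_, fun w hw => hw.1, fun w hw => hw.2, fun h _ x hx => ⟨aut_center_mem' h hx.1, ?_⟩⟩
      · intro hbot
        have hz1 : (z : G) ∈ (⊥ : Subgroup G) := by
          rw [← hbot]
          refine ⟨z.2, ?_⟩
          have h2 : z ^ p = 1 := by
            rw [← hz]
            exact pow_orderOf_eq_one z
          have h3 := congrArg Subtype.val h2
          rwa [Subgroup.coe_pow] at h3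
        rw [Subgroup.mem_bot] at hz1
        have hz2 : z = 1 := Subtype.ext hz1
        rw [hz2, orderOf_one] at hz
        exact (Fact.out : p.Prime).one_lt.ne hz
      · rw [← map_pow, hx.2, map_one]
  obtain ⟨W, hW𝒲, hWk⟩ := Nat.find_spec hne
  have hmin : ∀ W' ∈ 𝒲, Nat.card W ≤ Nat.card W' := fun W' hW' =>
    hWk ▸ Nat.find_min' hne ⟨W', hW', rfl⟩
  have hW𝒲' := hW𝒲
  rw [h𝒲] at hW𝒲'
  obtain ⟨hWne, hWc, hWexp, hWinv⟩ := hW𝒲'
  have hWcomm : ∀ a ∈ W, ∀ b ∈ W, a * b = b * a := fun a ha b _ =>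
    (Subgroup.mem_center_iff.mp (hWc ha) b).symm
  have hpowmap : ∀ h ∈ 𝓗, ∃ k : ℕ, ∀ x ∈ W, h x = x ^ k := by
    intro h hh
    obtain ⟨k, w, hwW, hw1, hwk⟩ := exists_pow_eigen W hWcomm hWexp hWne h (hWinv h hh) (hexp h hh)
    refine ⟨k, ?_⟩
    obtain ⟨E, hE⟩ : ∃ E : Subgroup G, ∀ x, x ∈ E ↔ (x ∈ W ∧ h x = x ^ k) := by
      refine ⟨{ carrier := {x | x ∈ W ∧ h x = x ^ k}
                one_mem' := ⟨W.one_mem, by rw [map_one, one_pow]⟩
                mul_mem' := ?_
                inv_mem' := ?_ }, fun x => Iff.rfl⟩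
      · rintro a b ⟨ha, hak⟩ ⟨hb, hbk⟩
        refine ⟨W.mul_mem ha hb, ?_⟩
        have hc : Commute a b := hWcomm a ha b hb
        rw [map_mul, hak, hbk, hc.mul_pow]
      · rintro a ⟨ha, hak⟩
        exact ⟨W.inv_mem ha, by rw [map_inv, hak, inv_pow]⟩
    have hEW : E ≤ W := fun x hx => ((hE x).mp hx).1
    have hE𝒲 : E ∈ 𝒲 := by
      rw [h𝒲]
      refine ⟨?_, hEW.trans hWc, fun x hx => hWexp x (hEW hx), ?_⟩
      · intro hbot
        have : w ∈ (⊥ : Subgroup G) := hbot ▸ (hE w).mpr ⟨hwW, hwk⟩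
        exact hw1 (Subgroup.mem_bot.mp this)
      · intro h' hh' x hx
        obtain ⟨hxW, hxk⟩ := (hE x).mp hx
        refine (hE _).mpr ⟨hWinv h' hh' x hxW, ?_⟩
        have h1 : h (h' x) = h' (h x) := by
          have := congrArg (fun f : MulAut G => f x) (hcomm h hh h' hh')
          exact this
        rw [h1, hxk, map_pow]
    have hEeq : E = W := Subgroup.eq_of_le_of_card_ge hEW (hmin E hE𝒲)
    intro x hx
    rw [← hEeq] at hx
    exact ((hE x).mp hx).2
  obtain ⟨⟨v, hvW⟩, hv1⟩ := (Subgroup.ne_bot_iff_exists_ne_one).mp hWne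
  refine ⟨v, fun h => hv1 (Subtype.ext h), hWc hvW, fun h hh => ?_⟩
  obtain ⟨k, hk⟩ := hpowmap h hh
  rw [hk v hvW]
  exact Subgroup.npow_mem_zpowers v k

universe u

/-- A finite `p`-group with a commuting family of automorphisms of exponent dividing `p - 1`
has an invariant normal chain with cyclic steps. -/
theorem exists_chain_of_commuting {p : ℕ} [Fact p.Prime] :
    ∀ (n : ℕ) (G : Type u) [Group G] [Finite G], Nat.card G = n → IsPGroup p G →
    ∀ 𝓗 : Set (MulAut G), (∀ a ∈ 𝓗, ∀ b ∈ 𝓗, a * b = b * a) → (∀ h ∈ 𝓗, h ^ (p - 1) = 1) →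
    ∃ (m : ℕ) (c : Fin (m + 1) → Subgroup G), c 0 = ⊥ ∧ c (Fin.last m) = ⊤ ∧
      (∀ i, (c i).Normal ∧ ∀ h ∈ 𝓗, ∀ x ∈ c i, h x ∈ c i) ∧
      ∀ i : Fin m, c i.castSucc ≤ c i.succ ∧
        ∃ x, c i.succ = c i.castSucc ⊔ Subgroup.zpowers x := by
  intro n
  induction n using Nat.strong_induction_on with
  | _ n ih =>
  intro G _ _ hcard hG 𝓗 hcomm hexp
  by_cases htriv : Subsingleton G
  · refine ⟨0, fun _ => ⊥, rfl, ?_, ?_, ?_⟩
    · exact Subsingleton.elim _ _
    · intro i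
      refine ⟨inferInstance, fun h _ x hx => ?_⟩
      rw [Subgroup.mem_bot] at hx ⊢
      rw [hx, map_one]
    · intro i
      exact i.elim0
  · rw [not_subsingleton_iff_nontrivial] at htriv
    obtain ⟨v, hv1, hvc, hvinv⟩ := exists_central_eigen hG 𝓗 hcomm hexp
    obtain ⟨M, hMdef⟩ : ∃ M : Subgroup G, M = Subgroup.zpowers v := ⟨_, rfl⟩
    have hMc : M ≤ Subgroup.center G := by
      rw [hMdef, Subgroup.zpowers_le]
      exact hvc
    have hMn : M.Normal := by
      constructor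
      intro x hx g
      have h1 := Subgroup.mem_center_iff.mp (hMc hx) g
      rw [h1, mul_inv_cancel_right]
      exact hx
    have hMinv : ∀ h ∈ 𝓗, ∀ x ∈ M, h x ∈ M := by
      intro h hh x hx
      rw [hMdef] at hx ⊢
      obtain ⟨j, rfl⟩ := Subgroup.mem_zpowers_iff.mp hx
      rw [map_zpow]
      exact Subgroup.zpow_mem _ (hvinv h hh) j
    have hMmap : ∀ h ∈ 𝓗, M.map (h : G ≃* G).toMonoidHom = M := by
      intro h hh
      apply Subgroup.eq_of_le_of_card_ge
      · rintro _ ⟨x, hx, rfl⟩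
        exact hMinv h hh x hx
      · rw [Subgroup.card_map_of_injective h.injective]
    have hMne : M ≠ ⊥ := by
      intro hbot
      apply hv1
      have : v ∈ M := hMdef ▸ Subgroup.mem_zpowers v
      rw [hbot, Subgroup.mem_bot] at this
      exact this
    have hlt : Nat.card (G ⧸ M) < n := by
      have h1 := Subgroup.card_eq_card_quotient_mul_card_subgroup M
      have h2 := (Subgroup.one_lt_card_iff_ne_bot M).mpr hMne
      have h3 : 0 < Nat.card (G ⧸ M) := Nat.card_pos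
      rw [← hcard, h1]
      nlinarith
    obtain ⟨𝓗', h𝓗'⟩ : ∃ 𝓗' : Set (MulAut (G ⧸ M)), 𝓗' = {k | ∃ h ∈ 𝓗, ∀ x : G,
        k (QuotientGroup.mk x) = QuotientGroup.mk (h x)} := ⟨_, rfl⟩
    have hcomm' : ∀ a ∈ 𝓗', ∀ b ∈ 𝓗', a * b = b * a := by
      intro a ha b hb
      rw [h𝓗'] at ha hb
      obtain ⟨h, hh, hah⟩ := ha
      obtain ⟨h', hh', hbh⟩ := hb
      apply MulEquiv.ext
      intro y
      obtain ⟨x, rfl⟩ := QuotientGroup.mk_surjective y
      show a (b (QuotientGroup.mk x)) = b (a (QuotientGroup.mk x))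
      rw [hbh, hah, hah, hbh]
      have h1 : h (h' x) = h' (h x) := congrArg (fun f : MulAut G => f x) (hcomm h hh h' hh')
      rw [h1]
    have hexp' : ∀ k ∈ 𝓗', k ^ (p - 1) = 1 := by
      intro k hk
      rw [h𝓗'] at hk
      obtain ⟨h, hh, hkh⟩ := hk
      have key : ∀ (j : ℕ) (x : G), (k ^ j) (QuotientGroup.mk x) = QuotientGroup.mk ((h ^ j) x) := by
        intro j
        induction j with
        | zero =>
          intro x
          rfl
        | succ j ih =>
          intro x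
          rw [pow_succ', pow_succ', MulAut.mul_apply, MulAut.mul_apply, ih, hkh]
      apply MulEquiv.ext
      intro y
      obtain ⟨x, rfl⟩ := QuotientGroup.mk_surjective y
      rw [key, hexp h hh]
      rfl
    obtain ⟨m', c', hc0, hclast, hcinv, hcstep⟩ :=
      ih (Nat.card (G ⧸ M)) hlt (G ⧸ M) rfl (hG.to_quotient M) 𝓗' hcomm' hexp'
    have hker : (⊥ : Subgroup (G ⧸ M)).comap (QuotientGroup.mk' M) = M := by
      rw [MonoidHom.comap_bot, QuotientGroup.ker_mk']
    refine ⟨m' + 1, Fin.cons ⊥ (fun i => (c' i).comap (QuotientGroup.mk' M)), ?_, ?_, ?_, ?_⟩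
    · rfl
    · rw [← Fin.succ_last, Fin.cons_succ, hclast, Subgroup.comap_top]
    · intro i
      refine Fin.cases ?_ ?_ i
      · rw [Fin.cons_zero]
        refine ⟨inferInstance, fun h _ x hx => ?_⟩
        rw [Subgroup.mem_bot] at hx ⊢
        rw [hx, map_one]
      · intro j
        rw [Fin.cons_succ]
        refine ⟨(hcinv j).1.comap _, fun h hh x hx => ?_⟩
        have hk : QuotientGroup.congr M M h (hMmap h hh) ∈ 𝓗' := by
          rw [h𝓗']
          exact ⟨h, hh, fun x => QuotientGroup.congr_mk M M h (hMmap h hh) x⟩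
        have h1 := (hcinv j).2 _ hk _ (Subgroup.mem_comap.mp hx)
        have h2 : QuotientGroup.congr M M h (hMmap h hh) ((QuotientGroup.mk' M) x) =
            (QuotientGroup.mk' M) (h x) := QuotientGroup.congr_mk M M h (hMmap h hh) x
        rw [h2] at h1
        exact Subgroup.mem_comap.mpr h1
    · intro i
      refine Fin.cases ?_ ?_ i
      · rw [Fin.castSucc_zero, Fin.cons_zero, Fin.cons_succ, hc0, hker]
        exact ⟨bot_le, v, by rw [bot_sup_eq, hMdef]⟩
      · intro j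
        rw [← Fin.succ_castSucc, Fin.cons_succ, Fin.cons_succ]
        refine ⟨Subgroup.comap_mono (hcstep j).1, ?_⟩
        obtain ⟨xbar, hx⟩ := (hcstep j).2
        obtain ⟨x, rfl⟩ := QuotientGroup.mk_surjective xbar
        refine ⟨x, ?_⟩
        have hMle : M ≤ (c' j.castSucc).comap (QuotientGroup.mk' M) :=
          hker.symm.le.trans (Subgroup.comap_mono bot_le)
        have e : (Subgroup.zpowers (QuotientGroup.mk x : G ⧸ M)).comap (QuotientGroup.mk' M) =
            Subgroup.zpowers x ⊔ M := by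
          have h1 : Subgroup.zpowers (QuotientGroup.mk x : G ⧸ M) =
              (Subgroup.zpowers x).map (QuotientGroup.mk' M) := by
            rw [MonoidHom.map_zpowers]
            rfl
          rw [h1, Subgroup.comap_map_eq, QuotientGroup.ker_mk']
        rw [hx, ← Subgroup.comap_sup_eq (QuotientGroup.mk' M) _ _ (QuotientGroup.mk'_surjective M), e]
        apply le_antisymm
        · exact sup_le le_sup_left (sup_le le_sup_right (hMle.trans le_sup_left))
        · exact sup_le le_sup_left (le_sup_left.trans le_sup_right)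

end Cfsg.Agent.Lib.Helper27
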