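import Mathlib
import Cfsg.Prelude.Def_FusionSystem
import Cfsg.Agent.Lib.Helper27.SupersolA
import Cfsg.Agent.Lib.Helper27.Chain
import Cfsg.Agent.Lib.Helper27.AutSys
import Cfsg.Agent.Lib.Helper26.FusionNormal
import Cfsg.Agent.Lib.Helper1.Cores

set_option autoImplicit false

namespace Cfsg.Agent.Lib.Helper27

open Cfsg Cfsg.FusionSystem Cfsg.Agent.Lib.Helper26

section PureChain

universe u

variable {G : Type u} [Group G]

/-- A chain of normal `A`-invariant subgroups from `⊥` to `⊤` with cyclic steps. -/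
def NChain (A : Subgroup (MulAut G)) (m : ℕ) (c : Fin (m + 1) → Subgroup G) : Prop :=
  c 0 = ⊥ ∧ c (Fin.last m) = ⊤ ∧ (∀ i, (c i).Normal ∧ ∀ α ∈ A, ∀ x ∈ c i, α x ∈ c i) ∧
    ∀ i : Fin m, c i.castSucc ≤ c i.succ ∧
      ∃ y, c i.succ = c i.castSucc ⊔ Subgroup.zpowers y

theorem pc_sec {C D : Subgroup G} (hC : C.Normal) {y : G}
    (hD : D = C ⊔ Subgroup.zpowers y) :
    ∃ (Q : Type u) (_ : Group Q) (ψ : G →* Q) (g₀ : Q),
      (∀ z : G, ψ z = 1 ↔ z ∈ C) ∧ (∀ z : G, z ∈ D → ψ z ∈ Subgroup.zpowers g₀) := by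
  refine ⟨G ⧸ C, inferInstance, QuotientGroup.mk' C, QuotientGroup.mk y, ?_, ?_⟩
  · intro z
    rw [QuotientGroup.mk'_apply, QuotientGroup.eq_one_iff]
  · intro z hz
    rw [hD] at hz
    have hle : C ⊔ Subgroup.zpowers y ≤
        (Subgroup.zpowers (QuotientGroup.mk y : G ⧸ C)).comap (QuotientGroup.mk' C) := by
      refine sup_le ?_ ?_
      · intro c hc
        have h1 : (QuotientGroup.mk' C) c = 1 := by
          rw [QuotientGroup.mk'_apply, QuotientGroup.eq_one_iff]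
          exact hc
        show (QuotientGroup.mk' C) c ∈ Subgroup.zpowers _
        rw [h1]
        exact one_mem _
      · rw [Subgroup.zpowers_le]
        exact Subgroup.mem_zpowers _
    exact hle hz

theorem pc_exp (A : Subgroup (MulAut G)) {C D : Subgroup G}
    (hCi : ∀ α ∈ A, ∀ x ∈ C, α x ∈ C) (hDi : ∀ α ∈ A, ∀ x ∈ D, α x ∈ D)
    {Q : Type*} [Group Q] (ψ : G →* Q) (g₀ : Q) (hker : ∀ z : G, ψ z = 1 ↔ z ∈ C)
    (hcyc : ∀ z : G, z ∈ D → ψ z ∈ Subgroup.zpowers g₀) {α : MulAut G} (hα : α ∈ A) :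
    ∃ a : ℤ, ∀ z : G, z ∈ D → ψ (α z) = ψ z ^ a :=
  exists_zpow_of_cyclic_image ψ D g₀ hcyc α.toMonoidHom (fun z hz => hDi α hα z hz)
    (fun z hz => (hker _).mpr (hCi α hα z ((hker z).mp hz)))

theorem pc_comm (A : Subgroup (MulAut G)) {C D : Subgroup G} (hC : C.Normal)
    (hCi : ∀ α ∈ A, ∀ x ∈ C, α x ∈ C) (hDi : ∀ α ∈ A, ∀ x ∈ D, α x ∈ D) {y : G}
    (hDy : D = C ⊔ Subgroup.zpowers y) {α β : MulAut G} (hα : α ∈ A) (hβ : β ∈ A) (z : G)
    (hz : z ∈ D) : z⁻¹ * (α * β * α⁻¹ * β⁻¹) z ∈ C := by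
  obtain ⟨Q, _, ψ, g₀, hker, hcyc⟩ := pc_sec hC hDy
  obtain ⟨a, ha⟩ := pc_exp A hCi hDi ψ g₀ hker hcyc hα
  obtain ⟨b, hb⟩ := pc_exp A hCi hDi ψ g₀ hker hcyc hβ
  have hαi := A.inv_mem hα
  have hβi := A.inv_mem hβ
  obtain ⟨w, hw⟩ : ∃ w : G, w = α⁻¹ (β⁻¹ z) := ⟨_, rfl⟩
  have hw1 : β⁻¹ z ∈ D := hDi _ hβi z hz
  have hwD : w ∈ D := by
    rw [hw]
    exact hDi _ hαi _ hw1
  have hαw : α w ∈ D := hDi _ hα _ hwD
  have hβw : β w ∈ D := hDi _ hβ _ hwD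
  have e1 : (α * β * α⁻¹ * β⁻¹) z = α (β w) := by
    rw [hw]
    rfl
  have e2 : z = β (α w) := by
    rw [hw]
    simp
  have h1 : ψ (α (β w)) = ψ w ^ (b * a) := by
    rw [ha _ hβw, hb _ hwD, zpow_mul]
  have h2 : ψ (β (α w)) = ψ w ^ (b * a) := by
    rw [hb _ hαw, ha _ hwD, ← zpow_mul, mul_comm]
  rw [← hker, map_mul, map_inv, e1, h1, inv_mul_eq_one, ← h2, ← e2]

/-- The elements of `A` acting trivially on all sections of the chain. -/
def pcStab (A : Subgroup (MulAut G)) (m : ℕ) (c : Fin (m + 1) → Subgroup G)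
    (hc : ∀ i, ∀ α ∈ A, ∀ x ∈ c i, α x ∈ c i) : Subgroup (MulAut G) where
  carrier := {α | α ∈ A ∧ ∀ (i : Fin m) (z : G), z ∈ c i.succ → z⁻¹ * α z ∈ c i.castSucc}
  one_mem' := ⟨one_mem _, fun i z _ => by simp⟩
  mul_mem' := by
    rintro α β ⟨hα, hα'⟩ ⟨hβ, hβ'⟩
    refine ⟨mul_mem hα hβ, fun i z hz => ?_⟩
    have h1 := hβ' i z hz
    have h2 := hα' i (β z) (hc i.succ β hβ z hz)
    have e : z⁻¹ * (α * β) z = (z⁻¹ * β z) * ((β z)⁻¹ * α (β z)) := by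
      rw [MulAut.mul_apply]
      group
    rw [e]
    exact mul_mem h1 h2
  inv_mem' := by
    rintro α ⟨hα, hα'⟩
    refine ⟨inv_mem hα, fun i z hz => ?_⟩
    have hw := hc i.succ α⁻¹ (inv_mem hα) z hz
    have h1 := hα' i (α⁻¹ z) hw
    rw [MulAut.apply_inv_self] at h1
    have e : z⁻¹ * α⁻¹ z = ((α⁻¹ z)⁻¹ * z)⁻¹ := by group
    rw [e]
    exact inv_mem h1

theorem mem_pcStab (A : Subgroup (MulAut G)) (m : ℕ) (c : Fin (m + 1) → Subgroup G)
    (hc : ∀ i, ∀ α ∈ A, ∀ x ∈ c i, α x ∈ c i) (α : MulAut G) :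
    α ∈ pcStab A m c hc ↔ α ∈ A ∧ ∀ (i : Fin m) (z : G),
      z ∈ c i.succ → z⁻¹ * α z ∈ c i.castSucc := Iff.rfl

theorem pcStab_isPGroup [Finite G] {p : ℕ} [Fact p.Prime] (hG : IsPGroup p G)
    (A : Subgroup (MulAut G)) {m : ℕ} {c : Fin (m + 1) → Subgroup G} (hch : NChain A m c) :
    IsPGroup p ↥(pcStab A m c (fun i => (hch.2.2.1 i).2)) := by
  obtain ⟨e, he⟩ := IsPGroup.iff_card.mp hG
  rintro ⟨α, hα, hα'⟩
  refine ⟨e * m, ?_⟩
  apply Subtype.ext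
  show α ^ (p ^ (e * m)) = 1
  have key := pow_eq_one_of_stab_chain α m
    (fun j => c ⟨min j m, by omega⟩) ?_ ?_ ?_ ?_
  · rw [he, ← pow_mul] at key
    exact key
  · have e0 : (⟨min 0 m, by omega⟩ : Fin (m + 1)) = 0 := Fin.ext (by simp)
    show c ⟨min 0 m, _⟩ = ⊥
    rw [e0, hch.1]
  · have e0 : (⟨min m m, by omega⟩ : Fin (m + 1)) = Fin.last m := Fin.ext (by simp)
    show c ⟨min m m, _⟩ = ⊤
    rw [e0, hch.2.1]
  · intro i hi
    have e0 : (⟨min i m, by omega⟩ : Fin (m + 1)) = (⟨i, hi⟩ : Fin m).castSucc :=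
      Fin.ext (by simp; omega)
    have e1 : (⟨min (i + 1) m, by omega⟩ : Fin (m + 1)) = (⟨i, hi⟩ : Fin m).succ :=
      Fin.ext (by simp; omega)
    show c ⟨min i m, _⟩ ≤ c ⟨min (i + 1) m, _⟩
    rw [e0, e1]
    exact (hch.2.2.2 ⟨i, hi⟩).1
  · intro i hi z hz
    have e0 : (⟨min i m, by omega⟩ : Fin (m + 1)) = (⟨i, hi⟩ : Fin m).castSucc :=
      Fin.ext (by simp; omega)
    have e1 : (⟨min (i + 1) m, by omega⟩ : Fin (m + 1)) = (⟨i, hi⟩ : Fin m).succ :=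
      Fin.ext (by simp; omega)
    have hz' : z ∈ c ⟨min (i + 1) m, by omega⟩ := hz
    show z⁻¹ * α z ∈ c ⟨min i m, _⟩
    rw [e0]
    rw [e1] at hz'
    exact hα' ⟨i, hi⟩ z hz'

/-- A group of automorphisms of a finite `p`-group preserving a normal chain with cyclic steps
has a normal Sylow `p`-subgroup. -/
theorem normal_sylow_of_chain [Finite G] {p : ℕ} [Fact p.Prime] (hG : IsPGroup p G)
    (A : Subgroup (MulAut G)) {m : ℕ} {c : Fin (m + 1) → Subgroup G} (hch : NChain A m c)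
    (R : Sylow p ↥A) : (R : Subgroup ↥A).Normal := by
  obtain ⟨K, hK⟩ : ∃ K : Subgroup ↥A,
      K = (pcStab A m c (fun i => (hch.2.2.1 i).2)).subgroupOf A := ⟨_, rfl⟩
  have hKn : K.Normal := by
    constructor
    intro k hk g
    rw [hK, Subgroup.mem_subgroupOf, mem_pcStab] at hk ⊢
    refine ⟨Subtype.coe_prop _, fun i z hz => ?_⟩
    have hgi := A.inv_mem g.2
    have hw := (hch.2.2.1 i.succ).2 _ hgi z hz
    have h1 := hk.2 i _ hw
    have h2 := (hch.2.2.1 i.castSucc).2 _ g.2 _ h1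
    have e : z⁻¹ * ((g * k * g⁻¹ : ↥A) : MulAut G) z =
        (g : MulAut G) (((g : MulAut G)⁻¹ z)⁻¹ * (k : MulAut G) ((g : MulAut G)⁻¹ z)) := by
      rw [map_mul, map_inv, MulAut.apply_inv_self]
      rfl
    rw [e]
    exact h2
  have hKp : IsPGroup p ↥K := by
    rw [hK]
    exact (pcStab_isPGroup hG A hch).comap_subtype
  have hKR : K ≤ R := Cfsg.Agent.Lib.Helper1.normal_pgroup_le_sylow hKn hKp R
  constructor
  intro r hr g
  have hcomm : g * r * g⁻¹ * r⁻¹ ∈ K := by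
    rw [hK, Subgroup.mem_subgroupOf, mem_pcStab]
    refine ⟨Subtype.coe_prop _, fun i z hz => ?_⟩
    obtain ⟨-, y, hDy⟩ := hch.2.2.2 i
    exact pc_comm A (hch.2.2.1 _).1 (hch.2.2.1 _).2 (hch.2.2.1 _).2 hDy g.2 r.2 z hz
  have e : g * r * g⁻¹ = (g * r * g⁻¹ * r⁻¹) * r := by group
  rw [e]
  exact mul_mem (hKR hcomm) hr

end PureChain

section FusionChain

variable {Ω : Type*} [Group Ω] {S : Subgroup Ω}

/-- An essential subgroup has no `Aut_F`-invariant normal chain with cyclic steps. -/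
theorem not_essential_of_chain [Finite S] (p : ℕ) [Fact p.Prime] (hS : IsPGroup p ↥S)
    (F : FusionSystem S) {P : Subgroup Ω} {m : ℕ} {c : Fin (m + 1) → Subgroup ↥P}
    (hch : NChain (F.autGroup P) m c) : ¬ F.IsEssential p P := by
  intro hess
  have hPS : P ≤ S := hess.1.1
  have : Finite ↥P := finite_of_le hPS
  obtain ⟨R⟩ : Nonempty (Sylow p ↥(F.autGroup P)) := inferInstance
  exact not_essential_of_normal_sylow F (Fusion.isRadical_of_isEssential hS F hess) R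
    (normal_sylow_of_chain (hS.to_le hPS) (F.autGroup P) hch R) hess

end FusionChain

end Cfsg.Agent.Lib.Helper27
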