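import Mathlib
import Cfsg.Prelude.Def_FusionSystem
import Cfsg.Agent.Lib.Helper27.AbEssA
import Cfsg.Agent.Lib.Helper27.ChainSylow
import Cfsg.Agent.Lib.Helper1.Cores

set_option autoImplicit false

namespace Cfsg.Agent.Lib.Helper27

open Cfsg Cfsg.FusionSystem Cfsg.Agent.Lib.Helper26

section PureB

theorem decomp_factor_trivial {G : Type*} [Group G] [Finite G]
    (hcomm : ∀ a b : G, a * b = b * a) (p : ℕ) [Fact p.Prime] (hG : IsPGroup p G)
    (hfr : (frattini G).index ≤ p ^ 2) (n : ℕ) (hn : 0 < n) (H : Type) [CommGroup H]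
    (φ : G ≃* (Multiplicative (ZMod (p ^ n)) × Multiplicative (ZMod (p ^ n))) × H) :
    Nat.card H = 1 := by
  have hp : p.Prime := Fact.out
  have hne : NeZero (p ^ n) := ⟨pow_ne_zero n hp.ne_zero⟩
  have hc1 : Nat.card (Multiplicative (ZMod (p ^ n))) = p ^ n := by
    rw [Nat.card_congr Multiplicative.toAdd, Nat.card_zmod]
  have hcardT : Nat.card G = p ^ n * p ^ n * Nat.card H := by
    rw [Nat.card_congr φ.toEquiv, Nat.card_prod, Nat.card_prod, hc1]
  obtain ⟨e, he⟩ := IsPGroup.iff_card.mp hG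
  have hdvd : Nat.card H ∣ p ^ e := by
    rw [← he, hcardT]
    exact dvd_mul_left _ _
  obtain ⟨j, -, hj⟩ := (Nat.dvd_prime_pow hp).mp hdvd
  by_contra hne1
  have hj0 : j ≠ 0 := fun h => hne1 (by rw [hj, h, pow_zero])
  have hHfin : Finite H := Nat.finite_of_card_ne_zero (by rw [hj]; exact pow_ne_zero j hp.ne_zero)
  have hpdvd : p ∣ Nat.card H := by
    rw [hj]
    exact dvd_pow_self p hj0
  obtain ⟨w, hw⟩ := exists_prime_orderOf_dvd_card' p hpdvd
  obtain ⟨u, hu⟩ : ∃ u : Multiplicative (ZMod (p ^ n)),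
      u = Multiplicative.ofAdd (((p ^ (n - 1) : ℕ) : ZMod (p ^ n))) := ⟨_, rfl⟩
  have hup : u ^ p = 1 := by
    have h1 : u ^ p = Multiplicative.ofAdd (((p * p ^ (n - 1) : ℕ) : ZMod (p ^ n))) := by
      rw [hu, ← ofAdd_nsmul, nsmul_eq_mul, Nat.cast_mul]
    have h2 : p * p ^ (n - 1) = p ^ n := by
      rw [← pow_succ', Nat.sub_add_cancel hn]
    rw [h1, h2, ZMod.natCast_self]
    rfl
  have hu1 : u ≠ 1 := by
    intro h
    rw [hu] at h
    have h1 : (((p ^ (n - 1) : ℕ) : ZMod (p ^ n))) = 0 := h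
    have h2 := (ZMod.natCast_eq_zero_iff _ _).mp h1
    have h3 := (Nat.pow_dvd_pow_iff_le_right hp.one_lt).mp h2
    omega
  have huord : orderOf u = p := orderOf_eq_prime hup hu1
  have hwp : w ^ p = 1 := by
    rw [← hw]
    exact pow_orderOf_eq_one w
  have hcnt := omega_count_group hcomm p
    (fun a : Fin p × Fin p × Fin p =>
      φ.symm ((u ^ (a.1 : ℕ), u ^ (a.2.1 : ℕ)), w ^ (a.2.2 : ℕ)))
    (by
      intro a b hab
      have h1 := φ.symm.injective hab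
      have h2 : u ^ (a.1 : ℕ) = u ^ (b.1 : ℕ) := congrArg (fun t => t.1.1) h1
      have h3 : u ^ (a.2.1 : ℕ) = u ^ (b.2.1 : ℕ) := congrArg (fun t => t.1.2) h1
      have h4 : w ^ (a.2.2 : ℕ) = w ^ (b.2.2 : ℕ) := congrArg (fun t => t.2) h1
      have i1 : (a.1 : ℕ) = b.1 := pow_injOn_Iio_orderOf (by rw [Set.mem_Iio, huord]; exact a.1.2)
        (by rw [Set.mem_Iio, huord]; exact b.1.2) h2
      have i2 : (a.2.1 : ℕ) = b.2.1 := pow_injOn_Iio_orderOf
        (by rw [Set.mem_Iio, huord]; exact a.2.1.2) (by rw [Set.mem_Iio, huord]; exact b.2.1.2) h3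
      have i3 : (a.2.2 : ℕ) = b.2.2 := pow_injOn_Iio_orderOf
        (by rw [Set.mem_Iio, hw]; exact a.2.2.2) (by rw [Set.mem_Iio, hw]; exact b.2.2.2) h4
      exact Prod.ext (Fin.ext i1) (Prod.ext (Fin.ext i2) (Fin.ext i3)))
    (by
      intro a
      rw [← map_pow]
      have h1 : ((u ^ (a.1 : ℕ), u ^ (a.2.1 : ℕ)), w ^ (a.2.2 : ℕ)) ^ p =
          (1 : (Multiplicative (ZMod (p ^ n)) × Multiplicative (ZMod (p ^ n))) × H) := by
        refine Prod.ext (Prod.ext ?_ ?_) ?_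
        · show (u ^ (a.1 : ℕ)) ^ p = 1
          rw [← pow_mul, mul_comm, pow_mul, hup, one_pow]
        · show (u ^ (a.2.1 : ℕ)) ^ p = 1
          rw [← pow_mul, mul_comm, pow_mul, hup, one_pow]
        · show (w ^ (a.2.2 : ℕ)) ^ p = 1
          rw [← pow_mul, mul_comm, pow_mul, hwp, one_pow]
      rw [h1, map_one])
  rw [Nat.card_prod, Nat.card_prod, Nat.card_fin] at hcnt
  have h5 : p * (p * p) ≤ p ^ 2 := hcnt.trans hfr
  have h6 : p ^ 2 * p ≤ p ^ 2 * 1 := by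
    rw [mul_one]
    calc p ^ 2 * p = p * (p * p) := by ring
      _ ≤ p ^ 2 := h5
  have h7 := Nat.le_of_mul_le_mul_left h6 (pow_pos hp.pos 2)
  exact absurd hp.one_lt (by omega)

theorem zmod_pow_root (p n : ℕ) (hp : p.Prime) (hn : 2 ≤ n) (c : Multiplicative (ZMod (p ^ n)))
    (hc : c ^ p = 1) : ∃ d : Multiplicative (ZMod (p ^ n)), c = d ^ p := by
  have hne : NeZero (p ^ n) := ⟨pow_ne_zero n hp.ne_zero⟩
  obtain ⟨α, hα⟩ : ∃ α : ZMod (p ^ n), α = Multiplicative.toAdd c := ⟨_, rfl⟩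
  have h1 : p • α = 0 := by
    rw [hα]
    exact congrArg Multiplicative.toAdd hc
  have h2 : ((p * α.val : ℕ) : ZMod (p ^ n)) = 0 := by
    rw [Nat.cast_mul, ZMod.natCast_zmod_val, ← nsmul_eq_mul]
    exact h1
  have h3 : p ^ n ∣ p * α.val := (ZMod.natCast_eq_zero_iff _ _).mp h2
  have h4 : p * p ∣ p * α.val := by
    refine Dvd.dvd.trans ?_ h3
    rw [← sq]
    exact pow_dvd_pow p hn
  have h5 : p ∣ α.val := Nat.dvd_of_mul_dvd_mul_left hp.pos h4
  obtain ⟨s, hs⟩ := h5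
  refine ⟨Multiplicative.ofAdd ((s : ℕ) : ZMod (p ^ n)), ?_⟩
  rw [← ofAdd_nsmul, nsmul_eq_mul, ← Nat.cast_mul, ← hs, ZMod.natCast_zmod_val, hα]
  rfl

theorem pow_trivial_of_agemo_comm {G : Type*} [CommGroup G] [Finite G] (p : ℕ) [Fact p.Prime]
    (hG : IsPGroup p G) (α : MulAut G) (h : ∀ x, ∃ y, x⁻¹ * α x = y ^ p) :
    ∃ k : ℕ, α ^ (p ^ k) = 1 := by
  obtain ⟨N, hN⟩ := IsPGroup.iff_card.mp hG
  have hpowN : ∀ x : G, x ^ (p ^ N) = 1 := fun x => by
    rw [← hN]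
    exact pow_card_eq_one'
  have key := pow_eq_one_of_stab_chain α N (fun i => agemoSub G p (N - i)) ?_ ?_ ?_ ?_
  · rw [hN, ← pow_mul] at key
    exact ⟨N * N, key⟩
  · show agemoSub G p (N - 0) = ⊥
    rw [Nat.sub_zero, eq_bot_iff]
    rintro _ ⟨g, rfl⟩
    exact Subgroup.mem_bot.mpr (hpowN g)
  · show agemoSub G p (N - N) = ⊤
    rw [Nat.sub_self, eq_top_iff]
    intro s _
    refine ⟨s, ?_⟩
    show s ^ (p ^ 0) = s
    rw [pow_zero, pow_one]
  · intro i hi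
    show agemoSub G p (N - i) ≤ agemoSub G p (N - (i + 1))
    rintro _ ⟨g, rfl⟩
    refine ⟨g ^ p, ?_⟩
    show (g ^ p) ^ (p ^ (N - (i + 1))) = g ^ (p ^ (N - i))
    rw [← pow_mul, ← pow_succ']
    congr 2
    omega
  · intro i hi x hx
    have hx' : x ∈ agemoSub G p (N - (i + 1)) := hx
    show x⁻¹ * α x ∈ agemoSub G p (N - i)
    obtain ⟨y, rfl⟩ := hx'
    obtain ⟨z, hz⟩ := h y
    refine ⟨z, ?_⟩
    show z ^ (p ^ (N - i)) = ((y ^ (p ^ (N - (i + 1))))⁻¹ * α (y ^ (p ^ (N - (i + 1)))))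
    rw [map_pow, ← inv_pow, ← mul_pow, hz, ← pow_mul, ← pow_succ']
    congr 2
    omega

theorem pow_trivial_of_agemo {G : Type*} [Group G] [Finite G] (hcomm : ∀ a b : G, a * b = b * a)
    (p : ℕ) [Fact p.Prime] (hG : IsPGroup p G) (α : MulAut G)
    (h : ∀ x, ∃ y, x⁻¹ * α x = y ^ p) : ∃ k : ℕ, α ^ (p ^ k) = 1 := by
  let _inst : CommGroup G := { ‹Group G› with mul_comm := hcomm }
  exact pow_trivial_of_agemo_comm p hG α h

end PureB

section FusionB

universe u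

variable {Ω : Type u} [Group Ω] {S : Subgroup Ω}

/-- For an abelian essential subgroup, an `F`-automorphism acting trivially modulo `p`-th powers
is trivial. -/
theorem aut_trivial_of_agemo [Finite S] (p : ℕ) [Fact p.Prime] (hS : IsPGroup p S)
    (F : FusionSystem S) {H : Subgroup Ω} (hH : F.IsEssential p H)
    (hcomm : ∀ a b : ↥H, a * b = b * a) (g : MulAut ↥H) (hg : g ∈ F.autGroup H)
    (hgp : ∀ x : ↥H, ∃ y, x⁻¹ * g x = y ^ p) : g = 1 := by
  have hHS : H ≤ S := hH.1.1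
  have hfin : Finite ↥H := finite_of_le hHS
  have hGp : IsPGroup p ↥H := hS.to_le hHS
  have hrad := Fusion.isRadical_of_isEssential hS F hH
  obtain ⟨K, hK⟩ : ∃ K : Subgroup ↥(F.autGroup H), ∀ α : ↥(F.autGroup H),
      α ∈ K ↔ ∀ x : ↥H, ∃ y, x⁻¹ * (α : MulAut ↥H) x = y ^ p :=
    ⟨{ carrier := {α | ∀ x : ↥H, ∃ y, x⁻¹ * (α : MulAut ↥H) x = y ^ p}
       one_mem' := fun x => ⟨1, by simp⟩
       mul_mem' := by
         intro α β hα hβ x
         obtain ⟨y, hy⟩ := hβ x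
         obtain ⟨z, hz⟩ := hα ((β : MulAut ↥H) x)
         refine ⟨y * z, ?_⟩
         have e : x⁻¹ * ((α * β : ↥(F.autGroup H)) : MulAut ↥H) x =
             (x⁻¹ * (β : MulAut ↥H) x) *
               (((β : MulAut ↥H) x)⁻¹ * (α : MulAut ↥H) ((β : MulAut ↥H) x)) := by
           show x⁻¹ * (α : MulAut ↥H) ((β : MulAut ↥H) x) = _
           group
         rw [e, hy, hz, (show Commute y z from hcomm y z).mul_pow]
       inv_mem' := by
         intro α hα x
         obtain ⟨y, hy⟩ := hα ((α : MulAut ↥H)⁻¹ x)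
         refine ⟨y⁻¹, ?_⟩
         rw [MulAut.apply_inv_self] at hy
         have e : x⁻¹ * ((α⁻¹ : ↥(F.autGroup H)) : MulAut ↥H) x =
             (((α : MulAut ↥H)⁻¹ x)⁻¹ * x)⁻¹ := by
           show x⁻¹ * (α : MulAut ↥H)⁻¹ x = _
           group
         rw [e, hy, inv_pow] }, fun α => Iff.rfl⟩
  have hKn : K.Normal := by
    constructor
    intro k hk a
    rw [hK] at hk ⊢
    intro x
    obtain ⟨y, hy⟩ := hk ((a : MulAut ↥H)⁻¹ x)
    refine ⟨(a : MulAut ↥H) y, ?_⟩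
    have e : x⁻¹ * ((a * k * a⁻¹ : ↥(F.autGroup H)) : MulAut ↥H) x =
        (a : MulAut ↥H) (((a : MulAut ↥H)⁻¹ x)⁻¹ *
          (k : MulAut ↥H) ((a : MulAut ↥H)⁻¹ x)) := by
      rw [map_mul, map_inv, MulAut.apply_inv_self]
      rfl
    rw [e, hy, map_pow]
  have hKp : IsPGroup p ↥K := by
    rintro ⟨k, hk⟩
    obtain ⟨j, hj⟩ := pow_trivial_of_agemo hcomm p hGp (k : MulAut ↥H) ((hK k).mp hk)
    refine ⟨j, ?_⟩
    apply Subtype.ext
    apply Subtype.ext
    exact hj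
  have hle := Cfsg.Agent.Lib.Helper1.le_pCore p hKn hKp
  have hgK : (⟨g, hg⟩ : ↥(F.autGroup H)) ∈ K := (hK _).mpr hgp
  have h1 : g ∈ (Cfsg.pCore p ↥(F.autGroup H)).map (F.autGroup H).subtype :=
    ⟨⟨g, hg⟩, hle hgK, rfl⟩
  rw [hrad.2] at h1
  obtain ⟨h, rfl⟩ := h1
  apply MulEquiv.ext
  intro x
  show h * x * h⁻¹ = x
  rw [hcomm h x, mul_inv_cancel_right]

theorem exists_order_p_aut [Finite S] (p : ℕ) [Fact p.Prime] (hS : IsPGroup p S)
    (F : FusionSystem S) {H : Subgroup Ω} (hH : F.IsEssential p H) :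
    ∃ g : MulAut ↥H, g ∈ F.autGroup H ∧ g ^ p = 1 ∧ g ≠ 1 := by
  have hHS := hH.1.1
  have hfin : Finite ↥H := finite_of_le hHS
  have hrad := Fusion.isRadical_of_isEssential hS F hH
  have hp : p.Prime := Fact.out
  have hdvd : p ∣ Nat.card ↥(F.autGroup H) := by
    by_contra hnd
    obtain ⟨R⟩ : Nonempty (Sylow p ↥(F.autGroup H)) := inferInstance
    have hRbot : (R : Subgroup ↥(F.autGroup H)) = ⊥ := by
      obtain ⟨k, hk⟩ := IsPGroup.iff_card.mp R.2
      have h1 : Nat.card ↥(R : Subgroup ↥(F.autGroup H)) ∣ Nat.card ↥(F.autGroup H) :=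
        Subgroup.card_subgroup_dvd_card _
      rw [hk] at h1
      have hk0 : k = 0 := by
        by_contra h0
        exact hnd ((dvd_pow_self p h0).trans h1)
      rw [hk0, pow_zero] at hk
      exact Subgroup.card_eq_one.mp hk
    have hRn : (R : Subgroup ↥(F.autGroup H)).Normal := by
      rw [hRbot]
      infer_instance
    exact not_essential_of_normal_sylow F hrad R hRn hH
  obtain ⟨g, hg⟩ := exists_prime_orderOf_dvd_card' p hdvd
  refine ⟨(g : MulAut ↥H), g.2, ?_, ?_⟩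
  · have h1 : g ^ p = 1 := by
      rw [← hg]
      exact pow_orderOf_eq_one g
    exact congrArg Subtype.val h1
  · intro h
    have h1 : g = 1 := Subtype.ext h
    rw [h1, orderOf_one] at hg
    exact hp.one_lt.ne hg

theorem essential_abelian_two_gen [Finite S] (p : ℕ) [Fact p.Prime] (hS : IsPGroup p S)
    (F : Cfsg.FusionSystem S) (H : Subgroup Ω) (hH : F.IsEssential p H)
    (hab : IsMulCommutative ↥H) (hrk : (frattini ↥H).index ≤ p ^ 2) :
    (Cfsg.IsElementaryAbelian p H ∧ Nat.card H = p ^ 2) ∨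
      (p ≤ 3 ∧ ∃ k : ℕ, Nonempty (↥H ≃* Multiplicative (ZMod (p ^ k) × ZMod (p ^ k)))) := by
  have hp : p.Prime := Fact.out
  have hHS : H ≤ S := hH.1.1
  have hfin : Finite ↥H := finite_of_le hHS
  have hG : IsPGroup p ↥H := hS.to_le hHS
  have hcomm : ∀ a b : ↥H, a * b = b * a := fun a b => hab.is_comm.comm a b
  rcases ab_chain_or_decomp hcomm p hG with ⟨m, c, h0, hm, hinv, hstep⟩ | ⟨n, H', _, hn, ⟨φ⟩⟩
  · exfalso
    refine not_essential_of_chain p hS F (c := c) ⟨h0, hm, fun i => ⟨⟨fun x hx g => ?_⟩,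
      fun α _ x hx => hinv i α x hx⟩, hstep⟩ hH
    rw [hcomm g x, mul_inv_cancel_right]
    exact hx
  · have hH'1 : Nat.card H' = 1 := decomp_factor_trivial hcomm p hG hrk n hn H' φ
    have hsub : Subsingleton H' := (Nat.card_eq_one_iff_unique.mp hH'1).1
    have huniq : Unique H' := ⟨⟨1⟩, fun a => Subsingleton.elim _ _⟩
    obtain ⟨ψ⟩ : Nonempty (↥H ≃* Multiplicative (ZMod (p ^ n)) × Multiplicative (ZMod (p ^ n))) :=
      ⟨φ.trans MulEquiv.prodUnique⟩
    have hne : NeZero (p ^ n) := ⟨pow_ne_zero n hp.ne_zero⟩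
    have hc1 : Nat.card (Multiplicative (ZMod (p ^ n))) = p ^ n := by
      rw [Nat.card_congr Multiplicative.toAdd, Nat.card_zmod]
    by_cases hn1 : n = 1
    · left
      have hpn : p ^ n = p := by rw [hn1, pow_one]
      refine ⟨⟨hab, fun a ha => ?_⟩, ?_⟩
      · have h1 : (⟨a, ha⟩ : ↥H) ^ p = 1 := by
          apply ψ.injective
          rw [map_pow, map_one]
          refine Prod.ext ?_ ?_
          · show (ψ ⟨a, ha⟩).1 ^ p = 1
            have h4 := pow_card_eq_one' (G := Multiplicative (ZMod (p ^ n))) (x := (ψ ⟨a, ha⟩).1)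
            rw [hc1] at h4
            have h5 : (ψ ⟨a, ha⟩).1 ^ p = (ψ ⟨a, ha⟩).1 ^ (p ^ n) :=
              congrArg (fun k => (ψ ⟨a, ha⟩).1 ^ k) hpn.symm
            exact h5.trans h4
          · show (ψ ⟨a, ha⟩).2 ^ p = 1
            have h4 := pow_card_eq_one' (G := Multiplicative (ZMod (p ^ n))) (x := (ψ ⟨a, ha⟩).2)
            rw [hc1] at h4
            have h5 : (ψ ⟨a, ha⟩).2 ^ p = (ψ ⟨a, ha⟩).2 ^ (p ^ n) :=
              congrArg (fun k => (ψ ⟨a, ha⟩).2 ^ k) hpn.symm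
            exact h5.trans h4
        exact congrArg Subtype.val h1
      · rw [Nat.card_congr ψ.toEquiv, Nat.card_prod, hc1, ← pow_add, hn1]
    · right
      have hn2 : 2 ≤ n := by omega
      refine ⟨?_, n, ⟨ψ.trans (MulEquiv.prodMultiplicative (ZMod (p ^ n)) (ZMod (p ^ n))).symm⟩⟩
      by_contra hp3
      have hp5 : 5 ≤ p := by
        have h4 : p ≠ 4 := by
          intro h
          rw [h] at hp
          exact absurd hp (by norm_num)
        omega
      have hΩ : ∀ x : ↥H, x ^ p = 1 → ∃ y, x = y ^ p := by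
        intro x hx
        have h1 : (ψ x) ^ p = 1 := by rw [← map_pow, hx, map_one]
        obtain ⟨d1, hd1⟩ := zmod_pow_root p n hp hn2 (ψ x).1 (congrArg Prod.fst h1)
        obtain ⟨d2, hd2⟩ := zmod_pow_root p n hp hn2 (ψ x).2 (congrArg Prod.snd h1)
        refine ⟨ψ.symm (d1, d2), ?_⟩
        apply ψ.injective
        rw [map_pow, MulEquiv.apply_symm_apply]
        exact Prod.ext hd1 hd2
      obtain ⟨g, hgA, hgp, hg1⟩ := exists_order_p_aut p hS F hH
      have hq := quad_trivial_group hcomm p hG hp5 hΩ hrk g hgp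
      exact hg1 (aut_trivial_of_agemo p hS F hH hcomm g hgA hq)

end FusionB

end Cfsg.Agent.Lib.Helper27
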