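import Mathlib
import Cfsg.Prelude.Def_FusionSystem
import Cfsg.Agent.Lib.Helper26.FusionAut
import Cfsg.Agent.Lib.Helper26.FusionSat
import Cfsg.Agent.Lib.Helper27.SylowAux
import Cfsg.Agent.Lib.Helper27.GroupFusion
import Cfsg.Agent.Lib.Helper27.Alperin
import Cfsg.Agent.Lib.Helper27.NormalCrit
import Cfsg.Agent.Lib.Helper27.SubgroupFusion
import Cfsg.Agent.S5077

set_option autoImplicit false

namespace Cfsg.Agent.Lib.Helper27

open Cfsg Cfsg.FusionSystem Cfsg.Agent.Lib.Helper26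

variable {Ω : Type*} [Group Ω] {S : Subgroup Ω}

/-- `N_S^K(Q)`: the elements of `S` whose conjugation action on `Q` is an element of `K`. -/
def NK (S Q : Subgroup Ω) (K : Subgroup (MulAut Q)) : Subgroup Ω where
  carrier := {x | x ∈ S ∧ ∃ κ ∈ K, ∀ q : Q, ((κ q : Q) : Ω) = x * q * x⁻¹}
  one_mem' := ⟨S.one_mem, 1, K.one_mem, fun q => by simp⟩
  mul_mem' := by
    rintro x y ⟨hx, κ, hκ, h1⟩ ⟨hy, μ, hμ, h2⟩
    refine ⟨S.mul_mem hx hy, κ * μ, K.mul_mem hκ hμ, fun q => ?_⟩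
    rw [MulAut.mul_apply, h1, h2]
    group
  inv_mem' := by
    rintro x ⟨hx, κ, hκ, h1⟩
    refine ⟨S.inv_mem hx, κ⁻¹, K.inv_mem hκ, fun q => ?_⟩
    have h2 := h1 (κ⁻¹ q)
    rw [MulAut.apply_inv_self] at h2
    rw [h2]
    group

theorem mem_NK {Q : Subgroup Ω} {K : Subgroup (MulAut Q)} {x : Ω} :
    x ∈ NK S Q K ↔ x ∈ S ∧ ∃ κ ∈ K, ∀ q : Q, ((κ q : Q) : Ω) = x * q * x⁻¹ := Iff.rfl

theorem NK_le (Q : Subgroup Ω) (K : Subgroup (MulAut Q)) : NK S Q K ≤ S := fun _ hx => hx.1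

theorem NK_le_normalizer (Q : Subgroup Ω) (K : Subgroup (MulAut Q)) :
    NK S Q K ≤ Subgroup.normalizer (Q : Set Ω) := by
  rintro x ⟨-, κ, -, h⟩
  exact Fusion.mem_normalizer_of_conj h

theorem centralizerIn_le_NK (Q : Subgroup Ω) (K : Subgroup (MulAut Q)) :
    centralizerIn S Q ≤ NK S Q K := by
  rintro x ⟨hxS, hxC⟩
  refine ⟨hxS, 1, K.one_mem, fun q => ?_⟩
  have := Subgroup.mem_centralizer_iff.1 hxC q q.2
  show (q : Ω) = x * q * x⁻¹
  rw [← this]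
  group

/-- `|N_S^K(Q)| = |C_S(Q)| · |K ∩ Aut_S(Q)|`. -/
theorem card_NK (Q : Subgroup Ω) (K : Subgroup (MulAut Q)) :
    Nat.card (NK S Q K) = Nat.card (centralizerIn S Q) * Nat.card ↥(K ⊓ autInducedBy S Q) := by
  let c : NK S Q K →* MulAut Q :=
    Q.normalizerMonoidHom.comp (Subgroup.inclusion (NK_le_normalizer Q K))
  have hc : ∀ (x : NK S Q K) (q : Q), ((c x q : Q) : Ω) = x * q * (x : Ω)⁻¹ := fun x q => rfl
  have hrange : c.range = K ⊓ autInducedBy S Q := by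
    ext α
    constructor
    · rintro ⟨x, rfl⟩
      obtain ⟨hxS, κ, hκ, h⟩ := x.2
      have hcx : c x = κ := by
        apply MulEquiv.ext
        intro q
        apply Subtype.ext
        rw [hc, h]
      refine ⟨?_, Subgroup.subset_closure ⟨x, hxS, fun q => rfl⟩⟩
      rw [hcx]
      exact hκ
    · rintro ⟨hαK, hαS⟩
      obtain ⟨g, hg, hgα⟩ := Fusion.mem_autInducedBy_iff.1 hαS
      refine ⟨⟨g, hg, α, hαK, hgα⟩, ?_⟩
      apply MulEquiv.ext
      intro q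
      apply Subtype.ext
      rw [hc, hgα]
  have hker : c.ker = (centralizerIn S Q).subgroupOf (NK S Q K) := by
    ext x
    rw [MonoidHom.mem_ker, Subgroup.mem_subgroupOf]
    constructor
    · intro h1
      refine ⟨NK_le Q K x.2, ?_⟩
      show (x : Ω) ∈ Subgroup.centralizer (Q : Set Ω)
      rw [Subgroup.mem_centralizer_iff]
      intro q hq
      have h2 := hc x ⟨q, hq⟩
      rw [h1] at h2
      have h3 : q = (x : Ω) * q * (x : Ω)⁻¹ := h2
      calc q * (x : Ω) = (x : Ω) * q * (x : Ω)⁻¹ * x := by rw [← h3]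
        _ = x * q := by group
    · intro h1
      apply MulEquiv.ext
      intro q
      apply Subtype.ext
      rw [hc]
      have h2 := Subgroup.mem_centralizer_iff.1 h1.2 q q.2
      show (x : Ω) * q * (x : Ω)⁻¹ = q
      rw [← h2]
      group
  have h1 : Nat.card (NK S Q K) = Nat.card (NK S Q K ⧸ c.ker) * Nat.card c.ker :=
    Subgroup.card_eq_card_quotient_mul_card_subgroup _
  have h2 : Nat.card (NK S Q K ⧸ c.ker) = Nat.card c.range :=
    Nat.card_congr (QuotientGroup.quotientKerEquivRange c).toEquiv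
  have h3 : Nat.card c.ker = Nat.card (centralizerIn S Q) := by
    rw [hker]
    exact Nat.card_congr (Subgroup.subgroupOfEquivOfLe (centralizerIn_le_NK Q K)).toEquiv
  rw [h1, h2, h3, hrange, mul_comm]

/-- Transport of a group of automorphisms along an isomorphism. -/
def Kt {Q R : Subgroup Ω} (e : Q ≃* R) (K : Subgroup (MulAut Q)) : Subgroup (MulAut R) :=
  K.map (MulAut.congr e).toMonoidHom

theorem congr_mem_Kt {Q R : Subgroup Ω} (e : Q ≃* R) {K : Subgroup (MulAut Q)} {κ : MulAut Q}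
    (hκ : κ ∈ K) : MulAut.congr e κ ∈ Kt e K := ⟨κ, hκ, rfl⟩

theorem mem_Kt {Q R : Subgroup Ω} {e : Q ≃* R} {K : Subgroup (MulAut Q)} {β : MulAut R} :
    β ∈ Kt e K ↔ ∃ κ ∈ K, ∀ r : R, β r = e (κ (e.symm r)) := by
  constructor
  · rintro ⟨κ, hκ, rfl⟩
    exact ⟨κ, hκ, fun r => rfl⟩
  · rintro ⟨κ, hκ, h⟩
    refine ⟨κ, hκ, ?_⟩
    apply MulEquiv.ext
    intro r
    exact (h r).symm

theorem Kt_trans {Q R T : Subgroup Ω} (e : Q ≃* R) (f : R ≃* T) (K : Subgroup (MulAut Q)) :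
    Kt f (Kt e K) = Kt (e.trans f) K := by
  ext β
  constructor
  · rintro ⟨_, ⟨κ, hκ, rfl⟩, rfl⟩
    exact ⟨κ, hκ, rfl⟩
  · rintro ⟨κ, hκ, rfl⟩
    exact ⟨_, ⟨κ, hκ, rfl⟩, rfl⟩

theorem Kt_refl {Q : Subgroup Ω} (K : Subgroup (MulAut Q)) : Kt (MulEquiv.refl Q) K = K := by
  ext β
  constructor
  · rintro ⟨κ, hκ, rfl⟩
    exact hκ
  · intro h
    exact ⟨β, h, rfl⟩

theorem Kt_congr {Q R : Subgroup Ω} {e e' : Q ≃* R} (h : ∀ q, e q = e' q)
    (K : Subgroup (MulAut Q)) : Kt e K = Kt e' K := by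
  have : e = e' := MulEquiv.ext h
  rw [this]

/-- Composing the isomorphism with an automorphism conjugates the transported group. -/
theorem Kt_trans_aut {Q R : Subgroup Ω} (e : Q ≃* R) (a : MulAut R) (K : Subgroup (MulAut Q)) :
    Kt (e.trans a) K = cj a (Kt e K) := by
  ext β
  constructor
  · rintro ⟨κ, hκ, rfl⟩
    refine ⟨MulAut.congr e κ, ⟨κ, hκ, rfl⟩, ?_⟩
    apply MulEquiv.ext
    intro r
    rfl
  · rintro ⟨_, ⟨κ, hκ, rfl⟩, rfl⟩
    refine ⟨κ, hκ, ?_⟩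
    apply MulEquiv.ext
    intro r
    rfl

theorem Kt_inf_autGroup (F : FusionSystem S) {Q R : Subgroup Ω} {e : Q ≃* R}
    (he : Fusion.IsIso F e) (K : Subgroup (MulAut Q)) :
    Kt e K ⊓ F.autGroup R = (K ⊓ F.autGroup Q).map (MulAut.congr e).toMonoidHom := by
  ext β
  constructor
  · rintro ⟨⟨κ, hκ, rfl⟩, hβ⟩
    refine ⟨κ, ⟨hκ, ?_⟩, rfl⟩
    have h1 : MulAut.congr e.symm (MulAut.congr e κ) ∈ F.autGroup Q :=
      Fusion.congr_mem_autGroup F he.symm hβ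
    have h2 : MulAut.congr e.symm (MulAut.congr e κ) = κ := by
      apply MulEquiv.ext
      intro q
      show e.symm (e (κ (e.symm (e q)))) = κ q
      simp
    rw [h2] at h1
    exact h1
  · rintro ⟨κ, ⟨hκ, hκF⟩, rfl⟩
    exact ⟨⟨κ, hκ, rfl⟩, Fusion.congr_mem_autGroup F he hκF⟩

theorem card_Kt_inf_autGroup (F : FusionSystem S) {Q R : Subgroup Ω} {e : Q ≃* R}
    (he : Fusion.IsIso F e) (K : Subgroup (MulAut Q)) :
    Nat.card ↥(Kt e K ⊓ F.autGroup R) = Nat.card ↥(K ⊓ F.autGroup Q) := by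
  rw [Kt_inf_autGroup F he K]
  exact Subgroup.card_map_of_injective (MulAut.congr e).injective

/-- A map of the system defined on `N_S^K(Q)` carries it into `N_S^{eK}(e(Q))`. -/
theorem NK_map_mem (F : FusionSystem S) {Q R N' : Subgroup Ω} {K : Subgroup (MulAut Q)}
    (e : Q ≃* R) {ψ : N' →* Ω} (hψ : ψ ∈ F.Hom N') (hQN : Q ≤ N')
    (hψe : ∀ q : Q, ψ ⟨q, hQN q.2⟩ = (e q : Ω)) {x : Ω} (hx : x ∈ NK S Q K) (hxN : x ∈ N') :
    ψ ⟨x, hxN⟩ ∈ NK S R (Kt e K) := by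
  obtain ⟨hxS, κ, hκ, h⟩ := hx
  refine ⟨(F.le_of_mem hψ).2 _, MulAut.congr e κ, congr_mem_Kt e hκ, fun r => ?_⟩
  show ((e (κ (e.symm r)) : R) : Ω) = _
  have hr : (r : Ω) = ψ ⟨(e.symm r : Q), hQN (e.symm r).2⟩ := by
    rw [hψe]
    simp
  have h2 : (⟨((κ (e.symm r) : Q) : Ω), hQN (κ (e.symm r)).2⟩ : N') =
      ⟨x, hxN⟩ * ⟨(e.symm r : Q), hQN (e.symm r).2⟩ * ⟨x, hxN⟩⁻¹ := by
    apply Subtype.ext
    exact h _
  rw [← hψe (κ (e.symm r)), h2, map_mul, map_mul, map_inv, ← hr]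

theorem card_NK_le_of_map [Finite S] (F : FusionSystem S) {Q R N' : Subgroup Ω}
    {K : Subgroup (MulAut Q)}
    (e : Q ≃* R) {ψ : N' →* Ω} (hψ : ψ ∈ F.Hom N') (hQN : Q ≤ N')
    (hψe : ∀ q : Q, ψ ⟨q, hQN q.2⟩ = (e q : Ω)) (hNK : NK S Q K ≤ N') :
    Nat.card (NK S Q K) ≤ Nat.card (NK S R (Kt e K)) := by
  have : Finite (NK S R (Kt e K)) := finite_of_le (NK_le R _)
  apply Nat.card_le_card_of_injective
    (fun x : NK S Q K => (⟨ψ ⟨x, hNK x.2⟩, NK_map_mem F e hψ hQN hψe x.2 (hNK x.2)⟩ :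
      NK S R (Kt e K)))
  intro x y hxy
  have h1 := congrArg Subtype.val hxy
  have h2 := F.injective_of_mem hψ h1
  have h3 : (x : Ω) = y := Subtype.mk.inj h2
  exact Subtype.ext h3

/-- Some conjugate of `B` meets the Sylow subgroup `T` of `A` in a Sylow subgroup. -/
theorem exists_cj_inf_sylow {X : Type*} [Group X] [Finite X] {p : ℕ} [Fact p.Prime]
    {T A B : Subgroup X} (hTA : T ≤ A) (hT : Nat.card T = p ^ (Nat.card A).factorization p)
    (hBA : B ≤ A) : ∃ a ∈ A, Nat.card ↥(cj a B ⊓ T) = p ^ (Nat.card B).factorization p := by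
  obtain ⟨B₁, -, hB₁B, hB₁p, hB₁c⟩ :=
    exists_sylow_between (p := p) (bot_le : (⊥ : Subgroup X) ≤ B) (IsPGroup.of_bot)
  obtain ⟨a, ha, hle⟩ := exists_cj_le_of_card hTA hT (hB₁B.trans hBA) hB₁p
  refine ⟨a, ha, le_antisymm ?_ ?_⟩
  · have hp : IsPGroup p ↥(cj a B ⊓ T) := (isPGroup_of_card_pPart hT).to_le inf_le_right
    have := card_le_pPart (inf_le_left : cj a B ⊓ T ≤ cj a B) hp
    rwa [card_cj] at this
  · rw [← hB₁c, ← card_cj a B₁]
    exact Subgroup.card_le_of_le (le_inf (cj_mono hB₁B) hle)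

theorem isPGroup_autInducedBy' [Finite S] {p : ℕ} [Fact p.Prime] (hS : IsPGroup p S)
    (P : Subgroup Ω) : IsPGroup p ↥(autInducedBy S P) :=
  (isPGroup_autInducedBy hS le_rfl P ⊤).of_equiv (Subgroup.subgroupOfEquivOfLe le_top)

/-- `Q` is fully `K`-normalized in the system. -/
def FullyKN (F : FusionSystem S) (Q : Subgroup Ω) (K : Subgroup (MulAut Q)) : Prop :=
  Q ≤ S ∧ ∀ (R : Subgroup Ω) (e : Q ≃* R), Fusion.IsIso F e →
    Nat.card (NK S R (Kt e K)) ≤ Nat.card (NK S Q K)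

/-- A fully `K`-normalized subgroup is fully centralized and `K ∩ Aut_S(Q)` is a Sylow subgroup
of `K ∩ Aut_F(Q)`. -/
theorem fullyKN_sylow [Finite S] (p : ℕ) [Fact p.Prime] (hS : IsPGroup p S) (F : FusionSystem S)
    (hF : F.IsSaturated p) {Q : Subgroup Ω} {K : Subgroup (MulAut Q)} (hQ : FullyKN F Q K) :
    F.IsFullyCentralized Q ∧
      Nat.card ↥(K ⊓ autInducedBy S Q) = p ^ (Nat.card ↥(K ⊓ F.autGroup Q)).factorization p := by
  have hQS := hQ.1
  have hQfin : Finite Q := finite_of_le hQS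
  obtain ⟨R, hQR, hRn⟩ := Fusion.exists_fullyNormalized_conj F hQS
  obtain ⟨e₀, he₀⟩ := (Fusion.isConj_iff_exists_iso F).1 hQR
  have hRS : R ≤ S := hRn.1
  have hRfin : Finite R := finite_of_le hRS
  have h77 := (Cfsg.Agent.S5077.result p hS F).1 hF
  obtain ⟨hRc, hRa⟩ := h77.1 R hRn
  have hTA : autInducedBy S R ≤ F.autGroup R := Fusion.autInducedBy_le_autGroup F hRS
  have hT : Nat.card (autInducedBy S R) = p ^ (Nat.card (F.autGroup R)).factorization p :=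
    (sylow_subgroupOf_iff hTA).1 hRa.2
  obtain ⟨a, ha, hcard⟩ := exists_cj_inf_sylow hTA hT
    (inf_le_right : Kt e₀ K ⊓ F.autGroup R ≤ F.autGroup R)
  have he : Fusion.IsIso F (e₀.trans a) := he₀.trans ((Fusion.mem_autGroup_iff F hRS).1 ha)
  have hKt : Kt (e₀.trans a) K ⊓ autInducedBy S R =
      cj a (Kt e₀ K ⊓ F.autGroup R) ⊓ autInducedBy S R := by
    rw [Kt_trans_aut, cj_inf, cj_eq_self_of_mem ha, inf_assoc, inf_eq_right.2 hTA]
  have h1 := hQ.2 R (e₀.trans a) he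
  rw [card_NK, card_NK, hKt, hcard, card_Kt_inf_autGroup F he₀] at h1
  have h2 : Nat.card (centralizerIn S Q) ≤ Nat.card (centralizerIn S R) :=
    hRc.2 Q (Fusion.isConj_symm F hQR)
  have h3 : Nat.card ↥(K ⊓ autInducedBy S Q) ≤
      p ^ (Nat.card ↥(K ⊓ F.autGroup Q)).factorization p :=
    card_le_pPart (inf_le_inf_left K (Fusion.autInducedBy_le_autGroup F hQS))
      ((isPGroup_autInducedBy' hS Q).to_le inf_le_right)
  have hCRfin : Finite (centralizerIn S R) := finite_of_le inf_le_left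
  have hposR : 0 < Nat.card (centralizerIn S R) := Nat.card_pos
  have hposa : 0 < Nat.card ↥(K ⊓ autInducedBy S Q) := Nat.card_pos
  have e1 := Nat.mul_le_mul_right (Nat.card ↥(K ⊓ autInducedBy S Q)) h2
  have e2 := Nat.mul_le_mul_left (Nat.card (centralizerIn S R)) h3
  have e3 := le_antisymm e2 (h1.trans e1)
  have e4 := Nat.eq_of_mul_eq_mul_left hposR e3
  have e5 := le_antisymm e1 (by rw [← e4] at h1; exact h1)
  have e6 := Nat.eq_of_mul_eq_mul_right hposa e5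
  refine ⟨⟨hQS, fun Q' hQQ' => ?_⟩, e4⟩
  rw [e6]
  exact hRc.2 Q' (Fusion.isConj_trans F (Fusion.isConj_symm F hQR) hQQ')

/-- Extension property of fully `K`-normalized subgroups. -/
theorem fullyKN_extend [Finite S] (p : ℕ) [Fact p.Prime] (hS : IsPGroup p S) (F : FusionSystem S)
    (hF : F.IsSaturated p) {Q : Subgroup Ω} {K : Subgroup (MulAut Q)} (hQ : FullyKN F Q K)
    {P : Subgroup Ω} (e : P ≃* Q) (he : Fusion.IsIso F e) :
    ∃ χ ∈ K ⊓ F.autGroup Q, ∃ (N' : Subgroup Ω) (ψ : N' →* Ω), ψ ∈ F.Hom N' ∧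
      ∃ hPN : P ≤ N', NK S P (Kt e.symm K) ≤ N' ∧
        ∀ x : P, ψ ⟨x, hPN x.2⟩ = ((χ (e x) : Q) : Ω) := by
  obtain ⟨hQc, hsyl⟩ := fullyKN_sylow p hS F hF hQ
  have h77 := (Cfsg.Agent.S5077.result p hS F).1 hF
  have hQr : F.IsReceptive Q := h77.2 Q hQc
  have hQS := hQ.1
  have hPS : P ≤ S := he.le_left
  have hQfin : Finite Q := finite_of_le hQS
  have hPfin : Finite P := finite_of_le hPS
  have hLA : (Kt e.symm K ⊓ autInducedBy S P).map (MulAut.congr e).toMonoidHom ≤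
      K ⊓ F.autGroup Q := by
    rintro _ ⟨β, ⟨hβK, hβS⟩, rfl⟩
    refine ⟨?_, Fusion.congr_mem_autGroup F he (Fusion.autInducedBy_le_autGroup F hPS hβS)⟩
    obtain ⟨κ, hκ, rfl⟩ := hβK
    have h1 : MulAut.congr e (MulAut.congr e.symm κ) = κ := by
      apply MulEquiv.ext
      intro q
      show e (e.symm (κ (e.symm.symm (e.symm q)))) = κ q
      simp
    show MulAut.congr e (MulAut.congr e.symm κ) ∈ K
    rw [h1]
    exact hκ
  have hLp : IsPGroup p ↥((Kt e.symm K ⊓ autInducedBy S P).map (MulAut.congr e).toMonoidHom) :=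
    ((isPGroup_autInducedBy' hS P).to_le inf_le_right).map _
  obtain ⟨χ, hχ, hχL⟩ := exists_cj_le_of_card
    (inf_le_inf_left K (Fusion.autInducedBy_le_autGroup F hQS)) hsyl hLA hLp
  have he' : Fusion.IsIso F (e.trans χ) := he.trans ((Fusion.mem_autGroup_iff F hQS).1 hχ.2)
  have hr := Fusion.range_of_isIso (e.trans χ)
  obtain ⟨ψ, hψ, hψext⟩ := hQr.2 P _ he' hr
  have hPN : P ≤ extender S P (Q.subtype.comp (e.trans χ).toMonoidHom) :=
    le_extender hPS (fun x => hQS (Subtype.coe_prop _))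
  refine ⟨χ, hχ, extender S P (Q.subtype.comp (e.trans χ).toMonoidHom), ψ, hψ, hPN, ?_,
    fun x => ?_⟩
  · rintro x ⟨hxS, β, hβK, hβx⟩
    have hxN : x ∈ Subgroup.normalizer (P : Set Ω) := Fusion.mem_normalizer_of_conj hβx
    have hβS : β ∈ autInducedBy S P := Subgroup.subset_closure ⟨x, hxS, hβx⟩
    have h1 : MulAut.congr e β ∈
        (Kt e.symm K ⊓ autInducedBy S P).map (MulAut.congr e).toMonoidHom :=
      ⟨β, ⟨hβK, hβS⟩, rfl⟩
    have h2 : χ * MulAut.congr e β * χ⁻¹ ∈ K ⊓ autInducedBy S Q := hχL ⟨_, h1, rfl⟩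
    obtain ⟨h, hhS, hh⟩ := Fusion.mem_autInducedBy_iff.1 h2.2
    refine Subgroup.subset_closure ⟨hxS, hxN, h, hhS, fun y hy => ?_⟩
    have h3 := hh (χ (e y))
    have h4 : (χ * MulAut.congr e β * χ⁻¹) (χ (e y)) = χ (e (β y)) := by
      show χ (e (β (e.symm (χ⁻¹ (χ (e y)))))) = _
      simp
    rw [h4] at h3
    have h5 : (⟨x * (y : Ω) * x⁻¹, hy⟩ : P) = β y := Subtype.ext (hβx y).symm
    show ((χ (e ⟨x * (y : Ω) * x⁻¹, hy⟩) : Q) : Ω) = h * ((χ (e y) : Q) : Ω) * h⁻¹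
    rw [h5]
    exact h3
  · exact hψext x x.2 _

end Cfsg.Agent.Lib.Helper27
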