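import Mathlib
import Cfsg.Agent.Lib.Helper27.ChainSylow
import Cfsg.Agent.Lib.Helper27.KNorm
import Cfsg.Agent.Lib.Helper27.SylowAux
import Cfsg.Agent.Lib.Helper18.StrEmb
import Cfsg.Agent.S5077

set_option autoImplicit false

namespace Cfsg.Agent.Lib.Helper27

open Cfsg Cfsg.FusionSystem Cfsg.Agent.Lib.Helper26

section TwistQuot

theorem twist_aux {X : Type*} [Group X] (c k qt qg : X) (hg : qg = c⁻¹ * k * c) :
    k * (c * qt * c⁻¹) * k⁻¹ = c * (qg * qt * qg⁻¹) * c⁻¹ := by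
  subst hg
  group

theorem exists_twist_quot {G : Type*} [Group G] [Finite G] (p : ℕ) [Fact p.Prime]
    (I : Subgroup G) [I.Normal] (T : Subgroup G) (hT : IsPGroup p T) (E : Subgroup (G ⧸ I))
    (hE : IsStronglyPEmbedded p E) : ∃ g : G, ∀ t ∈ T, g * t * g⁻¹ ∈ T → t ∈ I := by
  rw [Cfsg.Agent.Lib.Helper18.isStronglyPEmbedded_iff] at hE
  obtain ⟨hEtop, R, hdata⟩ := hE
  obtain ⟨q, hq⟩ : ∃ q : G →* G ⧸ I, q = QuotientGroup.mk' I := ⟨_, rfl⟩
  have hqs : Function.Surjective q := by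
    rw [hq]
    exact QuotientGroup.mk'_surjective I
  have hq1 : ∀ t : G, q t = 1 → t ∈ I := by
    intro t ht
    rw [hq] at ht
    exact (QuotientGroup.eq_one_iff t).mp ht
  have hTbar : IsPGroup p (T.map q) := hT.map _
  obtain ⟨c, hc⟩ := exists_cj_le_sylow R hTbar
  obtain ⟨k, hk⟩ : ∃ k, k ∉ E := by
    by_contra hcon
    push Not at hcon
    exact hEtop ((Subgroup.eq_top_iff' _).mpr hcon)
  obtain ⟨g, hg⟩ := hqs (c⁻¹ * k * c)
  refine ⟨g, fun t ht hgt => ?_⟩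
  have hxR : c * q t * c⁻¹ ∈ (R : Subgroup (G ⧸ I)) := hc ⟨_, ⟨t, ht, rfl⟩, rfl⟩
  have hxE : c * q t * c⁻¹ ∈ E := hdata.sylow_le hxR
  have hkx : k * (c * q t * c⁻¹) * k⁻¹ ∈ E := by
    apply hdata.sylow_le
    rw [twist_aux c k (q t) (q g) hg]
    have e : q g * q t * (q g)⁻¹ = q (g * t * g⁻¹) := by
      rw [map_mul, map_mul, map_inv]
    rw [e]
    exact hc ⟨_, ⟨g * t * g⁻¹, hgt, rfl⟩, rfl⟩
  have hxp : ∃ n : ℕ, (c * q t * c⁻¹) ^ (p ^ n) = 1 := by
    obtain ⟨n, hn⟩ := R.isPGroup' ⟨c * q t * c⁻¹, hxR⟩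
    exact ⟨n, congrArg Subtype.val hn⟩
  have hx1 : c * q t * c⁻¹ = 1 := by
    by_contra hne
    exact hk (hdata.mem_of_conj_mem hxE hne hxp hkx)
  apply hq1
  have e : q t = c⁻¹ * (c * q t * c⁻¹) * c := by group
  rw [e, hx1]
  group

end TwistQuot

section EssTwist

variable {Ω : Type*} [Group Ω] {S : Subgroup Ω}

/-- For an essential subgroup `P` there is `g ∈ Aut_F(P)` with `Aut_S(P) ∩ g⁻¹ Aut_S(P) g ≤ Inn(P)`. -/
theorem exists_twist_of_essential [Finite S] (p : ℕ) [Fact p.Prime] (hS : IsPGroup p S)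
    (F : FusionSystem S) {P : Subgroup Ω} (hP : F.IsEssential p P) :
    ∃ g ∈ F.autGroup P, ∀ t ∈ autInducedBy S P, g * t * g⁻¹ ∈ autInducedBy S P → t ∈ Inn P := by
  obtain ⟨hcen, hfn, hnorm, E, hE⟩ := hP
  have hPS : P ≤ S := hcen.1
  have hPfin : Finite P := finite_of_le hPS
  have hTp : IsPGroup p ((autInducedBy S P).subgroupOf (F.autGroup P)) :=
    isPGroup_autInducedBy hS le_rfl P _
  obtain ⟨g, hg⟩ := exists_twist_quot p ((Inn P).subgroupOf (F.autGroup P))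
    ((autInducedBy S P).subgroupOf (F.autGroup P)) hTp E hE
  refine ⟨(g : MulAut P), g.2, fun t ht hgt => ?_⟩
  have htG : t ∈ F.autGroup P := Fusion.autInducedBy_le_autGroup F hPS ht
  have h1 := hg ⟨t, htG⟩ (Subgroup.mem_subgroupOf.mpr ht) (Subgroup.mem_subgroupOf.mpr hgt)
  exact Subgroup.mem_subgroupOf.mp h1

/-- An `F`-automorphism stabilizing `1 ≤ D ≤ P`, with `D` invariant under `Aut_S(P)`, lies in
`Aut_S(P)` when `P` is fully automized. -/
theorem mem_autS_of_stab [Finite S] (p : ℕ) [Fact p.Prime] (hS : IsPGroup p S)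
    (F : FusionSystem S) {P : Subgroup Ω} (hPa : F.IsFullyAutomized p P) (D : Subgroup P)
    (hD : ∀ τ ∈ autInducedBy S P, ∀ d ∈ D, τ d ∈ D)
    (k : MulAut P) (hk : k ∈ F.autGroup P) (hkD : ∀ d ∈ D, k d = d)
    (hkP : ∀ x : P, x⁻¹ * k x ∈ D) : k ∈ autInducedBy S P := by
  obtain ⟨hPS, R, hR⟩ := hPa
  have hPfin : Finite P := finite_of_le hPS
  have hPp : IsPGroup p P := hS.to_le hPS
  obtain ⟨K, hK⟩ : ∃ K : Subgroup (F.autGroup P), ∀ c : F.autGroup P,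
      c ∈ K ↔ (∀ d ∈ D, (c : MulAut P) d = d) ∧ ∀ x : P, x⁻¹ * (c : MulAut P) x ∈ D :=
    ⟨{ carrier := {c | (∀ d ∈ D, (c : MulAut P) d = d) ∧ ∀ x : P, x⁻¹ * (c : MulAut P) x ∈ D}
       one_mem' := ⟨fun d _ => rfl, fun x => by
         show x⁻¹ * x ∈ D
         rw [inv_mul_cancel]
         exact one_mem D⟩
       mul_mem' := by
         rintro c₁ c₂ ⟨h1, h1'⟩ ⟨h2, h2'⟩
         refine ⟨fun d hd => ?_, fun x => ?_⟩
         · show (c₁ : MulAut P) ((c₂ : MulAut P) d) = d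
           rw [h2 d hd, h1 d hd]
         · show x⁻¹ * (c₁ : MulAut P) ((c₂ : MulAut P) x) ∈ D
           have e : x⁻¹ * (c₁ : MulAut P) ((c₂ : MulAut P) x) =
               (x⁻¹ * (c₂ : MulAut P) x) *
                 (((c₂ : MulAut P) x)⁻¹ * (c₁ : MulAut P) ((c₂ : MulAut P) x)) := by group
           rw [e]
           exact D.mul_mem (h2' x) (h1' _)
       inv_mem' := by
         rintro c ⟨h1, h1'⟩
         refine ⟨fun d hd => ?_, fun x => ?_⟩
         · show (c : MulAut P)⁻¹ d = d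
           have h2 := congrArg (fun z => (c : MulAut P)⁻¹ z) (h1 d hd)
           simp only [MulAut.inv_apply_self] at h2
           exact h2.symm
         · show x⁻¹ * (c : MulAut P)⁻¹ x ∈ D
           have h2 := h1' ((c : MulAut P)⁻¹ x)
           rw [MulAut.apply_inv_self] at h2
           have e : x⁻¹ * (c : MulAut P)⁻¹ x = (((c : MulAut P)⁻¹ x)⁻¹ * x)⁻¹ := by group
           rw [e]
           exact D.inv_mem h2 }, fun c => Iff.rfl⟩
  have hKp : IsPGroup p K := by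
    obtain ⟨m, hm⟩ := IsPGroup.iff_card.mp hPp
    rintro ⟨c, hc⟩
    refine ⟨m, ?_⟩
    obtain ⟨h1, h1'⟩ := (hK c).mp hc
    apply Subtype.ext
    apply Subtype.ext
    apply MulEquiv.ext
    intro x
    show ((c : MulAut P) ^ (p ^ m)) x = x
    rw [pow_apply_of_fixed (c : MulAut P) x (h1 _ (h1' x))]
    have h2 := pow_card_eq_one' (G := ↥P) (x := x⁻¹ * (c : MulAut P) x)
    rw [hm] at h2
    rw [h2, mul_one]
  have hconj : ∀ r : F.autGroup P, (r : MulAut P) ∈ autInducedBy S P → ∀ c ∈ K,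
      r * c * r⁻¹ ∈ K := by
    intro r hr c hc
    obtain ⟨h1, h1'⟩ := (hK c).mp hc
    have hrinv : ((r : MulAut P))⁻¹ ∈ autInducedBy S P := Subgroup.inv_mem _ hr
    rw [hK]
    refine ⟨fun d hd => ?_, fun x => ?_⟩
    · show (r : MulAut P) ((c : MulAut P) ((r : MulAut P)⁻¹ d)) = d
      rw [h1 _ (hD _ hrinv d hd), MulAut.apply_inv_self]
    · show x⁻¹ * (r : MulAut P) ((c : MulAut P) ((r : MulAut P)⁻¹ x)) ∈ D
      have h2 := hD _ hr _ (h1' ((r : MulAut P)⁻¹ x))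
      rw [map_mul, map_inv, MulAut.apply_inv_self] at h2
      exact h2
  have hnorm : (R : Subgroup (F.autGroup P)) ≤ Subgroup.normalizer (K : Set (F.autGroup P)) := by
    intro r hr
    rw [hR, Subgroup.mem_subgroupOf] at hr
    rw [Subgroup.mem_normalizer_iff]
    intro c
    constructor
    · exact hconj r hr c
    · intro h
      have h2 := hconj r⁻¹ (Subgroup.inv_mem _ hr) _ h
      have e : r⁻¹ * (r * c * r⁻¹) * r⁻¹⁻¹ = c := by group
      rw [e] at h2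
      exact h2
  have hsup : IsPGroup p ↥((R : Subgroup (F.autGroup P)) ⊔ K) :=
    IsPGroup.to_sup_of_normal_right' R.isPGroup' hKp hnorm
  have hmax := R.3 hsup le_sup_left
  have hkK : (⟨k, hk⟩ : F.autGroup P) ∈ K := (hK _).mpr ⟨hkD, hkP⟩
  have hkR : (⟨k, hk⟩ : F.autGroup P) ∈ (R : Subgroup (F.autGroup P)) := by
    rw [← hmax]
    exact Subgroup.mem_sup_right hkK
  rw [hR, Subgroup.mem_subgroupOf] at hkR
  exact hkR

/-- The core fusion argument for an essential subgroup `P` with a normal subgroup `P₀`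
centralized by a supplement of `P` in `N_S(P)`. -/
theorem essential_core [Finite S] (p : ℕ) [Fact p.Prime] (hS : IsPGroup p S) (F : FusionSystem S)
    (hF : F.IsSaturated p) {P : Subgroup Ω} (hP : F.IsEssential p P) (P₀ : Subgroup Ω)
    (hP₀n : ∀ y ∈ P, ∀ d ∈ P₀, y * d * y⁻¹ ∈ P₀)
    (hs : ∀ s ∈ S, s ∈ Subgroup.normalizer (P : Set Ω) →
      ∃ a ∈ S, ∃ y ∈ P, s = a * y ∧ ∀ d ∈ P₀, a * d = d * a) :
    ∃ g : MulAut P, g ∈ F.autGroup P ∧ ∀ a ∈ S, a ∈ Subgroup.normalizer (P : Set Ω) →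
      (∀ d ∈ P₀, a * d = d * a) →
      (∀ x : P, (x : Ω)⁻¹ * (a * x * a⁻¹) ∈ P₀ ∧
        ∃ d : P, (d : Ω) ∈ P₀ ∧ ((g d : P) : Ω) = (x : Ω)⁻¹ * (a * x * a⁻¹)) → a ∈ P := by
  have hPS : P ≤ S := hP.1.1
  have hPfin : Finite P := finite_of_le hPS
  have hcen : centralizerIn S P ≤ P := hP.1.2 P (Fusion.isConj_refl F hPS)
  have hPa : F.IsFullyAutomized p P := (((Cfsg.Agent.S5077.result p hS F).1 hF).1 P hP.2.1).2
  obtain ⟨g, hgG, hg⟩ := exists_twist_of_essential p hS F hP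
  have hpres : ∀ D : Subgroup P, (∀ d ∈ D, (d : Ω) ∈ P₀) →
      (∀ y : P, ∀ d ∈ D, y * d * y⁻¹ ∈ D) → ∀ τ ∈ autInducedBy S P, ∀ d ∈ D, τ d ∈ D := by
    intro D hDle hDn τ hτ d hd
    obtain ⟨s, hsS, hsτ⟩ := Fusion.mem_autInducedBy_iff.1 hτ
    have hsN := Fusion.mem_normalizer_of_conj hsτ
    obtain ⟨a, haS, y, hy, rfl, hac⟩ := hs s hsS hsN
    have e : τ d = ⟨y, hy⟩ * d * ⟨y, hy⟩⁻¹ := by
      apply Subtype.ext
      rw [hsτ d]
      show a * y * (d : Ω) * (a * y)⁻¹ = y * (d : Ω) * y⁻¹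
      have h1 := hac _ (hP₀n y hy d (hDle d hd))
      calc a * y * (d : Ω) * (a * y)⁻¹ = a * (y * (d : Ω) * y⁻¹) * a⁻¹ := by group
        _ = (y * (d : Ω) * y⁻¹) * a * a⁻¹ := by rw [h1]
        _ = y * (d : Ω) * y⁻¹ := by group
    rw [e]
    exact hDn _ d hd
  refine ⟨g, hgG, fun a haS haN hac hx => ?_⟩
  obtain ⟨u, hu⟩ : ∃ u : MulAut P, ∀ x : P, ((u x : P) : Ω) = a * x * a⁻¹ :=
    ⟨P.normalizerMonoidHom ⟨a, haN⟩, fun x => rfl⟩
  have huS : u ∈ autInducedBy S P := Fusion.mem_autInducedBy_iff.2 ⟨a, haS, hu⟩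
  have huG : u ∈ F.autGroup P := Fusion.autInducedBy_le_autGroup F hPS huS
  obtain ⟨D', hD'⟩ : ∃ D' : Subgroup P, ∀ d : P, d ∈ D' ↔ (d : Ω) ∈ P₀ ∧ ((g d : P) : Ω) ∈ P₀ :=
    ⟨(P₀.subgroupOf P) ⊓ (P₀.subgroupOf P).comap g.toMonoidHom, fun d => by
      rw [Subgroup.mem_inf, Subgroup.mem_comap, Subgroup.mem_subgroupOf, Subgroup.mem_subgroupOf]
      rfl⟩
  have hD'n : ∀ y : P, ∀ d ∈ D', y * d * y⁻¹ ∈ D' := by
    intro y d hd
    obtain ⟨h1, h2⟩ := (hD' d).mp hd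
    rw [hD']
    refine ⟨hP₀n y y.2 d h1, ?_⟩
    rw [map_mul, map_mul, map_inv]
    exact hP₀n _ (g y).2 _ h2
  have ht : g⁻¹ * u * g ∈ autInducedBy S P := by
    apply mem_autS_of_stab p hS F hPa D' (hpres D' (fun d hd => ((hD' d).mp hd).1) hD'n) _
      (mul_mem (mul_mem (inv_mem hgG) huG) hgG)
    · intro d hd
      obtain ⟨hd0, hgd0⟩ := (hD' d).mp hd
      show g⁻¹ (u (g d)) = d
      have e : u (g d) = g d := by
        apply Subtype.ext
        rw [hu, hac _ hgd0, mul_inv_cancel_right]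
      rw [e, MulAut.inv_apply_self]
    · intro x
      obtain ⟨h1, d, hd0, hgd⟩ := hx (g x)
      have key : x⁻¹ * (g⁻¹ * u * g) x = d := by
        apply g.injective
        show g (x⁻¹ * g⁻¹ (u (g x))) = g d
        rw [map_mul, map_inv, MulAut.apply_inv_self]
        apply Subtype.ext
        rw [hgd]
        show ((g x : P) : Ω)⁻¹ * ((u (g x) : P) : Ω) = _
        rw [hu]
      rw [key, hD']
      exact ⟨hd0, by rw [hgd]; exact h1⟩
  have e : g * (g⁻¹ * u * g) * g⁻¹ = u := by group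
  have hgt : g * (g⁻¹ * u * g) * g⁻¹ ∈ autInducedBy S P := by
    rw [e]
    exact huS
  have hinn := hg _ ht hgt
  have huinn : u ∈ Inn P := by
    have h1 := (innNormal P).conj_mem _ hinn g
    rw [e] at h1
    exact h1
  obtain ⟨y, hy⟩ := huinn
  refine mem_of_conj_eq_inner hPS hcen haS y (fun x => ?_)
  rw [← hu x, ← hy]
  rfl

/-- An essential subgroup is properly contained in its normalizer in `S`. -/
theorem essential_exists_normalizer [Finite S] (p : ℕ) [Fact p.Prime] (hS : IsPGroup p S)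
    (F : FusionSystem S) (hF : F.IsSaturated p) {P : Subgroup Ω} (hP : F.IsEssential p P) :
    ∃ s ∈ S, s ∈ Subgroup.normalizer (P : Set Ω) ∧ s ∉ P := by
  have hPS : P ≤ S := hP.1.1
  have hPfin : Finite P := finite_of_le hPS
  have hPa : F.IsFullyAutomized p P := (((Cfsg.Agent.S5077.result p hS F).1 hF).1 P hP.2.1).2
  obtain ⟨-, R, hR⟩ := hPa
  obtain ⟨-, -, hnorm, E, hdvd, -, -⟩ := hP
  by_contra hcon
  push Not at hcon
  have hRle : (R : Subgroup (F.autGroup P)) ≤ (Inn P).subgroupOf (F.autGroup P) := by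
    intro r hr
    rw [hR, Subgroup.mem_subgroupOf] at hr
    rw [Subgroup.mem_subgroupOf]
    obtain ⟨s, hsS, hsr⟩ := Fusion.mem_autInducedBy_iff.1 hr
    have hsP := hcon s hsS (Fusion.mem_normalizer_of_conj hsr)
    refine ⟨⟨s, hsP⟩, ?_⟩
    apply MulEquiv.ext
    intro x
    apply Subtype.ext
    rw [hsr x]
    rfl
  have h1 : ((Inn P).subgroupOf (F.autGroup P)).index ∣ (R : Subgroup (F.autGroup P)).index :=
    Subgroup.index_dvd_of_le hRle
  exact R.not_dvd_index (hdvd.trans h1)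

end EssTwist

end Cfsg.Agent.Lib.Helper27
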