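import Mathlib
import Cfsg.Agent.Lib.Helper27.AbIndexPA

set_option autoImplicit false

namespace Cfsg.Agent.Lib.Helper27

open Cfsg Cfsg.FusionSystem Cfsg.Agent.Lib.Helper26

section IndexPrime

variable {G : Type*} [Group G]

theorem comm_of_card_prime {Q : Type*} [Group Q] {p : ℕ} [Fact p.Prime] (h : Nat.card Q = p)
    (a b : Q) : a * b = b * a := by
  have hcyc : IsCyclic Q := isCyclic_of_prime_card h
  obtain ⟨g, hg⟩ := hcyc.exists_generator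
  obtain ⟨i, rfl⟩ := Subgroup.mem_zpowers_iff.mp (hg a)
  obtain ⟨j, rfl⟩ := Subgroup.mem_zpowers_iff.mp (hg b)
  exact (Commute.zpow_zpow_self g i j).eq

theorem gen_of_index_prime {p : ℕ} [Fact p.Prime] (H : Subgroup G) [H.Normal]
    (hidx : H.index = p) (x : G) (hx : x ∉ H) : ∀ s : G, ∃ i : ℕ, s * (x ^ i)⁻¹ ∈ H := by
  intro s
  have hcard : Nat.card (G ⧸ H) = p := hidx
  have hfin : Finite (G ⧸ H) := Nat.finite_of_card_ne_zero (by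
    rw [hcard]
    exact (Fact.out : p.Prime).ne_zero)
  have hq1 : (QuotientGroup.mk x : G ⧸ H) ≠ 1 :=
    fun h => hx ((QuotientGroup.eq_one_iff x).mp h)
  have htop := zpowers_eq_top_of_prime_card hcard hq1
  have hmem : (QuotientGroup.mk s : G ⧸ H) ∈ Subgroup.zpowers (QuotientGroup.mk x : G ⧸ H) := by
    rw [htop]
    exact Subgroup.mem_top _
  rw [← mem_powers_iff_mem_zpowers] at hmem
  obtain ⟨i, hi⟩ := hmem
  have hi' : (QuotientGroup.mk x : G ⧸ H) ^ i = QuotientGroup.mk s := hi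
  refine ⟨i, ?_⟩
  rw [← QuotientGroup.eq_one_iff, QuotientGroup.mk_mul, QuotientGroup.mk_inv,
    QuotientGroup.mk_pow, hi']
  exact mul_inv_cancel _

theorem index_eq_prime_of_gen {p : ℕ} [Fact p.Prime] (H : Subgroup G) [H.Normal] (x : G)
    (hx : x ∉ H) (hxp : x ^ p ∈ H) (hgen : ∀ s : G, ∃ i : ℕ, s * (x ^ i)⁻¹ ∈ H) :
    H.index = p := by
  have hq1 : (QuotientGroup.mk x : G ⧸ H) ≠ 1 :=
    fun h => hx ((QuotientGroup.eq_one_iff x).mp h)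
  have hqp : (QuotientGroup.mk x : G ⧸ H) ^ p = 1 := by
    rw [← QuotientGroup.mk_pow]
    exact (QuotientGroup.eq_one_iff _).mpr hxp
  have hord : orderOf (QuotientGroup.mk x : G ⧸ H) = p := orderOf_eq_prime hqp hq1
  have htop : Subgroup.zpowers (QuotientGroup.mk x : G ⧸ H) = ⊤ := by
    rw [eq_top_iff]
    intro q _
    obtain ⟨s, rfl⟩ := QuotientGroup.mk_surjective q
    obtain ⟨i, hi⟩ := hgen s
    have h1 : (QuotientGroup.mk (s * (x ^ i)⁻¹) : G ⧸ H) = 1 :=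
      (QuotientGroup.eq_one_iff _).mpr hi
    rw [QuotientGroup.mk_mul, QuotientGroup.mk_inv, QuotientGroup.mk_pow, mul_inv_eq_one] at h1
    rw [h1]
    exact Subgroup.pow_mem _ (Subgroup.mem_zpowers _) i
  show Nat.card (G ⧸ H) = p
  rw [← Subgroup.card_top (G := G ⧸ H), ← htop, Nat.card_zpowers, hord]

theorem comm_mem_of_index_prime {p : ℕ} [Fact p.Prime] (H : Subgroup G) [H.Normal]
    (hidx : H.index = p) (s t : G) : s * t * s⁻¹ * t⁻¹ ∈ H := by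
  rw [← QuotientGroup.eq_one_iff]
  rw [QuotientGroup.mk_mul, QuotientGroup.mk_mul, QuotientGroup.mk_mul, QuotientGroup.mk_inv,
    QuotientGroup.mk_inv,
    comm_of_card_prime (show Nat.card (G ⧸ H) = p from hidx) (s : G ⧸ H) t,
    mul_inv_cancel_right, mul_inv_cancel]

theorem normal_of_index_prime_pgroup [Finite G] {p : ℕ} [Fact p.Prime] (hG : IsPGroup p G)
    (H : Subgroup G) (hidx : H.index = p) : H.Normal := by
  have hp : p.Prime := Fact.out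
  obtain ⟨n, hn⟩ := IsPGroup.iff_card.mp hG
  have hn0 : n ≠ 0 := by
    rintro rfl
    rw [pow_zero] at hn
    have h1 := Subgroup.index_dvd_card H
    rw [hidx, hn] at h1
    exact hp.one_lt.ne' (Nat.dvd_one.mp h1)
  apply Subgroup.normal_of_index_eq_minFac_card
  rw [hidx, hn, hp.pow_minFac hn0]

theorem beta_mem (D₀ : Subgroup G) (x a : G) (hx : ∀ w ∈ D₀, x⁻¹ * w * x ∈ D₀)
    (ha : x⁻¹ * (a * x * a⁻¹) ∈ D₀) : ∀ i : ℕ, (x ^ i)⁻¹ * (a * x ^ i * a⁻¹) ∈ D₀ := by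
  intro i
  induction i with
  | zero =>
    have e : (x ^ 0)⁻¹ * (a * x ^ 0 * a⁻¹) = 1 := by group
    rw [e]
    exact one_mem D₀
  | succ i ih =>
    have e : (x ^ (i + 1))⁻¹ * (a * x ^ (i + 1) * a⁻¹) =
        (x⁻¹ * ((x ^ i)⁻¹ * (a * x ^ i * a⁻¹)) * x) * (x⁻¹ * (a * x * a⁻¹)) := by
      rw [pow_succ]
      group
    rw [e]
    exact D₀.mul_mem (hx _ ih) ha

theorem theta_mul (x a b : G)
    (h : (x⁻¹ * (b * x * b⁻¹)) * a⁻¹ = a⁻¹ * (x⁻¹ * (b * x * b⁻¹))) :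
    x⁻¹ * ((a * b) * x * (a * b)⁻¹) = (x⁻¹ * (a * x * a⁻¹)) * (x⁻¹ * (b * x * b⁻¹)) := by
  calc x⁻¹ * ((a * b) * x * (a * b)⁻¹)
      = x⁻¹ * a * x * ((x⁻¹ * (b * x * b⁻¹)) * a⁻¹) := by group
    _ = x⁻¹ * a * x * (a⁻¹ * (x⁻¹ * (b * x * b⁻¹))) := by rw [h]
    _ = (x⁻¹ * (a * x * a⁻¹)) * (x⁻¹ * (b * x * b⁻¹)) := by group

end IndexPrime

section AbFacts

variable {Ω : Type*} [Group Ω] {S : Subgroup Ω}

theorem abIndex_facts [Finite S] (p : ℕ) [Fact p.Prime] (hS : IsPGroup p S) (A : Subgroup Ω)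
    (hAS : A ≤ S) (hidx : (A.subgroupOf S).index = p) :
    (∀ s ∈ S, ∀ a ∈ A, s * a * s⁻¹ ∈ A) ∧ (∀ s ∈ S, ∀ t ∈ S, s * t * s⁻¹ * t⁻¹ ∈ A) ∧
    (∀ s ∈ S, s ^ p ∈ A) ∧
    (∀ x ∈ S, x ∉ A → ∀ s ∈ S, ∃ i : ℕ, s * (x ^ i)⁻¹ ∈ A) := by
  have hn : (A.subgroupOf S).Normal := normal_of_index_prime_pgroup hS _ hidx
  refine ⟨?_, ?_, ?_, ?_⟩
  · intro s hs a ha
    have h1 := hn.conj_mem ⟨a, hAS ha⟩ (Subgroup.mem_subgroupOf.mpr ha) ⟨s, hs⟩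
    exact Subgroup.mem_subgroupOf.mp h1
  · intro s hs t ht
    exact Subgroup.mem_subgroupOf.mp (comm_mem_of_index_prime _ hidx ⟨s, hs⟩ ⟨t, ht⟩)
  · intro s hs
    have h1 := Subgroup.pow_index_mem (A.subgroupOf S) ⟨s, hs⟩
    rw [hidx] at h1
    exact Subgroup.mem_subgroupOf.mp h1
  · intro x hx hxA s hs
    obtain ⟨i, hi⟩ := gen_of_index_prime _ hidx ⟨x, hx⟩
      (fun h => hxA (Subgroup.mem_subgroupOf.mp h)) ⟨s, hs⟩
    exact ⟨i, Subgroup.mem_subgroupOf.mp hi⟩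

end AbFacts

section AbCore

variable {Ω : Type*} [Group Ω] {S : Subgroup Ω}

/-- The data extracted from the fusion-theoretic core for an essential subgroup `P ∌ A`. -/
theorem abIndex_core [Finite S] (p : ℕ) [Fact p.Prime] (hS : IsPGroup p S) (F : FusionSystem S)
    (hF : F.IsSaturated p) (A : Subgroup Ω) (hAS : A ≤ S)
    (hAab : ∀ a ∈ A, ∀ b ∈ A, a * b = b * a) (hidx : (A.subgroupOf S).index = p)
    (P : Subgroup Ω) (hP : F.IsEssential p P) (x : Ω) (hxP : x ∈ P) (hxA : x ∉ A) :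
    ∃ D : Subgroup Ω, D ≤ P ⊓ A ∧ (∀ y ∈ P, ∀ w ∈ D, y * w * y⁻¹ ∈ D) ∧
      (∀ y ∈ P, ∀ w ∈ P, y * w * y⁻¹ * w⁻¹ ∈ D) ∧
      (∀ a ∈ A, x⁻¹ * (a * x * a⁻¹) ∈ D → a ∈ P) ∧
      (∀ u ∈ P ⊓ A, u ∉ D → ∀ w ∈ P ⊓ A, ∃ i : ℕ, w * (u ^ i)⁻¹ ∈ D) ∧
      (∀ u ∈ P ⊓ A, u ^ p ∈ D) ∧
      ((∀ y ∈ P, (∀ w ∈ P, y * w = w * y) → y ∈ A) →
        ∀ z ∈ P, (∀ w ∈ P, z * w = w * z) → z ∈ D) ∧
      (∀ u ∈ P ⊓ A, u ∉ D → ∀ w ∈ D, ∀ y ∈ P, w * y = y * w) := by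
  have hPS : P ≤ S := hP.1.1
  have hPfin : Finite P := finite_of_le hPS
  have hxS : x ∈ S := hPS hxP
  obtain ⟨hAn, hAc, hApow, hAgen⟩ := abIndex_facts p hS A hAS hidx
  have hdec : ∀ y ∈ P, ∃ i : ℕ, y * (x ^ i)⁻¹ ∈ P ⊓ A := by
    intro y hy
    obtain ⟨i, hi⟩ := hAgen x hxS hxA y (hPS hy)
    exact ⟨i, ⟨P.mul_mem hy (P.inv_mem (P.pow_mem hxP i)), hi⟩⟩
  have hP₀n : ∀ y ∈ P, ∀ d ∈ P ⊓ A, y * d * y⁻¹ ∈ P ⊓ A := by
    intro y hy d hd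
    exact ⟨P.mul_mem (P.mul_mem hy hd.1) (P.inv_mem hy), hAn y (hPS hy) d hd.2⟩
  have hs : ∀ s ∈ S, s ∈ Subgroup.normalizer (P : Set Ω) →
      ∃ a ∈ S, ∃ y ∈ P, s = a * y ∧ ∀ d ∈ P ⊓ A, a * d = d * a := by
    intro s hsS _
    obtain ⟨i, hi⟩ := hAgen x hxS hxA s hsS
    exact ⟨s * (x ^ i)⁻¹, hAS hi, x ^ i, P.pow_mem hxP i, by group,
      fun d hd => hAab _ hi d hd.2⟩
  obtain ⟨g, hgG, hg⟩ := essential_core p hS F hF hP (P ⊓ A) hP₀n hs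
  have hP₀'n : ((P ⊓ A).subgroupOf P).Normal := by
    constructor
    intro d hd y
    rw [Subgroup.mem_subgroupOf] at hd ⊢
    exact hP₀n y y.2 d hd
  have hP₀'idx : ((P ⊓ A).subgroupOf P).index = p := by
    apply index_eq_prime_of_gen ((P ⊓ A).subgroupOf P) ⟨x, hxP⟩
    · intro h
      exact hxA (Subgroup.mem_subgroupOf.mp h).2
    · rw [Subgroup.mem_subgroupOf]
      exact ⟨P.pow_mem hxP p, hApow x hxS⟩
    · intro y
      obtain ⟨i, hi⟩ := hdec y y.2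
      exact ⟨i, Subgroup.mem_subgroupOf.mpr hi⟩
  have hP₁'n : (((P ⊓ A).subgroupOf P).map g.toMonoidHom).Normal :=
    hP₀'n.map _ g.surjective
  have hP₁'idx : (((P ⊓ A).subgroupOf P).map g.toMonoidHom).index = p := by
    rw [← hP₀'idx]
    exact Subgroup.index_map_equiv _ g
  obtain ⟨D, hD⟩ : ∃ D : Subgroup Ω, ∀ w : Ω, w ∈ D ↔ ∃ w' : P, (w' : Ω) = w ∧
      (w' : Ω) ∈ P ⊓ A ∧ w' ∈ ((P ⊓ A).subgroupOf P).map g.toMonoidHom :=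
    ⟨(((P ⊓ A).subgroupOf P) ⊓ ((P ⊓ A).subgroupOf P).map g.toMonoidHom).map P.subtype,
      fun w => by
        constructor
        · rintro ⟨w', ⟨h1, h2⟩, rfl⟩
          exact ⟨w', rfl, Subgroup.mem_subgroupOf.mp h1, h2⟩
        · rintro ⟨w', rfl, h1, h2⟩
          exact ⟨w', ⟨Subgroup.mem_subgroupOf.mpr h1, h2⟩, rfl⟩⟩
  have hDle : D ≤ P ⊓ A := by
    intro w hw
    obtain ⟨w', rfl, h1, -⟩ := (hD w).mp hw
    exact h1
  have hDmk : ∀ w' : P, (w' : Ω) ∈ P ⊓ A →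
      w' ∈ ((P ⊓ A).subgroupOf P).map g.toMonoidHom → (w' : Ω) ∈ D :=
    fun w' h1 h2 => (hD _).mpr ⟨w', rfl, h1, h2⟩
  have hDn : ∀ y ∈ P, ∀ w ∈ D, y * w * y⁻¹ ∈ D := by
    intro y hy w hw
    obtain ⟨w', rfl, h1, h2⟩ := (hD w).mp hw
    exact hDmk (⟨y, hy⟩ * w' * ⟨y, hy⟩⁻¹) (hP₀n y hy _ h1) (hP₁'n.conj_mem w' h2 ⟨y, hy⟩)
  refine ⟨D, hDle, hDn, ?_, ?_, ?_, ?_, ?_, ?_⟩
  · intro y hy w hw
    exact hDmk (⟨y, hy⟩ * ⟨w, hw⟩ * ⟨y, hy⟩⁻¹ * ⟨w, hw⟩⁻¹)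
      (Subgroup.mem_subgroupOf.mp (comm_mem_of_index_prime _ hP₀'idx ⟨y, hy⟩ ⟨w, hw⟩))
      (comm_mem_of_index_prime _ hP₁'idx ⟨y, hy⟩ ⟨w, hw⟩)
  · intro a haA hθ
    have haS : a ∈ S := hAS haA
    have hbeta := beta_mem D x a (fun w hw => by
      have h1 := hDn x⁻¹ (P.inv_mem hxP) w hw
      rwa [inv_inv] at h1) hθ
    have hall : ∀ y ∈ P, y⁻¹ * (a * y * a⁻¹) ∈ D := by
      intro y hy
      obtain ⟨i, hi⟩ := hdec y hy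
      obtain ⟨d, hd⟩ : ∃ d, d = y * (x ^ i)⁻¹ := ⟨_, rfl⟩
      have hy' : y = d * x ^ i := by
        rw [hd]
        group
      have hdA : d ∈ A := by
        rw [hd]
        exact hi.2
      have hcomm : a * d = d * a := hAab a haA d hdA
      have e : y⁻¹ * (a * y * a⁻¹) = (x ^ i)⁻¹ * (a * x ^ i * a⁻¹) := by
        rw [hy']
        calc (d * x ^ i)⁻¹ * (a * (d * x ^ i) * a⁻¹)
            = (x ^ i)⁻¹ * d⁻¹ * (a * d) * x ^ i * a⁻¹ := by group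
          _ = (x ^ i)⁻¹ * d⁻¹ * (d * a) * x ^ i * a⁻¹ := by rw [hcomm]
          _ = (x ^ i)⁻¹ * (a * x ^ i * a⁻¹) := by group
      rw [e]
      exact hbeta i
    have haN : a ∈ Subgroup.normalizer (P : Set Ω) := by
      apply mem_normalizer_of_cj_eq
      apply Subgroup.eq_of_le_of_card_ge
      · rintro _ ⟨y, hy, rfl⟩
        show a * y * a⁻¹ ∈ P
        have h1 := (hDle (hall y hy)).1
        have e : a * y * a⁻¹ = y * (y⁻¹ * (a * y * a⁻¹)) := by group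
        rw [e]
        exact P.mul_mem hy h1
      · rw [card_cj]
    refine hg a haS haN (fun d hd => hAab a haA d hd.2) (fun y => ⟨hDle (hall y y.2), ?_⟩)
    obtain ⟨w', hw'eq, -, h2⟩ := (hD _).mp (hall y y.2)
    obtain ⟨d, hd, hgd⟩ := h2
    refine ⟨d, Subgroup.mem_subgroupOf.mp hd, ?_⟩
    rw [← hw'eq, ← hgd]
    rfl
  · intro u hu huD w hw
    have hu' : (⟨u, hu.1⟩ : P) ∉ ((P ⊓ A).subgroupOf P).map g.toMonoidHom :=
      fun h => huD (hDmk ⟨u, hu.1⟩ hu h)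
    obtain ⟨i, hi⟩ := gen_of_index_prime _ hP₁'idx ⟨u, hu.1⟩ hu' ⟨w, hw.1⟩
    exact ⟨i, hDmk (⟨w, hw.1⟩ * (⟨u, hu.1⟩ ^ i)⁻¹)
      ((P ⊓ A).mul_mem hw ((P ⊓ A).inv_mem ((P ⊓ A).pow_mem hu i))) hi⟩
  · intro u hu
    have h1 := Subgroup.pow_index_mem (((P ⊓ A).subgroupOf P).map g.toMonoidHom) ⟨u, hu.1⟩
    rw [hP₁'idx] at h1
    exact hDmk (⟨u, hu.1⟩ ^ p) ((P ⊓ A).pow_mem hu p) h1
  · intro hcenA z hz hzc
    have hdc : ∀ w ∈ P, ((g.symm ⟨z, hz⟩ : P) : Ω) * w = w * ((g.symm ⟨z, hz⟩ : P) : Ω) := by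
      intro w hw
      have h1 : g.symm ⟨z, hz⟩ * ⟨w, hw⟩ = ⟨w, hw⟩ * g.symm ⟨z, hz⟩ := by
        apply g.injective
        rw [map_mul, map_mul, MulEquiv.apply_symm_apply]
        exact Subtype.ext (hzc _ (g ⟨w, hw⟩).2)
      exact congrArg Subtype.val h1
    have hdA := hcenA _ (g.symm ⟨z, hz⟩).2 hdc
    exact hDmk ⟨z, hz⟩ ⟨hz, hcenA z hz hzc⟩ ⟨g.symm ⟨z, hz⟩,
      Subgroup.mem_subgroupOf.mpr ⟨(g.symm ⟨z, hz⟩).2, hdA⟩, MulEquiv.apply_symm_apply g _⟩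
  · intro u hu huD w hw y hy
    obtain ⟨w', rfl, hw1, hw2⟩ := (hD w).mp hw
    obtain ⟨d₁, hd₁, rfl⟩ := hw2
    have hu' : (⟨u, hu.1⟩ : P) ∉ ((P ⊓ A).subgroupOf P).map g.toMonoidHom :=
      fun h => huD (hDmk ⟨u, hu.1⟩ hu h)
    obtain ⟨i, hi⟩ := gen_of_index_prime _ hP₁'idx ⟨u, hu.1⟩ hu' ⟨y, hy⟩
    obtain ⟨d₂, hd₂, hgd₂⟩ := hi
    have h12 : d₁ * d₂ = d₂ * d₁ :=
      Subtype.ext (hAab _ (Subgroup.mem_subgroupOf.mp hd₁).2 _ (Subgroup.mem_subgroupOf.mp hd₂).2)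
    have hv : ((g d₁ : P) : Ω) * ((g d₂ : P) : Ω) = ((g d₂ : P) : Ω) * ((g d₁ : P) : Ω) := by
      have h3 := congrArg (fun z => ((g z : P) : Ω)) h12
      simp only [map_mul] at h3
      exact h3
    have hui : ((g d₁ : P) : Ω) * u ^ i = u ^ i * ((g d₁ : P) : Ω) :=
      ((show Commute ((g d₁ : P) : Ω) u from hAab _ hw1.2 u hu.2).pow_right i).eq
    have hyeq : y = ((g d₂ : P) : Ω) * u ^ i := by
      have h3 : ((g d₂ : P) : Ω) = y * (u ^ i)⁻¹ := congrArg Subtype.val hgd₂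
      rw [h3]
      group
    show ((g d₁ : P) : Ω) * y = y * ((g d₁ : P) : Ω)
    rw [hyeq]
    calc ((g d₁ : P) : Ω) * (((g d₂ : P) : Ω) * u ^ i)
        = (((g d₁ : P) : Ω) * ((g d₂ : P) : Ω)) * u ^ i := by group
      _ = (((g d₂ : P) : Ω) * ((g d₁ : P) : Ω)) * u ^ i := by rw [hv]
      _ = ((g d₂ : P) : Ω) * (((g d₁ : P) : Ω) * u ^ i) := by group
      _ = ((g d₂ : P) : Ω) * (u ^ i * ((g d₁ : P) : Ω)) := by rw [hui]
      _ = ((g d₂ : P) : Ω) * u ^ i * ((g d₁ : P) : Ω) := by group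

end AbCore

end Cfsg.Agent.Lib.Helper27
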