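import Mathlib
import Cfsg.Agent.Lib.Helper27.AbIndexPB

set_option autoImplicit false

namespace Cfsg.Agent.Lib.Helper27

open Cfsg Cfsg.FusionSystem Cfsg.Agent.Lib.Helper26

section AbX

variable {Ω : Type*} [Group Ω] {S : Subgroup Ω}

theorem abx_mem_Z {w : Ω} :
    w ∈ S ⊓ Subgroup.centralizer (S : Set Ω) ↔ w ∈ S ∧ ∀ s ∈ S, s * w = w * s := by
  rw [Subgroup.mem_inf, Subgroup.mem_centralizer_iff]
  rfl

theorem abx_mem_Z2 {z : Ω} :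
    z ∈ (Subgroup.upperCentralSeries ↥S 2).map S.subtype ↔
      z ∈ S ∧ ∀ s ∈ S, z * s * z⁻¹ * s⁻¹ ∈ S ⊓ Subgroup.centralizer (S : Set Ω) := by
  constructor
  · rintro ⟨z', hz', rfl⟩
    refine ⟨z'.2, fun s hs => ?_⟩
    have h1 := (Subgroup.mem_upperCentralSeries_succ_iff (n := 1)).mp hz' ⟨s, hs⟩
    rw [Subgroup.upperCentralSeries_one, commutatorElement_def, Subgroup.mem_center_iff] at h1
    rw [abx_mem_Z]
    refine ⟨S.mul_mem (S.mul_mem (S.mul_mem z'.2 hs) (S.inv_mem z'.2)) (S.inv_mem hs),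
      fun t ht => ?_⟩
    exact congrArg Subtype.val (h1 ⟨t, ht⟩)
  · rintro ⟨hzS, h⟩
    refine ⟨⟨z, hzS⟩, ?_, rfl⟩
    apply (Subgroup.mem_upperCentralSeries_succ_iff (n := 1)).mpr
    intro y
    rw [Subgroup.upperCentralSeries_one, commutatorElement_def, Subgroup.mem_center_iff]
    intro g
    apply Subtype.ext
    exact ((abx_mem_Z).mp (h y y.2)).2 g g.2

theorem abx_theta_mul {G : Type*} [Group G] (A : Subgroup G)
    (hAab : ∀ a ∈ A, ∀ b ∈ A, a * b = b * a) (x : G)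
    (hθ : ∀ a ∈ A, x⁻¹ * (a * x * a⁻¹) ∈ A) (a b : G) (ha : a ∈ A) (hb : b ∈ A) :
    x⁻¹ * ((a * b) * x * (a * b)⁻¹) = (x⁻¹ * (a * x * a⁻¹)) * (x⁻¹ * (b * x * b⁻¹)) :=
  theta_mul x a b (hAab _ (hθ b hb) _ (A.inv_mem ha))

theorem abx_theta_pow {G : Type*} [Group G] (A : Subgroup G)
    (hAab : ∀ a ∈ A, ∀ b ∈ A, a * b = b * a) (x : G)
    (hθ : ∀ a ∈ A, x⁻¹ * (a * x * a⁻¹) ∈ A) (a : G) (ha : a ∈ A) (n : ℕ) :
    x⁻¹ * (a ^ n * x * (a ^ n)⁻¹) = (x⁻¹ * (a * x * a⁻¹)) ^ n := by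
  induction n with
  | zero => group
  | succ n ih =>
    rw [pow_succ, abx_theta_mul A hAab x hθ (a ^ n) a (A.pow_mem ha n) ha, ih, pow_succ]

theorem abx_theta_mul_inv {G : Type*} [Group G] (A : Subgroup G)
    (hAab : ∀ a ∈ A, ∀ b ∈ A, a * b = b * a) (x : G)
    (hθ : ∀ a ∈ A, x⁻¹ * (a * x * a⁻¹) ∈ A) (a b : G) (ha : a ∈ A) (hb : b ∈ A) :
    x⁻¹ * ((a * b⁻¹) * x * (a * b⁻¹)⁻¹) =
      (x⁻¹ * (a * x * a⁻¹)) * (x⁻¹ * (b * x * b⁻¹))⁻¹ := by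
  have h1 := abx_theta_mul A hAab x hθ (a * b⁻¹) b (A.mul_mem ha (A.inv_mem hb)) hb
  rw [inv_mul_cancel_right] at h1
  exact eq_mul_inv_of_mul_eq h1.symm

theorem abx_comm_of_central {G : Type*} [Group G] (A : Subgroup G)
    (hAab : ∀ a ∈ A, ∀ b ∈ A, a * b = b * a) (y w w' : G) (i j : ℕ)
    (hi : w * (y ^ i)⁻¹ ∈ A) (hj : w' * (y ^ j)⁻¹ ∈ A)
    (h2 : y * (w' * (y ^ j)⁻¹) = (w' * (y ^ j)⁻¹) * y)
    (h3 : y * (w * (y ^ i)⁻¹) = (w * (y ^ i)⁻¹) * y) :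
    w * w' = w' * w := by
  have c1 : (w * (y ^ i)⁻¹) * (w' * (y ^ j)⁻¹) = (w' * (y ^ j)⁻¹) * (w * (y ^ i)⁻¹) :=
    hAab _ hi _ hj
  have c2 : y ^ i * (w' * (y ^ j)⁻¹) = (w' * (y ^ j)⁻¹) * y ^ i :=
    ((show Commute y (w' * (y ^ j)⁻¹) from h2).pow_left i).eq
  have c3 : y ^ j * (w * (y ^ i)⁻¹) = (w * (y ^ i)⁻¹) * y ^ j :=
    ((show Commute y (w * (y ^ i)⁻¹) from h3).pow_left j).eq
  have c4 : y ^ i * y ^ j = y ^ j * y ^ i := (Commute.pow_pow_self y i j).eq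
  calc w * w' = (w * (y ^ i)⁻¹) * (y ^ i * (w' * (y ^ j)⁻¹)) * y ^ j := by group
    _ = (w * (y ^ i)⁻¹) * ((w' * (y ^ j)⁻¹) * y ^ i) * y ^ j := by rw [c2]
    _ = ((w * (y ^ i)⁻¹) * (w' * (y ^ j)⁻¹)) * (y ^ i * y ^ j) := by group
    _ = ((w' * (y ^ j)⁻¹) * (w * (y ^ i)⁻¹)) * (y ^ j * y ^ i) := by rw [c1, c4]
    _ = (w' * (y ^ j)⁻¹) * ((w * (y ^ i)⁻¹) * y ^ j) * y ^ i := by group
    _ = (w' * (y ^ j)⁻¹) * (y ^ j * (w * (y ^ i)⁻¹)) * y ^ i := by rw [c3]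
    _ = w' * w := by group

theorem abx_Z_le (A : Subgroup Ω) (hAab : ∀ a ∈ A, ∀ b ∈ A, a * b = b * a)
    (hAgenall : ∀ y ∈ S, y ∉ A → ∀ s ∈ S, ∃ i : ℕ, s * (y ^ i)⁻¹ ∈ A)
    (hna : ¬ ∀ s ∈ S, ∀ t ∈ S, s * t = t * s) :
    S ⊓ Subgroup.centralizer (S : Set Ω) ≤ A := by
  intro z hz
  by_contra hzA
  apply hna
  obtain ⟨hzS, hzc⟩ := (abx_mem_Z).mp hz
  have hdz := hAgenall z hzS hzA
  intro w hw w' hw'
  obtain ⟨i, hi⟩ := hdz w hw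
  obtain ⟨j, hj⟩ := hdz w' hw'
  exact abx_comm_of_central A hAab z w w' i j hi hj
    (hzc _ (S.mul_mem hw' (S.inv_mem (S.pow_mem hzS j)))).symm
    (hzc _ (S.mul_mem hw (S.inv_mem (S.pow_mem hzS i)))).symm

theorem abx_index (p : ℕ) [Fact p.Prime] (A P D : Subgroup Ω) (x a₁ : Ω)
    (hAS : A ≤ S) (hPS : P ≤ S)
    (hAab : ∀ a ∈ A, ∀ b ∈ A, a * b = b * a)
    (hAc : ∀ s ∈ S, ∀ t ∈ S, s * t * s⁻¹ * t⁻¹ ∈ A)
    (hAgen : ∀ s ∈ S, ∃ i : ℕ, s * (x ^ i)⁻¹ ∈ A)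
    (hxP : x ∈ P)
    (ha₁A : a₁ ∈ A) (ha₁N : a₁ ∈ Subgroup.normalizer (P : Set Ω)) (ha₁P : a₁ ∉ P)
    (hD4 : ∀ a ∈ A, x⁻¹ * (a * x * a⁻¹) ∈ D → a ∈ P)
    (hD5 : ∀ u ∈ P ⊓ A, u ∉ D → ∀ w ∈ P ⊓ A, ∃ i : ℕ, w * (u ^ i)⁻¹ ∈ D)
    (hD6 : ∀ u ∈ P ⊓ A, u ^ p ∈ D) :
    (P.subgroupOf (S ⊓ Subgroup.normalizer (P : Set Ω))).index = p := by
  have hxS : x ∈ S := hPS hxP
  have hθA : ∀ a ∈ A, x⁻¹ * (a * x * a⁻¹) ∈ A := by
    intro a ha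
    have h1 := hAc x⁻¹ (S.inv_mem hxS) a (hAS ha)
    rw [inv_inv] at h1
    have e : x⁻¹ * (a * x * a⁻¹) = x⁻¹ * a * x * a⁻¹ := by group
    rw [e]
    exact h1
  have hθP : ∀ a ∈ Subgroup.normalizer (P : Set Ω), x⁻¹ * (a * x * a⁻¹) ∈ P := by
    intro a ha
    exact P.mul_mem (P.inv_mem hxP) ((Subgroup.mem_normalizer_iff.mp ha x).mp hxP)
  have hu : x⁻¹ * (a₁ * x * a₁⁻¹) ∈ P ⊓ A := ⟨hθP a₁ ha₁N, hθA a₁ ha₁A⟩
  have huD : x⁻¹ * (a₁ * x * a₁⁻¹) ∉ D := fun h => ha₁P (hD4 a₁ ha₁A h)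
  have hNn : (P.subgroupOf (S ⊓ Subgroup.normalizer (P : Set Ω))).Normal := by
    constructor
    intro d hd y
    rw [Subgroup.mem_subgroupOf] at hd ⊢
    exact (Subgroup.mem_normalizer_iff.mp y.2.2 d).mp hd
  apply index_eq_prime_of_gen (P.subgroupOf (S ⊓ Subgroup.normalizer (P : Set Ω)))
    ⟨a₁, hAS ha₁A, ha₁N⟩
  · intro h
    exact ha₁P (Subgroup.mem_subgroupOf.mp h)
  · rw [Subgroup.mem_subgroupOf]
    show a₁ ^ p ∈ P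
    apply hD4 _ (A.pow_mem ha₁A p)
    rw [abx_theta_pow A hAab x hθA a₁ ha₁A p]
    exact hD6 _ hu
  · intro s
    obtain ⟨j, hj⟩ := hAgen s s.2.1
    have haN : (s : Ω) * (x ^ j)⁻¹ ∈ Subgroup.normalizer (P : Set Ω) :=
      Subgroup.mul_mem _ s.2.2 (Subgroup.inv_mem _ (Subgroup.le_normalizer (P.pow_mem hxP j)))
    obtain ⟨i, hi⟩ := hD5 _ hu huD _ ⟨hθP _ haN, hθA _ hj⟩
    refine ⟨i, ?_⟩
    rw [Subgroup.mem_subgroupOf]
    show (s : Ω) * (a₁ ^ i)⁻¹ ∈ P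
    have h1 : (s : Ω) * (x ^ j)⁻¹ * (a₁ ^ i)⁻¹ ∈ P := by
      apply hD4 _ (A.mul_mem hj (A.inv_mem (A.pow_mem ha₁A i)))
      rw [abx_theta_mul_inv A hAab x hθA _ _ hj (A.pow_mem ha₁A i),
        abx_theta_pow A hAab x hθA a₁ ha₁A i]
      exact hi
    have h2 : a₁ ^ i * x ^ j * (a₁ ^ i)⁻¹ ∈ P :=
      (Subgroup.mem_normalizer_iff.mp (Subgroup.pow_mem _ ha₁N i) _).mp (P.pow_mem hxP j)
    have e : (s : Ω) * (a₁ ^ i)⁻¹ =
        ((s : Ω) * (x ^ j)⁻¹ * (a₁ ^ i)⁻¹) * (a₁ ^ i * x ^ j * (a₁ ^ i)⁻¹) := by group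
    rw [e]
    exact P.mul_mem h1 h2

theorem abx_class (A P D : Subgroup Ω) (x u : Ω)
    (hAS : A ≤ S) (hPS : P ≤ S)
    (hAab : ∀ a ∈ A, ∀ b ∈ A, a * b = b * a)
    (hAgenall : ∀ y ∈ S, y ∉ A → ∀ s ∈ S, ∃ i : ℕ, s * (y ^ i)⁻¹ ∈ A)
    (hxP : x ∈ P) (hxA : x ∉ A)
    (hZP : S ⊓ Subgroup.centralizer (S : Set Ω) ≤ P)
    (hPne : ∃ s ∈ S, s ∉ P)
    (hu : u ∈ P ⊓ A) (huD : u ∉ D)
    (hD1 : D ≤ P ⊓ A)
    (hD3 : ∀ y ∈ P, ∀ w ∈ P, y * w * y⁻¹ * w⁻¹ ∈ D)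
    (hD4 : ∀ a ∈ A, x⁻¹ * (a * x * a⁻¹) ∈ D → a ∈ P)
    (hD7 : (∀ y ∈ P, (∀ w ∈ P, y * w = w * y) → y ∈ A) →
      ∀ z ∈ P, (∀ w ∈ P, z * w = w * z) → z ∈ D)
    (hD8 : ∀ u ∈ P ⊓ A, u ∉ D → ∀ w ∈ D, ∀ y ∈ P, w * y = y * w) :
    (P = (S ⊓ Subgroup.centralizer (S : Set Ω)) ⊔ Subgroup.zpowers x) ∨
    (((Subgroup.upperCentralSeries ↥S 2).map S.subtype) ≤ A ∧
      P = ((Subgroup.upperCentralSeries ↥S 2).map S.subtype) ⊔ Subgroup.zpowers x) := by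
  have hxS : x ∈ S := hPS hxP
  have hdecS : ∀ s ∈ S, ∃ i : ℕ, s * (x ^ i)⁻¹ ∈ A := hAgenall x hxS hxA
  have hcentral : ∀ d ∈ A, d * x = x * d → d ∈ S ⊓ Subgroup.centralizer (S : Set Ω) := by
    intro d hd hdx
    rw [abx_mem_Z]
    refine ⟨hAS hd, fun s hs => ?_⟩
    obtain ⟨i, hi⟩ := hdecS s hs
    have h1 : (s * (x ^ i)⁻¹) * d = d * (s * (x ^ i)⁻¹) := hAab _ hi _ hd
    have h2 : x ^ i * d = d * x ^ i := ((show Commute x d from hdx.symm).pow_left i).eq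
    calc s * d = (s * (x ^ i)⁻¹) * (x ^ i * d) := by group
      _ = (s * (x ^ i)⁻¹) * (d * x ^ i) := by rw [h2]
      _ = ((s * (x ^ i)⁻¹) * d) * x ^ i := by group
      _ = (d * (s * (x ^ i)⁻¹)) * x ^ i := by rw [h1]
      _ = d * s := by group
  have hdecP : ∀ y ∈ P, ∃ i : ℕ, y * (x ^ i)⁻¹ ∈ P ⊓ A := by
    intro y hy
    obtain ⟨i, hi⟩ := hdecS y (hPS hy)
    exact ⟨i, P.mul_mem hy (P.inv_mem (P.pow_mem hxP i)), hi⟩
  have hsup : ∀ K : Subgroup Ω, K ≤ P → P ⊓ A ≤ K → P = K ⊔ Subgroup.zpowers x := by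
    intro K hKP hPK
    apply le_antisymm
    · intro y hy
      obtain ⟨i, hi⟩ := hdecP y hy
      have e : y = (y * (x ^ i)⁻¹) * x ^ i := by group
      rw [e]
      exact Subgroup.mul_mem _ (Subgroup.mem_sup_left (hPK hi))
        (Subgroup.mem_sup_right (Subgroup.pow_mem _ (Subgroup.mem_zpowers x) i))
    · exact sup_le hKP ((Subgroup.zpowers_le).mpr hxP)
  by_cases hPab : ∀ y ∈ P, ∀ w ∈ P, y * w = w * y
  · left
    apply hsup _ hZP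
    intro d hd
    exact hcentral d hd.2 (hPab d hd.1 x hxP)
  · right
    have hcenA : ∀ y ∈ P, (∀ w ∈ P, y * w = w * y) → y ∈ A := by
      intro y hy hyc
      by_contra hyA
      apply hPab
      have hdy := hAgenall y (hPS hy) hyA
      intro w hw w' hw'
      obtain ⟨i, hi⟩ := hdy w (hPS hw)
      obtain ⟨j, hj⟩ := hdy w' (hPS hw')
      exact abx_comm_of_central A hAab y w w' i j hi hj
        (hyc _ (P.mul_mem hw' (P.inv_mem (P.pow_mem hy j))))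
        (hyc _ (P.mul_mem hw (P.inv_mem (P.pow_mem hy i))))
    have hcenD := hD7 hcenA
    have hZD : S ⊓ Subgroup.centralizer (S : Set Ω) ≤ D := by
      intro z hz
      apply hcenD z (hZP hz)
      intro w hw
      exact (((abx_mem_Z).mp hz).2 w (hPS hw)).symm
    have hDZ : D ≤ S ⊓ Subgroup.centralizer (S : Set Ω) := by
      intro w hw
      exact hcentral w (hD1 hw).2 (hD8 u hu huD w hw x hxP)
    have hZconj : ∀ w ∈ S ⊓ Subgroup.centralizer (S : Set Ω), ∀ s ∈ S, s * w * s⁻¹ = w := by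
      intro w hw s hs
      rw [((abx_mem_Z).mp hw).2 s hs]
      group
    have hθZ2 : ∀ a ∈ A, x⁻¹ * (a * x * a⁻¹) ∈ S ⊓ Subgroup.centralizer (S : Set Ω) →
        a ∈ (Subgroup.upperCentralSeries ↥S 2).map S.subtype := by
      intro a ha hθ
      rw [abx_mem_Z2]
      refine ⟨hAS ha, fun s hs => ?_⟩
      obtain ⟨i, hi⟩ := hdecS s hs
      have hb := beta_mem (S ⊓ Subgroup.centralizer (S : Set Ω)) x a (fun w hw => by
        have h1 := hZconj w hw x⁻¹ (S.inv_mem hxS)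
        rw [inv_inv] at h1
        rw [h1]
        exact hw) hθ i
      have hcomm : a * (s * (x ^ i)⁻¹) = (s * (x ^ i)⁻¹) * a := hAab _ ha _ hi
      have e : a * s * a⁻¹ * s⁻¹ = s * ((x ^ i)⁻¹ * (a * x ^ i * a⁻¹)) * s⁻¹ := by
        calc a * s * a⁻¹ * s⁻¹ = (a * (s * (x ^ i)⁻¹)) * x ^ i * a⁻¹ * s⁻¹ := by group
          _ = ((s * (x ^ i)⁻¹) * a) * x ^ i * a⁻¹ * s⁻¹ := by rw [hcomm]
          _ = s * ((x ^ i)⁻¹ * (a * x ^ i * a⁻¹)) * s⁻¹ := by group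
      rw [e, hZconj _ hb s hs]
      exact hb
    have hZ2θ : ∀ a ∈ (Subgroup.upperCentralSeries ↥S 2).map S.subtype,
        x⁻¹ * (a * x * a⁻¹) ∈ S ⊓ Subgroup.centralizer (S : Set Ω) := by
      intro a ha
      have h1 := ((abx_mem_Z2).mp ha).2 x hxS
      have h2 := hZconj _ h1 x⁻¹ (S.inv_mem hxS)
      have e : x⁻¹ * (a * x * a⁻¹) = x⁻¹ * (a * x * a⁻¹ * x⁻¹) * x⁻¹⁻¹ := by group
      rw [e, h2]
      exact h1
    have hZ2A : (Subgroup.upperCentralSeries ↥S 2).map S.subtype ≤ A := by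
      intro z hz
      by_contra hzA
      obtain ⟨s, hsS, hsP⟩ := hPne
      have hzS : z ∈ S := ((abx_mem_Z2).mp hz).1
      have hall : ∀ a ∈ A, a ∈ P := by
        intro a ha
        apply hD4 a ha
        apply hZD
        obtain ⟨i, hi⟩ := hAgenall z hzS hzA x hxS
        have hzi : z ^ i ∈ (Subgroup.upperCentralSeries ↥S 2).map S.subtype :=
          Subgroup.pow_mem _ hz i
        have h1 := ((abx_mem_Z2).mp hzi).2 a (hAS ha)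
        have hcomm : a * (x * (z ^ i)⁻¹) = (x * (z ^ i)⁻¹) * a := hAab _ ha _ hi
        have e : x⁻¹ * (a * x * a⁻¹) =
            (z ^ i)⁻¹ * (z ^ i * a * (z ^ i)⁻¹ * a⁻¹)⁻¹ * (z ^ i)⁻¹⁻¹ := by
          calc x⁻¹ * (a * x * a⁻¹) = x⁻¹ * (a * (x * (z ^ i)⁻¹)) * z ^ i * a⁻¹ := by group
            _ = x⁻¹ * ((x * (z ^ i)⁻¹) * a) * z ^ i * a⁻¹ := by rw [hcomm]
            _ = (z ^ i)⁻¹ * (z ^ i * a * (z ^ i)⁻¹ * a⁻¹)⁻¹ * (z ^ i)⁻¹⁻¹ := by group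
        rw [e, hZconj _ (Subgroup.inv_mem _ h1) _ (S.inv_mem (S.pow_mem hzS i))]
        exact Subgroup.inv_mem _ h1
      apply hsP
      obtain ⟨i, hi⟩ := hdecS s hsS
      have e : s = (s * (x ^ i)⁻¹) * x ^ i := by group
      rw [e]
      exact P.mul_mem (hall _ hi) (P.pow_mem hxP i)
    refine ⟨hZ2A, hsup _ ?_ ?_⟩
    · intro z hz
      exact hD4 z (hZ2A hz) (hZD (hZ2θ z hz))
    · intro d hd
      apply hθZ2 d hd.2
      apply hDZ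
      have h1 := hD3 x⁻¹ (P.inv_mem hxP) d hd.1
      rw [inv_inv] at h1
      have e : x⁻¹ * (d * x * d⁻¹) = x⁻¹ * d * x * d⁻¹ := by group
      rw [e]
      exact h1

theorem abx_essential [Finite S] (p : ℕ) [Fact p.Prime] (hS : IsPGroup p S) (F : FusionSystem S)
    (hF : F.IsSaturated p) (A : Subgroup Ω)
    (hAS : A ≤ S) (hAab : ∀ a ∈ A, ∀ b ∈ A, a * b = b * a)
    (hidx : (A.subgroupOf S).index = p) (P : Subgroup Ω) (hP : F.IsEssential p P) :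
    (P = A ∨ (∃ x ∈ S, x ∉ A ∧ P = (S ⊓ Subgroup.centralizer (S : Set Ω)) ⊔ Subgroup.zpowers x) ∨
      (((Subgroup.upperCentralSeries ↥S 2).map S.subtype) ≤ A ∧ ∃ x ∈ S, x ∉ A ∧
        P = ((Subgroup.upperCentralSeries ↥S 2).map S.subtype) ⊔ Subgroup.zpowers x)) ∧
    (P.subgroupOf (S ⊓ Subgroup.normalizer (P : Set Ω))).index = p := by
  have hPS : P ≤ S := hP.1.1
  obtain ⟨hAn, hAc, hApow, hAgen⟩ := abIndex_facts p hS A hAS hidx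
  by_cases hPA : P = A
  · refine ⟨Or.inl hPA, ?_⟩
    have hN : S ⊓ Subgroup.normalizer (A : Set Ω) = S := by
      apply inf_eq_left.mpr
      intro s hs
      rw [Subgroup.mem_normalizer_iff]
      intro h
      constructor
      · exact hAn s hs h
      · intro hh
        have h1 := hAn s⁻¹ (S.inv_mem hs) _ hh
        have e : s⁻¹ * (s * h * s⁻¹) * s⁻¹⁻¹ = h := by group
        rwa [e] at h1
    rw [hPA, hN]
    exact hidx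
  · have hcen : centralizerIn S P ≤ P := hP.1.2 P (Fusion.isConj_refl F hPS)
    obtain ⟨x, hxP, hxA⟩ : ∃ x ∈ P, x ∉ A := by
      by_contra h
      push Not at h
      apply hPA
      apply le_antisymm h
      intro a ha
      apply hcen
      refine ⟨hAS ha, ?_⟩
      show a ∈ Subgroup.centralizer (P : Set Ω)
      rw [Subgroup.mem_centralizer_iff]
      intro y hy
      exact hAab y (h y hy) a ha
    have hxS : x ∈ S := hPS hxP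
    obtain ⟨D, hD1, -, hD3, hD4, hD5, hD6, hD7, hD8⟩ :=
      abIndex_core p hS F hF A hAS hAab hidx P hP x hxP hxA
    obtain ⟨s₁, hs₁S, hs₁N, hs₁P⟩ := essential_exists_normalizer p hS F hF hP
    obtain ⟨a₁, ha₁A, ha₁N, ha₁P⟩ :
        ∃ a₁ ∈ A, a₁ ∈ Subgroup.normalizer (P : Set Ω) ∧ a₁ ∉ P := by
      obtain ⟨i, hi⟩ := hAgen x hxS hxA s₁ hs₁S
      refine ⟨s₁ * (x ^ i)⁻¹, hi, Subgroup.mul_mem _ hs₁N
        (Subgroup.inv_mem _ (Subgroup.le_normalizer (P.pow_mem hxP i))), ?_⟩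
      intro h
      apply hs₁P
      have e : s₁ = (s₁ * (x ^ i)⁻¹) * x ^ i := by group
      rw [e]
      exact P.mul_mem h (P.pow_mem hxP i)
    have hZP : S ⊓ Subgroup.centralizer (S : Set Ω) ≤ P := by
      intro z hz
      apply hcen
      refine ⟨hz.1, ?_⟩
      have hz2 : z ∈ Subgroup.centralizer (S : Set Ω) := hz.2
      show z ∈ Subgroup.centralizer (P : Set Ω)
      rw [Subgroup.mem_centralizer_iff] at hz2 ⊢
      intro y hy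
      exact hz2 y (hPS hy)
    have hu : x⁻¹ * (a₁ * x * a₁⁻¹) ∈ P ⊓ A := by
      refine ⟨P.mul_mem (P.inv_mem hxP) ((Subgroup.mem_normalizer_iff.mp ha₁N x).mp hxP), ?_⟩
      have h1 := hAc x⁻¹ (S.inv_mem hxS) a₁ (hAS ha₁A)
      rw [inv_inv] at h1
      have e : x⁻¹ * (a₁ * x * a₁⁻¹) = x⁻¹ * a₁ * x * a₁⁻¹ := by group
      rw [e]
      exact h1
    have huD : x⁻¹ * (a₁ * x * a₁⁻¹) ∉ D := fun h => ha₁P (hD4 _ ha₁A h)
    refine ⟨Or.inr ?_, abx_index p A P D x a₁ hAS hPS hAab hAc (hAgen x hxS hxA) hxP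
      ha₁A ha₁N ha₁P hD4 hD5 hD6⟩
    rcases abx_class A P D x _ hAS hPS hAab hAgen hxP hxA hZP ⟨s₁, hs₁S, hs₁P⟩ hu huD
      hD1 hD3 hD4 hD7 hD8 with h | ⟨h1, h2⟩
    · exact Or.inl ⟨x, hxS, hxA, h⟩
    · exact Or.inr ⟨h1, x, hxS, hxA, h2⟩

end AbX

end Cfsg.Agent.Lib.Helper27
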