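import Mathlib
import Cfsg.Agent.Lib.Helper27.AbIndexPC

set_option autoImplicit false

namespace Cfsg.Agent.Lib.Helper27

open Cfsg Cfsg.FusionSystem Cfsg.Agent.Lib.Helper26

section EndChain

variable {B : Type*} [Group B]

/-- The chain of kernels of the powers of an endomorphism. -/
def kch (θ : B →* B) : ℕ → Subgroup B
  | 0 => ⊥
  | (j + 1) => (kch θ j).comap θ

theorem mem_kch_succ (θ : B →* B) (j : ℕ) (a : B) : a ∈ kch θ (j + 1) ↔ θ a ∈ kch θ j :=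
  Iff.rfl

theorem mem_kch_one (θ : B →* B) (a : B) : a ∈ kch θ 1 ↔ θ a = 1 :=
  Iff.rfl

theorem kch_normal (θ : B →* B) (j : ℕ) : (kch θ j).Normal := by
  induction j with
  | zero =>
    show (⊥ : Subgroup B).Normal
    infer_instance
  | succ j ih => exact ih.comap θ

theorem kch_mono (θ : B →* B) (j : ℕ) : kch θ j ≤ kch θ (j + 1) := by
  induction j with
  | zero =>
    intro a ha
    have h1 : a = 1 := ha
    rw [mem_kch_succ, h1, map_one]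
    exact one_mem _
  | succ j ih =>
    intro a ha
    rw [mem_kch_succ] at ha ⊢
    exact ih ha

theorem mem_kch_iterate (θ : B →* B) (j : ℕ) (a : B) :
    a ∈ kch θ (j + 1) ↔ θ^[j] a ∈ kch θ 1 := by
  induction j generalizing a with
  | zero => rfl
  | succ j ih =>
    rw [mem_kch_succ, ih, Function.iterate_succ_apply]

/-- Each factor of the chain is generated by any of its nontrivial elements, of `p`-th power
trivial. -/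
def KStep (p : ℕ) (θ : B →* B) (j : ℕ) : Prop :=
  ∀ w ∈ kch θ (j + 1), w ∉ kch θ j →
    (w ^ p ∈ kch θ j ∧ ∀ w' ∈ kch θ (j + 1), ∃ i : ℕ, w' * (w ^ i)⁻¹ ∈ kch θ j)

theorem kstep_succ (p : ℕ) (θ : B →* B) (j : ℕ) (h : KStep p θ j) : KStep p θ (j + 1) := by
  intro w hw hw'
  rw [mem_kch_succ] at hw hw'
  obtain ⟨h1, h2⟩ := h (θ w) hw hw'
  refine ⟨?_, ?_⟩
  · rw [mem_kch_succ, map_pow]
    exact h1
  · intro w' hw''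
    rw [mem_kch_succ] at hw''
    obtain ⟨i, hi⟩ := h2 (θ w') hw''
    refine ⟨i, ?_⟩
    rw [mem_kch_succ, map_mul, map_inv, map_pow]
    exact hi

theorem kstep_all (p : ℕ) (θ : B →* B) (h : KStep p θ 1) (j : ℕ) : KStep p θ (j + 1) := by
  induction j with
  | zero => exact h
  | succ j ih => exact kstep_succ p θ (j + 1) ih

theorem kstep_card (p : ℕ) [Fact p.Prime] [Finite B] (θ : B →* B) (j : ℕ) (h : KStep p θ j) :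
    Nat.card (kch θ (j + 1)) ≤ p * Nat.card (kch θ j) := by
  by_cases heq : ∀ w ∈ kch θ (j + 1), w ∈ kch θ j
  · have h1 : kch θ (j + 1) = kch θ j := le_antisymm heq (kch_mono θ j)
    rw [h1]
    exact Nat.le_mul_of_pos_left _ (Fact.out : p.Prime).pos
  · push Not at heq
    obtain ⟨w, hw, hw'⟩ := heq
    obtain ⟨h1, h2⟩ := h w hw hw'
    have hn := kch_normal θ j
    have hn' : ((kch θ j).subgroupOf (kch θ (j + 1))).Normal := inferInstance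
    have hidx : ((kch θ j).subgroupOf (kch θ (j + 1))).index = p := by
      apply index_eq_prime_of_gen _ ⟨w, hw⟩
      · intro hh
        exact hw' (Subgroup.mem_subgroupOf.mp hh)
      · rw [Subgroup.mem_subgroupOf]
        exact h1
      · intro s
        obtain ⟨i, hi⟩ := h2 s s.2
        exact ⟨i, Subgroup.mem_subgroupOf.mpr hi⟩
    have hcard := Subgroup.card_mul_index ((kch θ j).subgroupOf (kch θ (j + 1)))
    rw [hidx] at hcard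
    have he : Nat.card ((kch θ j).subgroupOf (kch θ (j + 1))) = Nat.card (kch θ j) :=
      Nat.card_congr (Subgroup.subgroupOfEquivOfLe (kch_mono θ j)).toEquiv
    rw [he] at hcard
    rw [← hcard, mul_comm]

theorem kch_card_le (p : ℕ) [Fact p.Prime] [Finite B] (θ : B →* B) (h : KStep p θ 1) (j : ℕ) :
    Nat.card (kch θ (j + 1)) ≤ p ^ j * Nat.card (kch θ 1) := by
  induction j with
  | zero => simp
  | succ j ih =>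
    have h1 := kstep_card p θ (j + 1) (kstep_all p θ h j)
    calc Nat.card (kch θ (j + 1 + 1)) ≤ p * Nat.card (kch θ (j + 1)) := h1
      _ ≤ p * (p ^ j * Nat.card (kch θ 1)) := Nat.mul_le_mul_left p ih
      _ = p ^ (j + 1) * Nat.card (kch θ 1) := by ring

end EndChain

section AbTheta

variable {Ω : Type*} [Group Ω] {S : Subgroup Ω}

/-- The map `a ↦ x⁻¹ a x a⁻¹` as an endomorphism of the abelian normal subgroup `A`. -/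
def abThetaHom (A : Subgroup Ω) (hAab : ∀ a ∈ A, ∀ b ∈ A, a * b = b * a) (x : Ω)
    (hθ : ∀ a ∈ A, x⁻¹ * (a * x * a⁻¹) ∈ A) : ↥A →* ↥A :=
  MonoidHom.mk' (fun a => ⟨x⁻¹ * ((a : Ω) * x * (a : Ω)⁻¹), hθ a a.2⟩) (by
    intro a b
    apply Subtype.ext
    exact abx_theta_mul A hAab x hθ a b a.2 b.2)

theorem abThetaHom_coe (A : Subgroup Ω) (hAab : ∀ a ∈ A, ∀ b ∈ A, a * b = b * a) (x : Ω)
    (hθ : ∀ a ∈ A, x⁻¹ * (a * x * a⁻¹) ∈ A) (a : ↥A) :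
    ((abThetaHom A hAab x hθ a : ↥A) : Ω) = x⁻¹ * ((a : Ω) * x * (a : Ω)⁻¹) := rfl

theorem abd_central (A : Subgroup Ω) (hAS : A ≤ S) (hAab : ∀ a ∈ A, ∀ b ∈ A, a * b = b * a)
    (x : Ω) (hdecS : ∀ s ∈ S, ∃ i : ℕ, s * (x ^ i)⁻¹ ∈ A) :
    ∀ d ∈ A, d * x = x * d → d ∈ S ⊓ Subgroup.centralizer (S : Set Ω) := by
  intro d hd hdx
  rw [abx_mem_Z]
  refine ⟨hAS hd, fun s hs => ?_⟩
  obtain ⟨i, hi⟩ := hdecS s hs
  have h1 : (s * (x ^ i)⁻¹) * d = d * (s * (x ^ i)⁻¹) := hAab _ hi _ hd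
  have h2 : x ^ i * d = d * x ^ i := ((show Commute x d from hdx.symm).pow_left i).eq
  calc s * d = (s * (x ^ i)⁻¹) * (x ^ i * d) := by group
    _ = (s * (x ^ i)⁻¹) * (d * x ^ i) := by rw [h2]
    _ = ((s * (x ^ i)⁻¹) * d) * x ^ i := by group
    _ = (d * (s * (x ^ i)⁻¹)) * x ^ i := by rw [h1]
    _ = d * s := by group

theorem abd_Zconj : ∀ w ∈ S ⊓ Subgroup.centralizer (S : Set Ω), ∀ s ∈ S, s * w * s⁻¹ = w := by
  intro w hw s hs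
  rw [((abx_mem_Z).mp hw).2 s hs]
  group

theorem abd_theta_Z2 (A : Subgroup Ω) (hAS : A ≤ S) (hAab : ∀ a ∈ A, ∀ b ∈ A, a * b = b * a)
    (x : Ω) (hxS : x ∈ S) (hdecS : ∀ s ∈ S, ∃ i : ℕ, s * (x ^ i)⁻¹ ∈ A) :
    ∀ a ∈ A, x⁻¹ * (a * x * a⁻¹) ∈ S ⊓ Subgroup.centralizer (S : Set Ω) →
      a ∈ (Subgroup.upperCentralSeries ↥S 2).map S.subtype := by
  intro a ha hθ
  rw [abx_mem_Z2]
  refine ⟨hAS ha, fun s hs => ?_⟩
  obtain ⟨i, hi⟩ := hdecS s hs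
  have hb := beta_mem (S ⊓ Subgroup.centralizer (S : Set Ω)) x a (fun w hw => by
    have h1 := abd_Zconj w hw x⁻¹ (S.inv_mem hxS)
    rw [inv_inv] at h1
    rw [h1]
    exact hw) hθ i
  have hcomm : a * (s * (x ^ i)⁻¹) = (s * (x ^ i)⁻¹) * a := hAab _ ha _ hi
  have e : a * s * a⁻¹ * s⁻¹ = s * ((x ^ i)⁻¹ * (a * x ^ i * a⁻¹)) * s⁻¹ := by
    calc a * s * a⁻¹ * s⁻¹ = (a * (s * (x ^ i)⁻¹)) * x ^ i * a⁻¹ * s⁻¹ := by group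
      _ = ((s * (x ^ i)⁻¹) * a) * x ^ i * a⁻¹ * s⁻¹ := by rw [hcomm]
      _ = s * ((x ^ i)⁻¹ * (a * x ^ i * a⁻¹)) * s⁻¹ := by group
  rw [e, abd_Zconj _ hb s hs]
  exact hb

theorem abd_Z2_theta (x : Ω) (hxS : x ∈ S) :
    ∀ a ∈ (Subgroup.upperCentralSeries ↥S 2).map S.subtype,
      x⁻¹ * (a * x * a⁻¹) ∈ S ⊓ Subgroup.centralizer (S : Set Ω) := by
  intro a ha
  have h1 := ((abx_mem_Z2).mp ha).2 x hxS
  have h2 := abd_Zconj _ h1 x⁻¹ (S.inv_mem hxS)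
  have e : x⁻¹ * (a * x * a⁻¹) = x⁻¹ * (a * x * a⁻¹ * x⁻¹) * x⁻¹⁻¹ := by group
  rw [e, h2]
  exact h1

theorem abd_all_theta_Z (A : Subgroup Ω) (hAS : A ≤ S)
    (hAab : ∀ a ∈ A, ∀ b ∈ A, a * b = b * a)
    (hAgenall : ∀ y ∈ S, y ∉ A → ∀ s ∈ S, ∃ i : ℕ, s * (y ^ i)⁻¹ ∈ A)
    (x : Ω) (hxS : x ∈ S) (z : Ω)
    (hz : z ∈ (Subgroup.upperCentralSeries ↥S 2).map S.subtype) (hzA : z ∉ A) :
    ∀ a ∈ A, x⁻¹ * (a * x * a⁻¹) ∈ S ⊓ Subgroup.centralizer (S : Set Ω) := by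
  intro a ha
  have hzS : z ∈ S := ((abx_mem_Z2).mp hz).1
  obtain ⟨i, hi⟩ := hAgenall z hzS hzA x hxS
  have hzi : z ^ i ∈ (Subgroup.upperCentralSeries ↥S 2).map S.subtype :=
    Subgroup.pow_mem _ hz i
  have h1 := ((abx_mem_Z2).mp hzi).2 a (hAS ha)
  have hcomm : a * (x * (z ^ i)⁻¹) = (x * (z ^ i)⁻¹) * a := hAab _ ha _ hi
  have e : x⁻¹ * (a * x * a⁻¹) =
      (z ^ i)⁻¹ * (z ^ i * a * (z ^ i)⁻¹ * a⁻¹)⁻¹ * (z ^ i)⁻¹⁻¹ := by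
    calc x⁻¹ * (a * x * a⁻¹) = x⁻¹ * (a * (x * (z ^ i)⁻¹)) * z ^ i * a⁻¹ := by group
      _ = x⁻¹ * ((x * (z ^ i)⁻¹) * a) * z ^ i * a⁻¹ := by rw [hcomm]
      _ = (z ^ i)⁻¹ * (z ^ i * a * (z ^ i)⁻¹ * a⁻¹)⁻¹ * (z ^ i)⁻¹⁻¹ := by group
  rw [e, abd_Zconj _ (Subgroup.inv_mem _ h1) _ (S.inv_mem (S.pow_mem hzS i))]
  exact Subgroup.inv_mem _ h1

theorem abd_comm_le (A T : Subgroup Ω) (hAab : ∀ a ∈ A, ∀ b ∈ A, a * b = b * a)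
    (x : Ω) (hxS : x ∈ S) (hdecS : ∀ s ∈ S, ∃ i : ℕ, s * (x ^ i)⁻¹ ∈ A)
    (hTA : T ≤ A) (hθT : ∀ a ∈ A, x⁻¹ * (a * x * a⁻¹) ∈ T)
    (hTx : ∀ c ∈ T, x * c * x⁻¹ ∈ T) (hTx' : ∀ c ∈ T, x⁻¹ * c * x ∈ T) :
    (commutator ↥S).map S.subtype ≤ T := by
  have hTxi : ∀ i : ℕ, ∀ c ∈ T, x ^ i * c * (x ^ i)⁻¹ ∈ T := by
    intro i
    induction i with
    | zero =>
      intro c hc
      have e : x ^ 0 * c * (x ^ 0)⁻¹ = c := by group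
      rw [e]
      exact hc
    | succ i ih =>
      intro c hc
      have e : x ^ (i + 1) * c * (x ^ (i + 1))⁻¹ = x * (x ^ i * c * (x ^ i)⁻¹) * x⁻¹ := by
        rw [pow_succ']
        group
      rw [e]
      exact hTx _ (ih c hc)
  have hTn : ∀ s ∈ S, ∀ c ∈ T, s * c * s⁻¹ ∈ T := by
    intro s hs c hc
    obtain ⟨i, hi⟩ := hdecS s hs
    have h1 := hTxi i c hc
    have hcomm : (s * (x ^ i)⁻¹) * (x ^ i * c * (x ^ i)⁻¹) =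
        (x ^ i * c * (x ^ i)⁻¹) * (s * (x ^ i)⁻¹) := hAab _ hi _ (hTA h1)
    have e : s * c * s⁻¹ = x ^ i * c * (x ^ i)⁻¹ := by
      calc s * c * s⁻¹ = ((s * (x ^ i)⁻¹) * (x ^ i * c * (x ^ i)⁻¹)) * (s * (x ^ i)⁻¹)⁻¹ := by
            group
        _ = ((x ^ i * c * (x ^ i)⁻¹) * (s * (x ^ i)⁻¹)) * (s * (x ^ i)⁻¹)⁻¹ := by rw [hcomm]
        _ = x ^ i * c * (x ^ i)⁻¹ := by group
    rw [e]
    exact h1
  have hCa : ∀ a ∈ A, ∀ t ∈ S, a * t * a⁻¹ * t⁻¹ ∈ T := by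
    intro a ha t ht
    obtain ⟨j, hj⟩ := hdecS t ht
    have hb := beta_mem T x a hTx' (hθT a ha) j
    have hcomm : a * (t * (x ^ j)⁻¹) = (t * (x ^ j)⁻¹) * a := hAab _ ha _ hj
    have e : a * t * a⁻¹ * t⁻¹ = t * ((x ^ j)⁻¹ * (a * x ^ j * a⁻¹)) * t⁻¹ := by
      calc a * t * a⁻¹ * t⁻¹ = (a * (t * (x ^ j)⁻¹)) * x ^ j * a⁻¹ * t⁻¹ := by group
        _ = ((t * (x ^ j)⁻¹) * a) * x ^ j * a⁻¹ * t⁻¹ := by rw [hcomm]
        _ = t * ((x ^ j)⁻¹ * (a * x ^ j * a⁻¹)) * t⁻¹ := by group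
    rw [e]
    exact hTn t ht _ hb
  have hCx : ∀ t ∈ S, x * t * x⁻¹ * t⁻¹ ∈ T := by
    intro t ht
    obtain ⟨j, hj⟩ := hdecS t ht
    have e : x * t * x⁻¹ * t⁻¹ =
        x * (x⁻¹ * ((t * (x ^ j)⁻¹) * x * (t * (x ^ j)⁻¹)⁻¹))⁻¹ * x⁻¹ := by group
    rw [e]
    exact hTx _ (T.inv_mem (hθT _ hj))
  have hCmul : ∀ s ∈ S, ∀ s' : Ω, (∀ t ∈ S, s * t * s⁻¹ * t⁻¹ ∈ T) →
      (∀ t ∈ S, s' * t * s'⁻¹ * t⁻¹ ∈ T) → ∀ t ∈ S, (s * s') * t * (s * s')⁻¹ * t⁻¹ ∈ T := by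
    intro s hs s' h h' t ht
    have e : (s * s') * t * (s * s')⁻¹ * t⁻¹ =
        (s * (s' * t * s'⁻¹ * t⁻¹) * s⁻¹) * (s * t * s⁻¹ * t⁻¹) := by group
    rw [e]
    exact T.mul_mem (hTn s hs _ (h' t ht)) (h t ht)
  have hCpow : ∀ i : ℕ, ∀ t ∈ S, x ^ i * t * (x ^ i)⁻¹ * t⁻¹ ∈ T := by
    intro i
    induction i with
    | zero =>
      intro t _
      have e : x ^ 0 * t * (x ^ 0)⁻¹ * t⁻¹ = 1 := by group
      rw [e]
      exact T.one_mem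
    | succ i ih =>
      rw [pow_succ]
      exact hCmul _ (S.pow_mem hxS i) x ih hCx
  have hCall : ∀ s ∈ S, ∀ t ∈ S, s * t * s⁻¹ * t⁻¹ ∈ T := by
    intro s hs
    obtain ⟨i, hi⟩ := hdecS s hs
    have e : s = (s * (x ^ i)⁻¹) * x ^ i := by group
    rw [e]
    exact hCmul _ (S.mul_mem hs (S.inv_mem (S.pow_mem hxS i))) _ (hCa _ hi) (hCpow i)
  rw [Subgroup.map_le_iff_le_comap, commutator_def, Subgroup.commutator_le]
  intro g₁ _ g₂ _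
  exact hCall g₁ g₁.2 g₂ g₂.2

open scoped commutatorElement in
theorem abd_comm_eq (A : Subgroup Ω) (hAS : A ≤ S) (hAab : ∀ a ∈ A, ∀ b ∈ A, a * b = b * a)
    (hAn : ∀ s ∈ S, ∀ a ∈ A, s * a * s⁻¹ ∈ A)
    (x : Ω) (hxS : x ∈ S) (hdecS : ∀ s ∈ S, ∃ i : ℕ, s * (x ^ i)⁻¹ ∈ A)
    (hθ : ∀ a ∈ A, x⁻¹ * (a * x * a⁻¹) ∈ A) (c : Ω) :
    c ∈ (commutator ↥S).map S.subtype ↔ ∃ a ∈ A, c = x⁻¹ * (a * x * a⁻¹) := by
  constructor
  · intro hc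
    have hT : ∀ c : Ω, c ∈ (abThetaHom A hAab x hθ).range.map A.subtype ↔
        ∃ a ∈ A, c = x⁻¹ * (a * x * a⁻¹) := by
      intro c
      constructor
      · rintro ⟨y, ⟨a, rfl⟩, rfl⟩
        exact ⟨a, a.2, rfl⟩
      · rintro ⟨a, ha, rfl⟩
        exact ⟨abThetaHom A hAab x hθ ⟨a, ha⟩, ⟨⟨a, ha⟩, rfl⟩, rfl⟩
    have hle := abd_comm_le (S := S) A ((abThetaHom A hAab x hθ).range.map A.subtype) hAab x hxS
      hdecS ?_ ?_ ?_ ?_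
    · exact (hT c).mp (hle hc)
    · intro c hc
      obtain ⟨a, ha, rfl⟩ := (hT c).mp hc
      exact hθ a ha
    · intro a ha
      exact (hT _).mpr ⟨a, ha, rfl⟩
    · intro c hc
      obtain ⟨a, ha, rfl⟩ := (hT c).mp hc
      refine (hT _).mpr ⟨x * a * x⁻¹, hAn x hxS a ha, ?_⟩
      group
    · intro c hc
      obtain ⟨a, ha, rfl⟩ := (hT c).mp hc
      refine (hT _).mpr ⟨x⁻¹ * a * x⁻¹⁻¹, hAn x⁻¹ (S.inv_mem hxS) a ha, ?_⟩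
      group
  · rintro ⟨a, ha, rfl⟩
    refine ⟨⁅(⟨x⁻¹, S.inv_mem hxS⟩ : S), (⟨a, hAS ha⟩ : S)⁆, ?_, ?_⟩
    · rw [commutator_def]
      exact Subgroup.commutator_mem_commutator (Subgroup.mem_top _) (Subgroup.mem_top _)
    · rw [commutatorElement_def]
      show x⁻¹ * a * x⁻¹⁻¹ * a⁻¹ = x⁻¹ * (a * x * a⁻¹)
      group

theorem abd_ker (A : Subgroup Ω) (hAS : A ≤ S) (hAab : ∀ a ∈ A, ∀ b ∈ A, a * b = b * a)
    (x : Ω) (hxS : x ∈ S) (hdecS : ∀ s ∈ S, ∃ i : ℕ, s * (x ^ i)⁻¹ ∈ A) :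
    ∀ a ∈ A, (x⁻¹ * (a * x * a⁻¹) = 1 ↔ a ∈ S ⊓ Subgroup.centralizer (S : Set Ω)) := by
  intro a ha
  constructor
  · intro h
    apply abd_central A hAS hAab x hdecS a ha
    have h1 : a * x * a⁻¹ = x := by
      have h2 : x * (x⁻¹ * (a * x * a⁻¹)) = x * 1 := by rw [h]
      rw [mul_one, mul_inv_cancel_left] at h2
      exact h2
    calc a * x = (a * x * a⁻¹) * a := by group
      _ = x * a := by rw [h1]
  · intro h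
    have h1 := ((abx_mem_Z).mp h).2 x hxS
    calc x⁻¹ * (a * x * a⁻¹) = x⁻¹ * (x * a) * a⁻¹ := by rw [h1]; group
      _ = 1 := by group

/-- Cardinality of a subgroup seen inside a larger one. -/
theorem abd_card_sub {G : Type*} [Group G] {H K : Subgroup G} (h : H ≤ K) :
    Nat.card (H.subgroupOf K) = Nat.card H :=
  Nat.card_congr (Subgroup.subgroupOfEquivOfLe h).toEquiv

theorem abd_card_inf (p : ℕ) [Fact p.Prime] (A : Subgroup Ω) (hAS : A ≤ S)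
    (hAab : ∀ a ∈ A, ∀ b ∈ A, a * b = b * a)
    (hAn : ∀ s ∈ S, ∀ a ∈ A, s * a * s⁻¹ ∈ A)
    (x : Ω) (hxS : x ∈ S) (hdecS : ∀ s ∈ S, ∃ i : ℕ, s * (x ^ i)⁻¹ ∈ A)
    (hθ : ∀ a ∈ A, x⁻¹ * (a * x * a⁻¹) ∈ A)
    (w₀ : Ω) (hw₀A : w₀ ∈ A)
    (hw₀θ : x⁻¹ * (w₀ * x * w₀⁻¹) ∈ S ⊓ Subgroup.centralizer (S : Set Ω))
    (hw₀Z : w₀ ∉ S ⊓ Subgroup.centralizer (S : Set Ω))
    (hP1 : ∀ w ∈ A, x⁻¹ * (w * x * w⁻¹) ∈ S ⊓ Subgroup.centralizer (S : Set Ω) →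
      w ∉ S ⊓ Subgroup.centralizer (S : Set Ω) →
      (w ^ p ∈ S ⊓ Subgroup.centralizer (S : Set Ω) ∧
        ∀ w' ∈ A, x⁻¹ * (w' * x * w'⁻¹) ∈ S ⊓ Subgroup.centralizer (S : Set Ω) →
          ∃ i : ℕ, w' * (w ^ i)⁻¹ ∈ S ⊓ Subgroup.centralizer (S : Set Ω))) :
    Nat.card ↥((S ⊓ Subgroup.centralizer (S : Set Ω)) ⊓ ((commutator ↥S).map S.subtype)) = p := by
  have hker := abd_ker A hAS hAab x hxS hdecS
  have hS' := abd_comm_eq A hAS hAab hAn x hxS hdecS hθ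
  obtain ⟨hpow, hgen⟩ := hP1 w₀ hw₀A hw₀θ hw₀Z
  have ht1 : x⁻¹ * (w₀ * x * w₀⁻¹) ≠ 1 := fun h => hw₀Z ((hker w₀ hw₀A).mp h)
  have htp : (x⁻¹ * (w₀ * x * w₀⁻¹)) ^ p = 1 := by
    rw [← abx_theta_pow A hAab x hθ w₀ hw₀A p]
    exact (hker _ (A.pow_mem hw₀A p)).mpr hpow
  have heq : (S ⊓ Subgroup.centralizer (S : Set Ω)) ⊓ ((commutator ↥S).map S.subtype) =
      Subgroup.zpowers (x⁻¹ * (w₀ * x * w₀⁻¹)) := by
    apply le_antisymm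
    · rintro c ⟨hcZ, hcS'⟩
      obtain ⟨a, ha, rfl⟩ := (hS' c).mp hcS'
      obtain ⟨i, hi⟩ := hgen a ha hcZ
      have h1 := (hker _ (A.mul_mem ha (A.inv_mem (A.pow_mem hw₀A i)))).mpr hi
      rw [abx_theta_mul_inv A hAab x hθ _ _ ha (A.pow_mem hw₀A i),
        abx_theta_pow A hAab x hθ w₀ hw₀A i, mul_inv_eq_one] at h1
      rw [h1]
      exact Subgroup.pow_mem _ (Subgroup.mem_zpowers _) i
    · rw [Subgroup.zpowers_le]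
      exact ⟨hw₀θ, (hS' _).mpr ⟨w₀, hw₀A, rfl⟩⟩
  rw [heq, Nat.card_zpowers]
  exact orderOf_eq_prime htp ht1

theorem abd_index_Z2 (p : ℕ) [Fact p.Prime] (A : Subgroup Ω) (hAS : A ≤ S)
    (hAab : ∀ a ∈ A, ∀ b ∈ A, a * b = b * a)
    (x : Ω) (hxS : x ∈ S) (hdecS : ∀ s ∈ S, ∃ i : ℕ, s * (x ^ i)⁻¹ ∈ A)
    (hZ2A : (Subgroup.upperCentralSeries ↥S 2).map S.subtype ≤ A)
    (w₀ : Ω) (hw₀A : w₀ ∈ A)
    (hw₀θ : x⁻¹ * (w₀ * x * w₀⁻¹) ∈ S ⊓ Subgroup.centralizer (S : Set Ω))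
    (hw₀Z : w₀ ∉ S ⊓ Subgroup.centralizer (S : Set Ω))
    (hP1 : ∀ w ∈ A, x⁻¹ * (w * x * w⁻¹) ∈ S ⊓ Subgroup.centralizer (S : Set Ω) →
      w ∉ S ⊓ Subgroup.centralizer (S : Set Ω) →
      (w ^ p ∈ S ⊓ Subgroup.centralizer (S : Set Ω) ∧
        ∀ w' ∈ A, x⁻¹ * (w' * x * w'⁻¹) ∈ S ⊓ Subgroup.centralizer (S : Set Ω) →
          ∃ i : ℕ, w' * (w ^ i)⁻¹ ∈ S ⊓ Subgroup.centralizer (S : Set Ω))) :
    (((S ⊓ Subgroup.centralizer (S : Set Ω))).subgroupOf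
      ((Subgroup.upperCentralSeries ↥S 2).map S.subtype)).index = p := by
  obtain ⟨hpow, hgen⟩ := hP1 w₀ hw₀A hw₀θ hw₀Z
  have hw₀Z2 := abd_theta_Z2 A hAS hAab x hxS hdecS w₀ hw₀A hw₀θ
  have hn : (((S ⊓ Subgroup.centralizer (S : Set Ω))).subgroupOf
      ((Subgroup.upperCentralSeries ↥S 2).map S.subtype)).Normal := by
    constructor
    intro n hn g
    rw [Subgroup.mem_subgroupOf] at hn ⊢
    have h1 := abd_Zconj (n : Ω) hn (g : Ω) ((abx_mem_Z2).mp g.2).1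
    show (g : Ω) * (n : Ω) * (g : Ω)⁻¹ ∈ S ⊓ Subgroup.centralizer (S : Set Ω)
    rw [h1]
    exact hn
  apply index_eq_prime_of_gen _ ⟨w₀, hw₀Z2⟩
  · intro h
    exact hw₀Z (Subgroup.mem_subgroupOf.mp h)
  · rw [Subgroup.mem_subgroupOf]
    exact hpow
  · intro s
    obtain ⟨i, hi⟩ := hgen s (hZ2A s.2) (abd_Z2_theta x hxS s s.2)
    exact ⟨i, Subgroup.mem_subgroupOf.mpr hi⟩

end AbTheta

end Cfsg.Agent.Lib.Helper27
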