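import Mathlib
import Cfsg.Agent.Lib.Helper27.AbIndexPD

set_option autoImplicit false

namespace Cfsg.Agent.Lib.Helper27

open Cfsg Cfsg.FusionSystem Cfsg.Agent.Lib.Helper26

section AbE

variable {Ω : Type*} [Group Ω] {S : Subgroup Ω}

theorem abd_index_sup [Finite S] (p : ℕ) [Fact p.Prime] (A : Subgroup Ω) (hAS : A ≤ S)
    (hAab : ∀ a ∈ A, ∀ b ∈ A, a * b = b * a)
    (hAn : ∀ s ∈ S, ∀ a ∈ A, s * a * s⁻¹ ∈ A)
    (x : Ω) (hxS : x ∈ S) (hdecS : ∀ s ∈ S, ∃ i : ℕ, s * (x ^ i)⁻¹ ∈ A)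
    (hθ : ∀ a ∈ A, x⁻¹ * (a * x * a⁻¹) ∈ A)
    (hZA : S ⊓ Subgroup.centralizer (S : Set Ω) ≤ A)
    (hcard : Nat.card ↥((S ⊓ Subgroup.centralizer (S : Set Ω)) ⊓
      ((commutator ↥S).map S.subtype)) = p) :
    (((S ⊓ Subgroup.centralizer (S : Set Ω)) ⊔ ((commutator ↥S).map S.subtype)).subgroupOf
      A).index = p := by
  have hp : p.Prime := Fact.out
  have hAfin : Finite A := finite_of_le hAS
  have hker := abd_ker A hAS hAab x hxS hdecS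
  have hS' := abd_comm_eq A hAS hAab hAn x hxS hdecS hθ
  have hS'A : (commutator ↥S).map S.subtype ≤ A := by
    intro c hc
    obtain ⟨a, ha, rfl⟩ := (hS' c).mp hc
    exact hθ a ha
  have hkerA : (abThetaHom A hAab x hθ).ker =
      (S ⊓ Subgroup.centralizer (S : Set Ω)).subgroupOf A := by
    ext a
    rw [MonoidHom.mem_ker, Subgroup.mem_subgroupOf, ← hker (a : Ω) a.2, Subtype.ext_iff]
    rfl
  have hrangeA : (abThetaHom A hAab x hθ).range =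
      ((commutator ↥S).map S.subtype).subgroupOf A := by
    ext c
    rw [MonoidHom.mem_range, Subgroup.mem_subgroupOf, hS']
    constructor
    · rintro ⟨a, rfl⟩
      exact ⟨a, a.2, rfl⟩
    · rintro ⟨a, ha, hc⟩
      exact ⟨⟨a, ha⟩, Subtype.ext hc.symm⟩
  have hnorm : ((S ⊓ Subgroup.centralizer (S : Set Ω)).subgroupOf A).Normal := by
    constructor
    intro n hn g
    have e : g * n * g⁻¹ = n := by
      apply Subtype.ext
      show (g : Ω) * (n : Ω) * (g : Ω)⁻¹ = (n : Ω)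
      rw [hAab _ g.2 _ n.2]
      group
    rw [e]
    exact hn
  have h3 : ((S ⊓ Subgroup.centralizer (S : Set Ω)).subgroupOf A).index =
      Nat.card (((commutator ↥S).map S.subtype).subgroupOf A) := by
    rw [← hkerA, ← hrangeA]
    exact Subgroup.index_ker _
  have h4 := Subgroup.relIndex_mul_index
    (show (S ⊓ Subgroup.centralizer (S : Set Ω)).subgroupOf A ≤
      (S ⊓ Subgroup.centralizer (S : Set Ω)).subgroupOf A ⊔
        ((commutator ↥S).map S.subtype).subgroupOf A from le_sup_left)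
  have h5 : ((S ⊓ Subgroup.centralizer (S : Set Ω)).subgroupOf A).relIndex
      ((S ⊓ Subgroup.centralizer (S : Set Ω)).subgroupOf A ⊔
        ((commutator ↥S).map S.subtype).subgroupOf A) =
      ((S ⊓ Subgroup.centralizer (S : Set Ω)).subgroupOf A).relIndex
        (((commutator ↥S).map S.subtype).subgroupOf A) :=
    Subgroup.relIndex_sup_left _ _
  have h6 : ((S ⊓ Subgroup.centralizer (S : Set Ω)).subgroupOf A).relIndex
        (((commutator ↥S).map S.subtype).subgroupOf A) * p =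
      Nat.card (((commutator ↥S).map S.subtype).subgroupOf A) := by
    rw [← Subgroup.inf_relIndex_right]
    have h7 := Subgroup.card_mul_index
      ((((S ⊓ Subgroup.centralizer (S : Set Ω)).subgroupOf A) ⊓
        (((commutator ↥S).map S.subtype).subgroupOf A)).subgroupOf
          (((commutator ↥S).map S.subtype).subgroupOf A))
    rw [abd_card_sub inf_le_right] at h7
    have h8 : (((S ⊓ Subgroup.centralizer (S : Set Ω)).subgroupOf A) ⊓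
        (((commutator ↥S).map S.subtype).subgroupOf A)) =
        ((S ⊓ Subgroup.centralizer (S : Set Ω)) ⊓
          ((commutator ↥S).map S.subtype)).subgroupOf A := by
      ext a
      rfl
    rw [h8, abd_card_sub (le_trans inf_le_left hZA), hcard] at h7
    rw [← h7, mul_comm]
    rfl
  rw [Subgroup.subgroupOf_sup hZA hS'A]
  rw [h5, h3, ← h6] at h4
  have hr : ((S ⊓ Subgroup.centralizer (S : Set Ω)).subgroupOf A).relIndex
        (((commutator ↥S).map S.subtype).subgroupOf A) ≠ 0 := by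
    intro h0
    rw [h0, zero_mul] at h6
    exact Nat.card_pos.ne' h6.symm
  exact Nat.eq_of_mul_eq_mul_left (Nat.pos_of_ne_zero hr) h4

open scoped commutatorElement in
theorem abd_gamma (A : Subgroup Ω) (hAS : A ≤ S) (hAab : ∀ a ∈ A, ∀ b ∈ A, a * b = b * a)
    (x : Ω) (hxS : x ∈ S) (hθ : ∀ a ∈ A, x⁻¹ * (a * x * a⁻¹) ∈ A) (b : ↥A) (j : ℕ) :
    ((((abThetaHom A hAab x hθ)^[j]) b : ↥A) : Ω) ∈ S.lowerCentralSeries j := by
  induction j with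
  | zero => exact hAS b.2
  | succ j ih =>
    rw [Function.iterate_succ_apply', abThetaHom_coe, Subgroup.lowerCentralSeries_succ]
    have h1 := Subgroup.inv_mem _ (Subgroup.commutator_mem_commutator ih (S.inv_mem hxS))
    rw [commutatorElement_def] at h1
    have e : ∀ c : Ω, x⁻¹ * (c * x * c⁻¹) = (c * x⁻¹ * c⁻¹ * x⁻¹⁻¹)⁻¹ := by
      intro c
      group
    rw [e]
    exact h1

theorem abd_maxclass [Finite S] (p : ℕ) [Fact p.Prime] (A : Subgroup Ω) (hAS : A ≤ S)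
    (hAab : ∀ a ∈ A, ∀ b ∈ A, a * b = b * a) (hidx : (A.subgroupOf S).index = p)
    (x : Ω) (hxS : x ∈ S) (hdecS : ∀ s ∈ S, ∃ i : ℕ, s * (x ^ i)⁻¹ ∈ A)
    (hθ : ∀ a ∈ A, x⁻¹ * (a * x * a⁻¹) ∈ A)
    (hZA : S ⊓ Subgroup.centralizer (S : Set Ω) ≤ A)
    (hP1 : ∀ w ∈ A, x⁻¹ * (w * x * w⁻¹) ∈ S ⊓ Subgroup.centralizer (S : Set Ω) →
      w ∉ S ⊓ Subgroup.centralizer (S : Set Ω) →
      (w ^ p ∈ S ⊓ Subgroup.centralizer (S : Set Ω) ∧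
        ∀ w' ∈ A, x⁻¹ * (w' * x * w'⁻¹) ∈ S ⊓ Subgroup.centralizer (S : Set Ω) →
          ∃ i : ℕ, w' * (w ^ i)⁻¹ ∈ S ⊓ Subgroup.centralizer (S : Set Ω))) :
    ∀ m : ℕ, ((S ⊓ Subgroup.centralizer (S : Set Ω)).subgroupOf S).index = p ^ m → 3 ≤ m →
      ¬ Subgroup.lowerCentralSeries S (m - 2) ≤ (S ⊓ Subgroup.centralizer (S : Set Ω)) := by
  intro m hm h3 hle
  have hp : p.Prime := Fact.out
  have hAfin : Finite A := finite_of_le hAS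
  have hZfin : Finite ↥(S ⊓ Subgroup.centralizer (S : Set Ω)) := finite_of_le inf_le_left
  have hker := abd_ker A hAS hAab x hxS hdecS
  have hk1 : ∀ a : ↥A, a ∈ kch (abThetaHom A hAab x hθ) 1 ↔
      (a : Ω) ∈ S ⊓ Subgroup.centralizer (S : Set Ω) := by
    intro a
    rw [mem_kch_one, ← hker (a : Ω) a.2, Subtype.ext_iff]
    rfl
  have hk2 : ∀ a : ↥A, a ∈ kch (abThetaHom A hAab x hθ) 2 ↔
      x⁻¹ * ((a : Ω) * x * (a : Ω)⁻¹) ∈ S ⊓ Subgroup.centralizer (S : Set Ω) := by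
    intro a
    rw [mem_kch_succ, hk1]
    rfl
  have hstep : KStep p (abThetaHom A hAab x hθ) 1 := by
    intro w hw hw'
    rw [hk2] at hw
    rw [hk1] at hw'
    obtain ⟨h1, h2⟩ := hP1 (w : Ω) w.2 hw hw'
    refine ⟨(hk1 _).mpr h1, fun w' hw'' => ?_⟩
    rw [hk2] at hw''
    obtain ⟨i, hi⟩ := h2 (w' : Ω) w'.2 hw''
    exact ⟨i, (hk1 _).mpr hi⟩
  obtain ⟨k, rfl⟩ : ∃ k, m = k + 3 := ⟨m - 3, by omega⟩
  have e32 : k + 3 - 2 = k + 1 := by omega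
  rw [e32] at hle
  have htop : kch (abThetaHom A hAab x hθ) (k + 1 + 1) = ⊤ := by
    rw [eq_top_iff]
    intro b _
    rw [mem_kch_iterate, hk1]
    exact hle (abd_gamma A hAS hAab x hxS hθ b (k + 1))
  have hle1 := kch_card_le p (abThetaHom A hAab x hθ) hstep (k + 1)
  rw [htop, Subgroup.card_top] at hle1
  have hc1 : Nat.card (kch (abThetaHom A hAab x hθ) 1) =
      Nat.card ↥(S ⊓ Subgroup.centralizer (S : Set Ω)) := by
    have e : kch (abThetaHom A hAab x hθ) 1 =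
        (S ⊓ Subgroup.centralizer (S : Set Ω)).subgroupOf A := by
      ext a
      rw [hk1, Subgroup.mem_subgroupOf]
    rw [e, abd_card_sub hZA]
  rw [hc1] at hle1
  have hS1 := Subgroup.card_mul_index ((S ⊓ Subgroup.centralizer (S : Set Ω)).subgroupOf S)
  rw [hm, abd_card_sub inf_le_left] at hS1
  have hS2 := Subgroup.card_mul_index (A.subgroupOf S)
  rw [hidx, abd_card_sub hAS] at hS2
  have hZpos : 0 < Nat.card ↥(S ⊓ Subgroup.centralizer (S : Set Ω)) := Nat.card_pos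
  have h5 : Nat.card ↥(S ⊓ Subgroup.centralizer (S : Set Ω)) * p ^ (k + 3) ≤
      (p ^ (k + 1) * Nat.card ↥(S ⊓ Subgroup.centralizer (S : Set Ω))) * p := by
    rw [hS1, ← hS2]
    exact Nat.mul_le_mul_right p hle1
  have h7 : Nat.card ↥(S ⊓ Subgroup.centralizer (S : Set Ω)) * p ^ (k + 3) ≤
      Nat.card ↥(S ⊓ Subgroup.centralizer (S : Set Ω)) * p ^ (k + 2) := by
    calc Nat.card ↥(S ⊓ Subgroup.centralizer (S : Set Ω)) * p ^ (k + 3)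
        ≤ (p ^ (k + 1) * Nat.card ↥(S ⊓ Subgroup.centralizer (S : Set Ω))) * p := h5
      _ = Nat.card ↥(S ⊓ Subgroup.centralizer (S : Set Ω)) * p ^ (k + 2) := by ring
  have h6 : p ^ (k + 3) ≤ p ^ (k + 2) := Nat.le_of_mul_le_mul_left h7 hZpos
  have h8 : p ^ (k + 2) < p ^ (k + 3) := Nat.pow_lt_pow_right hp.one_lt (by omega)
  omega

theorem abd_case_ab (p : ℕ) (A P D : Subgroup Ω) (x a₁ : Ω)
    (hAS : A ≤ S) (hPS : P ≤ S)
    (hAab : ∀ a ∈ A, ∀ b ∈ A, a * b = b * a)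
    (hAc : ∀ s ∈ S, ∀ t ∈ S, s * t * s⁻¹ * t⁻¹ ∈ A)
    (hAgenall : ∀ y ∈ S, y ∉ A → ∀ s ∈ S, ∃ i : ℕ, s * (y ^ i)⁻¹ ∈ A)
    (hxP : x ∈ P) (hxA : x ∉ A)
    (hZA : S ⊓ Subgroup.centralizer (S : Set Ω) ≤ A)
    (hZP : S ⊓ Subgroup.centralizer (S : Set Ω) ≤ P)
    (ha₁A : a₁ ∈ A) (ha₁N : a₁ ∈ Subgroup.normalizer (P : Set Ω)) (ha₁P : a₁ ∉ P)
    (hD4 : ∀ a ∈ A, x⁻¹ * (a * x * a⁻¹) ∈ D → a ∈ P)
    (hD5 : ∀ u ∈ P ⊓ A, u ∉ D → ∀ w ∈ P ⊓ A, ∃ i : ℕ, w * (u ^ i)⁻¹ ∈ D)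
    (hD6 : ∀ u ∈ P ⊓ A, u ^ p ∈ D)
    (hPab : ∀ y ∈ P, ∀ w ∈ P, y * w = w * y)
    (hidxN : (P.subgroupOf (S ⊓ Subgroup.normalizer (P : Set Ω))).index = p)
    (hun : (P.subgroupOf S).index = p → False) :
    ((Subgroup.upperCentralSeries ↥S 2).map S.subtype ≤ A) ∧
      (∃ w₀ ∈ A, x⁻¹ * (w₀ * x * w₀⁻¹) ∈ S ⊓ Subgroup.centralizer (S : Set Ω) ∧
        w₀ ∉ S ⊓ Subgroup.centralizer (S : Set Ω)) ∧
      (∀ w ∈ A, x⁻¹ * (w * x * w⁻¹) ∈ S ⊓ Subgroup.centralizer (S : Set Ω) →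
        w ∉ S ⊓ Subgroup.centralizer (S : Set Ω) →
        (w ^ p ∈ S ⊓ Subgroup.centralizer (S : Set Ω) ∧
          ∀ w' ∈ A, x⁻¹ * (w' * x * w'⁻¹) ∈ S ⊓ Subgroup.centralizer (S : Set Ω) →
            ∃ i : ℕ, w' * (w ^ i)⁻¹ ∈ S ⊓ Subgroup.centralizer (S : Set Ω))) := by
  have hxS : x ∈ S := hPS hxP
  have hdecS : ∀ s ∈ S, ∃ i : ℕ, s * (x ^ i)⁻¹ ∈ A := hAgenall x hxS hxA
  have hθA : ∀ a ∈ A, x⁻¹ * (a * x * a⁻¹) ∈ A := by
    intro a ha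
    have h1 := hAc x⁻¹ (S.inv_mem hxS) a (hAS ha)
    rw [inv_inv] at h1
    have e : x⁻¹ * (a * x * a⁻¹) = x⁻¹ * a * x * a⁻¹ := by group
    rw [e]
    exact h1
  have hcentral := abd_central A hAS hAab x hdecS
  have hP0Z : P ⊓ A ≤ S ⊓ Subgroup.centralizer (S : Set Ω) :=
    fun d hd => hcentral d hd.2 (hPab d hd.1 x hxP)
  have hZP0 : S ⊓ Subgroup.centralizer (S : Set Ω) ≤ P ⊓ A := fun z hz => ⟨hZP hz, hZA hz⟩
  have hu : x⁻¹ * (a₁ * x * a₁⁻¹) ∈ P ⊓ A :=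
    ⟨P.mul_mem (P.inv_mem hxP) ((Subgroup.mem_normalizer_iff.mp ha₁N x).mp hxP), hθA a₁ ha₁A⟩
  refine ⟨?_, ⟨a₁, ha₁A, hP0Z hu, fun h => ha₁P (hZP h)⟩, ?_⟩
  · intro z hz
    by_contra hzA
    have hall := abd_all_theta_Z A hAS hAab hAgenall x hxS z hz hzA
    have hconjA : ∀ a ∈ A, ∀ y ∈ P, a * y * a⁻¹ ∈ P := by
      intro a ha y hy
      obtain ⟨j, hj⟩ := hdecS y (hPS hy)
      have hb := beta_mem (S ⊓ Subgroup.centralizer (S : Set Ω)) x a (fun w hw => by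
        have h1 := abd_Zconj w hw x⁻¹ (S.inv_mem hxS)
        rw [inv_inv] at h1
        rw [h1]
        exact hw) (hall a ha) j
      have hcomm : a * (y * (x ^ j)⁻¹) = (y * (x ^ j)⁻¹) * a := hAab _ ha _ hj
      have e : a * y * a⁻¹ = y * ((x ^ j)⁻¹ * (a * x ^ j * a⁻¹)) := by
        calc a * y * a⁻¹ = (a * (y * (x ^ j)⁻¹)) * x ^ j * a⁻¹ := by group
          _ = ((y * (x ^ j)⁻¹) * a) * x ^ j * a⁻¹ := by rw [hcomm]
          _ = y * ((x ^ j)⁻¹ * (a * x ^ j * a⁻¹)) := by group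
      rw [e]
      exact P.mul_mem hy (hZP hb)
    have hconj : ∀ s ∈ S, ∀ y ∈ P, s * y * s⁻¹ ∈ P := by
      intro s hs y hy
      obtain ⟨i, hi⟩ := hdecS s hs
      have e : s * y * s⁻¹ = (s * (x ^ i)⁻¹) * (x ^ i * y * (x ^ i)⁻¹) * (s * (x ^ i)⁻¹)⁻¹ := by
        group
      rw [e]
      exact hconjA _ hi _ (P.mul_mem (P.mul_mem (P.pow_mem hxP i) hy)
        (P.inv_mem (P.pow_mem hxP i)))
    have hSN : S ⊓ Subgroup.normalizer (P : Set Ω) = S := by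
      apply inf_eq_left.mpr
      intro s hs
      rw [Subgroup.mem_normalizer_iff]
      intro h
      constructor
      · exact hconj s hs h
      · intro hh
        have h1 := hconj s⁻¹ (S.inv_mem hs) _ hh
        have e : s⁻¹ * (s * h * s⁻¹) * s⁻¹⁻¹ = h := by group
        rwa [e] at h1
    rw [hSN] at hidxN
    exact hun hidxN
  · intro w hwA hwθ hwZ
    have hwθ' : x⁻¹ * (w * x * w⁻¹) ∈ P ⊓ A := hZP0 hwθ
    have hwD : x⁻¹ * (w * x * w⁻¹) ∉ D := fun h => hwZ (hP0Z ⟨hD4 w hwA h, hwA⟩)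
    refine ⟨?_, ?_⟩
    · apply hP0Z
      refine ⟨hD4 _ (A.pow_mem hwA p) ?_, A.pow_mem hwA p⟩
      rw [abx_theta_pow A hAab x hθA w hwA p]
      exact hD6 _ hwθ'
    · intro w' hw'A hw'θ
      obtain ⟨i, hi⟩ := hD5 _ hwθ' hwD _ (hZP0 hw'θ)
      refine ⟨i, hP0Z ⟨hD4 _ (A.mul_mem hw'A (A.inv_mem (A.pow_mem hwA i))) ?_,
        A.mul_mem hw'A (A.inv_mem (A.pow_mem hwA i))⟩⟩
      rw [abx_theta_mul_inv A hAab x hθA _ _ hw'A (A.pow_mem hwA i),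
        abx_theta_pow A hAab x hθA w hwA i]
      exact hi

theorem abd_case_nonab (p : ℕ) (A P D : Subgroup Ω) (x u : Ω)
    (hAS : A ≤ S) (hPS : P ≤ S)
    (hAab : ∀ a ∈ A, ∀ b ∈ A, a * b = b * a)
    (hAgenall : ∀ y ∈ S, y ∉ A → ∀ s ∈ S, ∃ i : ℕ, s * (y ^ i)⁻¹ ∈ A)
    (hxP : x ∈ P) (hxA : x ∉ A)
    (hZP : S ⊓ Subgroup.centralizer (S : Set Ω) ≤ P)
    (hPne : ∃ s ∈ S, s ∉ P)
    (hu : u ∈ P ⊓ A) (huD : u ∉ D)
    (hD1 : D ≤ P ⊓ A)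
    (hD3 : ∀ y ∈ P, ∀ w ∈ P, y * w * y⁻¹ * w⁻¹ ∈ D)
    (hD4 : ∀ a ∈ A, x⁻¹ * (a * x * a⁻¹) ∈ D → a ∈ P)
    (hD5 : ∀ u ∈ P ⊓ A, u ∉ D → ∀ w ∈ P ⊓ A, ∃ i : ℕ, w * (u ^ i)⁻¹ ∈ D)
    (hD6 : ∀ u ∈ P ⊓ A, u ^ p ∈ D)
    (hD7 : (∀ y ∈ P, (∀ w ∈ P, y * w = w * y) → y ∈ A) →
      ∀ z ∈ P, (∀ w ∈ P, z * w = w * z) → z ∈ D)
    (hD8 : ∀ u ∈ P ⊓ A, u ∉ D → ∀ w ∈ D, ∀ y ∈ P, w * y = y * w)
    (hPab : ¬ ∀ y ∈ P, ∀ w ∈ P, y * w = w * y) :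
    ((Subgroup.upperCentralSeries ↥S 2).map S.subtype ≤ A) ∧
      (∃ w₀ ∈ A, x⁻¹ * (w₀ * x * w₀⁻¹) ∈ S ⊓ Subgroup.centralizer (S : Set Ω) ∧
        w₀ ∉ S ⊓ Subgroup.centralizer (S : Set Ω)) ∧
      (∀ w ∈ A, x⁻¹ * (w * x * w⁻¹) ∈ S ⊓ Subgroup.centralizer (S : Set Ω) →
        w ∉ S ⊓ Subgroup.centralizer (S : Set Ω) →
        (w ^ p ∈ S ⊓ Subgroup.centralizer (S : Set Ω) ∧
          ∀ w' ∈ A, x⁻¹ * (w' * x * w'⁻¹) ∈ S ⊓ Subgroup.centralizer (S : Set Ω) →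
            ∃ i : ℕ, w' * (w ^ i)⁻¹ ∈ S ⊓ Subgroup.centralizer (S : Set Ω))) := by
  have hxS : x ∈ S := hPS hxP
  have hdecS : ∀ s ∈ S, ∃ i : ℕ, s * (x ^ i)⁻¹ ∈ A := hAgenall x hxS hxA
  have hcentral := abd_central A hAS hAab x hdecS
  have hcenA : ∀ y ∈ P, (∀ w ∈ P, y * w = w * y) → y ∈ A := by
    intro y hy hyc
    by_contra hyA
    apply hPab
    have hdy := hAgenall y (hPS hy) hyA
    intro w hw w' hw'
    obtain ⟨i, hi⟩ := hdy w (hPS hw)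
    obtain ⟨j, hj⟩ := hdy w' (hPS hw')
    exact abx_comm_of_central A hAab y w w' i j hi hj
      (hyc _ (P.mul_mem hw' (P.inv_mem (P.pow_mem hy j))))
      (hyc _ (P.mul_mem hw (P.inv_mem (P.pow_mem hy i))))
  have hcenD := hD7 hcenA
  have hZD : S ⊓ Subgroup.centralizer (S : Set Ω) ≤ D := by
    intro z hz
    apply hcenD z (hZP hz)
    intro w hw
    exact (((abx_mem_Z).mp hz).2 w (hPS hw)).symm
  have hDZ : D ≤ S ⊓ Subgroup.centralizer (S : Set Ω) := by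
    intro w hw
    exact hcentral w (hD1 hw).2 (hD8 u hu huD w hw x hxP)
  refine ⟨?_, ⟨u, hu.2, ?_, fun h => huD (hZD h)⟩, ?_⟩
  · intro z hz
    by_contra hzA
    have hall := abd_all_theta_Z A hAS hAab hAgenall x hxS z hz hzA
    obtain ⟨s, hsS, hsP⟩ := hPne
    apply hsP
    obtain ⟨i, hi⟩ := hdecS s hsS
    have e : s = (s * (x ^ i)⁻¹) * x ^ i := by group
    rw [e]
    exact P.mul_mem (hD4 _ hi (hZD (hall _ hi))) (P.pow_mem hxP i)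
  · apply hDZ
    have h1 := hD3 x⁻¹ (P.inv_mem hxP) u hu.1
    rw [inv_inv] at h1
    have e : x⁻¹ * (u * x * u⁻¹) = x⁻¹ * u * x * u⁻¹ := by group
    rw [e]
    exact h1
  · intro w hwA hwθ hwZ
    have hwP : w ∈ P := hD4 w hwA (hZD hwθ)
    have hwD : w ∉ D := fun h => hwZ (hDZ h)
    refine ⟨hDZ (hD6 w ⟨hwP, hwA⟩), fun w' hw'A hw'θ => ?_⟩
    obtain ⟨i, hi⟩ := hD5 w ⟨hwP, hwA⟩ hwD w' ⟨hD4 w' hw'A (hZD hw'θ), hw'A⟩
    exact ⟨i, hDZ hi⟩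

theorem abd_struct [Finite S] (p : ℕ) [Fact p.Prime] (hS : IsPGroup p S) (F : FusionSystem S)
    (hF : F.IsSaturated p) (hna : ¬ ∀ s ∈ S, ∀ t ∈ S, s * t = t * s) (A : Subgroup Ω)
    (hAS : A ≤ S) (hAab : ∀ a ∈ A, ∀ b ∈ A, a * b = b * a)
    (hidx : (A.subgroupOf S).index = p)
    (huniq : ∀ B : Subgroup Ω, B ≤ S → (∀ a ∈ B, ∀ b ∈ B, a * b = b * a) →
      (B.subgroupOf S).index = p → B = A)
    (P : Subgroup Ω) (hP : F.IsEssential p P) (hPA : P ≠ A) :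
    ∃ x ∈ S, x ∉ A ∧ ((Subgroup.upperCentralSeries ↥S 2).map S.subtype ≤ A) ∧
      (∃ w₀ ∈ A, x⁻¹ * (w₀ * x * w₀⁻¹) ∈ S ⊓ Subgroup.centralizer (S : Set Ω) ∧
        w₀ ∉ S ⊓ Subgroup.centralizer (S : Set Ω)) ∧
      (∀ w ∈ A, x⁻¹ * (w * x * w⁻¹) ∈ S ⊓ Subgroup.centralizer (S : Set Ω) →
        w ∉ S ⊓ Subgroup.centralizer (S : Set Ω) →
        (w ^ p ∈ S ⊓ Subgroup.centralizer (S : Set Ω) ∧
          ∀ w' ∈ A, x⁻¹ * (w' * x * w'⁻¹) ∈ S ⊓ Subgroup.centralizer (S : Set Ω) →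
            ∃ i : ℕ, w' * (w ^ i)⁻¹ ∈ S ⊓ Subgroup.centralizer (S : Set Ω))) := by
  have hPS : P ≤ S := hP.1.1
  obtain ⟨hAn, hAc, hApow, hAgen⟩ := abIndex_facts p hS A hAS hidx
  have hcen : centralizerIn S P ≤ P := hP.1.2 P (Fusion.isConj_refl F hPS)
  obtain ⟨x, hxP, hxA⟩ : ∃ x ∈ P, x ∉ A := by
    by_contra h
    push Not at h
    apply hPA
    apply le_antisymm h
    intro a ha
    apply hcen
    refine ⟨hAS ha, ?_⟩
    show a ∈ Subgroup.centralizer (P : Set Ω)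
    rw [Subgroup.mem_centralizer_iff]
    intro y hy
    exact hAab y (h y hy) a ha
  have hxS : x ∈ S := hPS hxP
  obtain ⟨D, hD1, -, hD3, hD4, hD5, hD6, hD7, hD8⟩ :=
    abIndex_core p hS F hF A hAS hAab hidx P hP x hxP hxA
  obtain ⟨s₁, hs₁S, hs₁N, hs₁P⟩ := essential_exists_normalizer p hS F hF hP
  obtain ⟨a₁, ha₁A, ha₁N, ha₁P⟩ :
      ∃ a₁ ∈ A, a₁ ∈ Subgroup.normalizer (P : Set Ω) ∧ a₁ ∉ P := by
    obtain ⟨i, hi⟩ := hAgen x hxS hxA s₁ hs₁S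
    refine ⟨s₁ * (x ^ i)⁻¹, hi, Subgroup.mul_mem _ hs₁N
      (Subgroup.inv_mem _ (Subgroup.le_normalizer (P.pow_mem hxP i))), ?_⟩
    intro h
    apply hs₁P
    have e : s₁ = (s₁ * (x ^ i)⁻¹) * x ^ i := by group
    rw [e]
    exact P.mul_mem h (P.pow_mem hxP i)
  have hZP : S ⊓ Subgroup.centralizer (S : Set Ω) ≤ P := by
    intro z hz
    apply hcen
    refine ⟨hz.1, ?_⟩
    have hz2 : z ∈ Subgroup.centralizer (S : Set Ω) := hz.2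
    show z ∈ Subgroup.centralizer (P : Set Ω)
    rw [Subgroup.mem_centralizer_iff] at hz2 ⊢
    intro y hy
    exact hz2 y (hPS hy)
  have hZA := abx_Z_le A hAab hAgen hna
  have hu : x⁻¹ * (a₁ * x * a₁⁻¹) ∈ P ⊓ A := by
    refine ⟨P.mul_mem (P.inv_mem hxP) ((Subgroup.mem_normalizer_iff.mp ha₁N x).mp hxP), ?_⟩
    have h1 := hAc x⁻¹ (S.inv_mem hxS) a₁ (hAS ha₁A)
    rw [inv_inv] at h1
    have e : x⁻¹ * (a₁ * x * a₁⁻¹) = x⁻¹ * a₁ * x * a₁⁻¹ := by group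
    rw [e]
    exact h1
  have huD : x⁻¹ * (a₁ * x * a₁⁻¹) ∉ D := fun h => ha₁P (hD4 _ ha₁A h)
  refine ⟨x, hxS, hxA, ?_⟩
  by_cases hPab : ∀ y ∈ P, ∀ w ∈ P, y * w = w * y
  · exact abd_case_ab p A P D x a₁ hAS hPS hAab hAc hAgen hxP hxA hZA hZP ha₁A ha₁N ha₁P
      hD4 hD5 hD6 hPab (abx_essential p hS F hF A hAS hAab hidx P hP).2
      (fun h => hPA (huniq P hPS hPab h))
  · exact abd_case_nonab p A P D x _ hAS hPS hAab hAgen hxP hxA hZP ⟨s₁, hs₁S, hs₁P⟩ hu huD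
      hD1 hD3 hD4 hD5 hD6 hD7 hD8 hPab

theorem abd_result [Finite S] (p : ℕ) [Fact p.Prime] (hS : IsPGroup p S) (F : FusionSystem S)
    (hF : F.IsSaturated p) (hna : ¬ ∀ s ∈ S, ∀ t ∈ S, s * t = t * s) (A : Subgroup Ω)
    (hAS : A ≤ S) (hAab : ∀ a ∈ A, ∀ b ∈ A, a * b = b * a)
    (hidx : (A.subgroupOf S).index = p)
    (huniq : ∀ B : Subgroup Ω, B ≤ S → (∀ a ∈ B, ∀ b ∈ B, a * b = b * a) →
      (B.subgroupOf S).index = p → B = A)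
    (P : Subgroup Ω) (hP : F.IsEssential p P) (hPA : P ≠ A) :
    ((Subgroup.upperCentralSeries ↥S 2).map S.subtype) ≤ A ∧
    Nat.card ↥((S ⊓ Subgroup.centralizer (S : Set Ω)) ⊓ ((commutator ↥S).map S.subtype)) = p ∧
    (((S ⊓ Subgroup.centralizer (S : Set Ω)) ⊔ ((commutator ↥S).map S.subtype)).subgroupOf
      A).index = p ∧
    (((S ⊓ Subgroup.centralizer (S : Set Ω))).subgroupOf
      ((Subgroup.upperCentralSeries ↥S 2).map S.subtype)).index = p ∧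
    ∀ m : ℕ, ((S ⊓ Subgroup.centralizer (S : Set Ω)).subgroupOf S).index = p ^ m → 3 ≤ m →
      ¬ Subgroup.lowerCentralSeries S (m - 2) ≤ (S ⊓ Subgroup.centralizer (S : Set Ω)) := by
  obtain ⟨x, hxS, hxA, hZ2A, ⟨w₀, hw₀A, hw₀θ, hw₀Z⟩, hP1⟩ :=
    abd_struct p hS F hF hna A hAS hAab hidx huniq P hP hPA
  obtain ⟨hAn, hAc, hApow, hAgen⟩ := abIndex_facts p hS A hAS hidx
  have hdecS := hAgen x hxS hxA
  have hθA : ∀ a ∈ A, x⁻¹ * (a * x * a⁻¹) ∈ A := by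
    intro a ha
    have h1 := hAc x⁻¹ (S.inv_mem hxS) a (hAS ha)
    rw [inv_inv] at h1
    have e : x⁻¹ * (a * x * a⁻¹) = x⁻¹ * a * x * a⁻¹ := by group
    rw [e]
    exact h1
  have hZA := abx_Z_le A hAab hAgen hna
  have h2 := abd_card_inf p A hAS hAab hAn x hxS hdecS hθA w₀ hw₀A hw₀θ hw₀Z hP1
  exact ⟨hZ2A, h2, abd_index_sup p A hAS hAab hAn x hxS hdecS hθA hZA h2,
    abd_index_Z2 p A hAS hAab x hxS hdecS hZ2A w₀ hw₀A hw₀θ hw₀Z hP1,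
    abd_maxclass p A hAS hAab hidx x hxS hdecS hθA hZA hP1⟩

end AbE

end Cfsg.Agent.Lib.Helper27
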