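import Mathlib

set_option autoImplicit false

namespace Cfsg.Agent.Lib.Helper27

section AbF

variable {X : Type*} [Group X]

theorem abf_pow_transv (σ : MulAut X) (v w : X) (c : ℕ) (hv : σ v = v * w ^ c) (hw : σ w = w)
    (n : ℕ) : (σ ^ n) v = v * w ^ (c * n) := by
  induction n with
  | zero => simp
  | succ n ih =>
    rw [pow_succ', MulAut.mul_apply, ih, map_mul, map_pow, hw, hv, mul_assoc, ← pow_add]
    congr 2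
    ring

theorem abf_pow_fix (σ : MulAut X) (d : X) (h : σ d = d) (n : ℕ) : (σ ^ n) d = d := by
  induction n with
  | zero => simp
  | succ n ih => rw [pow_succ', MulAut.mul_apply, ih, h]

theorem abf_normalize {p : ℕ} [Fact p.Prime] (σ : MulAut X) (v w : X) (c : ℕ)
    (hv : σ v = v * w ^ c) (hw : σ w = w) (hwp : w ^ p = 1) (hc : ¬ p ∣ c) :
    ∃ b : ℕ, (σ ^ b) v = v * w := by
  have hp : p.Prime := Fact.out
  have hcop : Nat.Coprime c p := (Nat.Coprime.symm ((Nat.Prime.coprime_iff_not_dvd hp).mpr hc))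
  obtain ⟨b, -, hb⟩ := Nat.exists_mul_mod_eq_one_of_coprime hcop hp.one_lt
  refine ⟨b, ?_⟩
  rw [abf_pow_transv σ v w c hv hw b, pow_eq_pow_mod (c * b) hwp, hb, pow_one]

theorem abf_rearr (hc : ∀ a b : X, a * b = b * a) (a b : X) (m : ℕ) :
    (a * b ^ m) * (b * (a * b ^ m)) = a ^ 2 * b ^ (2 * m + 1) := by
  have h1 : b ^ m * (b * (a * b ^ m)) = a * b ^ (2 * m + 1) := by
    calc b ^ m * (b * (a * b ^ m)) = b ^ m * (b * (b ^ m * a)) := by rw [hc a (b ^ m)]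
      _ = (b ^ m * b * b ^ m) * a := by simp only [mul_assoc]
      _ = b ^ (2 * m + 1) * a := by
        rw [← pow_succ, ← pow_add]
        congr 2
        ring
      _ = a * b ^ (2 * m + 1) := hc _ _
  rw [mul_assoc, h1, ← mul_assoc, ← pow_two]

/-- The abstract transvection argument: two conjugate transvections on an abelian group generate
a torus element, and the common fixed points form an invariant complement. -/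
theorem abf_main {p : ℕ} [Fact p.Prime] (hp2 : p ≠ 2) (hc : ∀ a b : X, a * b = b * a)
    (Zs : Subgroup X) (hgen : ∀ y : X, y ∉ Zs → ∀ w : X, ∃ i : ℕ, w * (y ^ i)⁻¹ ∈ Zs)
    (e₁ : X) (he₁Z : e₁ ∈ Zs) (he₁p : e₁ ^ p = 1)
    (τ : MulAut X) (hτ1 : ∀ z ∈ Zs, τ z = z) (hτ2 : ∀ y : X, ∃ i : ℕ, τ y = y * e₁ ^ i)
    (hτ3 : ∀ y : X, τ y = y → y ∈ Zs)
    (G : Subgroup (MulAut X)) (hτG : τ ∈ G) (g : MulAut X) (hgG : g ∈ G) (hg : g e₁ ∉ Zs)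
    (hPW : ∀ k ∈ G, k e₁ ∈ Zs → ∀ z : X, k z ∈ Zs ↔ z ∈ Zs) :
    ∃ D : Subgroup X, D ≤ Zs ∧ (∀ k ∈ G, ∀ d ∈ D, k d ∈ D) ∧
      (∀ z ∈ Zs, ∃ i : ℕ, z * (e₁ ^ i)⁻¹ ∈ D) ∧
      ∃ h ∈ G, (∀ d ∈ D, h d = d) ∧ h e₁ = e₁ ^ 2 := by
  have hp : p.Prime := Fact.out
  have hg' : g⁻¹ e₁ ∉ Zs := by
    intro h
    have h1 := hPW g⁻¹ (G.inv_mem hgG) h
    have h2 := (h1 (g e₁)).mp (by rw [MulAut.inv_apply_self]; exact he₁Z)
    exact hg h2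
  obtain ⟨e₂, he₂⟩ : ∃ e₂ : X, e₂ = g e₁ := ⟨_, rfl⟩
  have he₂Z : e₂ ∉ Zs := by rw [he₂]; exact hg
  have he₂p : e₂ ^ p = 1 := by rw [he₂, ← map_pow, he₁p, map_one]
  obtain ⟨τ', hτ'⟩ : ∃ τ' : MulAut X, τ' = g * τ * g⁻¹ := ⟨_, rfl⟩
  have hτ'G : τ' ∈ G := by
    rw [hτ']
    exact G.mul_mem (G.mul_mem hgG hτG) (G.inv_mem hgG)
  have hτ'app : ∀ y : X, τ' y = g (τ (g⁻¹ y)) := by
    intro y
    rw [hτ']
    rfl
  have hτ'e₂ : τ' e₂ = e₂ := by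
    rw [hτ'app, he₂, MulAut.inv_apply_self, hτ1 e₁ he₁Z]
  have hτ'D : ∀ d : X, g⁻¹ d ∈ Zs → τ' d = d := by
    intro d hd
    rw [hτ'app, hτ1 _ hd, MulAut.apply_inv_self]
  obtain ⟨c', hc'⟩ := hτ2 (g⁻¹ e₁)
  have hτ'e₁ : τ' e₁ = e₁ * e₂ ^ c' := by
    rw [hτ'app, hc', map_mul, MulAut.apply_inv_self, map_pow, he₂]
  have hc'p : ¬ p ∣ c' := by
    intro hdvd
    apply hg'
    apply hτ3
    rw [hc']
    obtain ⟨m, rfl⟩ := hdvd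
    rw [pow_mul, he₁p, one_pow, mul_one]
  obtain ⟨c, hcc⟩ := hτ2 e₂
  have hcp : ¬ p ∣ c := by
    intro hdvd
    apply he₂Z
    apply hτ3
    rw [hcc]
    obtain ⟨m, rfl⟩ := hdvd
    rw [pow_mul, he₁p, one_pow, mul_one]
  obtain ⟨b₁, hb₁⟩ := abf_normalize τ e₂ e₁ c hcc (hτ1 e₁ he₁Z) he₁p hcp
  obtain ⟨b₂, hb₂⟩ := abf_normalize τ' e₁ e₂ c' hτ'e₁ hτ'e₂ he₂p hc'p
  obtain ⟨τ₁, hτ₁⟩ : ∃ τ₁ : MulAut X, τ₁ = τ ^ b₁ := ⟨_, rfl⟩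
  obtain ⟨τ₂, hτ₂⟩ : ∃ τ₂ : MulAut X, τ₂ = τ' ^ b₂ := ⟨_, rfl⟩
  rw [← hτ₁] at hb₁
  rw [← hτ₂] at hb₂
  have hτ₁G : τ₁ ∈ G := by rw [hτ₁]; exact G.pow_mem hτG b₁
  have hτ₂G : τ₂ ∈ G := by rw [hτ₂]; exact G.pow_mem hτ'G b₂
  have hτ₁Z : ∀ z ∈ Zs, τ₁ z = z := by
    intro z hz
    rw [hτ₁]
    exact abf_pow_fix τ z (hτ1 z hz) b₁
  have hτ₂D : ∀ d : X, g⁻¹ d ∈ Zs → τ₂ d = d := by
    intro d hd
    rw [hτ₂]
    exact abf_pow_fix τ' d (hτ'D d hd) b₂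
  have hτ₂e₂ : τ₂ e₂ = e₂ := by
    rw [hτ₂]
    exact abf_pow_fix τ' e₂ hτ'e₂ b₂
  have hτ₂pow : ∀ i : ℕ, (τ₂ ^ i) e₁ = e₁ * e₂ ^ i := by
    intro i
    have h1 := abf_pow_transv τ₂ e₁ e₂ 1 (by rw [pow_one]; exact hb₂) hτ₂e₂ i
    rwa [one_mul] at h1
  have hL1 : ∀ k ∈ G, ∀ d : X, d ∈ Zs → g⁻¹ d ∈ Zs → k d ∈ Zs := by
    intro k hk d hd hgd
    by_cases hke : k e₂ ∈ Zs
    · have h1 := hPW (k * g) (G.mul_mem hk hgG) (by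
        show k (g e₁) ∈ Zs
        rw [← he₂]
        exact hke)
      have h2 := (h1 (g⁻¹ d)).mpr hgd
      have e : (k * g) (g⁻¹ d) = k d := by
        show k (g (g⁻¹ d)) = k d
        rw [MulAut.apply_inv_self]
      rwa [e] at h2
    · obtain ⟨i, hi⟩ := hgen (k e₂) hke (k e₁)⁻¹
      have h3 : k (e₁ * e₂ ^ i) ∈ Zs := by
        have h4 := Zs.inv_mem hi
        have e : ((k e₁)⁻¹ * ((k e₂) ^ i)⁻¹)⁻¹ = k (e₁ * e₂ ^ i) := by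
          rw [map_mul, map_pow, mul_inv_rev, inv_inv, inv_inv]
          exact hc _ _
        rwa [e] at h4
      have h1 := hPW (k * τ₂ ^ i) (G.mul_mem hk (G.pow_mem hτ₂G i)) (by
        show k ((τ₂ ^ i) e₁) ∈ Zs
        rw [hτ₂pow]
        exact h3)
      have h2 := (h1 d).mpr hd
      have e : (k * τ₂ ^ i) d = k d := by
        show k ((τ₂ ^ i) d) = k d
        rw [abf_pow_fix τ₂ d (hτ₂D d hgd) i]
      rwa [e] at h2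
  obtain ⟨D, hD⟩ : ∃ D : Subgroup X, ∀ d : X, d ∈ D ↔ d ∈ Zs ∧ g⁻¹ d ∈ Zs :=
    ⟨Zs ⊓ Zs.comap (g⁻¹ : MulAut X).toMonoidHom, fun d => by
      rw [Subgroup.mem_inf, Subgroup.mem_comap]
      rfl⟩
  refine ⟨D, fun d hd => ((hD d).mp hd).1, ?_, ?_, ?_⟩
  · intro k hk d hd
    obtain ⟨h1, h2⟩ := (hD d).mp hd
    rw [hD]
    refine ⟨hL1 k hk d h1 h2, ?_⟩
    exact hL1 (g⁻¹ * k) (G.mul_mem (G.inv_mem hgG) hk) d h1 h2
  · intro z hz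
    obtain ⟨i, hi⟩ := hgen (g⁻¹ e₁) hg' (g⁻¹ z)
    refine ⟨i, ?_⟩
    rw [hD]
    refine ⟨Zs.mul_mem hz (Zs.inv_mem (Zs.pow_mem he₁Z i)), ?_⟩
    rw [map_mul, map_inv, map_pow]
    exact hi
  · obtain ⟨m, hm⟩ : ∃ m : ℕ, p = 2 * m + 1 := by
      rcases hp.eq_two_or_odd' with h | h
      · exact absurd h hp2
      · exact h
    refine ⟨τ₂ ^ m * τ₁ * τ₂, G.mul_mem (G.mul_mem (G.pow_mem hτ₂G m) hτ₁G) hτ₂G, ?_, ?_⟩
    · intro d hd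
      obtain ⟨h1, h2⟩ := (hD d).mp hd
      show (τ₂ ^ m) (τ₁ (τ₂ d)) = d
      rw [hτ₂D d h2, hτ₁Z d h1, abf_pow_fix τ₂ d (hτ₂D d h2) m]
    · show (τ₂ ^ m) (τ₁ (τ₂ e₁)) = e₁ ^ 2
      rw [hb₂, map_mul, hτ₁Z e₁ he₁Z, hb₁, map_mul, map_mul, hτ₂pow, abf_pow_fix τ₂ e₂ hτ₂e₂ m,
        abf_rearr hc e₁ e₂ m, ← hm, he₂p, mul_one]

/-- Properties of the torus element. -/
theorem abf_torus (Zs D : Subgroup X)
    (e₁ : X) (he₁Z : e₁ ∈ Zs)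
    (hdec : ∀ z ∈ Zs, ∃ i : ℕ, z * (e₁ ^ i)⁻¹ ∈ D) (h : MulAut X) (hD : ∀ d ∈ D, h d = d)
    (he : h e₁ = e₁ ^ 2) :
    (∀ z ∈ Zs, h z ∈ Zs ∧ z⁻¹ * h z ∈ Subgroup.zpowers e₁) ∧ (∀ z ∈ Zs, h z = z → z ∈ D) ∧
    (∀ v ∈ D, v ∈ Subgroup.zpowers e₁ → v = 1) := by
  have key : ∀ z ∈ Zs, ∃ i : ℕ, z * (e₁ ^ i)⁻¹ ∈ D ∧ h z = z * e₁ ^ i := by
    intro z hz
    obtain ⟨i, hi⟩ := hdec z hz
    refine ⟨i, hi, ?_⟩
    have e : z = (z * (e₁ ^ i)⁻¹) * e₁ ^ i := by group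
    have h1 : h z = h (z * (e₁ ^ i)⁻¹) * (h e₁) ^ i := by
      conv_lhs => rw [e]
      rw [map_mul, map_pow]
    rw [h1, hD _ hi, he, ← pow_mul, two_mul, pow_add]
    group
  refine ⟨?_, ?_, ?_⟩
  · intro z hz
    obtain ⟨i, -, hi⟩ := key z hz
    rw [hi]
    refine ⟨Zs.mul_mem hz (Zs.pow_mem he₁Z i), ?_⟩
    rw [inv_mul_cancel_left]
    exact Subgroup.pow_mem _ (Subgroup.mem_zpowers e₁) i
  · intro z hz hfix
    obtain ⟨i, hiD, hi⟩ := key z hz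
    rw [hfix] at hi
    have h1 : e₁ ^ i = 1 := by
      have h2 : z * 1 = z * e₁ ^ i := by rw [mul_one]; exact hi
      exact (mul_left_cancel h2).symm
    rw [h1, inv_one, mul_one] at hiD
    exact hiD
  · intro v hvD hv
    obtain ⟨j, rfl⟩ := Subgroup.mem_zpowers_iff.mp hv
    have h1 := hD _ hvD
    rw [map_zpow, he, ← zpow_natCast e₁ 2, ← zpow_mul, mul_comm, zpow_mul, zpow_natCast,
      pow_two] at h1
    exact mul_left_cancel (h1.trans (mul_one _).symm)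

end AbF

end Cfsg.Agent.Lib.Helper27
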