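import Mathlib
import Cfsg.Agent.Lib.Helper27.AbIndexPE
import Cfsg.Agent.Lib.Helper27.AbIndexPF

set_option autoImplicit false

namespace Cfsg.Agent.Lib.Helper27

open Cfsg Cfsg.FusionSystem Cfsg.Agent.Lib.Helper26

section AbG

variable {Ω : Type*} [Group Ω] {S : Subgroup Ω}

theorem abg_pow_card {G : Type*} [Group G] (p : ℕ) (H : Subgroup G) (hH : Nat.card ↥H = p)
    (u : G) (hu : u ∈ H) : u ^ p = 1 := by
  have h1 := pow_card_eq_one' (G := ↥H) (x := ⟨u, hu⟩)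
  rw [hH] at h1
  exact congrArg Subtype.val h1

theorem abg_basic (A : Subgroup Ω) (hAS : A ≤ S) (hAab : ∀ a ∈ A, ∀ b ∈ A, a * b = b * a)
    (x : Ω) (hxS : x ∈ S) (hdecS : ∀ s ∈ S, ∃ i : ℕ, s * (x ^ i)⁻¹ ∈ A) {p : ℕ} (hxp : x ^ p ∈ A)
    (P : Subgroup Ω) (hPdef : P = (S ⊓ Subgroup.centralizer (S : Set Ω)) ⊔ Subgroup.zpowers x) :
    (∀ y ∈ P, y * x = x * y) ∧ (∀ y ∈ P, ∀ y' ∈ P, y * y' = y' * y) ∧
    (∀ y ∈ P, y ∈ A → y ∈ S ⊓ Subgroup.centralizer (S : Set Ω)) ∧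
    (∀ y ∈ P, ∃ i : ℕ, y * (x ^ i)⁻¹ ∈ S ⊓ Subgroup.centralizer (S : Set Ω)) ∧
    x ^ p ∈ S ⊓ Subgroup.centralizer (S : Set Ω) := by
  have hxP : x ∈ P := by
    rw [hPdef]
    exact Subgroup.mem_sup_right (Subgroup.mem_zpowers x)
  have hPS : P ≤ S := by
    rw [hPdef]
    exact sup_le inf_le_left (Subgroup.zpowers_le.mpr hxS)
  have hPx : ∀ y ∈ P, y * x = x * y := by
    have hle : P ≤ Subgroup.centralizer ({x} : Set Ω) := by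
      rw [hPdef]
      apply sup_le
      · intro z hz
        rw [Subgroup.mem_centralizer_iff]
        intro h hh
        rw [Set.mem_singleton_iff] at hh
        rw [hh]
        exact ((abx_mem_Z).mp hz).2 x hxS
      · rw [Subgroup.zpowers_le, Subgroup.mem_centralizer_iff]
        intro h hh
        rw [Set.mem_singleton_iff] at hh
        rw [hh]
    intro y hy
    exact (Subgroup.mem_centralizer_iff.mp (hle hy) x (Set.mem_singleton x)).symm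
  have hPab : ∀ y ∈ P, ∀ y' ∈ P, y * y' = y' * y := by
    have hle : P ≤ Subgroup.centralizer (P : Set Ω) := by
      conv_lhs => rw [hPdef]
      apply sup_le
      · intro z hz
        rw [Subgroup.mem_centralizer_iff]
        intro h hh
        exact ((abx_mem_Z).mp hz).2 h (hPS hh)
      · rw [Subgroup.zpowers_le, Subgroup.mem_centralizer_iff]
        intro h hh
        exact hPx h hh
    intro y hy y' hy'
    exact Subgroup.mem_centralizer_iff.mp (hle hy') y hy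
  have hPA : ∀ y ∈ P, y ∈ A → y ∈ S ⊓ Subgroup.centralizer (S : Set Ω) :=
    fun y hy hyA => abd_central A hAS hAab x hdecS y hyA (hPx y hy)
  refine ⟨hPx, hPab, hPA, fun y hy => ?_, hPA _ (P.pow_mem hxP p) hxp⟩
  obtain ⟨i, hi⟩ := hdecS y (hPS hy)
  exact ⟨i, hPA _ (P.mul_mem hy (P.inv_mem (P.pow_mem hxP i))) hi⟩

theorem abg_conj (A : Subgroup Ω) (hAS : A ≤ S) (x : Ω) (hxS : x ∈ S)
    (hθ : ∀ a ∈ A, x⁻¹ * (a * x * a⁻¹) ∈ A) (P : Subgroup Ω) (hxP : x ∈ P)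
    (hPA : ∀ y ∈ P, y ∈ A → y ∈ S ⊓ Subgroup.centralizer (S : Set Ω))
    (a : Ω) (haA : a ∈ A) (hax : a * x * a⁻¹ ∈ P) :
    x⁻¹ * (a * x * a⁻¹) ∈ S ⊓ Subgroup.centralizer (S : Set Ω) ∧
    (∀ z ∈ S ⊓ Subgroup.centralizer (S : Set Ω), a * z * a⁻¹ = z) ∧
    (∀ (y : Ω) (i : ℕ), y * (x ^ i)⁻¹ ∈ S ⊓ Subgroup.centralizer (S : Set Ω) →
      a * y * a⁻¹ = y * (x⁻¹ * (a * x * a⁻¹)) ^ i) := by
  have huZ : x⁻¹ * (a * x * a⁻¹) ∈ S ⊓ Subgroup.centralizer (S : Set Ω) :=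
    hPA _ (P.mul_mem (P.inv_mem hxP) hax) (hθ a haA)
  have hcZ : ∀ z ∈ S ⊓ Subgroup.centralizer (S : Set Ω), a * z * a⁻¹ = z :=
    fun z hz => abd_Zconj z hz a (hAS haA)
  refine ⟨huZ, hcZ, fun y i hi => ?_⟩
  have hxu : Commute x (x⁻¹ * (a * x * a⁻¹)) := ((abx_mem_Z).mp huZ).2 x hxS
  have h1 : a * x ^ i * a⁻¹ = x ^ i * (x⁻¹ * (a * x * a⁻¹)) ^ i := by
    rw [← hxu.mul_pow, mul_inv_cancel_left, conj_pow]
  calc a * y * a⁻¹ = (a * (y * (x ^ i)⁻¹) * a⁻¹) * (a * x ^ i * a⁻¹) := by group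
    _ = (y * (x ^ i)⁻¹) * (x ^ i * (x⁻¹ * (a * x * a⁻¹)) ^ i) := by rw [hcZ _ hi, h1]
    _ = y * (x⁻¹ * (a * x * a⁻¹)) ^ i := by group

/-- Elements of `Aut_S(P)` for `P = Z⟨x⟩`: they fix `Z` pointwise, and the nontrivial ones have
fixed-point set exactly `Z`. -/
theorem abg_autS [Finite S] (p : ℕ) [Fact p.Prime] (A : Subgroup Ω)
    (hAS : A ≤ S) (hAab : ∀ a ∈ A, ∀ b ∈ A, a * b = b * a)
    (hAn : ∀ s ∈ S, ∀ a ∈ A, s * a * s⁻¹ ∈ A)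
    (hZ₀ : Nat.card ↥((S ⊓ Subgroup.centralizer (S : Set Ω)) ⊓
      ((commutator ↥S).map S.subtype)) = p)
    (x : Ω) (hxS : x ∈ S) (hdecS : ∀ s ∈ S, ∃ i : ℕ, s * (x ^ i)⁻¹ ∈ A)
    (hθA : ∀ a ∈ A, x⁻¹ * (a * x * a⁻¹) ∈ A)
    (P : Subgroup Ω) (hxP : x ∈ P)
    (hPab : ∀ y ∈ P, ∀ y' ∈ P, y * y' = y' * y)
    (hPA : ∀ y ∈ P, y ∈ A → y ∈ S ⊓ Subgroup.centralizer (S : Set Ω))
    (hPdec : ∀ y ∈ P, ∃ i : ℕ, y * (x ^ i)⁻¹ ∈ S ⊓ Subgroup.centralizer (S : Set Ω))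
    (hxpZ : x ^ p ∈ S ⊓ Subgroup.centralizer (S : Set Ω))
    (t : MulAut ↥P) (ht : t ∈ autInducedBy S P) :
    (∀ z : ↥P, (z : Ω) ∈ S ⊓ Subgroup.centralizer (S : Set Ω) → t z = z) ∧
    (t ≠ 1 → ∀ y : ↥P, t y = y → (y : Ω) ∈ S ⊓ Subgroup.centralizer (S : Set Ω)) := by
  obtain ⟨s', hs'S, hs't⟩ := Fusion.mem_autInducedBy_iff.1 ht
  obtain ⟨j, hj⟩ := hdecS s' hs'S
  obtain ⟨a, ha⟩ : ∃ a, a = s' * (x ^ j)⁻¹ := ⟨_, rfl⟩
  have haA : a ∈ A := by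
    rw [ha]
    exact hj
  have hta : ∀ y : ↥P, ((t y : ↥P) : Ω) = a * y * a⁻¹ := by
    intro y
    rw [hs't y, ha]
    have h1 := hPab (x ^ j) (P.pow_mem hxP j) y y.2
    have hcomm : (x ^ j)⁻¹ * (y : Ω) * x ^ j = y := by
      rw [mul_assoc, ← h1]
      group
    calc s' * (y : Ω) * s'⁻¹ = s' * ((x ^ j)⁻¹ * (y : Ω) * x ^ j) * s'⁻¹ := by rw [hcomm]
      _ = s' * (x ^ j)⁻¹ * (y : Ω) * (s' * (x ^ j)⁻¹)⁻¹ := by group
  have hax : a * x * a⁻¹ ∈ P := by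
    have h1 := hta ⟨x, hxP⟩
    rw [← h1]
    exact (t ⟨x, hxP⟩).2
  obtain ⟨huZ, hcZ, hcy⟩ := abg_conj A hAS x hxS hθA P hxP hPA a haA hax
  refine ⟨fun z hz => Subtype.ext (by rw [hta, hcZ _ hz]), fun hne y hy => ?_⟩
  have huS' : x⁻¹ * (a * x * a⁻¹) ∈ (commutator ↥S).map S.subtype :=
    (abd_comm_eq A hAS hAab hAn x hxS hdecS hθA _).mpr ⟨a, haA, rfl⟩
  have hup := abg_pow_card p _ hZ₀ _ (Subgroup.mem_inf.mpr ⟨huZ, huS'⟩)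
  have hu1 : x⁻¹ * (a * x * a⁻¹) ≠ 1 := by
    intro h1
    apply hne
    apply MulEquiv.ext
    intro y'
    apply Subtype.ext
    obtain ⟨i, hi⟩ := hPdec y' y'.2
    rw [hta, hcy y' i hi, h1, one_pow, mul_one]
    rfl
  obtain ⟨i, hi⟩ := hPdec y y.2
  have h2 : (y : Ω) * (x⁻¹ * (a * x * a⁻¹)) ^ i = y := by
    rw [← hcy y i hi, ← hta, hy]
  have h3 : (x⁻¹ * (a * x * a⁻¹)) ^ i = 1 :=
    mul_left_cancel (h2.trans (mul_one _).symm)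
  have h4 : p ∣ i := by
    have h5 := orderOf_dvd_of_pow_eq_one h3
    rwa [orderOf_eq_prime hup hu1] at h5
  obtain ⟨m, rfl⟩ := h4
  have h5 : x ^ (p * m) ∈ S ⊓ Subgroup.centralizer (S : Set Ω) := by
    rw [pow_mul]
    exact Subgroup.pow_mem _ hxpZ m
  have e : (y : Ω) = (y * (x ^ (p * m))⁻¹) * x ^ (p * m) := by group
  rw [e]
  exact Subgroup.mul_mem _ hi h5

theorem abg_inn_trivial {P : Subgroup Ω} (hPab : ∀ y ∈ P, ∀ y' ∈ P, y * y' = y' * y)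
    (t : MulAut ↥P) (ht : t ∈ Inn P) : t = 1 := by
  obtain ⟨y, hy⟩ := ht
  apply MulEquiv.ext
  intro z
  rw [← hy]
  apply Subtype.ext
  show (y : Ω) * z * (y : Ω)⁻¹ = z
  rw [hPab y y.2 z z.2, mul_inv_cancel_right]

/-- Structure of an abelian essential subgroup `P = Z⟨x⟩`: an `Aut_F(P)`-invariant complement
`D` to `Z ∩ S'` in `Z` and a torus element. -/
theorem abg_struct [Finite S] (p : ℕ) [Fact p.Prime] (hS : IsPGroup p S) (F : FusionSystem S)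
    (hF : F.IsSaturated p) (hp2 : p ≠ 2) (A : Subgroup Ω)
    (hAS : A ≤ S) (hAab : ∀ a ∈ A, ∀ b ∈ A, a * b = b * a)
    (hidx : (A.subgroupOf S).index = p)
    (hZA : S ⊓ Subgroup.centralizer (S : Set Ω) ≤ A)
    (hZ₀ : Nat.card ↥((S ⊓ Subgroup.centralizer (S : Set Ω)) ⊓
      ((commutator ↥S).map S.subtype)) = p)
    (x : Ω) (hxS : x ∈ S) (hxA : x ∉ A) (P : Subgroup Ω)
    (hPdef : P = (S ⊓ Subgroup.centralizer (S : Set Ω)) ⊔ Subgroup.zpowers x)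
    (hP : F.IsEssential p P) :
    ∃ e₁ : Ω, e₁ ∈ (S ⊓ Subgroup.centralizer (S : Set Ω)) ⊓ ((commutator ↥S).map S.subtype) ∧
    e₁ ≠ 1 ∧
    ∃ D : Subgroup Ω, D ≤ S ⊓ Subgroup.centralizer (S : Set Ω) ∧
      (∀ k ∈ F.autGroup P, ∀ d : ↥P, (d : Ω) ∈ D → ((k d : ↥P) : Ω) ∈ D) ∧
      (∀ z ∈ S ⊓ Subgroup.centralizer (S : Set Ω), ∃ i : ℕ, z * (e₁ ^ i)⁻¹ ∈ D) ∧
      (∀ v ∈ D, v ∈ Subgroup.zpowers e₁ → v = 1) ∧
      ∃ h ∈ F.autGroup P,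
        (∀ z : ↥P, (z : Ω) ∈ S ⊓ Subgroup.centralizer (S : Set Ω) →
          ((h z : ↥P) : Ω) ∈ S ⊓ Subgroup.centralizer (S : Set Ω) ∧
          (z : Ω)⁻¹ * ((h z : ↥P) : Ω) ∈ Subgroup.zpowers e₁) ∧
        (∀ z : ↥P, (z : Ω) ∈ S ⊓ Subgroup.centralizer (S : Set Ω) → h z = z → (z : Ω) ∈ D) ∧
        (∀ d : ↥P, (d : Ω) ∈ D → h d = d) := by
  have hp : p.Prime := Fact.out
  have hPS : P ≤ S := hP.1.1
  have hPfin : Finite P := finite_of_le hPS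
  obtain ⟨hAn, hAc, hApow, hAgen⟩ := abIndex_facts p hS A hAS hidx
  have hdecS := hAgen x hxS hxA
  have hθA : ∀ a ∈ A, x⁻¹ * (a * x * a⁻¹) ∈ A := by
    intro a ha
    have h1 := hAc x⁻¹ (S.inv_mem hxS) a (hAS ha)
    rw [inv_inv] at h1
    have e : x⁻¹ * (a * x * a⁻¹) = x⁻¹ * a * x * a⁻¹ := by group
    rw [e]
    exact h1
  have hxP : x ∈ P := by
    rw [hPdef]
    exact Subgroup.mem_sup_right (Subgroup.mem_zpowers x)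
  have hZP : S ⊓ Subgroup.centralizer (S : Set Ω) ≤ P := by
    rw [hPdef]
    exact le_sup_left
  obtain ⟨hPx, hPab, hPA, hPdec, hxpZ⟩ := abg_basic A hAS hAab x hxS hdecS (hApow x hxS) P hPdef
  have hautS := abg_autS p A hAS hAab hAn hZ₀ x hxS hdecS hθA P hxP hPab hPA hPdec hxpZ
  -- the element a₁
  obtain ⟨s, hsS, hsN, hsP⟩ := essential_exists_normalizer p hS F hF hP
  obtain ⟨i₀, hi₀⟩ := hdecS s hsS
  obtain ⟨a₁, ha₁⟩ : ∃ a₁, a₁ = s * (x ^ i₀)⁻¹ := ⟨_, rfl⟩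
  have ha₁A : a₁ ∈ A := by
    rw [ha₁]
    exact hi₀
  have ha₁N : a₁ ∈ Subgroup.normalizer (P : Set Ω) := by
    rw [ha₁]
    exact Subgroup.mul_mem _ hsN (Subgroup.inv_mem _ (Subgroup.le_normalizer (P.pow_mem hxP i₀)))
  have ha₁P : a₁ ∉ P := by
    intro h
    apply hsP
    have e : s = a₁ * x ^ i₀ := by
      rw [ha₁]
      group
    rw [e]
    exact P.mul_mem h (P.pow_mem hxP i₀)
  have ha₁x : a₁ * x * a₁⁻¹ ∈ P := (Subgroup.mem_normalizer_iff.mp ha₁N x).mp hxP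
  obtain ⟨hu₁Z, hca₁Z, hca₁⟩ := abg_conj A hAS x hxS hθA P hxP hPA a₁ ha₁A ha₁x
  obtain ⟨u₁, hu₁⟩ : ∃ u₁, u₁ = x⁻¹ * (a₁ * x * a₁⁻¹) := ⟨_, rfl⟩
  rw [← hu₁] at hu₁Z hca₁
  have hu₁ne : u₁ ≠ 1 := by
    intro h
    rw [hu₁] at h
    exact ha₁P (hZP ((abd_ker A hAS hAab x hxS hdecS a₁ ha₁A).mp h))
  have hu₁S' : u₁ ∈ (commutator ↥S).map S.subtype :=
    (abd_comm_eq A hAS hAab hAn x hxS hdecS hθA _).mpr ⟨a₁, ha₁A, hu₁⟩
  have hu₁Z₀ : u₁ ∈ (S ⊓ Subgroup.centralizer (S : Set Ω)) ⊓ ((commutator ↥S).map S.subtype) :=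
    Subgroup.mem_inf.mpr ⟨hu₁Z, hu₁S'⟩
  have hu₁p : u₁ ^ p = 1 := abg_pow_card p _ hZ₀ _ hu₁Z₀
  -- the automorphism τ
  obtain ⟨τ, hτ⟩ : ∃ τ : MulAut P, ∀ y : P, ((τ y : P) : Ω) = a₁ * y * a₁⁻¹ :=
    ⟨P.normalizerMonoidHom ⟨a₁, ha₁N⟩, fun y => rfl⟩
  have hτS : τ ∈ autInducedBy S P := Fusion.mem_autInducedBy_iff.2 ⟨a₁, hAS ha₁A, hτ⟩
  have hτG : τ ∈ F.autGroup P := Fusion.autInducedBy_le_autGroup F hPS hτS
  have hPa : F.IsFullyAutomized p P := (((Cfsg.Agent.S5077.result p hS F).1 hF).1 P hP.2.1).2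
  have hτne : τ ≠ 1 := by
    intro h
    apply hu₁ne
    have h1 := hτ ⟨x, hxP⟩
    rw [h] at h1
    have h2 : a₁ * x * a₁⁻¹ = x := h1.symm
    rw [hu₁, h2, inv_mul_cancel]
  -- abstract setting
  have hc : ∀ a b : ↥P, a * b = b * a := fun a b => Subtype.ext (hPab a a.2 b b.2)
  obtain ⟨Zs, hZs⟩ : ∃ Zs : Subgroup ↥P, ∀ y : ↥P,
      y ∈ Zs ↔ (y : Ω) ∈ S ⊓ Subgroup.centralizer (S : Set Ω) :=
    ⟨(S ⊓ Subgroup.centralizer (S : Set Ω)).subgroupOf P, fun y => Subgroup.mem_subgroupOf⟩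
  have hZsn : Zs.Normal := by
    constructor
    intro n hn g
    rw [hc g n, mul_inv_cancel_right]
    exact hn
  have hZsidx : Zs.index = p := by
    apply index_eq_prime_of_gen Zs ⟨x, hxP⟩
    · intro h
      exact hxA (hZA ((hZs _).mp h))
    · rw [hZs]
      exact hxpZ
    · intro y
      obtain ⟨i, hi⟩ := hPdec y y.2
      exact ⟨i, (hZs _).mpr hi⟩
  have hgen : ∀ y : ↥P, y ∉ Zs → ∀ w : ↥P, ∃ i : ℕ, w * (y ^ i)⁻¹ ∈ Zs :=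
    fun y hy => gen_of_index_prime Zs hZsidx y hy
  obtain ⟨e₁, he₁⟩ : ∃ e₁ : ↥P, (e₁ : Ω) = u₁ := ⟨⟨u₁, hZP hu₁Z⟩, rfl⟩
  have he₁Z : e₁ ∈ Zs := by
    rw [hZs, he₁]
    exact hu₁Z
  have he₁p : e₁ ^ p = 1 := by
    apply Subtype.ext
    rw [Subgroup.coe_pow, he₁]
    exact hu₁p
  have hτ1 : ∀ z ∈ Zs, τ z = z := fun z hz => (hautS τ hτS).1 z ((hZs z).mp hz)
  have hτ2 : ∀ y : ↥P, ∃ i : ℕ, τ y = y * e₁ ^ i := by
    intro y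
    obtain ⟨i, hi⟩ := hPdec y y.2
    refine ⟨i, Subtype.ext ?_⟩
    rw [hτ, hca₁ y i hi, Subgroup.coe_mul, Subgroup.coe_pow, he₁]
  have hτ3 : ∀ y : ↥P, τ y = y → y ∈ Zs :=
    fun y hy => (hZs y).mpr ((hautS τ hτS).2 hτne y hy)
  obtain ⟨g, hgG, hgtw⟩ := exists_twist_of_essential p hS F hP
  have hPW0 : ∀ k ∈ F.autGroup P, k e₁ ∈ Zs → k * τ * k⁻¹ ∈ autInducedBy S P := by
    intro k hk hke
    apply mem_autS_of_stab p hS F hPa (Subgroup.zpowers (k e₁)) _ (k * τ * k⁻¹)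
      (mul_mem (mul_mem hk hτG) (inv_mem hk))
    · intro d hd
      obtain ⟨j, rfl⟩ := Subgroup.mem_zpowers_iff.mp hd
      show k (τ (k⁻¹ ((k e₁) ^ j))) = (k e₁) ^ j
      rw [map_zpow, MulAut.inv_apply_self, hτ1 _ (Zs.zpow_mem he₁Z j), map_zpow]
    · intro y
      obtain ⟨i, hi⟩ := hτ2 (k⁻¹ y)
      have e : y⁻¹ * (k * τ * k⁻¹) y = (k e₁) ^ i := by
        show y⁻¹ * k (τ (k⁻¹ y)) = (k e₁) ^ i
        rw [hi, map_mul, MulAut.apply_inv_self, map_pow, inv_mul_cancel_left]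
      rw [e]
      exact Subgroup.pow_mem _ (Subgroup.mem_zpowers _) i
    · intro t ht d hd
      have hdZ : d ∈ Zs := (Subgroup.zpowers_le.mpr hke) hd
      rw [(hautS t ht).1 d ((hZs d).mp hdZ)]
      exact hd
  have hPW : ∀ k ∈ F.autGroup P, k e₁ ∈ Zs → ∀ z : ↥P, k z ∈ Zs ↔ z ∈ Zs := by
    intro k hk hke z
    have ht := hPW0 k hk hke
    have hne : k * τ * k⁻¹ ≠ 1 := by
      intro h
      apply hτne
      have e : τ = k⁻¹ * (k * τ * k⁻¹) * k := by group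
      rw [e, h]
      group
    have happ : ∀ y : ↥P, (k * τ * k⁻¹) (k y) = k (τ y) := by
      intro y
      show k (τ (k⁻¹ (k y))) = k (τ y)
      rw [MulAut.inv_apply_self]
    constructor
    · intro hkz
      apply hτ3
      apply k.injective
      rw [← happ]
      exact (hautS _ ht).1 (k z) ((hZs _).mp hkz)
    · intro hz
      rw [hZs]
      apply (hautS _ ht).2 hne
      rw [happ, hτ1 z hz]
  have hg : g e₁ ∉ Zs := by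
    intro h
    have h1 := hPW0 g hgG h
    exact hτne (abg_inn_trivial hPab τ (hgtw τ hτS h1))
  obtain ⟨D', hD'Z, hD'inv, hD'dec, h, hhG, hhD, hhe⟩ :=
    abf_main hp2 hc Zs hgen e₁ he₁Z he₁p τ hτ1 hτ2 hτ3 (F.autGroup P) hτG g hgG hg hPW
  obtain ⟨ht1, ht2, ht3⟩ := abf_torus Zs D' e₁ he₁Z hD'dec h hhD hhe
  have hDmem : ∀ d : ↥P, (d : Ω) ∈ D'.map P.subtype ↔ d ∈ D' := by
    intro d
    constructor
    · rintro ⟨d', hd', hdd⟩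
      have e : d' = d := Subtype.ext hdd
      rw [← e]
      exact hd'
    · intro hd
      exact ⟨d, hd, rfl⟩
  refine ⟨u₁, hu₁Z₀, hu₁ne, D'.map P.subtype, ?_, ?_, ?_, ?_, h, hhG, ?_, ?_, ?_⟩
  · rintro _ ⟨d', hd', rfl⟩
    exact (hZs d').mp (hD'Z hd')
  · intro k hk d hd
    exact (hDmem _).mpr (hD'inv k hk d ((hDmem d).mp hd))
  · intro z hz
    obtain ⟨i, hi⟩ := hD'dec ⟨z, hZP hz⟩ ((hZs _).mpr hz)
    refine ⟨i, ⟨_, hi, ?_⟩⟩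
    show z * ((e₁ : Ω) ^ i)⁻¹ = z * (u₁ ^ i)⁻¹
    rw [he₁]
  · rintro _ ⟨d', hd', rfl⟩ hv
    obtain ⟨j, hj⟩ := Subgroup.mem_zpowers_iff.mp hv
    have h1 : d' ∈ Subgroup.zpowers e₁ := by
      refine Subgroup.mem_zpowers_iff.mpr ⟨j, Subtype.ext ?_⟩
      rw [Subgroup.coe_zpow, he₁]
      exact hj
    have h2 := ht3 d' hd' h1
    rw [h2]
    rfl
  · intro z hz
    obtain ⟨h1, h2⟩ := ht1 z ((hZs z).mpr hz)
    refine ⟨(hZs _).mp h1, ?_⟩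
    obtain ⟨j, hj⟩ := Subgroup.mem_zpowers_iff.mp h2
    refine Subgroup.mem_zpowers_iff.mpr ⟨j, ?_⟩
    have h3 := congrArg (fun q : ↥P => (q : Ω)) hj
    simp only [Subgroup.coe_zpow] at h3
    rw [← he₁, h3]
    rfl
  · intro z hz hfix
    exact (hDmem z).mpr (ht2 z ((hZs z).mpr hz) hfix)
  · intro d hd
    exact hhD d ((hDmem d).mp hd)

end AbG

end Cfsg.Agent.Lib.Helper27
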