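import Mathlib

set_option autoImplicit false

namespace Cfsg.Agent.Lib.Helper27

open scoped Classical in
/-- Fixed points of a group acting on an abelian `p`-group form a direct factor of the fixed
points of a subgroup of index prime to `p`. -/
theorem exists_complement_fixed {M A : Type*} [CommGroup M] [Group A] [Finite A]
    (ρ : A →* MulAut M) (B : Subgroup A) (p : ℕ) [Fact p.Prime] (hM : IsPGroup p M)
    (hB : ¬ p ∣ B.index) (F₀ F₁ : Subgroup M) (h₀ : ∀ x, x ∈ F₀ ↔ ∀ a, ρ a x = x)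
    (h₁ : ∀ x, x ∈ F₁ ↔ ∀ b ∈ B, ρ b x = x) :
    ∃ K : Subgroup M, K ≤ F₁ ∧ F₀ ⊓ K = ⊥ ∧ ∀ x ∈ F₁, ∃ y ∈ F₀, ∃ z ∈ K, x = y * z := by
  have : Fintype (A ⧸ B) := Fintype.ofFinite _
  let Tr : M →* M :=
    { toFun := fun x => ∏ q : A ⧸ B, ρ (Quotient.out q) x
      map_one' := by simp
      map_mul' := fun x y => by
        simp only [map_mul]
        exact Finset.prod_mul_distrib }
  have hTr : ∀ x, Tr x = ∏ q : A ⧸ B, ρ (Quotient.out q) x := fun x => rfl
  have hm : Fintype.card (A ⧸ B) = B.index := by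
    rw [Subgroup.index, Nat.card_eq_fintype_card]
  have hcop : p.Coprime B.index := (Nat.Prime.coprime_iff_not_dvd Fact.out).2 hB
  -- the trace of a `B`-fixed point is `A`-fixed
  have hfix : ∀ x ∈ F₁, Tr x ∈ F₀ := by
    intro x hx
    rw [h₀]
    intro a
    rw [hTr, map_prod]
    have key : ∀ q : A ⧸ B, ρ a (ρ (Quotient.out q) x) = ρ (Quotient.out (a • q)) x := by
      intro q
      have h1 : (QuotientGroup.mk (a * Quotient.out q) : A ⧸ B) = a • q := by
        conv_rhs => rw [← Quotient.out_eq q]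
        rfl
      have h2 : (QuotientGroup.mk (Quotient.out (a • q)) : A ⧸ B) = a • q := Quotient.out_eq _
      have h3 : (Quotient.out (a • q))⁻¹ * (a * Quotient.out q) ∈ B :=
        QuotientGroup.eq.1 (h2.trans h1.symm)
      have h4 := (h₁ x).1 hx _ h3
      rw [map_mul, map_mul, MulAut.mul_apply, MulAut.mul_apply] at h4
      have h5 := congrArg (ρ (Quotient.out (a • q))) h4
      rw [← MulAut.mul_apply, ← map_mul, mul_inv_cancel, map_one, MulAut.one_apply] at h5
      exact h5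
    rw [Finset.prod_congr rfl (fun q _ => key q)]
    exact Fintype.prod_equiv (MulAction.toPerm a) _ _ (fun q => rfl)
  -- on `A`-fixed points the trace is the power map
  have hpow : ∀ x ∈ F₀, Tr x = x ^ B.index := by
    intro x hx
    rw [hTr]
    have h2 : ∀ q : A ⧸ B, ρ (Quotient.out q) x = x := fun q => (h₀ x).1 hx _
    exact (Finset.prod_congr rfl (fun q _ => h2 q)).trans
      (by rw [Finset.prod_const, Finset.card_univ, hm])
  have hle : F₀ ≤ F₁ := fun x hx => (h₁ x).2 (fun b _ => (h₀ x).1 hx b)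
  refine ⟨F₁ ⊓ Tr.ker, inf_le_left, ?_, ?_⟩
  · rw [eq_bot_iff]
    rintro x ⟨hx0, -, hxk'⟩
    have hxk : Tr x = 1 := hxk'
    rw [hpow x hx0] at hxk
    have := (hM.powEquiv hcop).injective (a₁ := x) (a₂ := 1) (by
      rw [IsPGroup.powEquiv_apply, IsPGroup.powEquiv_apply, hxk, one_pow])
    exact Subgroup.mem_bot.2 this
  · intro x hx
    have hy := hfix x hx
    obtain ⟨w, hw⟩ := ((hM.to_subgroup F₀).powEquiv hcop).surjective ⟨Tr x, hy⟩
    rw [IsPGroup.powEquiv_apply] at hw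
    have hw' : (w : M) ^ B.index = Tr x := by
      have := congrArg Subtype.val hw
      simpa using this
    have hx' : x = (w : M) * ((w : M)⁻¹ * x) := by group
    refine ⟨w, w.2, (w : M)⁻¹ * x, ⟨F₁.mul_mem (F₁.inv_mem (hle w.2)) hx, ?_⟩, hx'⟩
    show Tr ((w : M)⁻¹ * x) = 1
    rw [map_mul, map_inv, hpow _ w.2, hw']
    simp

/-- The same for a group known to be commutative. -/
theorem exists_complement_fixed' {M A : Type*} [Group M] (hcomm : ∀ x y : M, x * y = y * x)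
    [Group A] [Finite A]
    (ρ : A →* MulAut M) (B : Subgroup A) (p : ℕ) [Fact p.Prime] (hM : IsPGroup p M)
    (hB : ¬ p ∣ B.index) (F₀ F₁ : Subgroup M) (h₀ : ∀ x, x ∈ F₀ ↔ ∀ a, ρ a x = x)
    (h₁ : ∀ x, x ∈ F₁ ↔ ∀ b ∈ B, ρ b x = x) :
    ∃ K : Subgroup M, K ≤ F₁ ∧ F₀ ⊓ K = ⊥ ∧ ∀ x ∈ F₁, ∃ y ∈ F₀, ∃ z ∈ K, x = y * z := by
  let _ : CommGroup M := { ‹Group M› with mul_comm := hcomm }
  exact exists_complement_fixed ρ B p hM hB F₀ F₁ h₀ h₁

end Cfsg.Agent.Lib.Helper27
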