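import Mathlib
import Cfsg.Prelude.Def_FusionSystem
import Cfsg.Agent.Lib.Helper26.FusionChain
import Cfsg.Agent.Lib.Helper27.TraceFix
import Cfsg.Agent.Lib.Helper27.Basic
import Cfsg.Agent.Lib.Helper27.NormalCrit
import Cfsg.Agent.Lib.Helper27.Alperin
import Cfsg.Agent.S5077

set_option autoImplicit false

namespace Cfsg.Agent.Lib.Helper27

open Cfsg Cfsg.FusionSystem Cfsg.Agent.Lib.Helper26

variable {Ω : Type*} [Group Ω] {S : Subgroup Ω}

/-- The centre of the system lies in the centre of `S`. -/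
theorem center_le_centerS [Finite S] (F : FusionSystem S) :
    F.center ≤ S ⊓ Subgroup.centralizer (S : Set Ω) := by
  have hZc : F.IsCentral F.center := isCentral_center F
  intro z hz
  have hzS : z ∈ S := hZc.1 hz
  refine ⟨hzS, ?_⟩
  show z ∈ Subgroup.centralizer (S : Set Ω)
  rw [Subgroup.mem_centralizer_iff]
  intro s hs
  obtain ⟨ψ, -, hext, hfix⟩ := hZc.2 S _ (F.conj_mem le_rfl hs)
  have h1 := hext ⟨z, hzS⟩
  have h2 := hfix ⟨z, hz⟩
  have e : Subgroup.inclusion (le_sup_left : S ≤ S ⊔ F.center) ⟨z, hzS⟩ =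
      Subgroup.inclusion (le_sup_right : F.center ≤ S ⊔ F.center) ⟨z, hz⟩ := Subtype.ext rfl
  rw [e, h2] at h1
  have h3 : z = s * z * s⁻¹ := h1
  calc s * z = s * z * s⁻¹ * s := by group
    _ = z * s := by rw [← h3]

/-- Elements of the centre of the system are fixed by `Aut_F(Q)`. -/
theorem autGroup_fix_center' [Finite S] (F : FusionSystem S) {Q : Subgroup Ω} (hQ : Q ≤ S)
    {z : Ω} (hz : z ∈ F.center)
    (hzQ : z ∈ Q) {α : MulAut Q} (hα : α ∈ F.autGroup Q) : α ⟨z, hzQ⟩ = ⟨z, hzQ⟩ := by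
  have hZc : F.IsCentral F.center := isCentral_center F
  obtain ⟨ψ, -, hext, hfix⟩ := hZc.2 Q _ ((Fusion.mem_autGroup_iff F hQ).1 hα)
  have h1 := hext ⟨z, hzQ⟩
  have h2 := hfix ⟨z, hz⟩
  have e : Subgroup.inclusion (le_sup_left : Q ≤ Q ⊔ F.center) ⟨z, hzQ⟩ =
      Subgroup.inclusion (le_sup_right : F.center ≤ Q ⊔ F.center) ⟨z, hz⟩ := Subtype.ext rfl
  rw [e, h2] at h1
  exact Subtype.ext h1.symm

/-- An element of a subgroup `Q` normal in the system which is fixed by `Aut_F(Q)` lies in the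
centre of the system. -/
theorem mem_center_of_fixed_normal [Finite S] (F : FusionSystem S) {Q : Subgroup Ω}
    (hQ : F.IsNormal Q) (c : Q) (hc : ∀ α ∈ F.autGroup Q, α c = c) : (c : Ω) ∈ F.center := by
  have hQS : Q ≤ S := hQ.1
  have hcS : Subgroup.zpowers (c : Ω) ≤ S := (Subgroup.zpowers_le).2 (hQS c.2)
  have hcQ : Subgroup.zpowers (c : Ω) ≤ Q := (Subgroup.zpowers_le).2 c.2
  have hcen : F.IsCentral (Subgroup.zpowers (c : Ω)) := by
    refine ⟨hcS, fun P φ hφ => ?_⟩
    obtain ⟨ψ, hψ, hext, hψQ⟩ := hQ.2 P φ hφ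
    have hle : P ⊔ Subgroup.zpowers (c : Ω) ≤ P ⊔ Q := sup_le_sup_left hcQ P
    -- the automorphism of `Q` induced by `ψ`
    have hr : (ψ.comp (Subgroup.inclusion (le_sup_right : Q ≤ P ⊔ Q))).range = Q :=
      range_restrict_eq ψ le_sup_right hψQ
    have hmem := Fusion.restrict_mem F hψ (le_sup_right : Q ≤ P ⊔ Q)
    have hα : (Fusion.equivOfRange _ (F.injective_of_mem hmem) hr : MulAut Q) ∈ F.autGroup Q :=
      (Fusion.mem_autGroup_iff F hQS).2 (Fusion.isIso_equivOfRange F hmem hr)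
    have hfixc : ψ (Subgroup.inclusion (le_sup_right : Q ≤ P ⊔ Q) c) = (c : Ω) := by
      have := congrArg Subtype.val (hc _ hα)
      exact this
    refine ⟨ψ.comp (Subgroup.inclusion hle), Fusion.restrict_mem F hψ hle, fun x => hext x,
      fun q => ?_⟩
    obtain ⟨k, hk⟩ := Subgroup.mem_zpowers_iff.1 q.2
    have e : (Subgroup.inclusion hle (Subgroup.inclusion le_sup_right q) : ↥(P ⊔ Q)) =
        (Subgroup.inclusion (le_sup_right : Q ≤ P ⊔ Q) c) ^ k := by
      apply Subtype.ext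
      rw [Subgroup.coe_zpow]
      exact hk.symm
    show ψ (Subgroup.inclusion hle (Subgroup.inclusion le_sup_right q)) = q
    rw [e, map_zpow, hfixc, hk]
  exact (le_sSup hcen : Subgroup.zpowers (c : Ω) ≤ F.center) (Subgroup.mem_zpowers _)

/-- A subgroup normal in the system is fully normalized. -/
theorem fullyNormalized_of_isNormal [Finite S] (F : FusionSystem S) {Q : Subgroup Ω}
    (hQ : F.IsNormal Q) : F.IsFullyNormalized Q := by
  have hN : S ≤ Subgroup.normalizer (Q : Set Ω) :=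
    Fusion.le_normalizer_of_stronglyClosed F (stronglyClosed_of_isNormal F hQ)
  refine ⟨hQ.1, fun Q' _ => ?_⟩
  have h1 : normalizerIn S Q = S := inf_eq_left.2 hN
  have hle : normalizerIn S Q' ≤ normalizerIn S Q := by
    rw [h1]
    exact inf_le_left
  have : Finite (normalizerIn S Q) := by
    rw [h1]
    infer_instance
  exact Subgroup.card_le_of_le hle

/-- If `Z(S)` lies in a subgroup normal in the saturated system, the centre of the system is a
direct factor of `Z(S)`. -/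
theorem center_direct_factor [Finite S] (p : ℕ) [Fact p.Prime] (hS : IsPGroup p S)
    (F : FusionSystem S) (hF : F.IsSaturated p) {Q : Subgroup Ω} (hQ : F.IsNormal Q)
    (hZ : S ⊓ Subgroup.centralizer (S : Set Ω) ≤ Q) :
    ∃ K : Subgroup Ω, K ≤ S ⊓ Subgroup.centralizer (S : Set Ω) ∧ F.center ⊓ K = ⊥ ∧
      F.center ⊔ K = S ⊓ Subgroup.centralizer (S : Set Ω) := by
  have hQS : Q ≤ S := hQ.1
  have hQfin : Finite Q := finite_of_le hQS
  have hN : S ≤ Subgroup.normalizer (Q : Set Ω) :=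
    Fusion.le_normalizer_of_stronglyClosed F (stronglyClosed_of_isNormal F hQ)
  set C : Subgroup Ω := Q ⊓ Subgroup.centralizer (Q : Set Ω) with hC
  have hCQ : C ≤ Q := inf_le_left
  have hCc : ∀ x : C, ∀ h ∈ Q, h * (x : Ω) = x * h := fun x =>
    Subgroup.mem_centralizer_iff.1 x.2.2
  have hcomm : ∀ x y : C, x * y = y * x := fun x y => Subtype.ext (hCc y x x.2.1)
  have hres : ∀ (a : MulAut Q) (x : C), ((a ⟨x, hCQ x.2⟩ : Q) : Ω) ∈ C := by
    intro a x
    refine ⟨(a _).2, ?_⟩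
    show _ ∈ Subgroup.centralizer (Q : Set Ω)
    rw [Subgroup.mem_centralizer_iff]
    intro h hh
    have h1 := hCc x _ (a.symm ⟨h, hh⟩).2
    have h2 : a.symm ⟨h, hh⟩ * ⟨x, hCQ x.2⟩ = ⟨x, hCQ x.2⟩ * a.symm ⟨h, hh⟩ := Subtype.ext h1
    have h3 := congrArg (fun t => ((a t : Q) : Ω)) h2
    simp only [map_mul, MulEquiv.apply_symm_apply, Subgroup.coe_mul] at h3
    exact h3
  let ρ₀ : MulAut Q →* MulAut C :=
    { toFun := fun a =>
        { toFun := fun x => ⟨_, hres a x⟩
          invFun := fun x => ⟨_, hres a⁻¹ x⟩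
          left_inv := fun x => by
            apply Subtype.ext
            show ((a⁻¹ (a ⟨x, hCQ x.2⟩) : Q) : Ω) = x
            simp
          right_inv := fun x => by
            apply Subtype.ext
            show ((a (a⁻¹ ⟨x, hCQ x.2⟩) : Q) : Ω) = x
            simp
          map_mul' := fun x y => by
            apply Subtype.ext
            show ((a (⟨x, hCQ x.2⟩ * ⟨y, hCQ y.2⟩) : Q) : Ω) = _
            rw [map_mul]
            rfl }
      map_one' := by
        apply MulEquiv.ext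
        intro x
        rfl
      map_mul' := fun a b => by
        apply MulEquiv.ext
        intro x
        rfl }
  have hρ₀ : ∀ (a : MulAut Q) (x : C), ((ρ₀ a x : C) : Ω) = ((a ⟨x, hCQ x.2⟩ : Q) : Ω) :=
    fun a x => rfl
  let ρ : F.autGroup Q →* MulAut C := ρ₀.comp (F.autGroup Q).subtype
  have hρ : ∀ (a : F.autGroup Q) (x : C), ((ρ a x : C) : Ω) = (((a : MulAut Q) ⟨x, hCQ x.2⟩ : Q) : Ω) :=
    fun a x => rfl
  -- `Aut_S(Q)` is a Sylow subgroup of `Aut_F(Q)`
  have h77 := (Cfsg.Agent.S5077.result p hS F).1 hF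
  obtain ⟨-, -, R, hR⟩ := h77.1 Q (fullyNormalized_of_isNormal F hQ)
  have hB : ¬ p ∣ ((autInducedBy S Q).subgroupOf (F.autGroup Q)).index := by
    rw [← hR]
    exact R.not_dvd_index
  have hM : IsPGroup p C := hS.to_le (hCQ.trans hQS)
  have h₀ : ∀ x : C, x ∈ F.center.subgroupOf C ↔ ∀ a : F.autGroup Q, ρ a x = x := by
    intro x
    constructor
    · intro hx a
      apply Subtype.ext
      rw [hρ]
      exact congrArg Subtype.val
        (autGroup_fix_center' F hQS (Subgroup.mem_subgroupOf.1 hx) (hCQ x.2) a.2)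
    · intro h
      rw [Subgroup.mem_subgroupOf]
      refine mem_center_of_fixed_normal F hQ ⟨x, hCQ x.2⟩ (fun α hα => ?_)
      apply Subtype.ext
      have := congrArg Subtype.val (h ⟨α, hα⟩)
      rw [hρ] at this
      exact this
  have h₁ : ∀ x : C, x ∈ (S ⊓ Subgroup.centralizer (S : Set Ω)).subgroupOf C ↔
      ∀ b ∈ (autInducedBy S Q).subgroupOf (F.autGroup Q), ρ b x = x := by
    intro x
    constructor
    · intro hx b hb
      obtain ⟨g, hg, hgb⟩ := Fusion.mem_autInducedBy_iff.1 (Subgroup.mem_subgroupOf.1 hb)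
      apply Subtype.ext
      rw [hρ, hgb]
      have hxc := Subgroup.mem_centralizer_iff.1 (Subgroup.mem_subgroupOf.1 hx).2 g hg
      show g * (x : Ω) * g⁻¹ = x
      rw [hxc]
      group
    · intro h
      rw [Subgroup.mem_subgroupOf]
      refine ⟨hQS (hCQ x.2), ?_⟩
      show _ ∈ Subgroup.centralizer (S : Set Ω)
      rw [Subgroup.mem_centralizer_iff]
      intro s hs
      have hcS : Q.normalizerMonoidHom ⟨s, hN hs⟩ ∈ autInducedBy S Q :=
        Subgroup.subset_closure ⟨s, hs, fun x => rfl⟩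
      have hcA := Fusion.autInducedBy_le_autGroup F hQS hcS
      have h1 := congrArg Subtype.val (h ⟨_, hcA⟩ (Subgroup.mem_subgroupOf.2 hcS))
      rw [hρ] at h1
      have h2 : s * (x : Ω) * s⁻¹ = x := h1
      calc s * (x : Ω) = s * x * s⁻¹ * s := by group
        _ = x * s := by rw [h2]
  obtain ⟨K, hK1, hK2, hK3⟩ := exists_complement_fixed' hcomm ρ _ p hM hB _ _ h₀ h₁
  refine ⟨K.map C.subtype, ?_, ?_, ?_⟩
  · rintro _ ⟨k, hk, rfl⟩
    exact Subgroup.mem_subgroupOf.1 (hK1 hk)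
  · rw [eq_bot_iff]
    rintro _ ⟨hx, ⟨k, hk, rfl⟩⟩
    have hk0 : k ∈ F.center.subgroupOf C ⊓ K := ⟨Subgroup.mem_subgroupOf.2 hx, hk⟩
    rw [hK2] at hk0
    rw [Subgroup.mem_bot.1 hk0]
    exact Subgroup.one_mem _
  · apply le_antisymm
    · refine sup_le (center_le_centerS F) ?_
      rintro _ ⟨k, hk, rfl⟩
      exact Subgroup.mem_subgroupOf.1 (hK1 hk)
    · intro x hx
      have hxC : x ∈ C := by
        refine ⟨hZ hx, ?_⟩
        show _ ∈ Subgroup.centralizer (Q : Set Ω)
        rw [Subgroup.mem_centralizer_iff]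
        intro h hh
        exact Subgroup.mem_centralizer_iff.1 hx.2 h (hQS hh)
      obtain ⟨y, hy, z, hz, hxyz⟩ := hK3 ⟨x, hxC⟩ (Subgroup.mem_subgroupOf.2 hx)
      have hx' : x = (y : Ω) * (z : Ω) := congrArg Subtype.val hxyz
      rw [hx']
      exact Subgroup.mul_mem_sup (Subgroup.mem_subgroupOf.1 hy) ⟨z, hz, rfl⟩

end Cfsg.Agent.Lib.Helper27
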