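import Mathlib
import Cfsg.Prelude.Def_FusionSystem
import Cfsg.Prelude.Def_CaseTheorems
import Cfsg.Agent.Lib.Helper18.Basic
import Cfsg.Agent.Lib.Helper26.FusionNormal
import Cfsg.Agent.Lib.Helper27.Radical
import Cfsg.Agent.Lib.Helper27.Chain
import Cfsg.Agent.Lib.Helper27.Alperin
import Cfsg.Agent.Lib.Helper27.SatCrit
import Cfsg.Agent.S5077
import Cfsg.Agent.S5079

set_option autoImplicit false

namespace Cfsg.Agent.Lib.Helper27

open Cfsg Cfsg.FusionSystem Cfsg.Agent.Lib.Helper26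
open scoped Pointwise

variable {Ω : Type*} [Group Ω] {S : Subgroup Ω}

/-- An element of `N_S(P)` whose conjugation action stabilizes a chain `1 ≤ Z ≤ P` with `Z`
invariant under `Aut_F(P)` induces an element of `O_p(Aut_F(P))`. -/
theorem conj_mem_pCore_of_stab [Finite S] {p : ℕ} [Fact p.Prime] (hS : IsPGroup p S)
    (F : FusionSystem S) {P : Subgroup Ω} (hP : P ≤ S) (Z : Subgroup Ω)
    (hinv : ∀ α ∈ F.autGroup P, ∀ x : P, (x : Ω) ∈ Z → ((α x : P) : Ω) ∈ Z)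
    (s : Ω) (hsS : s ∈ S) (hsN : s ∈ Subgroup.normalizer (P : Set Ω))
    (h1 : ∀ x : P, (x : Ω)⁻¹ * (s * x * s⁻¹) ∈ Z)
    (h2 : ∀ x : P, (x : Ω) ∈ Z → s * x * s⁻¹ = x) :
    P.normalizerMonoidHom ⟨s, hsN⟩ ∈
      (pCore p (F.autGroup P)).map (F.autGroup P).subtype := by
  have hPfin : Finite P := finite_of_le hP
  have hKn : ((stabSeries (Z.subgroupOf P)).subgroupOf (F.autGroup P)).Normal := by
    refine ⟨fun n hn g => ?_⟩
    rw [Subgroup.mem_subgroupOf] at hn ⊢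
    exact stabSeries_conj hn (fun x hx => hinv g g.2 x hx)
      (fun x hx => hinv _ (Subgroup.inv_mem _ g.2) x hx)
  have hZp : IsPGroup p (Z.subgroupOf P) := (hS.to_le hP).to_subgroup _
  have hKp : IsPGroup p ((stabSeries (Z.subgroupOf P)).subgroupOf (F.autGroup P)) :=
    isPGroup_stabSeries _ hZp _
  have hle : (stabSeries (Z.subgroupOf P)).subgroupOf (F.autGroup P) ≤ pCore p (F.autGroup P) :=
    le_sSup (⟨hKn, hKp⟩ : (stabSeries (Z.subgroupOf P)).subgroupOf (F.autGroup P) ∈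
      {N : Subgroup (F.autGroup P) | N.Normal ∧ IsPGroup p N})
  have hcA : P.normalizerMonoidHom ⟨s, hsN⟩ ∈ F.autGroup P :=
    Fusion.autInducedBy_le_autGroup F hP (Subgroup.subset_closure ⟨s, hsS, fun x => rfl⟩)
  have hcK : (⟨_, hcA⟩ : F.autGroup P) ∈
      (stabSeries (Z.subgroupOf P)).subgroupOf (F.autGroup P) := by
    rw [Subgroup.mem_subgroupOf]
    refine ⟨fun x => ?_, fun x hx => ?_⟩
    · exact Subgroup.mem_subgroupOf.mpr (h1 x)
    · exact Subtype.ext (h2 x (Subgroup.mem_subgroupOf.mp hx))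
  exact ⟨⟨_, hcA⟩, hle hcK, rfl⟩

/-- Radical subgroups are preserved by the isomorphisms of the system. -/
theorem isRadical_of_isIso [Finite S] {p : ℕ} [Fact p.Prime] (hS : IsPGroup p S)
    (F : FusionSystem S) {P Q : Subgroup Ω} {e : P ≃* Q} (he : Fusion.IsIso F e)
    (hrad : F.IsRadical p P) : F.IsRadical p Q := by
  refine ⟨he.le_right, le_antisymm ?_ (Fusion.inn_le_pCore_map hS F he.le_right)⟩
  rintro _ ⟨β, hβ, rfl⟩
  let ε : F.autGroup Q →* F.autGroup P :=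
    { toFun := fun β => ⟨MulAut.congr e.symm β, Fusion.congr_mem_autGroup F he.symm β.2⟩
      map_one' := by
        apply Subtype.ext
        exact map_one _
      map_mul' := fun a b => by
        apply Subtype.ext
        exact map_mul (MulAut.congr e.symm) _ _ }
  have hεsurj : Function.Surjective ε := by
    intro α
    refine ⟨⟨MulAut.congr e α, Fusion.congr_mem_autGroup F he α.2⟩, ?_⟩
    apply Subtype.ext
    apply MulEquiv.ext
    intro x
    show e.symm (e ((α : MulAut P) (e.symm (e x)))) = (α : MulAut P) x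
    simp
  have hNn : ((pCore p (F.autGroup Q)).map ε).Normal :=
    Subgroup.Normal.map (pCore_normal p _) ε hεsurj
  have hNp : IsPGroup p ((pCore p (F.autGroup Q)).map ε) :=
    (Cfsg.Agent.Lib.Helper18.pCore_isPGroup p _).map ε
  have hle := Cfsg.Agent.Lib.Helper18.le_pCore hNn hNp
  have h1 : ((ε β : F.autGroup P) : MulAut P) ∈
      (pCore p (F.autGroup P)).map (F.autGroup P).subtype :=
    ⟨ε β, hle ⟨β, hβ, rfl⟩, rfl⟩
  rw [hrad.2] at h1
  obtain ⟨y, hy⟩ := h1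
  refine ⟨e y, ?_⟩
  apply MulEquiv.ext
  intro z
  have h2 := congrArg (fun f : MulAut P => e (f (e.symm z))) hy
  have h3 : e (((ε β : F.autGroup P) : MulAut P) (e.symm z)) = (β : MulAut Q) z := by
    show e (e.symm ((β : MulAut Q) (e (e.symm z)))) = (β : MulAut Q) z
    simp
  simp only [h3] at h2
  show (MulAut.conj (e y)) z = (β : MulAut Q) z
  rw [← h2]
  show e y * z * (e y)⁻¹ = e (y * e.symm z * y⁻¹)
  simp

/-- A map of the system carries elements of a strongly closed subgroup into it. -/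
theorem hom_apply_mem_of_stronglyClosed (F : FusionSystem S) {T P : Subgroup Ω}
    (hT : F.StronglyClosed T) {φ : P →* Ω} (hφ : φ ∈ F.Hom P) (x : P) (hx : (x : Ω) ∈ T) :
    φ x ∈ T :=
  hT.2 (P ⊓ T) inf_le_right _ (Fusion.restrict_mem F hφ inf_le_left) ⟨x, ⟨x.2, hx⟩⟩

/-- If `T` is strongly closed and some conjugate `R₀` of `P ∩ T` has `C_T(R₀) ≰ R₀`, then some
conjugate `P*` of `P` has an element of `N_S(P*)` outside `P*` inducing an element of
`O_p(Aut_F(P*))`. -/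
theorem exists_conj_outer_pCore [Finite S] (p : ℕ) [Fact p.Prime] (hS : IsPGroup p S)
    (F : FusionSystem S) (hF : F.IsSaturated p) {T : Subgroup Ω} (hT : F.StronglyClosed T)
    {P : Subgroup Ω} (hP : P ≤ S) {R₀ : Subgroup Ω} (hconj : F.IsConj (P ⊓ T) R₀)
    (hR₀ : ¬ centralizerIn T R₀ ≤ R₀) :
    ∃ φ ∈ F.Hom P, ∃ x ∈ S ⊓ Subgroup.normalizer (φ.range : Set Ω), x ∉ φ.range ∧
      ∃ α ∈ ((pCore p (F.autGroup φ.range)).map (F.autGroup φ.range).subtype :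
        Subgroup (MulAut φ.range)),
        ∀ y : φ.range, ((α y : φ.range) : Ω) = x * (y : Ω) * x⁻¹ := by
  have hTS : T ≤ S := hT.1
  have hTn : S ≤ Subgroup.normalizer (T : Set Ω) := normal_of_stronglyClosed F hT
  have hTc : ∀ g ∈ S, ∀ y ∈ T, g * y * g⁻¹ ∈ T := fun g hg y hy =>
    (Subgroup.mem_normalizer_iff.1 (hTn hg) y).1 hy
  have hR₀S : R₀ ≤ S := Fusion.isConj_le_right F hconj
  obtain ⟨R', hR₀R', hR'n⟩ := Fusion.exists_fullyNormalized_conj F hR₀S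
  have hRR' : F.IsConj (P ⊓ T) R' := Fusion.isConj_trans F hconj hR₀R'
  have h77 := (Cfsg.Agent.S5077.result p hS F).1 hF
  obtain ⟨hR'c, hR'a⟩ := h77.1 R' hR'n
  have hR'r := h77.2 R' hR'c
  obtain ⟨χ, hχ, -, hχR⟩ := Cfsg.Agent.S5079.result p hS F R' (P ⊓ T) hR'a hR'r hRR'
  have hPN : P ≤ normalizerIn S (P ⊓ T) := by
    refine le_inf hP (le_normalizer_of_conj_mem (fun g hg y hy => ⟨?_, ?_⟩))
    · exact P.mul_mem (P.mul_mem hg hy.1) (P.inv_mem hg)
    · exact hTc g (hP hg) y hy.2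
  have hRN : P ⊓ T ≤ normalizerIn S (P ⊓ T) := inf_le_left.trans hPN
  obtain ⟨φ, hφ, hφχ⟩ : ∃ φ ∈ F.Hom P, ∀ u : P, φ u = χ ⟨u, hPN u.2⟩ :=
    ⟨_, Fusion.restrict_mem F hχ hPN, fun u => rfl⟩
  have hPsS : φ.range ≤ S := by
    rintro _ ⟨u, rfl⟩
    exact (F.le_of_mem hφ).2 u
  have hR'T : R' ≤ T := by
    obtain ⟨ρ, hρ, hρr⟩ := hRR'
    rw [← hρr]
    rintro _ ⟨u, rfl⟩
    exact hT.2 (P ⊓ T) inf_le_right ρ hρ u
  have hR'mem : ∀ y, y ∈ R' ↔ ∃ r : Ω, ∃ hr : r ∈ P ⊓ T, χ ⟨r, hRN hr⟩ = y := by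
    intro y
    rw [← hχR]
    constructor
    · rintro ⟨u, hu, rfl⟩
      exact ⟨u, Subgroup.mem_subgroupOf.1 hu, rfl⟩
    · rintro ⟨r, hr, rfl⟩
      exact ⟨⟨r, hRN hr⟩, Subgroup.mem_subgroupOf.2 hr, rfl⟩
  have hle1 : R' ≤ φ.range := by
    intro y hy
    obtain ⟨r, hr, rfl⟩ := (hR'mem y).1 hy
    exact ⟨⟨r, hr.1⟩, hφχ _⟩
  have hle2 : φ.range ⊓ T ≤ R' := by
    rintro y ⟨⟨u, rfl⟩, hyT⟩
    obtain ⟨ψ, hψ, hψinv⟩ := F.inv_mem hφ
    have h1 := hom_apply_mem_of_stronglyClosed F hT hψ ⟨φ u, ⟨u, rfl⟩⟩ hyT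
    rw [hψinv] at h1
    exact (hR'mem _).2 ⟨u, ⟨u.2, h1⟩, (hφχ u).symm⟩
  -- `C_T(R')` is not contained in `R'`
  obtain ⟨c', hc'C, hc'R⟩ : ∃ c', c' ∈ centralizerIn T R' ∧ c' ∉ R' := by
    obtain ⟨c, hcC, hcR⟩ := SetLike.not_le_iff_exists.1 hR₀
    obtain ⟨ρ, hρ, hρr⟩ := hR₀R'
    obtain ⟨ψ, hψ, hψext⟩ := hR'r.2 R₀ ρ hρ hρr
    have hcS : c ∈ S := hTS hcC.1
    have hcE : c ∈ extender S R₀ ρ := centralizerIn_le_extender ρ ⟨hcS, hcC.2⟩
    have hR₀E : R₀ ≤ extender S R₀ ρ := le_extender hR₀S (fun x => (F.le_of_mem hρ).2 x)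
    have hψr : ∀ r : R₀, ψ ⟨r, hR₀E r.2⟩ = ρ r := fun r => hψext r r.2 (hR₀E r.2)
    refine ⟨ψ ⟨c, hcE⟩, ⟨hom_apply_mem_of_stronglyClosed F hT hψ ⟨c, hcE⟩ hcC.1, ?_⟩, ?_⟩
    · show _ ∈ Subgroup.centralizer (R' : Set Ω)
      rw [Subgroup.mem_centralizer_iff]
      intro y hy
      rw [← hρr] at hy
      obtain ⟨r, rfl⟩ := hy
      rw [← hψr r, ← map_mul, ← map_mul]
      congr 1
      apply Subtype.ext
      exact Subgroup.mem_centralizer_iff.1 hcC.2 r r.2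
    · intro hmem
      rw [← hρr] at hmem
      obtain ⟨r, hr⟩ := hmem
      rw [← hψr r] at hr
      have h2 := congrArg Subtype.val (F.injective_of_mem hψ hr)
      apply hcR
      have h3 : (r : Ω) = c := h2
      rw [← h3]
      exact r.2
  -- `P*` normalizes `C_T(R')`
  have hPsn : φ.range ≤ Subgroup.normalizer ((centralizerIn T R' : Subgroup Ω) : Set Ω) := by
    apply le_normalizer_of_conj_mem
    intro g hg y hy
    refine ⟨hTc g (hPsS hg) y hy.1, ?_⟩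
    show _ ∈ Subgroup.centralizer (R' : Set Ω)
    rw [Subgroup.mem_centralizer_iff]
    intro r hr
    have hr' : g⁻¹ * r * g ∈ R' := by
      apply hle2
      refine ⟨?_, ?_⟩
      · exact Subgroup.mul_mem _ (Subgroup.mul_mem _ (Subgroup.inv_mem _ hg) (hle1 hr)) hg
      · have := hTc g⁻¹ (S.inv_mem (hPsS hg)) r (hR'T hr)
        simpa using this
    have h1 := Subgroup.mem_centralizer_iff.1 hy.2 _ hr'
    calc r * (g * y * g⁻¹) = g * ((g⁻¹ * r * g) * y) * g⁻¹ := by group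
      _ = g * (y * (g⁻¹ * r * g)) * g⁻¹ := by rw [h1]
      _ = g * y * g⁻¹ * r := by group
  have hDS : φ.range ⊔ centralizerIn T R' ≤ S := sup_le hPsS (inf_le_left.trans hTS)
  have hc'P : c' ∉ φ.range := fun h => hc'R (hle2 ⟨h, hc'C.1⟩)
  have hlt : φ.range < φ.range ⊔ centralizerIn T R' := by
    refine lt_of_le_of_ne le_sup_left (fun h => hc'P ?_)
    rw [h]
    exact (le_sup_right : centralizerIn T R' ≤ _) hc'C
  have hDfin : Finite ↥(φ.range ⊔ centralizerIn T R') := finite_of_le hDS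
  obtain ⟨n, hnD, hnN, hnP⟩ := exists_mem_normalizer_not_mem (hS.to_le hDS) hlt
  have hnmul : n ∈ ((φ.range : Set Ω) * ((centralizerIn T R' : Subgroup Ω) : Set Ω)) := by
    rw [← Subgroup.coe_mul_of_left_le_normalizer_right _ _ hPsn]
    exact hnD
  obtain ⟨u, hu, x, hx, rfl⟩ := Set.mem_mul.1 hnmul
  have hxN : x ∈ Subgroup.normalizer (φ.range : Set Ω) := by
    have : x = u⁻¹ * (u * x) := by group
    rw [this]
    exact Subgroup.mul_mem _ (Subgroup.inv_mem _ (Subgroup.le_normalizer hu)) hnN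
  have hxP : x ∉ φ.range := fun h => hnP (Subgroup.mul_mem _ hu h)
  have hxT : x ∈ T := hx.1
  have hxS : x ∈ S := hTS hxT
  refine ⟨φ, hφ, x, ⟨hxS, hxN⟩, hxP, φ.range.normalizerMonoidHom ⟨x, hxN⟩, ?_, fun y => rfl⟩
  apply conj_mem_pCore_of_stab hS F hPsS T ?_ x hxS hxN ?_ ?_
  · intro α hα y hy
    exact apply_mem_of_stronglyClosed F hT hPsS hα y hy
  · intro y
    have h1 := hTc (y : Ω)⁻¹ (S.inv_mem (hPsS y.2)) x hxT
    have : (y : Ω)⁻¹ * (x * y * x⁻¹) = ((y : Ω)⁻¹ * x * ((y : Ω)⁻¹)⁻¹) * x⁻¹ := by group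
    rw [this]
    exact T.mul_mem h1 (T.inv_mem hxT)
  · intro y hy
    have hyR : (y : Ω) ∈ R' := hle2 ⟨y.2, hy⟩
    have h1 := Subgroup.mem_centralizer_iff.1 hx.2 _ hyR
    rw [← h1]
    group

end Cfsg.Agent.Lib.Helper27
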