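import Mathlib
import Cfsg.Prelude.Def_FusionSystem
import Cfsg.Prelude.Def_FusionComponents
import Cfsg.Prelude.Def_CaseTheorems
import Cfsg.Agent.Lib.Helper26.FusionAut
import Cfsg.Agent.Lib.Helper26.FusionSat
import Cfsg.Agent.Lib.Helper26.FusionNormal
import Cfsg.Agent.Lib.Helper18.Basic
import Cfsg.Agent.Lib.Helper27.Basic
import Cfsg.Agent.Lib.Helper27.KNorm
import Cfsg.Agent.Lib.Helper27.NormalCrit
import Cfsg.Agent.Lib.Helper27.Centric
import Cfsg.Agent.Lib.Helper27.InnerSys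
import Cfsg.Agent.Lib.Helper27.Radical
import Cfsg.Agent.Lib.Helper27.CenterFactor
import Cfsg.Agent.Lib.Helper27.Chain
import Cfsg.Agent.Lib.Helper27.NonCentric
import Cfsg.Agent.S5077
import Cfsg.Agent.S5095

set_option autoImplicit false

namespace Cfsg.Agent.Lib.Helper27

open Cfsg Cfsg.FusionSystem Cfsg.Agent.Lib.Helper26

variable {Ω : Type*} [Group Ω] {S : Subgroup Ω}

/-- Restriction of an `F`-automorphism of `P` to a strongly closed subgroup `Q ≤ P`. -/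
theorem exists_restrict_aut [Finite S] (F : FusionSystem S) {Q P : Subgroup Ω}
    (hQ : F.StronglyClosed Q) (hQP : Q ≤ P) (hP : P ≤ S) {β : MulAut P}
    (hβ : β ∈ F.autGroup P) :
    ∃ b ∈ F.autGroup Q, ∀ q : Q, ((b q : Q) : Ω) = ((β ⟨q, hQP q.2⟩ : P) : Ω) := by
  have hQfin : Finite Q := finite_of_le hQ.1
  have hβ' := (Fusion.mem_autGroup_iff F hP).1 hβ
  have hres := Fusion.restrict_mem F hβ' hQP
  have hr : ((P.subtype.comp (β : P ≃* P).toMonoidHom).comp (Subgroup.inclusion hQP)).range = Q := by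
    apply Subgroup.eq_of_le_of_card_ge
    · rintro _ ⟨t, rfl⟩
      exact hQ.2 Q le_rfl _ hres t
    · exact le_of_eq (Nat.card_congr (Equiv.ofInjective _ (F.injective_of_mem hres)))
  exact ⟨Fusion.equivOfRange _ (F.injective_of_mem hres) hr,
    (Fusion.mem_autGroup_iff F hQ.1).2 (Fusion.isIso_equivOfRange F hres hr), fun q => rfl⟩

/-- A map of the system carrying `Q` onto `Q` restricts to an element of `Aut_F(Q)`. -/
theorem exists_aut_of_map_eq (F : FusionSystem S) {R Q : Subgroup Ω} (hQR : Q ≤ R) {ψ : R →* Ω}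
    (hψ : ψ ∈ F.Hom R) (hmap : (Q.subgroupOf R).map ψ = Q) :
    ∃ b ∈ F.autGroup Q, ∀ q : Q, ((b q : Q) : Ω) = ψ ⟨q, hQR q.2⟩ := by
  have hQS : Q ≤ S := hQR.trans (F.le_of_mem hψ).1
  have hres := Fusion.restrict_mem F hψ hQR
  have hr : (ψ.comp (Subgroup.inclusion hQR)).range = Q := by
    apply le_antisymm
    · rintro _ ⟨q, rfl⟩
      exact hmap.le ⟨_, Subgroup.mem_subgroupOf.mpr q.2, rfl⟩
    · intro y hy
      obtain ⟨a, ha, rfl⟩ := hmap.ge hy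
      exact ⟨⟨a, Subgroup.mem_subgroupOf.mp ha⟩, rfl⟩
  exact ⟨Fusion.equivOfRange _ (F.injective_of_mem hres) hr,
    (Fusion.mem_autGroup_iff F hQS).2 (Fusion.isIso_equivOfRange F hres hr), fun q => rfl⟩

/-- The elements of `Aut_F(P)` whose restriction to `Q ≤ P` lies in `A ≤ Aut(Q)`. -/
def resGroup (F : FusionSystem S) {Q P : Subgroup Ω} (hQP : Q ≤ P) (A : Subgroup (MulAut Q)) :
    Subgroup (F.autGroup P) where
  carrier := {γ | ∃ a ∈ A, ∀ q : Q, (((γ : MulAut P) ⟨q, hQP q.2⟩ : P) : Ω) = ((a q : Q) : Ω)}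
  one_mem' := ⟨1, A.one_mem, fun q => rfl⟩
  mul_mem' := by
    rintro γ δ ⟨a, ha, h1⟩ ⟨b, hb, h2⟩
    refine ⟨a * b, A.mul_mem ha hb, fun q => ?_⟩
    show ((((γ : MulAut P) ((δ : MulAut P) ⟨q, hQP q.2⟩)) : P) : Ω) = ((a (b q) : Q) : Ω)
    have e : (δ : MulAut P) ⟨q, hQP q.2⟩ = ⟨(b q : Q), hQP (b q).2⟩ := Subtype.ext (h2 q)
    rw [e, h1]
  inv_mem' := by
    rintro γ ⟨a, ha, h1⟩
    refine ⟨a⁻¹, A.inv_mem ha, fun q => ?_⟩
    have e : (γ : MulAut P) ⟨(a⁻¹ q : Q), hQP (a⁻¹ q).2⟩ = ⟨q, hQP q.2⟩ := by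
      apply Subtype.ext
      rw [h1, MulAut.apply_inv_self]
    show ((((γ : MulAut P)⁻¹ ⟨q, hQP q.2⟩) : P) : Ω) = _
    rw [← e, MulAut.inv_apply_self]

theorem resGroup_normal [Finite S] (F : FusionSystem S) {Q P : Subgroup Ω}
    (hQ : F.StronglyClosed Q) (hQP : Q ≤ P) (hP : P ≤ S) (A : Subgroup (MulAut Q))
    (hA : ∀ b ∈ F.autGroup Q, ∀ a ∈ A, b * a * b⁻¹ ∈ A) : (resGroup F hQP A).Normal := by
  refine ⟨fun γ hγ δ => ?_⟩
  obtain ⟨a, ha, h1⟩ := hγ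
  obtain ⟨b, hb, h2⟩ := exists_restrict_aut F hQ hQP hP δ.2
  refine ⟨b * a * b⁻¹, hA b hb a ha, fun q => ?_⟩
  show ((((δ : MulAut P) ((γ : MulAut P) ((δ : MulAut P)⁻¹ ⟨q, hQP q.2⟩))) : P) : Ω) =
    ((b (a (b⁻¹ q)) : Q) : Ω)
  have e1 : (δ : MulAut P)⁻¹ ⟨q, hQP q.2⟩ = ⟨(b⁻¹ q : Q), hQP (b⁻¹ q).2⟩ := by
    have h3 : (δ : MulAut P) ⟨(b⁻¹ q : Q), hQP (b⁻¹ q).2⟩ = ⟨q, hQP q.2⟩ := by
      apply Subtype.ext
      rw [← h2, MulAut.apply_inv_self]
    rw [← h3, MulAut.inv_apply_self]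
  have e2 : (γ : MulAut P) ⟨(b⁻¹ q : Q), hQP (b⁻¹ q).2⟩ =
      ⟨(a (b⁻¹ q) : Q), hQP (a (b⁻¹ q)).2⟩ := Subtype.ext (h1 _)
  rw [e1, e2, ← h2]

theorem resGroup_isPGroup [Finite S] (p : ℕ) [Fact p.Prime] (hS : IsPGroup p S)
    (F : FusionSystem S) (hF : F.IsSaturated p) {Q P : Subgroup Ω} (hQc : F.IsCentric Q)
    (hQP : Q ≤ P) (hP : P ≤ S) (A : Subgroup (MulAut Q)) (hA : IsPGroup p A) :
    IsPGroup p (resGroup F hQP A) := by
  rintro ⟨γ, a, ha, h1⟩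
  have hpow : ∀ n : ℕ, ∀ q : Q,
      ((((γ : MulAut P) ^ n) ⟨q, hQP q.2⟩ : P) : Ω) = (((a ^ n) q : Q) : Ω) := by
    intro n
    induction n with
    | zero => intro q; rfl
    | succ n ih =>
      intro q
      rw [pow_succ', pow_succ', MulAut.mul_apply, MulAut.mul_apply]
      have e : ((γ : MulAut P) ^ n) ⟨q, hQP q.2⟩ = ⟨((a ^ n) q : Q), hQP ((a ^ n) q).2⟩ :=
        Subtype.ext (ih q)
      rw [e, h1]
  obtain ⟨k, hk⟩ := hA ⟨a, ha⟩
  have hk' : a ^ p ^ k = 1 := by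
    have := congrArg Subtype.val hk
    rwa [Subgroup.coe_pow] at this
  have hδ : ((γ : MulAut P) ^ p ^ k) ∈ F.autGroup P := (F.autGroup P).pow_mem γ.2 _
  have hδ' := (Fusion.mem_autGroup_iff F hP).1 hδ
  have hin : P.subtype.comp (((γ : MulAut P) ^ p ^ k : MulAut P) : P ≃* P).toMonoidHom ∈
      (innerFusionSystem S).Hom P := by
    refine mem_of_restrict_centric p hS F (innerFusionSystem S) hF (innerFS_saturated hS)
      (innerFS_subsystem F le_rfl) hδ' hQP hQc ?_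
    have e : (P.subtype.comp (((γ : MulAut P) ^ p ^ k : MulAut P) : P ≃* P).toMonoidHom).comp
        (Subgroup.inclusion hQP) = Q.subtype := by
      ext q
      show ((((γ : MulAut P) ^ p ^ k) ⟨q, hQP q.2⟩ : P) : Ω) = q
      rw [hpow, hk']
      rfl
    rw [e]
    exact Fusion.subtype_mem _ hQc.1
  obtain ⟨-, g, hg, hgc⟩ := mem_innerFS_hom.1 hin
  obtain ⟨m, hm⟩ := hS ⟨g, hg⟩
  have hm' : g ^ p ^ m = 1 := by
    have := congrArg Subtype.val hm
    rwa [Subgroup.coe_pow] at this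
  refine ⟨k + m, ?_⟩
  apply Subtype.ext
  apply Subtype.ext
  show (γ : MulAut P) ^ p ^ (k + m) = 1
  rw [pow_add, pow_mul]
  ext x
  rw [conj_pow_apply (c := (γ : MulAut P) ^ p ^ k) (g := g) (fun x => hgc x), hm']
  simp

/-- For `Q ⊴ F` centric and `A` a normal `p`-subgroup of `Aut_F(Q)`, the subgroup `N_S^A(Q)` is
normal in `F`. -/
theorem isNormal_NK_of_normal_pgroup [Finite S] (p : ℕ) [Fact p.Prime] (hS : IsPGroup p S)
    (F : FusionSystem S) (hF : F.IsSaturated p) {Q : Subgroup Ω} (hQ : F.IsNormal Q)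
    (hQc : F.IsCentric Q) (A : Subgroup (MulAut Q)) (hAp : IsPGroup p A)
    (hA : ∀ b ∈ F.autGroup Q, ∀ a ∈ A, b * a * b⁻¹ ∈ A) :
    F.IsNormal (NK S Q A) := by
  have hQsc := stronglyClosed_of_isNormal F hQ
  have hsc : F.StronglyClosed (NK S Q A) := by
    refine ⟨NK_le Q A, ?_⟩
    intro R hR φ hφ x
    obtain ⟨ψ, hψ, hext, hmap⟩ := hQ.2 R φ hφ
    obtain ⟨b, hb, hbψ⟩ := exists_aut_of_map_eq F (le_sup_right : Q ≤ R ⊔ Q) hψ hmap
    obtain ⟨-, a, ha, hax⟩ := hR x.2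
    refine ⟨(F.le_of_mem hφ).2 x, b * a * b⁻¹, hA b hb a ha, fun q => ?_⟩
    show ((b (a (b⁻¹ q)) : Q) : Ω) = _
    rw [hbψ]
    have e : (⟨(a (b⁻¹ q) : Q), (le_sup_right : Q ≤ R ⊔ Q) (a (b⁻¹ q)).2⟩ : ↥(R ⊔ Q)) =
        Subgroup.inclusion le_sup_left x * ⟨(b⁻¹ q : Q), (le_sup_right : Q ≤ R ⊔ Q) (b⁻¹ q).2⟩ *
          (Subgroup.inclusion le_sup_left x)⁻¹ := by
      apply Subtype.ext
      exact hax _
    rw [e, map_mul, map_mul, map_inv, hext, ← hbψ, MulAut.apply_inv_self]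
  rw [isNormal_iff_stronglyClosed_radical p hS F hF]
  refine ⟨hsc, fun P hPc hPr => ?_⟩
  have hcen : centralizerIn S P ≤ P := hPc.2 P (Fusion.isConj_refl F hPc.1)
  have hQP : Q ≤ P := le_of_isNormal_of_radical hS F hQ hcen hPr
  have hRn : S ≤ Subgroup.normalizer (NK S Q A : Set Ω) := normal_of_stronglyClosed F hsc
  apply le_of_normalizer_le hS hPc.1 (NK_le Q A) (hPc.1.trans hRn)
  intro g hgR hgN
  obtain ⟨hgS, κ, hκ, hκg⟩ := hgR
  have hcA : P.normalizerMonoidHom ⟨g, hgN⟩ ∈ F.autGroup P :=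
    Fusion.autInducedBy_le_autGroup F hPc.1 (Subgroup.subset_closure ⟨g, hgS, fun x => rfl⟩)
  refine mem_of_radical_of_normal_pgroup F hcen hPr (resGroup F hQP A)
    (resGroup_normal F hQsc hQP hPc.1 A hA) (resGroup_isPGroup p hS F hF hQc hQP hPc.1 A hAp)
    hgS ⟨⟨_, hcA⟩, ⟨κ, hκ, fun q => (hκg q).symm⟩, fun x => rfl⟩

/-- In a saturated system whose core is centric, the core is radical. -/
theorem core_isRadical [Finite S] (p : ℕ) [Fact p.Prime] (hS : IsPGroup p S)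
    (F : FusionSystem S) (hF : F.IsSaturated p) (hc : F.IsCentric F.core) :
    F.IsRadical p F.core := by
  have hQ : F.IsNormal F.core := isNormal_core F
  have hQS := hQ.1
  refine ⟨hQS, le_antisymm ?_ (Fusion.inn_le_pCore_map hS F hQS)⟩
  obtain ⟨A, hAdef⟩ : ∃ A : Subgroup (MulAut F.core),
      A = (pCore p (F.autGroup F.core)).map (F.autGroup F.core).subtype := ⟨_, rfl⟩
  have hAp : IsPGroup p A := by
    rw [hAdef]
    exact (Cfsg.Agent.Lib.Helper18.pCore_isPGroup p _).map _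
  have hAn : ∀ b ∈ F.autGroup F.core, ∀ a ∈ A, b * a * b⁻¹ ∈ A := by
    intro b hb a ha
    rw [hAdef] at ha ⊢
    obtain ⟨a, ha, rfl⟩ := ha
    exact ⟨⟨b, hb⟩ * a * ⟨b, hb⟩⁻¹, (pCore_normal p _).conj_mem a ha ⟨b, hb⟩, rfl⟩
  have hN : F.IsNormal (NK S F.core A) := isNormal_NK_of_normal_pgroup p hS F hF hQ hc A hAp hAn
  have hle : NK S F.core A ≤ F.core := le_sSup hN
  have hfn : F.IsFullyNormalized F.core := fullyNormalized_of_isNormal F hQ
  have hfa : F.IsFullyAutomized p F.core :=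
    ((((Cfsg.Agent.S5077.result p hS F).1 hF).1 _ hfn)).2
  obtain ⟨-, R, hR⟩ := hfa
  rintro _ ⟨a, ha, rfl⟩
  have h1 : a ∈ (R : Subgroup (F.autGroup F.core)) :=
    Cfsg.Agent.Lib.Helper18.pCore_le_sylow R ha
  rw [hR] at h1
  obtain ⟨s, hs, hsa⟩ := Fusion.mem_autInducedBy_iff.1 (Subgroup.mem_subgroupOf.mp h1)
  have hsN : s ∈ NK S F.core A := by
    refine ⟨hs, (a : MulAut F.core), ?_, hsa⟩
    rw [hAdef]
    exact ⟨a, ha, rfl⟩
  have hsQ : s ∈ F.core := hle hsN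
  refine ⟨⟨s, hsQ⟩, ?_⟩
  apply MulEquiv.ext
  intro x
  apply Subtype.ext
  show (s * x * s⁻¹ : Ω) = (((a : MulAut F.core) x : F.core) : Ω)
  rw [hsa]

/-- A subsystem `D ⊆ F` over a strongly closed `U`: `Q ∩ U` lies in every `D`-radical subgroup
containing its centralizer in `U`, for `Q ⊴ F`. -/
theorem le_of_radical_sub [Finite S] {p : ℕ} [Fact p.Prime] (hS : IsPGroup p S)
    (F : FusionSystem S) {U : Subgroup Ω} (D : FusionSystem U) (hDF : D.IsSubsystemOf F)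
    (hU : F.StronglyClosed U) {Q P : Subgroup Ω} (hQ : F.IsNormal Q)
    (hcen : centralizerIn U P ≤ P) (hrad : D.IsRadical p P) : Q ⊓ U ≤ P := by
  have hP : P ≤ U := hrad.1
  have hUS : U ≤ S := hU.1
  have hUfin : Finite U := finite_of_le hUS
  have hUp : IsPGroup p U := hS.to_le hUS
  have hWU : P ⊔ (Q ⊓ U) ≤ U := sup_le hP inf_le_right
  have hWPQ : P ⊔ (Q ⊓ U) ≤ P ⊔ Q := sup_le_sup_left inf_le_left P
  have hPfin : Finite P := finite_of_le (hP.trans hUS)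
  have hKp : IsPGroup p ((autInducedBy (P ⊔ (Q ⊓ U)) P).subgroupOf (D.autGroup P)) :=
    isPGroup_autInducedBy hUp hWU P _
  have hKn : ((autInducedBy (P ⊔ (Q ⊓ U)) P).subgroupOf (D.autGroup P)).Normal := by
    refine ⟨fun c hc γ => ?_⟩
    rw [Subgroup.mem_subgroupOf] at hc ⊢
    obtain ⟨g, hg, hgc⟩ := Fusion.mem_autInducedBy_iff.1 hc
    have hγ := γ.2
    rw [Fusion.mem_autGroup_iff D hP] at hγ
    obtain ⟨ψ, hψ, hext, hmap⟩ := hQ.2 P _ (hDF P hγ)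
    have hψval : ∀ z : ↥(P ⊔ (Q ⊓ U)), (ψ.comp (Subgroup.inclusion hWPQ)) z ∈ P ⊔ (Q ⊓ U) := by
      apply forall_mem_of_sup
      · intro a
        show ψ (Subgroup.inclusion le_sup_left a) ∈ _
        rw [hext a]
        exact Subgroup.mem_sup_left ((γ : MulAut P) a).2
      · intro b
        apply Subgroup.mem_sup_right
        refine ⟨?_, ?_⟩
        · exact hmap.le ⟨_, Subgroup.mem_subgroupOf.mpr b.2.1, rfl⟩
        · exact hom_apply_mem_of_stronglyClosed F hU hψ _ b.2.2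
    apply Fusion.mem_autInducedBy_iff.2
    refine ⟨ψ ⟨g, hWPQ hg⟩, hψval ⟨g, hg⟩, fun x => ?_⟩
    show ((((γ : MulAut P) * (c : MulAut P) * (γ : MulAut P)⁻¹) x : P) : Ω) = _
    rw [MulAut.mul_apply, MulAut.mul_apply]
    have h2 : ((((γ : MulAut P) ((c : MulAut P) ((γ : MulAut P)⁻¹ x)) : P) : Ω)) =
        ψ (Subgroup.inclusion le_sup_left ((c : MulAut P) ((γ : MulAut P)⁻¹ x))) := (hext _).symm
    rw [h2]
    have h3 : Subgroup.inclusion (le_sup_left : P ≤ P ⊔ Q) ((c : MulAut P) ((γ : MulAut P)⁻¹ x)) =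
        ⟨g, hWPQ hg⟩ * Subgroup.inclusion le_sup_left ((γ : MulAut P)⁻¹ x) * ⟨g, hWPQ hg⟩⁻¹ := by
      apply Subtype.ext
      exact hgc _
    rw [h3, map_mul, map_mul, map_inv, hext]
    show ψ ⟨g, hWPQ hg⟩ * (((γ : MulAut P) ((γ : MulAut P)⁻¹ x) : P) : Ω) * (ψ ⟨g, hWPQ hg⟩)⁻¹ = _
    rw [MulAut.apply_inv_self]
  have hN : ∀ g ∈ P ⊔ (Q ⊓ U), g ∈ Subgroup.normalizer (P : Set Ω) → g ∈ P := by
    intro g hg hgN
    have hcS : P.normalizerMonoidHom ⟨g, hgN⟩ ∈ autInducedBy U P :=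
      Subgroup.subset_closure ⟨g, hWU hg, fun x => rfl⟩
    have hcA : P.normalizerMonoidHom ⟨g, hgN⟩ ∈ D.autGroup P :=
      Fusion.autInducedBy_le_autGroup D hP hcS
    refine mem_of_radical_of_normal_pgroup D hcen hrad _ hKn hKp (hWU hg)
      ⟨⟨_, hcA⟩, ?_, fun x => rfl⟩
    exact Subgroup.mem_subgroupOf.mpr (Subgroup.subset_closure ⟨g, hg, fun x => rfl⟩)
  by_contra hQP
  have hlt : P < P ⊔ (Q ⊓ U) :=
    lt_of_le_not_ge le_sup_left (fun h => hQP (le_sup_right.trans h))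
  have hWfin : Finite ↥(P ⊔ (Q ⊓ U)) := finite_of_le (hWU.trans hUS)
  obtain ⟨g, hg, hgN, hgP⟩ := exists_mem_normalizer_not_mem (hS.to_le (hWU.trans hUS)) hlt
  exact hgP (hN g hg hgN)

/-- A normal subsystem of a constrained system is constrained. -/
theorem isConstrained_of_isNormalIn [Finite S] (p : ℕ) [Fact p.Prime] (hS : IsPGroup p S)
    (F : FusionSystem S) (hF : F.IsConstrained p) {U : Subgroup Ω} (D : FusionSystem U)
    (hD : D.IsNormalIn F p) : D.IsConstrained p := by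
  obtain ⟨⟨hDsat, hFsat, hsub, hU, -, -⟩, -⟩ := hD
  obtain ⟨-, Q₀, hQ₀n, hQ₀c⟩ := hF
  have hUS : U ≤ S := hU.1
  have hUfin : Finite U := finite_of_le hUS
  have hUp : IsPGroup p U := hS.to_le hUS
  have hQ : F.IsNormal F.core := isNormal_core F
  have hQc : F.IsCentric F.core := Cfsg.Agent.S5095.centric_of_le F hQ₀c (le_sSup hQ₀n) hQ.1
  have hQr : F.IsRadical p F.core := core_isRadical p hS F hFsat hQc
  have hQsc := stronglyClosed_of_isNormal F hQ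
  have hSNQ : S ≤ Subgroup.normalizer (F.core : Set Ω) := normal_of_stronglyClosed F hQsc
  have hSNU : S ≤ Subgroup.normalizer (U : Set Ω) := normal_of_stronglyClosed F hU
  have hVfin : Finite ↥(F.core ⊓ U) := finite_of_le (inf_le_right.trans hUS)
  have hVsc : D.StronglyClosed (F.core ⊓ U) := by
    refine ⟨inf_le_right, fun R hR φ hφ x => ⟨?_, (D.le_of_mem hφ).2 x⟩⟩
    exact hQsc.2 R (hR.trans inf_le_left) φ (hsub R hφ) x
  have hVn : D.IsNormal (F.core ⊓ U) := by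
    rw [isNormal_iff_stronglyClosed_radical p hUp D hDsat]
    refine ⟨hVsc, fun P hPc hPr => ?_⟩
    exact le_of_radical_sub hS F D hsub hU hQ (hPc.2 P (Fusion.isConj_refl D hPc.1)) hPr
  refine ⟨hDsat, F.core ⊓ U, hVn, inf_le_right, ?_⟩
  intro V' hconj
  obtain ⟨φ, hφ, hr⟩ := hconj
  have hV' : V' = F.core ⊓ U := by
    rw [← hr]
    apply Subgroup.eq_of_le_of_card_ge
    · rintro _ ⟨x, rfl⟩
      exact hVsc.2 _ le_rfl φ hφ x
    · exact le_of_eq (Nat.card_congr (Equiv.ofInjective φ (D.injective_of_mem hφ)))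
  rw [hV']
  rintro d ⟨hdU, hdC⟩
  have hdS := hUS hdU
  refine ⟨?_, hdU⟩
  refine mem_of_radical_of_stab hS F (hQc.2 _ (Fusion.isConj_refl F hQ.1)) hQr (F.core ⊓ U) ?_
    d hdS (hSNQ hdS) ?_ ?_
  · intro α hα x hx
    exact ⟨(α x).2, apply_mem_of_stronglyClosed F hU hQ.1 hα x hx.2⟩
  · intro x
    refine ⟨?_, ?_⟩
    · exact Subgroup.mul_mem _ (Subgroup.inv_mem _ x.2)
        ((Subgroup.mem_normalizer_iff.1 (hSNQ hdS) x).1 x.2)
    · have e : (x : Ω)⁻¹ * (d * x * d⁻¹) = ((x : Ω)⁻¹ * d * ((x : Ω)⁻¹)⁻¹) * d⁻¹ := by group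
      rw [e]
      exact U.mul_mem
        ((Subgroup.mem_normalizer_iff.1 (hSNU (S.inv_mem (hQ.1 x.2))) d).1 hdU) (U.inv_mem hdU)
  · intro x hx
    have h1 := Subgroup.mem_centralizer_iff.1 hdC x hx
    rw [← h1]
    group

/-- A subnormal subsystem of a constrained system is constrained. -/
theorem isConstrained_of_isSubnormalIn {p : ℕ} {T S : Subgroup Ω} {E : FusionSystem T}
    {F : FusionSystem S} (h : E.IsSubnormalIn F p) :
    ∀ (_ : Finite S) (_ : Fact p.Prime), IsPGroup p S → F.IsConstrained p →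
      E.IsConstrained p := by
  induction h with
  | refl F p => intro _ _ _ hF; exact hF
  | step hED hDF ih =>
    intro hfin hp hS hF
    have hD := isConstrained_of_isNormalIn _ hS _ hF _ hDF
    have hUS := hDF.1.2.2.2.1.1
    exact ih (finite_of_le hUS) hp (hS.to_le hUS) hD

end Cfsg.Agent.Lib.Helper27
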