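import Cfsg.Agent.Lib.Helper27.Alperin
import Cfsg.Agent.Lib.Helper27.Induct
import Cfsg.Agent.Lib.Helper18.Basic
import Cfsg.Agent.S5077

set_option autoImplicit false

namespace Cfsg.Agent.Lib.Helper27

open Cfsg Cfsg.FusionSystem Cfsg.Agent.Lib.Helper26

theorem pResidual_map_le {G G' : Type*} [Group G] [Group G'] (p : ℕ) (Φ : G →* G') :
    (pResidual p G).map Φ ≤ pResidual p G' := by
  rw [Subgroup.map_le_iff_le_comap]
  unfold pResidual
  rw [Subgroup.closure_le]
  intro g hg
  apply Subgroup.subset_closure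
  exact Nat.Coprime.coprime_dvd_left (orderOf_map_dvd Φ g) hg

variable {Ω : Type*} [Group Ω] {S : Subgroup Ω}

theorem hyperfocal_le (F : FusionSystem S) (p : ℕ) : F.hyperfocalSubgroup p ≤ S := by
  unfold FusionSystem.hyperfocalSubgroup
  rw [Subgroup.closure_le]
  rintro _ ⟨P, α, x, hP, -, rfl⟩
  exact S.mul_mem (S.inv_mem (hP x.2)) (hP ((α : MulAut P) x).2)

theorem mem_hyperfocal (F : FusionSystem S) (p : ℕ) {P : Subgroup Ω} (hP : P ≤ S)
    {α : F.autGroup P} (hα : α ∈ pResidual p (F.autGroup P)) (x : P) :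
    (x : Ω)⁻¹ * (((α : MulAut P) x : P) : Ω) ∈ F.hyperfocalSubgroup p :=
  Subgroup.subset_closure ⟨P, α, x, hP, hα, rfl⟩

/-- The hyperfocal subgroup is normalized by `S`. -/
theorem hyperfocal_conj_mem (F : FusionSystem S) (p : ℕ) {s : Ω} (hs : s ∈ S) {y : Ω}
    (hy : y ∈ F.hyperfocalSubgroup p) : s * y * s⁻¹ ∈ F.hyperfocalSubgroup p := by
  have hle : F.hyperfocalSubgroup p ≤
      (F.hyperfocalSubgroup p).comap (MulAut.conj s).toMonoidHom := by
    conv_lhs => unfold FusionSystem.hyperfocalSubgroup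
    rw [Subgroup.closure_le]
    rintro _ ⟨P, α, u, hP, hα, rfl⟩
    show s * ((u : Ω)⁻¹ * (((α : MulAut P) u : P) : Ω)) * s⁻¹ ∈ F.hyperfocalSubgroup p
    have hc := F.conj_mem hP hs
    have he := Fusion.isIso_equivOfRange F hc rfl
    have hP' : (conjHom P s).range ≤ S := he.le_right
    have hΦ := pResidual_map_le p
      (((MulAut.congr (Fusion.equivOfRange (conjHom P s) (F.injective_of_mem hc) rfl)).toMonoidHom.comp
        (F.autGroup P).subtype).codRestrict (F.autGroup (conjHom P s).range)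
          (fun a => Fusion.congr_mem_autGroup F he a.2))
    have hα' := hΦ ⟨α, hα, rfl⟩
    have h1 := mem_hyperfocal F p hP' hα'
      (Fusion.equivOfRange (conjHom P s) (F.injective_of_mem hc) rfl u)
    have e : s * ((u : Ω)⁻¹ * (((α : MulAut P) u : P) : Ω)) * s⁻¹ =
        (s * (u : Ω) * s⁻¹)⁻¹ * (s * (((α : MulAut P) u : P) : Ω) * s⁻¹) := by group
    rw [e]
    have e2 : (Fusion.equivOfRange (conjHom P s) (F.injective_of_mem hc) rfl).symm
        (Fusion.equivOfRange (conjHom P s) (F.injective_of_mem hc) rfl u) = u := by simp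
    have h2 : ((MulAut.congr (Fusion.equivOfRange (conjHom P s) (F.injective_of_mem hc) rfl)
        (α : MulAut P)) (Fusion.equivOfRange (conjHom P s) (F.injective_of_mem hc) rfl u)) =
        Fusion.equivOfRange (conjHom P s) (F.injective_of_mem hc) rfl ((α : MulAut P) u) := by
      show Fusion.equivOfRange (conjHom P s) (F.injective_of_mem hc) rfl ((α : MulAut P)
        ((Fusion.equivOfRange (conjHom P s) (F.injective_of_mem hc) rfl).symm
          (Fusion.equivOfRange (conjHom P s) (F.injective_of_mem hc) rfl u))) = _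
      rw [e2]
    have h3 : ((Fusion.equivOfRange (conjHom P s) (F.injective_of_mem hc) rfl u :
        (conjHom P s).range) : Ω)⁻¹ *
        (((MulAut.congr (Fusion.equivOfRange (conjHom P s) (F.injective_of_mem hc) rfl)
        (α : MulAut P)) (Fusion.equivOfRange (conjHom P s) (F.injective_of_mem hc) rfl u) :
          (conjHom P s).range) : Ω) ∈ F.hyperfocalSubgroup p := h1
    rw [h2] at h3
    exact h3
  exact hle hy

theorem hyperfocal_conj_mem_iff (F : FusionSystem S) (p : ℕ) {s : Ω} (hs : s ∈ S) {y : Ω} :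
    s * y * s⁻¹ ∈ F.hyperfocalSubgroup p ↔ y ∈ F.hyperfocalSubgroup p := by
  constructor
  · intro h
    have := hyperfocal_conj_mem F p (S.inv_mem hs) h
    have e : s⁻¹ * (s * y * s⁻¹) * s⁻¹⁻¹ = y := by group
    rwa [e] at this
  · exact hyperfocal_conj_mem F p hs

/-- The maps of `F` compatible with the hyperfocal subgroup. -/
def hypSystem (F : FusionSystem S) (p : ℕ) : FusionSystem S where
  Hom P := {φ | φ ∈ F.Hom P ∧ ∀ x : P, φ x ∈ F.hyperfocalSubgroup p ↔
    (x : Ω) ∈ F.hyperfocalSubgroup p}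
  le_of_mem := fun h => F.le_of_mem h.1
  injective_of_mem := fun h => F.injective_of_mem h.1
  conj_mem := by
    intro P g hP hg
    exact ⟨F.conj_mem hP hg, fun x => hyperfocal_conj_mem_iff F p hg⟩
  comp_mem := by
    rintro P Q φ ψ ⟨hφ, h₁⟩ ⟨hψ, h₂⟩ hval
    refine ⟨F.comp_mem hφ hψ hval, fun x => ?_⟩
    show ψ ⟨φ x, hval x⟩ ∈ _ ↔ _
    rw [h₂ ⟨φ x, hval x⟩]
    exact h₁ x
  inv_mem := by
    rintro P φ ⟨hφ, h₁⟩
    obtain ⟨χ, hχ, hχv⟩ := F.inv_mem hφ
    refine ⟨χ, ⟨hχ, ?_⟩, hχv⟩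
    rintro ⟨_, x, rfl⟩
    rw [hχv]
    exact (h₁ x).symm

/-- In a saturated fusion system the hyperfocal subgroup is strongly closed. -/
theorem hyperfocal_stronglyClosed [Finite S] (p : ℕ) [Fact p.Prime] (hS : IsPGroup p S)
    (F : FusionSystem S) (hF : F.IsSaturated p) : F.StronglyClosed (F.hyperfocalSubgroup p) := by
  have key : F ≤ hypSystem F p := by
    apply alperin p hS F hF
    intro P hP α hα
    have hPa : F.IsFullyAutomized p P := by
      rcases hP with rfl | hP
      · exact (top_automized_receptive p F hF).1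
      · exact (((Cfsg.Agent.S5077.result p hS F).1 hF).1 P hP.2.1).2
    obtain ⟨hPS, R, hR⟩ := hPa
    have hPfin : Finite P := finite_of_le hPS
    have hsup := Cfsg.Agent.Lib.Helper18.pResidual_sup_sylow R
    have hmem : (⟨α, hα⟩ : F.autGroup P) ∈ pResidual p (F.autGroup P) ⊔ (R : Subgroup _) := by
      rw [hsup]
      trivial
    obtain ⟨β, hβ, r, hr, hβr⟩ := Subgroup.mem_sup_of_normal_left.mp hmem
    have hr' : r ∈ (R : Subgroup (F.autGroup P)) := hr
    rw [hR, Subgroup.mem_subgroupOf] at hr'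
    obtain ⟨s, hsS, hs⟩ := Fusion.mem_autInducedBy_iff.1 hr'
    rw [Fusion.mem_autGroup_iff _ hPS]
    refine ⟨(Fusion.mem_autGroup_iff F hPS).1 hα, fun x => ?_⟩
    have hα_eq : α = (β : MulAut P) * (r : MulAut P) := congrArg Subtype.val hβr.symm
    show ((α x : P) : Ω) ∈ _ ↔ _
    rw [hα_eq]
    show (((β : MulAut P) ((r : MulAut P) x) : P) : Ω) ∈ _ ↔ _
    have h1 := mem_hyperfocal F p hPS hβ ((r : MulAut P) x)
    have h2 : (((β : MulAut P) ((r : MulAut P) x) : P) : Ω) ∈ F.hyperfocalSubgroup p ↔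
        (((r : MulAut P) x : P) : Ω) ∈ F.hyperfocalSubgroup p := by
      constructor
      · intro h
        have e : (((r : MulAut P) x : P) : Ω) = (((β : MulAut P) ((r : MulAut P) x) : P) : Ω) *
            ((((r : MulAut P) x : P) : Ω)⁻¹ * (((β : MulAut P) ((r : MulAut P) x) : P) : Ω))⁻¹ := by
          group
        rw [e]
        exact Subgroup.mul_mem _ h (Subgroup.inv_mem _ h1)
      · intro h
        have e : (((β : MulAut P) ((r : MulAut P) x) : P) : Ω) = (((r : MulAut P) x : P) : Ω) *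
            ((((r : MulAut P) x : P) : Ω)⁻¹ * (((β : MulAut P) ((r : MulAut P) x) : P) : Ω)) := by
          group
        rw [e]
        exact Subgroup.mul_mem _ h h1
    rw [h2, hs x]
    exact hyperfocal_conj_mem_iff F p hsS
  refine ⟨hyperfocal_le F p, fun R hR φ hφ x => ?_⟩
  exact ((key R hφ).2 x).2 (hR x.2)

end Cfsg.Agent.Lib.Helper27
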