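import Mathlib
import Cfsg.Prelude.Def_FusionSystem
import Cfsg.Agent.Lib.Helper27.Alperin
import Cfsg.Agent.Lib.Helper27.Induct
import Cfsg.Agent.Lib.Helper27.Hyperfocal
import Cfsg.Agent.Lib.Helper18.Basic
import Cfsg.Agent.S5077

set_option autoImplicit false

namespace Cfsg.Agent.Lib.Helper27

open Cfsg Cfsg.FusionSystem Cfsg.Agent.Lib.Helper26

variable {Ω : Type*} [Group Ω] {U : Subgroup Ω}

/-- The full subsystem of a fusion system on a smaller subgroup. -/
def restrictSys (F₀ : FusionSystem U) (T : Subgroup Ω) (hTU : T ≤ U) : FusionSystem T where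
  Hom P := {φ | φ ∈ F₀.Hom P ∧ P ≤ T ∧ ∀ x : P, φ x ∈ T}
  le_of_mem := fun h => ⟨h.2.1, h.2.2⟩
  injective_of_mem := fun h => F₀.injective_of_mem h.1
  conj_mem := by
    intro P g hP hg
    exact ⟨F₀.conj_mem (hP.trans hTU) (hTU hg), hP,
      fun x => T.mul_mem (T.mul_mem hg (hP x.2)) (T.inv_mem hg)⟩
  comp_mem := by
    rintro P Q φ ψ ⟨hφ, hP, -⟩ ⟨hψ, -, hψT⟩ hval
    exact ⟨F₀.comp_mem hφ hψ hval, hP, fun x => hψT _⟩
  inv_mem := by
    rintro P φ ⟨hφ, hP, hφT⟩
    obtain ⟨χ, hχ, hχv⟩ := F₀.inv_mem hφ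
    refine ⟨χ, ⟨hχ, ?_, ?_⟩, hχv⟩
    · rintro _ ⟨x, rfl⟩
      exact hφT x
    · rintro ⟨_, x, rfl⟩
      rw [hχv]
      exact hP x.2

theorem mem_restrictSys {F₀ : FusionSystem U} {T : Subgroup Ω} {hTU : T ≤ U} {P : Subgroup Ω}
    {φ : P →* Ω} : φ ∈ (restrictSys F₀ T hTU).Hom P ↔ φ ∈ F₀.Hom P ∧ P ≤ T ∧ ∀ x : P, φ x ∈ T :=
  Iff.rfl

/-- A saturated system `E` over `T ≤ U` is contained in a system `F₀` over `U` as soon as
`F₀` contains the `p'`-residuals of its automizers of `T` and of the `E`-essential subgroups. -/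
theorem subsystem_of_pResidual_le [Finite U] (p : ℕ) [Fact p.Prime] (hU : IsPGroup p U)
    {T : Subgroup Ω} (hTU : T ≤ U) (E : FusionSystem T) (hE : E.IsSaturated p)
    (F₀ : FusionSystem U)
    (h : ∀ P : Subgroup Ω, P ≤ T →
      (pResidual p (E.autGroup P)).map (E.autGroup P).subtype ≤ F₀.autGroup P) :
    E.IsSubsystemOf F₀ := by
  have hTfin : Finite T := finite_of_le hTU
  have hTp : IsPGroup p T := hU.to_le hTU
  have key : E ≤ restrictSys F₀ T hTU := by
    apply alperin p hTp E hE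
    intro P hP α hα
    have hPa : E.IsFullyAutomized p P := by
      rcases hP with rfl | hP
      · exact (top_automized_receptive p E hE).1
      · exact (((Cfsg.Agent.S5077.result p hTp E).1 hE).1 P hP.2.1).2
    obtain ⟨hPT, R, hR⟩ := hPa
    have hPfin : Finite P := finite_of_le hPT
    have hsup := Cfsg.Agent.Lib.Helper18.pResidual_sup_sylow R
    have hmem : (⟨α, hα⟩ : E.autGroup P) ∈ pResidual p (E.autGroup P) ⊔ (R : Subgroup _) := by
      rw [hsup]
      trivial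
    obtain ⟨β, hβ, r, hr, hβr⟩ := Subgroup.mem_sup_of_normal_left.mp hmem
    have hr' : r ∈ (R : Subgroup (E.autGroup P)) := hr
    rw [hR, Subgroup.mem_subgroupOf] at hr'
    have hα_eq : α = (β : MulAut P) * (r : MulAut P) := congrArg Subtype.val hβr.symm
    rw [hα_eq]
    apply Subgroup.mul_mem
    · have h1 : (β : MulAut P) ∈ F₀.autGroup P := h P hPT ⟨β, hβ, rfl⟩
      rw [Fusion.mem_autGroup_iff F₀ (hPT.trans hTU)] at h1
      apply Subgroup.subset_closure
      exact ⟨h1, hPT, fun x => hPT ((β : MulAut P) x).2⟩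
    · exact Fusion.autInducedBy_le_autGroup _ hPT hr'
  intro P φ hφ
  exact (key P hφ).1

end Cfsg.Agent.Lib.Helper27
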