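import Cfsg.Agent.Lib.Helper27.Lift

set_option autoImplicit false

namespace Cfsg.Agent.Lib.Helper27

open Cfsg Cfsg.FusionSystem Cfsg.Agent.Lib.Helper26

variable {Ω : Type*} [Group Ω] {S : Subgroup Ω}

/-- Invariance of the subsystem `E` over `T` under `Aut_F(T)` (third clause of
`IsInvariantIn`). -/
def AutInv {T : Subgroup Ω} (E : FusionSystem T) (F : FusionSystem S) : Prop :=
  ∀ (P : Subgroup Ω) (hPT : P ≤ T) (φ : P →* Ω), φ ∈ E.Hom P → ∀ α ∈ F.autGroup T,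
    ∃ χ ∈ E.Hom ((P.subgroupOf T).map (T.subtype.comp α.toMonoidHom)),
      ∀ (x : P) (hφx : φ x ∈ T)
        (hαx : ((α ⟨x, hPT x.2⟩ : T) : Ω) ∈ (P.subgroupOf T).map (T.subtype.comp α.toMonoidHom)),
        χ ⟨(α ⟨x, hPT x.2⟩ : T), hαx⟩ = ((α ⟨φ x, hφx⟩ : T) : Ω)

/-- The strong invariance condition. -/
def StrongInv {T : Subgroup Ω} (E : FusionSystem T) (F : FusionSystem S) : Prop :=
  ∀ (P Q : Subgroup Ω) (hPQ : P ≤ Q) (_ : Q ≤ T) (φ : P →* Ω) (_ : φ ∈ E.Hom P)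
    (hφQ : ∀ x : P, φ x ∈ Q) (ψ : Q →* Ω) (_ : ψ ∈ F.Hom Q),
    ∃ χ ∈ E.Hom ((P.subgroupOf Q).map ψ),
      ∀ (x : P) (hx : ψ (Subgroup.inclusion hPQ x) ∈ (P.subgroupOf Q).map ψ),
        χ ⟨ψ (Subgroup.inclusion hPQ x), hx⟩ = ψ ⟨φ x, hφQ x⟩

theorem autInv_of_strongInv {T : Subgroup Ω} {E : FusionSystem T} {F : FusionSystem S}
    (hTS : T ≤ S) (h : StrongInv E F) : AutInv E F := by
  intro P hPT φ hφ α hα
  obtain ⟨χ, hχ, hχv⟩ := h P T hPT le_rfl φ hφ (fun x => (E.le_of_mem hφ).2 x)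
    (T.subtype.comp α.toMonoidHom) ((Fusion.mem_autGroup_iff F hTS).1 hα)
  exact ⟨χ, hχ, fun x hφx hαx => hχv x hαx⟩

/-- A usable form of the `Aut_F(T)`-invariance. -/
theorem autInv_apply {T : Subgroup Ω} {E : FusionSystem T} {F : FusionSystem S}
    (hE : AutInv E F) {P : Subgroup Ω} (hPT : P ≤ T) {φ : P →* Ω} (hφ : φ ∈ E.Hom P)
    {α : MulAut T} (hα : α ∈ F.autGroup T) :
    ∃ χ ∈ E.Hom ((P.subgroupOf T).map (T.subtype.comp α.toMonoidHom)),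
      ∀ (x y : T) (hx : (x : Ω) ∈ P)
        (hy : (y : Ω) ∈ (P.subgroupOf T).map (T.subtype.comp α.toMonoidHom)) (z : T),
        α x = y → (z : Ω) = φ ⟨x, hx⟩ → χ ⟨y, hy⟩ = ((α z : T) : Ω) := by
  obtain ⟨χ, hχ, hχv⟩ := hE P hPT φ hφ α hα
  refine ⟨χ, hχ, ?_⟩
  intro x y hx hy z hxy hz
  subst hxy
  have h1 := hχv ⟨x, hx⟩ (hz ▸ z.2) hy
  have h2 : z = ⟨φ ⟨x, hx⟩, hz ▸ z.2⟩ := Subtype.ext hz
  rw [h2]
  exact h1

/-- A map `φ` with source `P` is decomposable on `P ∩ T`: there it is an element of `Aut_F(T)`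
composed with a map of `E`. -/
def Decomp {T : Subgroup Ω} (E : FusionSystem T) (F : FusionSystem S) (P : Subgroup Ω)
    (φ : P →* Ω) : Prop :=
  ∃ α ∈ F.autGroup T, ∃ φ₀ ∈ E.Hom (P ⊓ T), ∀ (x : ↥(P ⊓ T)) (hx : φ₀ x ∈ T),
    φ ⟨x, x.2.1⟩ = ((α ⟨φ₀ x, hx⟩ : T) : Ω)

/-- The system of maps of `F` that are decomposable on the intersection of their source with
`T`. -/
def decompSystem [Finite S] (F : FusionSystem S) {T : Subgroup Ω} (E : FusionSystem T)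
    (hT : F.StronglyClosed T) (hinv : AutInv E F) : FusionSystem S where
  Hom P := {φ | φ ∈ F.Hom P ∧ Decomp E F P φ}
  le_of_mem := fun h => F.le_of_mem h.1
  injective_of_mem := fun h => F.injective_of_mem h.1
  conj_mem := by
    intro P g hP hg
    refine ⟨F.conj_mem hP hg, T.normalizerMonoidHom ⟨g, normal_of_stronglyClosed F hT hg⟩,
      Fusion.autInducedBy_le_autGroup F hT.1 (Subgroup.subset_closure ⟨g, hg, fun _ => rfl⟩),
      (P ⊓ T).subtype, Fusion.subtype_mem E inf_le_right, fun x hx => rfl⟩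
  comp_mem := by
    rintro P Q φ χ ⟨hφ, α₁, hα₁, φ₁, hφ₁, h₁⟩ ⟨hχ, α₂, hα₂, φ₂, hφ₂, h₂⟩ hval
    refine ⟨F.comp_mem hφ hχ hval, α₂ * α₁, mul_mem hα₂ hα₁, ?_⟩
    have hα₁inv : α₁⁻¹ ∈ F.autGroup T := inv_mem hα₁
    obtain ⟨χ', hχ', hχ'v⟩ := autInv_apply hinv (inf_le_right : Q ⊓ T ≤ T) hφ₂ hα₁inv
    have hφ₁T : ∀ x : ↥(P ⊓ T), φ₁ x ∈ T := (E.le_of_mem hφ₁).2
    have hφQT : ∀ x : ↥(P ⊓ T), φ ⟨x, x.2.1⟩ ∈ Q ⊓ T := fun x =>
      ⟨hval _, by rw [h₁ x (hφ₁T x)]; exact (α₁ _).2⟩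
    have hαinv : ∀ x : ↥(P ⊓ T),
        α₁⁻¹ ⟨φ ⟨x, x.2.1⟩, (hφQT x).2⟩ = ⟨φ₁ x, hφ₁T x⟩ := by
      intro x
      have e : (⟨φ ⟨x, x.2.1⟩, (hφQT x).2⟩ : T) = α₁ ⟨φ₁ x, hφ₁T x⟩ :=
        Subtype.ext (h₁ x (hφ₁T x))
      rw [e]
      simp
    have hv : ∀ x : ↥(P ⊓ T),
        φ₁ x ∈ ((Q ⊓ T).subgroupOf T).map (T.subtype.comp (α₁⁻¹).toMonoidHom) := by
      intro x
      exact ⟨⟨φ ⟨x, x.2.1⟩, (hφQT x).2⟩, Subgroup.mem_subgroupOf.mpr (hφQT x),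
        congrArg Subtype.val (hαinv x)⟩
    refine ⟨χ'.comp (φ₁.codRestrict _ hv), E.comp_mem hφ₁ hχ' hv, fun x hx => ?_⟩
    have hφ₂T := (E.le_of_mem hφ₂).2 ⟨φ ⟨x, x.2.1⟩, hφQT x⟩
    have e1 := h₂ ⟨φ ⟨x, x.2.1⟩, hφQT x⟩ hφ₂T
    have e2 := hχ'v ⟨φ ⟨x, x.2.1⟩, (hφQT x).2⟩ ⟨φ₁ x, hφ₁T x⟩ (hφQT x) (hv x)
      ⟨φ₂ ⟨φ ⟨x, x.2.1⟩, hφQT x⟩, hφ₂T⟩ (hαinv x) rfl
    have e3 : (⟨(χ'.comp (φ₁.codRestrict _ hv)) x, hx⟩ : T) =
        α₁⁻¹ ⟨φ₂ ⟨φ ⟨x, x.2.1⟩, hφQT x⟩, hφ₂T⟩ := Subtype.ext e2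
    show χ ⟨φ ⟨x, x.2.1⟩, hval _⟩ =
      ((α₂ (α₁ ⟨(χ'.comp (φ₁.codRestrict _ hv)) x, hx⟩) : T) : Ω)
    rw [e3]
    have e4 : α₁ (α₁⁻¹ ⟨φ₂ ⟨φ ⟨x, x.2.1⟩, hφQT x⟩, hφ₂T⟩) =
        ⟨φ₂ ⟨φ ⟨x, x.2.1⟩, hφQT x⟩, hφ₂T⟩ := by simp
    rw [e4]
    exact e1
  inv_mem := by
    rintro P φ ⟨hφ, α, hα, φ₀, hφ₀, h⟩
    obtain ⟨χ, hχ, hχv⟩ := F.inv_mem hφ
    refine ⟨χ, ⟨hχ, α⁻¹, inv_mem hα, ?_⟩, hχv⟩
    obtain ⟨ρ, hρ, hρv⟩ := E.inv_mem hφ₀
    have hφ₀T := (E.le_of_mem hφ₀).2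
    have hrT : φ₀.range ≤ T := by
      rintro _ ⟨x, rfl⟩
      exact hφ₀T x
    obtain ⟨χ', hχ', hχ'v⟩ := autInv_apply hinv hrT hρ hα
    have hkey : ∀ y : ↥(φ.range ⊓ T), ∃ x : ↥(P ⊓ T), (y : Ω) = φ ⟨x, x.2.1⟩ := by
      rintro ⟨_, ⟨x', rfl⟩, hyT⟩
      have hx'T : (x' : Ω) ∈ T := by
        have h1 := hT.2 (φ.range ⊓ T) inf_le_right (χ.comp (Subgroup.inclusion inf_le_left))
          (Fusion.restrict_mem F hχ inf_le_left) ⟨φ x', ⟨⟨x', rfl⟩, hyT⟩⟩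
        have e : (χ.comp (Subgroup.inclusion inf_le_left))
            (⟨φ x', ⟨⟨x', rfl⟩, hyT⟩⟩ : ↥(φ.range ⊓ T)) = x' := hχv x'
        rwa [e] at h1
      exact ⟨⟨x', x'.2, hx'T⟩, rfl⟩
    have hle : φ.range ⊓ T ≤ (φ₀.range.subgroupOf T).map (T.subtype.comp α.toMonoidHom) := by
      intro y hy
      obtain ⟨x, hx⟩ := hkey ⟨y, hy⟩
      refine ⟨⟨φ₀ x, hφ₀T x⟩, Subgroup.mem_subgroupOf.mpr ⟨x, rfl⟩, ?_⟩
      show ((α ⟨φ₀ x, _⟩ : T) : Ω) = y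
      rw [← h x (hφ₀T x)]
      exact hx.symm
    refine ⟨χ'.comp (Subgroup.inclusion hle), Fusion.restrict_mem E hχ' hle, fun y hy => ?_⟩
    obtain ⟨x, hx⟩ := hkey y
    have e1 := hχ'v ⟨φ₀ x, hφ₀T x⟩ ⟨y, y.2.2⟩ ⟨x, rfl⟩ (hle y.2) ⟨x, x.2.2⟩
      (Subtype.ext (by
        show ((α ⟨φ₀ x, _⟩ : T) : Ω) = y
        rw [← h x (hφ₀T x)]
        exact hx.symm)) (hρv x).symm
    have e2 : (⟨(χ'.comp (Subgroup.inclusion hle)) y, hy⟩ : T) = α ⟨x, x.2.2⟩ :=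
      Subtype.ext e1
    rw [e2]
    have e4 : α⁻¹ (α ⟨x, x.2.2⟩) = ⟨x, x.2.2⟩ := by simp
    rw [e4]
    have e3 : (⟨(y : Ω), y.2.1⟩ : φ.range) = ⟨φ ⟨x, x.2.1⟩, ⟨_, rfl⟩⟩ := Subtype.ext hx
    rw [e3, hχv]


/-- The automorphisms in `Aut_F(P)` whose restriction to `P ∩ T` is a map of `E`. -/
def eGroup [Finite S] (F : FusionSystem S) {T : Subgroup Ω} (E : FusionSystem T)
    (hT : F.StronglyClosed T) {P : Subgroup Ω} (hPS : P ≤ S) : Subgroup (F.autGroup P) where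
  carrier := {κ | (P.subtype.comp (κ : MulAut P).toMonoidHom).comp
    (Subgroup.inclusion (inf_le_left : P ⊓ T ≤ P)) ∈ E.Hom (P ⊓ T)}
  one_mem' := by
    have e : (P.subtype.comp ((1 : F.autGroup P) : MulAut P).toMonoidHom).comp
        (Subgroup.inclusion (inf_le_left : P ⊓ T ≤ P)) = (P ⊓ T).subtype := by
      ext x
      rfl
    show _ ∈ E.Hom (P ⊓ T)
    rw [e]
    exact Fusion.subtype_mem E inf_le_right
  mul_mem' := by
    intro κ₁ κ₂ h1 h2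
    have hval : ∀ x : ↥(P ⊓ T), ((P.subtype.comp (κ₂ : MulAut P).toMonoidHom).comp
        (Subgroup.inclusion (inf_le_left : P ⊓ T ≤ P))) x ∈ P ⊓ T := fun x =>
      ⟨((κ₂ : MulAut P) ⟨x, x.2.1⟩).2, (E.le_of_mem h2).2 x⟩
    have h3 := E.comp_mem h2 h1 hval
    have e : (P.subtype.comp ((κ₁ * κ₂ : F.autGroup P) : MulAut P).toMonoidHom).comp
        (Subgroup.inclusion (inf_le_left : P ⊓ T ≤ P)) =
        ((P.subtype.comp (κ₁ : MulAut P).toMonoidHom).comp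
          (Subgroup.inclusion (inf_le_left : P ⊓ T ≤ P))).comp
          (((P.subtype.comp (κ₂ : MulAut P).toMonoidHom).comp
            (Subgroup.inclusion (inf_le_left : P ⊓ T ≤ P))).codRestrict (P ⊓ T) hval) := by
      ext x
      rfl
    show _ ∈ E.Hom (P ⊓ T)
    rw [e]
    exact h3
  inv_mem' := by
    intro κ h1
    obtain ⟨ρ, hρ, hρv⟩ := E.inv_mem h1
    have hPfin : Finite P := finite_of_le hPS
    have hinvT : ∀ y : ↥(P ⊓ T), ((((κ⁻¹ : F.autGroup P) : MulAut P) ⟨y, y.2.1⟩ : P) : Ω) ∈ T :=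
      fun y => apply_mem_of_stronglyClosed F hT hPS (κ⁻¹).2 ⟨y, y.2.1⟩ y.2.2
    have e0 : ∀ y : ↥(P ⊓ T), (κ : MulAut P) (((κ⁻¹ : F.autGroup P) : MulAut P) ⟨y, y.2.1⟩) =
        ⟨y, y.2.1⟩ := by
      intro y
      show (κ : MulAut P) ((κ : MulAut P)⁻¹ ⟨y, y.2.1⟩) = ⟨y, y.2.1⟩
      simp
    have hle : P ⊓ T ≤ ((P.subtype.comp (κ : MulAut P).toMonoidHom).comp
        (Subgroup.inclusion (inf_le_left : P ⊓ T ≤ P))).range := by
      intro y hy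
      refine ⟨⟨(((κ⁻¹ : F.autGroup P) : MulAut P) ⟨y, hy.1⟩ : P),
        ⟨(((κ⁻¹ : F.autGroup P) : MulAut P) ⟨y, hy.1⟩).2, hinvT ⟨y, hy⟩⟩⟩, ?_⟩
      exact congrArg Subtype.val (e0 ⟨y, hy⟩)
    have e : (P.subtype.comp ((κ⁻¹ : F.autGroup P) : MulAut P).toMonoidHom).comp
        (Subgroup.inclusion (inf_le_left : P ⊓ T ≤ P)) = ρ.comp (Subgroup.inclusion hle) := by
      ext y
      have h3 := hρv ⟨(((κ⁻¹ : F.autGroup P) : MulAut P) ⟨y, y.2.1⟩ : P),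
        ⟨(((κ⁻¹ : F.autGroup P) : MulAut P) ⟨y, y.2.1⟩).2, hinvT y⟩⟩
      have e5 : (Subgroup.inclusion hle y : ((P.subtype.comp (κ : MulAut P).toMonoidHom).comp
          (Subgroup.inclusion (inf_le_left : P ⊓ T ≤ P))).range) =
          ⟨((P.subtype.comp (κ : MulAut P).toMonoidHom).comp
            (Subgroup.inclusion (inf_le_left : P ⊓ T ≤ P)))
            ⟨(((κ⁻¹ : F.autGroup P) : MulAut P) ⟨y, y.2.1⟩ : P),
              ⟨(((κ⁻¹ : F.autGroup P) : MulAut P) ⟨y, y.2.1⟩).2, hinvT y⟩⟩, ⟨_, rfl⟩⟩ :=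
        Subtype.ext (congrArg Subtype.val (e0 y)).symm
      show ((((κ⁻¹ : F.autGroup P) : MulAut P) ⟨y, y.2.1⟩ : P) : Ω) =
        ρ (Subgroup.inclusion hle y)
      rw [e5, h3]
    show _ ∈ E.Hom (P ⊓ T)
    rw [e]
    exact Fusion.restrict_mem E hρ hle

theorem eGroup_normal [Finite S] (F : FusionSystem S) {T : Subgroup Ω} (E : FusionSystem T)
    (hT : F.StronglyClosed T) (hsi : StrongInv E F) {P : Subgroup Ω} (hPS : P ≤ S) :
    (eGroup F E hT hPS).Normal := by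
  constructor
  intro κ hκ β
  have hPfin : Finite P := finite_of_le hPS
  have hκval : ∀ x : ↥(P ⊓ T), ((P.subtype.comp (κ : MulAut P).toMonoidHom).comp
      (Subgroup.inclusion (inf_le_left : P ⊓ T ≤ P))) x ∈ P ⊓ T := fun x =>
    ⟨((κ : MulAut P) ⟨x, x.2.1⟩).2, (E.le_of_mem hκ).2 x⟩
  have hβF : (P.subtype.comp (β : MulAut P).toMonoidHom).comp
      (Subgroup.inclusion (inf_le_left : P ⊓ T ≤ P)) ∈ F.Hom (P ⊓ T) :=
    Fusion.restrict_mem F ((Fusion.mem_autGroup_iff F hPS).1 β.2) inf_le_left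
  obtain ⟨χ, hχ, hχv⟩ := hsi (P ⊓ T) (P ⊓ T) le_rfl inf_le_right _ hκ hκval _ hβF
  have hinvT : ∀ y : ↥(P ⊓ T), ((((β⁻¹ : F.autGroup P) : MulAut P) ⟨y, y.2.1⟩ : P) : Ω) ∈ T :=
    fun y => apply_mem_of_stronglyClosed F hT hPS (β⁻¹).2 ⟨y, y.2.1⟩ y.2.2
  have e0 : ∀ y : ↥(P ⊓ T), (β : MulAut P) (((β⁻¹ : F.autGroup P) : MulAut P) ⟨y, y.2.1⟩) =
      ⟨y, y.2.1⟩ := by
    intro y
    show (β : MulAut P) ((β : MulAut P)⁻¹ ⟨y, y.2.1⟩) = ⟨y, y.2.1⟩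
    simp
  have hle : P ⊓ T ≤ ((P ⊓ T).subgroupOf (P ⊓ T)).map
      ((P.subtype.comp (β : MulAut P).toMonoidHom).comp
        (Subgroup.inclusion (inf_le_left : P ⊓ T ≤ P))) := by
    intro y hy
    refine ⟨⟨(((β⁻¹ : F.autGroup P) : MulAut P) ⟨y, hy.1⟩ : P),
      ⟨(((β⁻¹ : F.autGroup P) : MulAut P) ⟨y, hy.1⟩).2, hinvT ⟨y, hy⟩⟩⟩,
      Subgroup.mem_subgroupOf.mpr
        ⟨(((β⁻¹ : F.autGroup P) : MulAut P) ⟨y, hy.1⟩).2, hinvT ⟨y, hy⟩⟩, ?_⟩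
    exact congrArg Subtype.val (e0 ⟨y, hy⟩)
  have e : (P.subtype.comp ((β * κ * β⁻¹ : F.autGroup P) : MulAut P).toMonoidHom).comp
      (Subgroup.inclusion (inf_le_left : P ⊓ T ≤ P)) = χ.comp (Subgroup.inclusion hle) := by
    ext y
    have h3 := hχv ⟨(((β⁻¹ : F.autGroup P) : MulAut P) ⟨y, y.2.1⟩ : P),
        ⟨(((β⁻¹ : F.autGroup P) : MulAut P) ⟨y, y.2.1⟩).2, hinvT y⟩⟩
      (by
        have h4 := hle y.2
        have e6 : ((P.subtype.comp (β : MulAut P).toMonoidHom).comp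
            (Subgroup.inclusion (inf_le_left : P ⊓ T ≤ P)))
            (Subgroup.inclusion le_rfl
              (⟨(((β⁻¹ : F.autGroup P) : MulAut P) ⟨y, y.2.1⟩ : P),
                ⟨(((β⁻¹ : F.autGroup P) : MulAut P) ⟨y, y.2.1⟩).2, hinvT y⟩⟩ : ↥(P ⊓ T))) =
            (y : Ω) := congrArg Subtype.val (e0 y)
        rw [e6]
        exact h4)
    have e5 : (Subgroup.inclusion hle y : ↥(((P ⊓ T).subgroupOf (P ⊓ T)).map
        ((P.subtype.comp (β : MulAut P).toMonoidHom).comp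
          (Subgroup.inclusion (inf_le_left : P ⊓ T ≤ P))))) =
        ⟨((P.subtype.comp (β : MulAut P).toMonoidHom).comp
            (Subgroup.inclusion (inf_le_left : P ⊓ T ≤ P)))
            (Subgroup.inclusion le_rfl
              (⟨(((β⁻¹ : F.autGroup P) : MulAut P) ⟨y, y.2.1⟩ : P),
                ⟨(((β⁻¹ : F.autGroup P) : MulAut P) ⟨y, y.2.1⟩).2, hinvT y⟩⟩ : ↥(P ⊓ T))),
          by
            have h4 := hle y.2
            have e6 : ((P.subtype.comp (β : MulAut P).toMonoidHom).comp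
                (Subgroup.inclusion (inf_le_left : P ⊓ T ≤ P)))
                (Subgroup.inclusion le_rfl
                  (⟨(((β⁻¹ : F.autGroup P) : MulAut P) ⟨y, y.2.1⟩ : P),
                    ⟨(((β⁻¹ : F.autGroup P) : MulAut P) ⟨y, y.2.1⟩).2, hinvT y⟩⟩ :
                      ↥(P ⊓ T))) = (y : Ω) := congrArg Subtype.val (e0 y)
            rw [e6]
            exact h4⟩ :=
      Subtype.ext (congrArg Subtype.val (e0 y)).symm
    show (((β : MulAut P) ((κ : MulAut P) (((β⁻¹ : F.autGroup P) : MulAut P) ⟨y, y.2.1⟩)) : P) : Ω)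
      = χ (Subgroup.inclusion hle y)
    rw [e5, h3]
    rfl
  show _ ∈ E.Hom (P ⊓ T)
  rw [e]
  exact Fusion.restrict_mem E hχ hle


/-- Under strong invariance, every map of the saturated system `F` is decomposable on the
intersection of its source with the strongly closed subgroup `T`. -/
theorem le_decompSystem [Finite S] (p : ℕ) [Fact p.Prime] (hS : IsPGroup p S)
    (F : FusionSystem S) (hF : F.IsSaturated p) {T : Subgroup Ω} (E : FusionSystem T)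
    (hT : F.StronglyClosed T) (hsi : StrongInv E F) :
    F ≤ decompSystem F E hT (autInv_of_strongInv hT.1 hsi) := by
  have hSNT := normal_of_stronglyClosed F hT
  have hTS : T ≤ S := hT.1
  have hTfin : Finite T := finite_of_le hTS
  apply fusion_induction p hS F hF
  intro P hPa hPr IH α hα
  have hPS : P ≤ S := hPa.1
  have hPfin : Finite P := finite_of_le hPS
  have hα' := (Fusion.mem_autGroup_iff F hPS).1 hα
  by_cases hTP : T ≤ P
  · rw [Fusion.mem_autGroup_iff _ hPS]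
    have hres := Fusion.restrict_mem F hα' hTP
    have hr : ((P.subtype.comp α.toMonoidHom).comp (Subgroup.inclusion hTP)).range = T := by
      apply Subgroup.eq_of_le_of_card_ge
      · rintro _ ⟨t, rfl⟩
        exact hT.2 T le_rfl _ hres t
      · exact le_of_eq (Nat.card_congr (Equiv.ofInjective _ (F.injective_of_mem hres)))
    refine ⟨hα', Fusion.equivOfRange _ (F.injective_of_mem hres) hr,
      (Fusion.mem_autGroup_iff F hTS).2 (Fusion.isIso_equivOfRange F hres hr),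
      (P ⊓ T).subtype, Fusion.subtype_mem E inf_le_right, fun x hx => rfl⟩
  · obtain ⟨-, R, hR⟩ := hPa
    have hKn : (eGroup F E hT hPS).Normal := eGroup_normal F E hT hsi hPS
    have hcard := card_sylow_inf_normal R (eGroup F E hT hPS)
    obtain ⟨n, hn, κ, hκ, hnκ⟩ := frattini_decomp
      (inf_le_right : (R : Subgroup (F.autGroup P)) ⊓ eGroup F E hT hPS ≤ eGroup F E hT hPS)
      hcard ⟨α, hα⟩
    have hκE : (κ : MulAut P) ∈
        (decompSystem F E hT (autInv_of_strongInv hT.1 hsi)).autGroup P := by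
      rw [Fusion.mem_autGroup_iff _ hPS]
      have hκ' := (Fusion.mem_autGroup_iff F hPS).1 κ.2
      refine ⟨hκ', 1, one_mem _, _, hκ, fun x hx => rfl⟩
    have hnE : (n : MulAut P) ∈
        (decompSystem F E hT (autInv_of_strongInv hT.1 hsi)).autGroup P := by
      apply mem_autGroup_of_extender_lt F _ hPr IH n.2
      have hlt : P < P ⊔ T :=
        lt_of_le_of_ne le_sup_left (fun h => hTP (h ▸ le_sup_right))
      have hPTS : P ⊔ T ≤ S := sup_le hPS hT.1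
      have hPTfin : Finite ↥(P ⊔ T) := finite_of_le hPTS
      obtain ⟨g, hg, hgN, hgP⟩ := exists_mem_normalizer_not_mem (hS.to_le hPTS) hlt
      have hmem : g ∈ ((P ⊔ T : Subgroup Ω) : Set Ω) := hg
      rw [Subgroup.coe_mul_of_left_le_normalizer_right P T (hPS.trans hSNT)] at hmem
      obtain ⟨u, hu, t, ht, rfl⟩ := Set.mem_mul.mp hmem
      have htN : t ∈ Subgroup.normalizer (P : Set Ω) := by
        have : t = u⁻¹ * (u * t) := by group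
        rw [this]
        exact Subgroup.mul_mem _ (Subgroup.inv_mem _ (Subgroup.le_normalizer hu)) hgN
      have htP : t ∉ P := fun h => hgP (P.mul_mem hu h)
      have htS : t ∈ S := hT.1 ht
      refine lt_of_le_not_ge (le_extender hPS (fun x => hPS (n.1 x).2)) (fun hle => htP (hle ?_))
      have hτA : P.normalizerMonoidHom ⟨t, htN⟩ ∈ F.autGroup P :=
        Fusion.autInducedBy_le_autGroup F hPS
          (Subgroup.subset_closure ⟨t, htS, fun x => rfl⟩)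
      have hτRK : (⟨P.normalizerMonoidHom ⟨t, htN⟩, hτA⟩ : F.autGroup P) ∈
          (R : Subgroup (F.autGroup P)) ⊓ eGroup F E hT hPS := by
        rw [Subgroup.mem_inf]
        refine ⟨?_, ?_⟩
        · rw [hR, Subgroup.mem_subgroupOf]
          exact Subgroup.subset_closure ⟨t, htS, fun x => rfl⟩
        · have e : (P.subtype.comp (P.normalizerMonoidHom ⟨t, htN⟩).toMonoidHom).comp
              (Subgroup.inclusion (inf_le_left : P ⊓ T ≤ P)) = conjHom (P ⊓ T) t := by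
            ext x
            rfl
          show _ ∈ E.Hom (P ⊓ T)
          rw [e]
          exact E.conj_mem inf_le_right ht
      have hconj := (Subgroup.mem_normalizer_iff.mp hn _).mp hτRK
      rw [Subgroup.mem_inf] at hconj
      have hconjR := hconj.1
      rw [hR, Subgroup.mem_subgroupOf] at hconjR
      obtain ⟨h, hhS, -, hh⟩ := mem_autInducedBy_iff.mp hconjR
      refine Subgroup.subset_closure ⟨htS, htN, h, hhS, fun x hx => ?_⟩
      have h3 := hh ((n : MulAut P) x)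
      have e4 : ((n * (⟨P.normalizerMonoidHom ⟨t, htN⟩, hτA⟩ : F.autGroup P) * n⁻¹ :
          F.autGroup P) : MulAut P) ((n : MulAut P) x) =
          (n : MulAut P) (P.normalizerMonoidHom ⟨t, htN⟩ x) := by
        show (n : MulAut P) (P.normalizerMonoidHom ⟨t, htN⟩ ((n : MulAut P)⁻¹ ((n : MulAut P) x)))
          = _
        simp
      rw [e4] at h3
      exact h3
    have hαeq : α = (n : MulAut P) * (κ : MulAut P) := congrArg Subtype.val hnκ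
    rw [hαeq]
    exact Subgroup.mul_mem _ hnE hκE

/-- Strong invariance implies the Frattini condition. -/
theorem frattini_of_strongInv [Finite S] (p : ℕ) [Fact p.Prime] (hS : IsPGroup p S)
    (F : FusionSystem S) (hF : F.IsSaturated p) {T : Subgroup Ω} (E : FusionSystem T)
    (hT : F.StronglyClosed T) (hsi : StrongInv E F) (P : Subgroup Ω) (hPT : P ≤ T)
    (φ : P →* Ω) (hφ : φ ∈ F.Hom P) :
    ∃ α ∈ F.autGroup T, ∃ φ₀ ∈ E.Hom P, ∀ (x : P) (hx : φ₀ x ∈ T),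
      φ x = ((α ⟨φ₀ x, hx⟩ : T) : Ω) := by
  obtain ⟨-, α, hα, φ₀, hφ₀, h⟩ := le_decompSystem p hS F hF E hT hsi P hφ
  have hle : P ≤ P ⊓ T := le_inf le_rfl hPT
  exact ⟨α, hα, φ₀.comp (Subgroup.inclusion hle), Fusion.restrict_mem E hφ₀ hle,
    fun x hx => h (Subgroup.inclusion hle x) hx⟩


end Cfsg.Agent.Lib.Helper27
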