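import Mathlib
import Cfsg.Prelude.Def_FusionSystem
import Cfsg.Agent.Lib.Helper27.StrongInv
import Cfsg.Agent.Lib.Helper27.RestrictSys
import Cfsg.Agent.Lib.Helper27.ConstrNormal
import Cfsg.Agent.Lib.Helper27.Hyperfocal

set_option autoImplicit false

namespace Cfsg.Agent.Lib.Helper27

open Cfsg Cfsg.FusionSystem Cfsg.Agent.Lib.Helper26

variable {Ω : Type*} [Group Ω] {S : Subgroup Ω}

/-! ### Subgroups containing the hyperfocal subgroup and normal in `S` are strongly closed -/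

/-- The maps of `F` preserving membership and non-membership in `T`. -/
def memSystem (F : FusionSystem S) (T : Subgroup Ω)
    (hTn : ∀ s ∈ S, ∀ y : Ω, s * y * s⁻¹ ∈ T ↔ y ∈ T) : FusionSystem S where
  Hom P := {φ | φ ∈ F.Hom P ∧ ∀ x : P, φ x ∈ T ↔ (x : Ω) ∈ T}
  le_of_mem := fun h => F.le_of_mem h.1
  injective_of_mem := fun h => F.injective_of_mem h.1
  conj_mem := by
    intro P g hP hg
    exact ⟨F.conj_mem hP hg, fun x => hTn g hg x⟩
  comp_mem := by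
    rintro P Q φ ψ ⟨hφ, h₁⟩ ⟨hψ, h₂⟩ hval
    refine ⟨F.comp_mem hφ hψ hval, fun x => ?_⟩
    show ψ ⟨φ x, hval x⟩ ∈ _ ↔ _
    rw [h₂ ⟨φ x, hval x⟩]
    exact h₁ x
  inv_mem := by
    rintro P φ ⟨hφ, h₁⟩
    obtain ⟨χ, hχ, hχv⟩ := F.inv_mem hφ
    refine ⟨χ, ⟨hχ, ?_⟩, hχv⟩
    rintro ⟨_, x, rfl⟩
    rw [hχv]
    exact (h₁ x).symm

theorem conj_mem_iff_of_normal {T : Subgroup Ω} (hTS : T ≤ S) (hTn : (T.subgroupOf S).Normal) :
    ∀ s ∈ S, ∀ y : Ω, s * y * s⁻¹ ∈ T ↔ y ∈ T := by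
  have key : ∀ s ∈ S, ∀ y ∈ T, s * y * s⁻¹ ∈ T := by
    intro s hs y hy
    have h1 := hTn.conj_mem ⟨y, hTS hy⟩ (Subgroup.mem_subgroupOf.mpr hy) ⟨s, hs⟩
    exact Subgroup.mem_subgroupOf.mp h1
  intro s hs y
  constructor
  · intro h
    have h1 := key s⁻¹ (S.inv_mem hs) _ h
    have e : s⁻¹ * (s * y * s⁻¹) * s⁻¹⁻¹ = y := by group
    rwa [e] at h1
  · exact key s hs y

/-- A subgroup of `S` normal in `S` and containing the hyperfocal subgroup of the saturated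
system `F` is strongly closed in `F`. -/
theorem stronglyClosed_of_hyperfocal_le [Finite S] (p : ℕ) [Fact p.Prime] (hS : IsPGroup p S)
    (F : FusionSystem S) (hF : F.IsSaturated p) {T : Subgroup Ω} (hTS : T ≤ S)
    (hTn : ∀ s ∈ S, ∀ y : Ω, s * y * s⁻¹ ∈ T ↔ y ∈ T) (hT : F.hyperfocalSubgroup p ≤ T) :
    F.StronglyClosed T := by
  have key : F ≤ memSystem F T hTn := by
    apply alperin p hS F hF
    intro P hP α hα
    have hPa : F.IsFullyAutomized p P := by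
      rcases hP with rfl | hP
      · exact (top_automized_receptive p F hF).1
      · exact (((Cfsg.Agent.S5077.result p hS F).1 hF).1 P hP.2.1).2
    obtain ⟨hPS, R, hR⟩ := hPa
    have hPfin : Finite P := finite_of_le hPS
    have hsup := Cfsg.Agent.Lib.Helper18.pResidual_sup_sylow R
    have hmem : (⟨α, hα⟩ : F.autGroup P) ∈ pResidual p (F.autGroup P) ⊔ (R : Subgroup _) := by
      rw [hsup]
      trivial
    obtain ⟨β, hβ, r, hr, hβr⟩ := Subgroup.mem_sup_of_normal_left.mp hmem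
    have hr' : r ∈ (R : Subgroup (F.autGroup P)) := hr
    rw [hR, Subgroup.mem_subgroupOf] at hr'
    obtain ⟨s, hsS, hs⟩ := Fusion.mem_autInducedBy_iff.1 hr'
    rw [Fusion.mem_autGroup_iff _ hPS]
    refine ⟨(Fusion.mem_autGroup_iff F hPS).1 hα, fun x => ?_⟩
    have hα_eq : α = (β : MulAut P) * (r : MulAut P) := congrArg Subtype.val hβr.symm
    show ((α x : P) : Ω) ∈ _ ↔ _
    rw [hα_eq]
    show (((β : MulAut P) ((r : MulAut P) x) : P) : Ω) ∈ _ ↔ _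
    have h1 : (((r : MulAut P) x : P) : Ω)⁻¹ * (((β : MulAut P) ((r : MulAut P) x) : P) : Ω) ∈ T :=
      hT (mem_hyperfocal F p hPS hβ ((r : MulAut P) x))
    have h2 : (((β : MulAut P) ((r : MulAut P) x) : P) : Ω) ∈ T ↔
        (((r : MulAut P) x : P) : Ω) ∈ T := by
      constructor
      · intro h
        have e : (((r : MulAut P) x : P) : Ω) = (((β : MulAut P) ((r : MulAut P) x) : P) : Ω) *
            ((((r : MulAut P) x : P) : Ω)⁻¹ * (((β : MulAut P) ((r : MulAut P) x) : P) : Ω))⁻¹ := by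
          group
        rw [e]
        exact Subgroup.mul_mem _ h (Subgroup.inv_mem _ h1)
      · intro h
        have e : (((β : MulAut P) ((r : MulAut P) x) : P) : Ω) = (((r : MulAut P) x : P) : Ω) *
            ((((r : MulAut P) x : P) : Ω)⁻¹ * (((β : MulAut P) ((r : MulAut P) x) : P) : Ω)) := by
          group
        rw [e]
        exact Subgroup.mul_mem _ h h1
    rw [h2, hs x]
    exact hTn s hsS x
  refine ⟨hTS, fun R hR φ hφ x => ?_⟩
  exact ((key R hφ).2 x).2 (hR x.2)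

/-! ### The conjugate of a fusion system by an automorphism of its underlying group -/

/-- The image of `P ∩ T` under the automorphism `α` of `T`, as a subgroup of `Ω`. -/
abbrev imgSub {T : Subgroup Ω} (α : MulAut T) (P : Subgroup Ω) : Subgroup Ω :=
  (P.subgroupOf T).map (T.subtype.comp α.toMonoidHom)

theorem imgSub_le {T : Subgroup Ω} (α : MulAut T) (P : Subgroup Ω) : imgSub α P ≤ T := by
  rintro _ ⟨x, -, rfl⟩
  exact (α x).2

theorem mem_imgSub {T : Subgroup Ω} (α : MulAut T) {P : Subgroup Ω} (x : T) (hx : (x : Ω) ∈ P) :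
    ((α x : T) : Ω) ∈ imgSub α P :=
  ⟨x, Subgroup.mem_subgroupOf.mpr hx, rfl⟩

theorem exists_of_mem_imgSub {T : Subgroup Ω} {α : MulAut T} {P : Subgroup Ω} {y : Ω}
    (hy : y ∈ imgSub α P) : ∃ x : T, (x : Ω) ∈ P ∧ ((α x : T) : Ω) = y := by
  obtain ⟨x, hx, rfl⟩ := hy
  exact ⟨x, Subgroup.mem_subgroupOf.mp hx, rfl⟩

/-- The maps `ψ` such that `α ψ α⁻¹` is a map of `E`. -/
def ConjHom {T : Subgroup Ω} (E : FusionSystem T) (α : MulAut T) (P : Subgroup Ω)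
    (ψ : P →* Ω) : Prop :=
  ∃ (hPT : P ≤ T) (hψ : ∀ x : P, ψ x ∈ T), ∃ χ ∈ E.Hom (imgSub α P),
    ∀ x : P, χ ⟨(α ⟨x, hPT x.2⟩ : T), mem_imgSub α ⟨x, hPT x.2⟩ x.2⟩ =
      ((α ⟨ψ x, hψ x⟩ : T) : Ω)

theorem conjHom_injective {T : Subgroup Ω} {E : FusionSystem T} {α : MulAut T} {P : Subgroup Ω}
    {ψ : P →* Ω} (h : ConjHom E α P ψ) : Function.Injective ψ := by
  obtain ⟨hPT, hψ, χ, hχ, hspec⟩ := h
  intro a b hab
  have h1 : χ ⟨(α ⟨a, hPT a.2⟩ : T), mem_imgSub α ⟨a, hPT a.2⟩ a.2⟩ =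
      χ ⟨(α ⟨b, hPT b.2⟩ : T), mem_imgSub α ⟨b, hPT b.2⟩ b.2⟩ := by
    rw [hspec a, hspec b]
    have e : (⟨ψ a, hψ a⟩ : T) = ⟨ψ b, hψ b⟩ := Subtype.ext hab
    rw [e]
  have h2 := E.injective_of_mem hχ h1
  have h3 : ((α ⟨a, hPT a.2⟩ : T) : Ω) = ((α ⟨b, hPT b.2⟩ : T) : Ω) := by
    simpa using congrArg Subtype.val h2
  have h4 : (⟨a, hPT a.2⟩ : T) = ⟨b, hPT b.2⟩ := α.injective (Subtype.ext h3)
  have h5 : (a : Ω) = (b : Ω) := by
    simpa using congrArg Subtype.val h4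
  exact Subtype.ext h5

/-- The conjugate system: the maps `ψ` with `α ψ α⁻¹` in `E`. -/
def conjSys {T : Subgroup Ω} (E : FusionSystem T) (α : MulAut T) : FusionSystem T where
  Hom P := {ψ | ConjHom E α P ψ}
  le_of_mem := by
    rintro P ψ ⟨hPT, hψ, -⟩
    exact ⟨hPT, hψ⟩
  injective_of_mem := fun h => conjHom_injective h
  conj_mem := by
    intro P g hP hg
    refine ⟨hP, fun x => T.mul_mem (T.mul_mem hg (hP x.2)) (T.inv_mem hg),
      conjHom (imgSub α P) ((α ⟨g, hg⟩ : T) : Ω),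
      E.conj_mem (imgSub_le α P) (α ⟨g, hg⟩).2, fun x => ?_⟩
    show ((α ⟨g, hg⟩ : T) : Ω) * ((α ⟨x, hP x.2⟩ : T) : Ω) * ((α ⟨g, hg⟩ : T) : Ω)⁻¹ =
      ((α (⟨g, hg⟩ * ⟨x, hP x.2⟩ * ⟨g, hg⟩⁻¹) : T) : Ω)
    rw [map_mul, map_mul, map_inv]
    rfl
  comp_mem := by
    rintro P Q ψ₁ ψ₂ ⟨hPT, hψ₁, χ₁, hχ₁, hs₁⟩ ⟨hQT, hψ₂, χ₂, hχ₂, hs₂⟩ hval
    have hval' : ∀ y : imgSub α P, χ₁ y ∈ imgSub α Q := by
      rintro ⟨y, hy⟩
      obtain ⟨x, hx, rfl⟩ := exists_of_mem_imgSub hy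
      have h1 := hs₁ ⟨x, hx⟩
      have h2 : χ₁ ⟨((α x : T) : Ω), hy⟩ = ((α ⟨ψ₁ ⟨x, hx⟩, hψ₁ ⟨x, hx⟩⟩ : T) : Ω) := h1
      rw [h2]
      exact mem_imgSub α ⟨ψ₁ ⟨x, hx⟩, hψ₁ ⟨x, hx⟩⟩ (hval ⟨x, hx⟩)
    refine ⟨hPT, fun x => hψ₂ _, χ₂.comp (χ₁.codRestrict (imgSub α Q) hval'),
      E.comp_mem hχ₁ hχ₂ hval', fun x => ?_⟩
    have e1 : (χ₁.codRestrict (imgSub α Q) hval')
        ⟨(α ⟨x, hPT x.2⟩ : T), mem_imgSub α ⟨x, hPT x.2⟩ x.2⟩ =
        ⟨(α ⟨ψ₁ x, hQT (hval x)⟩ : T), mem_imgSub α ⟨ψ₁ x, hQT (hval x)⟩ (hval x)⟩ :=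
      Subtype.ext (hs₁ x)
    show χ₂ ((χ₁.codRestrict (imgSub α Q) hval')
      ⟨(α ⟨x, hPT x.2⟩ : T), mem_imgSub α ⟨x, hPT x.2⟩ x.2⟩) = _
    rw [e1]
    exact hs₂ ⟨ψ₁ x, hval x⟩
  inv_mem := by
    rintro P ψ ⟨hPT, hψ, χ, hχ, hs⟩
    have hinj : Function.Injective ψ := conjHom_injective ⟨hPT, hψ, χ, hχ, hs⟩
    obtain ⟨χ', hχ', hχ'v⟩ := E.inv_mem hχ
    have hrT : ψ.range ≤ T := by
      rintro _ ⟨x, rfl⟩
      exact hψ x
    obtain ⟨ψ', hψ'def⟩ : ∃ ψ' : ψ.range →* Ω,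
        ψ' = P.subtype.comp (MonoidHom.ofInjective hinj).symm.toMonoidHom := ⟨_, rfl⟩
    have hψ'v : ∀ x : P, ψ' ⟨ψ x, ⟨x, rfl⟩⟩ = (x : Ω) := by
      intro x
      rw [hψ'def]
      show (((MonoidHom.ofInjective hinj).symm ⟨ψ x, ⟨x, rfl⟩⟩ : P) : Ω) = x
      have e : (MonoidHom.ofInjective hinj).symm ⟨ψ x, ⟨x, rfl⟩⟩ = x := by
        rw [MulEquiv.symm_apply_eq]
        rfl
      rw [e]
    have hψ'T : ∀ y : ψ.range, ψ' y ∈ T := by
      rintro ⟨_, x, rfl⟩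
      rw [hψ'v]
      exact hPT x.2
    refine ⟨ψ', ⟨hrT, hψ'T, ?_⟩, hψ'v⟩
    have hle : imgSub α ψ.range ≤ χ.range := by
      intro y hy
      obtain ⟨z, hz, rfl⟩ := exists_of_mem_imgSub hy
      obtain ⟨x, hx⟩ := hz
      refine ⟨⟨(α ⟨x, hPT x.2⟩ : T), mem_imgSub α ⟨x, hPT x.2⟩ x.2⟩, ?_⟩
      rw [hs x]
      have e : (⟨ψ x, hψ x⟩ : T) = z := Subtype.ext hx
      rw [e]
    refine ⟨χ'.comp (Subgroup.inclusion hle), restrict_mem E hχ' hle, ?_⟩
    rintro ⟨_, x, rfl⟩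
    have e1 : (Subgroup.inclusion hle ⟨(α ⟨ψ x, hrT ⟨x, rfl⟩⟩ : T),
        mem_imgSub α ⟨ψ x, hrT ⟨x, rfl⟩⟩ ⟨x, rfl⟩⟩ : χ.range) =
        ⟨χ ⟨(α ⟨x, hPT x.2⟩ : T), mem_imgSub α ⟨x, hPT x.2⟩ x.2⟩, ⟨_, rfl⟩⟩ :=
      Subtype.ext (hs x).symm
    show χ' (Subgroup.inclusion hle ⟨(α ⟨ψ x, hrT ⟨x, rfl⟩⟩ : T),
        mem_imgSub α ⟨ψ x, hrT ⟨x, rfl⟩⟩ ⟨x, rfl⟩⟩) = _
    rw [e1, hχ'v]
    have e2 : (⟨ψ' ⟨ψ x, ⟨x, rfl⟩⟩, hψ'T ⟨ψ x, ⟨x, rfl⟩⟩⟩ : T) = ⟨x, hPT x.2⟩ :=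
      Subtype.ext (hψ'v x)
    rw [e2]

/-! ### Invariance under `Aut_F(T)` -/

/-- A map which is pointwise the composite of two maps of the system is a map of the system. -/
theorem mem_hom_of_comp (F : FusionSystem S) {P Q : Subgroup Ω} {φ : P →* Ω} {ψ : Q →* Ω}
    (hφ : φ ∈ F.Hom P) (hψ : ψ ∈ F.Hom Q) (χ : P →* Ω)
    (h : ∀ x : P, ∃ hx : φ x ∈ Q, χ x = ψ ⟨φ x, hx⟩) : χ ∈ F.Hom P := by
  have hval : ∀ x : P, φ x ∈ Q := fun x => (h x).1
  have e : χ = ψ.comp (φ.codRestrict Q hval) := by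
    ext x
    obtain ⟨hx, h1⟩ := h x
    exact h1
  rw [e]
  exact F.comp_mem hφ hψ hval

/-- The homomorphism of `P ≤ T` onto its image under `α`. -/
def imgHom {T : Subgroup Ω} (α : MulAut T) {P : Subgroup Ω} (hPT : P ≤ T) : P →* imgSub α P where
  toFun x := ⟨(α ⟨x, hPT x.2⟩ : T), mem_imgSub α ⟨x, hPT x.2⟩ x.2⟩
  map_one' := by
    apply Subtype.ext
    show ((α (1 : T) : T) : Ω) = 1
    rw [map_one]
    rfl
  map_mul' a b := by
    apply Subtype.ext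
    show ((α (⟨a, hPT a.2⟩ * ⟨b, hPT b.2⟩ : T) : T) : Ω) = _
    rw [map_mul]
    rfl

theorem imgHom_bijective {T : Subgroup Ω} (α : MulAut T) {P : Subgroup Ω} (hPT : P ≤ T) :
    Function.Bijective (imgHom α hPT) := by
  constructor
  · intro a b hab
    have h3 : ((α ⟨a, hPT a.2⟩ : T) : Ω) = ((α ⟨b, hPT b.2⟩ : T) : Ω) :=
      congrArg (fun z : imgSub α P => (z : Ω)) hab
    have h4 : (⟨a, hPT a.2⟩ : T) = ⟨b, hPT b.2⟩ := α.injective (Subtype.ext h3)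
    have h5 : (a : Ω) = (b : Ω) := by
      simpa using congrArg Subtype.val h4
    exact Subtype.ext h5
  · rintro ⟨y, hy⟩
    obtain ⟨x, hx, rfl⟩ := exists_of_mem_imgSub hy
    exact ⟨⟨x, hx⟩, rfl⟩

/-- The isomorphism of `P ≤ T` onto its image under `α`. -/
noncomputable def imgEquiv {T : Subgroup Ω} (α : MulAut T) {P : Subgroup Ω} (hPT : P ≤ T) :
    P ≃* imgSub α P :=
  MulEquiv.ofBijective (imgHom α hPT) (imgHom_bijective α hPT)

theorem imgEquiv_apply {T : Subgroup Ω} (α : MulAut T) {P : Subgroup Ω} (hPT : P ≤ T) (x : P) :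
    ((imgEquiv α hPT x : imgSub α P) : Ω) = ((α ⟨x, hPT x.2⟩ : T) : Ω) := rfl

theorem congr_imgEquiv_apply {T : Subgroup Ω} (α : MulAut T) {P : Subgroup Ω} (hPT : P ≤ T)
    (β : MulAut P) (x : P) :
    MulAut.congr (imgEquiv α hPT) β (imgEquiv α hPT x) = imgEquiv α hPT (β x) := by
  show imgEquiv α hPT (β ((imgEquiv α hPT).symm (imgEquiv α hPT x))) = _
  rw [MulEquiv.symm_apply_apply]

/-- Transporting an `F`-automorphism of `P ≤ T` along `α ∈ Aut_F(T)` gives an `F`-automorphism of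
`α(P)`. -/
theorem congr_mem_autGroup (F : FusionSystem S) {T : Subgroup Ω} (hTS : T ≤ S) {α : MulAut T}
    (hα : α ∈ F.autGroup T) {P : Subgroup Ω} (hPT : P ≤ T) {β : MulAut P}
    (hβ : β ∈ F.autGroup P) :
    MulAut.congr (imgEquiv α hPT) β ∈ F.autGroup (imgSub α P) := by
  have hQT : imgSub α P ≤ T := imgSub_le α P
  rw [Fusion.mem_autGroup_iff F (hQT.trans hTS)]
  have h1 : (T.subtype.comp (α⁻¹ : MulAut T).toMonoidHom).comp (Subgroup.inclusion hQT) ∈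
      F.Hom (imgSub α P) :=
    restrict_mem F ((Fusion.mem_autGroup_iff F hTS).1 (inv_mem hα)) hQT
  have h2 : P.subtype.comp β.toMonoidHom ∈ F.Hom P :=
    (Fusion.mem_autGroup_iff F (hPT.trans hTS)).1 hβ
  have h3 : (T.subtype.comp α.toMonoidHom).comp (Subgroup.inclusion hPT) ∈ F.Hom P :=
    restrict_mem F ((Fusion.mem_autGroup_iff F hTS).1 hα) hPT
  have h23 : (imgSub α P).subtype.comp ((imgEquiv α hPT).toMonoidHom.comp β.toMonoidHom) ∈
      F.Hom P := by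
    apply mem_hom_of_comp F h2 h3
    intro x
    exact ⟨(β x).2, rfl⟩
  apply mem_hom_of_comp F h1 h23
  rintro ⟨y, hy⟩
  obtain ⟨x, hx, rfl⟩ := exists_of_mem_imgSub hy
  have e1 : (α⁻¹ : MulAut T) (Subgroup.inclusion hQT ⟨((α x : T) : Ω), hy⟩) = x := by
    have : (Subgroup.inclusion hQT ⟨((α x : T) : Ω), hy⟩ : T) = α x := Subtype.ext rfl
    rw [this]
    simp
  have hmem : ((T.subtype.comp (α⁻¹ : MulAut T).toMonoidHom).comp (Subgroup.inclusion hQT))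
      ⟨((α x : T) : Ω), hy⟩ ∈ P := by
    show (((α⁻¹ : MulAut T) (Subgroup.inclusion hQT ⟨((α x : T) : Ω), hy⟩) : T) : Ω) ∈ P
    rw [e1]
    exact hx
  refine ⟨hmem, ?_⟩
  have e2 : (⟨((α x : T) : Ω), hy⟩ : imgSub α P) = imgEquiv α hPT ⟨x, hx⟩ := Subtype.ext rfl
  have e3 : (⟨((T.subtype.comp (α⁻¹ : MulAut T).toMonoidHom).comp (Subgroup.inclusion hQT))
      ⟨((α x : T) : Ω), hy⟩, hmem⟩ : P) = ⟨x, hx⟩ := by
    apply Subtype.ext
    show (((α⁻¹ : MulAut T) (Subgroup.inclusion hQT ⟨((α x : T) : Ω), hy⟩) : T) : Ω) = x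
    rw [e1]
  rw [e3]
  show ((MulAut.congr (imgEquiv α hPT) β ⟨((α x : T) : Ω), hy⟩ : imgSub α P) : Ω) =
    ((imgEquiv α hPT (β ⟨x, hx⟩) : imgSub α P) : Ω)
  rw [e2, congr_imgEquiv_apply]

/-- A saturated subsystem of `p`-power index is contained in each of its conjugates under
`Aut_F(T)`. -/
theorem subsystem_conjSys [Finite S] (p : ℕ) [Fact p.Prime] (hS : IsPGroup p S)
    (F : FusionSystem S) {T : Subgroup Ω} (hTS : T ≤ S) (E : FusionSystem T)
    (hEs : E.IsSaturated p) (hEi : E.HasPPowerIndexIn F p) {α : MulAut T}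
    (hα : α ∈ F.autGroup T) : E.IsSubsystemOf (conjSys E α) := by
  have hTfin : Finite T := finite_of_le hTS
  apply subsystem_of_pResidual_le p (hS.to_le hTS) le_rfl E hEs
  intro P hPT
  rw [Subgroup.map_le_iff_le_comap]
  unfold pResidual
  rw [Subgroup.closure_le]
  intro β hβ
  have hβc : (orderOf β).Coprime p := hβ
  show (β : MulAut P) ∈ (conjSys E α).autGroup P
  have hPS : P ≤ S := hPT.trans hTS
  have hQT : imgSub α P ≤ T := imgSub_le α P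
  have hβF : (β : MulAut P) ∈ F.autGroup P :=
    (Fusion.mem_autGroup_iff F hPS).2 (hEi.1 P ((Fusion.mem_autGroup_iff E hPT).1 β.2))
  have hβ'F := congr_mem_autGroup F hTS hα hPT hβF
  have hord : orderOf (⟨MulAut.congr (imgEquiv α hPT) (β : MulAut P), hβ'F⟩ :
      F.autGroup (imgSub α P)) = orderOf β := by
    rw [Subgroup.orderOf_mk, MulEquiv.orderOf_eq, Subgroup.orderOf_coe]
  have hres : (⟨MulAut.congr (imgEquiv α hPT) (β : MulAut P), hβ'F⟩ :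
      F.autGroup (imgSub α P)) ∈ pResidual p (F.autGroup (imgSub α P)) := by
    apply Subgroup.subset_closure
    show (orderOf _).Coprime p
    rw [hord]
    exact hβc
  have hβ'E : MulAut.congr (imgEquiv α hPT) (β : MulAut P) ∈ E.autGroup (imgSub α P) :=
    hEi.2.2 _ hQT ⟨_, hres, rfl⟩
  rw [Fusion.mem_autGroup_iff _ hPT]
  refine ⟨hPT, fun x => hPT ((β : MulAut P) x).2, _, (Fusion.mem_autGroup_iff E hQT).1 hβ'E,
    fun x => ?_⟩
  show ((MulAut.congr (imgEquiv α hPT) (β : MulAut P) (imgEquiv α hPT x) : imgSub α P) : Ω) =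
    ((imgEquiv α hPT ((β : MulAut P) x) : imgSub α P) : Ω)
  rw [congr_imgEquiv_apply]

theorem autInv_of_pPowerIndex [Finite S] (p : ℕ) [Fact p.Prime] (hS : IsPGroup p S)
    (F : FusionSystem S) {T : Subgroup Ω} (hTS : T ≤ S) (E : FusionSystem T)
    (hEs : E.IsSaturated p) (hEi : E.HasPPowerIndexIn F p) : AutInv E F := by
  intro P hPT φ hφ α hα
  obtain ⟨hPT', hψ, χ, hχ, hs⟩ := subsystem_conjSys p hS F hTS E hEs hEi hα P hφ
  exact ⟨χ, hχ, fun x hφx hαx => hs x⟩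

/-! ### The Frattini condition -/

theorem aut_mem_of_stronglyClosed (F : FusionSystem S) {T : Subgroup Ω} (hT : F.StronglyClosed T)
    {P : Subgroup Ω} (hPS : P ≤ S) {β : MulAut P} (hβ : β ∈ F.autGroup P) (x : P)
    (hx : (x : Ω) ∈ T) : ((β x : P) : Ω) ∈ T := by
  have hβ' := (Fusion.mem_autGroup_iff F hPS).1 hβ
  exact hT.2 (P ⊓ T) inf_le_right _ (restrict_mem F hβ' inf_le_left) ⟨x, x.2, hx⟩

theorem pResidual_le_decomp [Finite S] (p : ℕ) [Fact p.Prime] (F : FusionSystem S)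
    {T : Subgroup Ω} (hT : F.StronglyClosed T) (E : FusionSystem T)
    (hEi : E.HasPPowerIndexIn F p) (hinv : AutInv E F) {P : Subgroup Ω} (hPS : P ≤ S) :
    (pResidual p (F.autGroup P)).map (F.autGroup P).subtype ≤
      (decompSystem F E hT hinv).autGroup P := by
  rw [Subgroup.map_le_iff_le_comap]
  unfold pResidual
  rw [Subgroup.closure_le]
  intro β hβ
  have hβc : (orderOf β).Coprime p := hβ
  show (β : MulAut P) ∈ (decompSystem F E hT hinv).autGroup P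
  rw [Fusion.mem_autGroup_iff _ hPS]
  have hβ' := (Fusion.mem_autGroup_iff F hPS).1 β.2
  have hmap : ((P ⊓ T).subgroupOf P).map (P.subtype.comp (β : MulAut P).toMonoidHom) = P ⊓ T := by
    apply le_antisymm
    · rintro _ ⟨x, hx, rfl⟩
      have hx' : (x : Ω) ∈ P ⊓ T := Subgroup.mem_subgroupOf.mp hx
      exact ⟨((β : MulAut P) x).2, aut_mem_of_stronglyClosed F hT hPS β.2 x hx'.2⟩
    · intro y hy
      refine ⟨(β : MulAut P)⁻¹ ⟨y, hy.1⟩, Subgroup.mem_subgroupOf.mpr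
        ⟨((β : MulAut P)⁻¹ ⟨y, hy.1⟩).2,
          aut_mem_of_stronglyClosed F hT hPS (inv_mem β.2) ⟨y, hy.1⟩ hy.2⟩, ?_⟩
      show ((((β : MulAut P) ((β : MulAut P)⁻¹ ⟨y, hy.1⟩)) : P) : Ω) = y
      rw [MulAut.apply_inv_self]
  obtain ⟨b, hb, hbv⟩ := exists_aut_of_map_eq F (inf_le_left : P ⊓ T ≤ P) hβ' hmap
  have hbv' : ∀ q : ↥(P ⊓ T), ((b q : ↥(P ⊓ T)) : Ω) = (((β : MulAut P) ⟨q, q.2.1⟩ : P) : Ω) :=
    hbv
  have hpow : ∀ n : ℕ, ∀ q : ↥(P ⊓ T),
      (((b ^ n) q : ↥(P ⊓ T)) : Ω) = ((((β : MulAut P) ^ n) ⟨q, q.2.1⟩ : P) : Ω) := by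
    intro n
    induction n with
    | zero => intro q; rfl
    | succ n ih =>
      intro q
      rw [pow_succ, pow_succ, MulAut.mul_apply, MulAut.mul_apply, ih (b q)]
      have e : (⟨((b q : ↥(P ⊓ T)) : Ω), (b q).2.1⟩ : P) = (β : MulAut P) ⟨q, q.2.1⟩ :=
        Subtype.ext (hbv' q)
      rw [e]
  have hβord : (β : MulAut P) ^ orderOf β = 1 := by
    rw [← Subgroup.orderOf_coe]
    exact pow_orderOf_eq_one _
  have hord : orderOf b ∣ orderOf β := by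
    apply orderOf_dvd_of_pow_eq_one
    apply MulEquiv.ext
    intro q
    apply Subtype.ext
    rw [hpow, hβord]
    rfl
  have hres : (⟨b, hb⟩ : F.autGroup (P ⊓ T)) ∈ pResidual p (F.autGroup (P ⊓ T)) := by
    apply Subgroup.subset_closure
    show (orderOf _).Coprime p
    rw [Subgroup.orderOf_mk]
    exact Nat.Coprime.coprime_dvd_left hord hβc
  have hbE : b ∈ E.autGroup (P ⊓ T) := hEi.2.2 _ inf_le_right ⟨_, hres, rfl⟩
  refine ⟨hβ', 1, one_mem _, _, (Fusion.mem_autGroup_iff E inf_le_right).1 hbE,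
    fun x hx => ?_⟩
  exact (hbv' x).symm

theorem le_decompSystem_of_pPowerIndex [Finite S] (p : ℕ) [Fact p.Prime] (hS : IsPGroup p S)
    (F : FusionSystem S) (hF : F.IsSaturated p) {T : Subgroup Ω} (hT : F.StronglyClosed T)
    (E : FusionSystem T) (hEi : E.HasPPowerIndexIn F p) (hinv : AutInv E F) :
    F ≤ decompSystem F E hT hinv := by
  apply alperin p hS F hF
  intro P hP α hα
  have hPa : F.IsFullyAutomized p P := by
    rcases hP with rfl | hP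
    · exact (top_automized_receptive p F hF).1
    · exact (((Cfsg.Agent.S5077.result p hS F).1 hF).1 P hP.2.1).2
  obtain ⟨hPS, R, hR⟩ := hPa
  have hPfin : Finite P := finite_of_le hPS
  have hsup := Cfsg.Agent.Lib.Helper18.pResidual_sup_sylow R
  have hmem : (⟨α, hα⟩ : F.autGroup P) ∈ pResidual p (F.autGroup P) ⊔ (R : Subgroup _) := by
    rw [hsup]
    trivial
  obtain ⟨β, hβ, r, hr, hβr⟩ := Subgroup.mem_sup_of_normal_left.mp hmem
  have hr' : r ∈ (R : Subgroup (F.autGroup P)) := hr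
  rw [hR, Subgroup.mem_subgroupOf] at hr'
  have hα_eq : α = (β : MulAut P) * (r : MulAut P) := congrArg Subtype.val hβr.symm
  rw [hα_eq]
  apply Subgroup.mul_mem
  · exact pResidual_le_decomp p F hT E hEi hinv hPS ⟨β, hβ, rfl⟩
  · exact Fusion.autInducedBy_le_autGroup _ hPS hr'

theorem frattini_of_pPowerIndex [Finite S] (p : ℕ) [Fact p.Prime] (hS : IsPGroup p S)
    (F : FusionSystem S) (hF : F.IsSaturated p) {T : Subgroup Ω} (hT : F.StronglyClosed T)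
    (E : FusionSystem T) (hEi : E.HasPPowerIndexIn F p) (hinv : AutInv E F)
    (P : Subgroup Ω) (hPT : P ≤ T) (φ : P →* Ω) (hφ : φ ∈ F.Hom P) :
    ∃ α ∈ F.autGroup T, ∃ φ₀ ∈ E.Hom P, ∀ (x : P) (hx : φ₀ x ∈ T),
      φ x = ((α ⟨φ₀ x, hx⟩ : T) : Ω) := by
  obtain ⟨-, α, hα, φ₀, hφ₀, h⟩ := le_decompSystem_of_pPowerIndex p hS F hF hT E hEi hinv P hφ
  have hle : P ≤ P ⊓ T := le_inf le_rfl hPT
  exact ⟨α, hα, φ₀.comp (Subgroup.inclusion hle), Fusion.restrict_mem E hφ₀ hle,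
    fun x hx => h (Subgroup.inclusion hle x) hx⟩

/-! ### The extension condition -/

/-- A strongly closed subgroup of a saturated system is fully automized and receptive. -/
theorem automized_receptive_of_stronglyClosed [Finite S] (p : ℕ) (F : FusionSystem S)
    (hF : F.IsSaturated p) {T : Subgroup Ω} (hT : F.StronglyClosed T) :
    F.IsFullyAutomized p T ∧ F.IsReceptive T := by
  have hTfin : Finite T := finite_of_le hT.1
  obtain ⟨P', ⟨φ, hφ, hr⟩, hPa, hPr⟩ := hF T hT.1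
  have hP'T : P' = T := by
    apply Subgroup.eq_of_le_of_card_ge
    · rw [← hr]
      rintro _ ⟨x, rfl⟩
      exact hT.2 T le_rfl φ hφ x
    · rw [← hr]
      exact le_of_eq (Nat.card_congr (Equiv.ofInjective _ (F.injective_of_mem hφ)))
  rw [hP'T] at hPa hPr
  exact ⟨hPa, hPr⟩

/-- `β` extends the automorphism `α` of `T`. -/
def Extends {T : Subgroup Ω} (β : MulAut ↥(T ⊔ centralizerIn S T)) (α : MulAut T) : Prop :=
  ∀ x : T, ((β (Subgroup.inclusion le_sup_left x) : ↥(T ⊔ centralizerIn S T)) : Ω) =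
    ((α x : T) : Ω)

theorem Extends.apply {T : Subgroup Ω} {β : MulAut ↥(T ⊔ centralizerIn S T)} {α : MulAut T}
    (h : Extends β α) (x : T) :
    β (Subgroup.inclusion le_sup_left x) = Subgroup.inclusion le_sup_left (α x) :=
  Subtype.ext (h x)

theorem Extends.mul {T : Subgroup Ω} {β₁ β₂ : MulAut ↥(T ⊔ centralizerIn S T)}
    {α₁ α₂ : MulAut T} (h₁ : Extends β₁ α₁) (h₂ : Extends β₂ α₂) :
    Extends (β₁ * β₂) (α₁ * α₂) := by
  intro x
  rw [MulAut.mul_apply, MulAut.mul_apply, h₂.apply x]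
  exact h₁ (α₂ x)

theorem Extends.one {T : Subgroup Ω} :
    Extends (1 : MulAut ↥(T ⊔ centralizerIn S T)) (1 : MulAut T) := fun _ => rfl

theorem Extends.pow {T : Subgroup Ω} {β : MulAut ↥(T ⊔ centralizerIn S T)}
    {α : MulAut T} (h : Extends β α) (n : ℕ) : Extends (β ^ n) (α ^ n) := by
  induction n with
  | zero => rw [pow_zero, pow_zero]; exact Extends.one
  | succ n ih => rw [pow_succ, pow_succ]; exact ih.mul h

theorem Extends.inv {T : Subgroup Ω} {β : MulAut ↥(T ⊔ centralizerIn S T)}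
    {α : MulAut T} (h : Extends β α) : Extends β⁻¹ α⁻¹ := by
  intro x
  have e : Subgroup.inclusion le_sup_left x =
      β (Subgroup.inclusion le_sup_left ((α⁻¹ : MulAut T) x)) := by
    rw [h.apply, MulAut.apply_inv_self]
  conv_lhs => rw [e]
  rw [MulAut.inv_apply_self]
  rfl

/-- An automorphism extending an automorphism of `T` preserves the centralizer of `T`. -/
theorem Extends.centralizer_mem {T : Subgroup Ω} {β : MulAut ↥(T ⊔ centralizerIn S T)}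
    {α : MulAut T} (h : Extends β α) (c : ↥(T ⊔ centralizerIn S T))
    (hc : (c : Ω) ∈ Subgroup.centralizer (T : Set Ω)) :
    ((β c : ↥(T ⊔ centralizerIn S T)) : Ω) ∈ Subgroup.centralizer (T : Set Ω) := by
  rw [Subgroup.mem_centralizer_iff]
  intro t ht
  have e : Subgroup.inclusion le_sup_left (⟨t, ht⟩ : T) =
      β (Subgroup.inclusion le_sup_left ((α⁻¹ : MulAut T) ⟨t, ht⟩)) := by
    rw [h.apply, MulAut.apply_inv_self]
  have hcomm : Subgroup.inclusion le_sup_left ((α⁻¹ : MulAut T) ⟨t, ht⟩) * c =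
      c * Subgroup.inclusion le_sup_left ((α⁻¹ : MulAut T) ⟨t, ht⟩) := by
    apply Subtype.ext
    exact (Subgroup.mem_centralizer_iff.mp hc) _ ((α⁻¹ : MulAut T) ⟨t, ht⟩).2
  have h2 : Subgroup.inclusion le_sup_left (⟨t, ht⟩ : T) * β c =
      β c * Subgroup.inclusion le_sup_left (⟨t, ht⟩ : T) := by
    rw [e, ← map_mul, ← map_mul, hcomm]
  exact congrArg Subtype.val h2

/-- Automorphisms of `T` preserve its centre. -/
theorem aut_center_mem {T : Subgroup Ω} (α : MulAut T) (z : T)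
    (hz : (z : Ω) ∈ Subgroup.centralizer (T : Set Ω)) :
    ((α z : T) : Ω) ∈ T ⊓ Subgroup.centralizer (T : Set Ω) := by
  refine ⟨(α z).2, ?_⟩
  apply Subgroup.mem_centralizer_iff.mpr
  intro t ht
  have e : (⟨t, ht⟩ : T) = α ((α⁻¹ : MulAut T) ⟨t, ht⟩) := by
    rw [MulAut.apply_inv_self]
  have hcomm : (α⁻¹ : MulAut T) ⟨t, ht⟩ * z = z * (α⁻¹ : MulAut T) ⟨t, ht⟩ := by
    apply Subtype.ext
    exact (Subgroup.mem_centralizer_iff.mp hz) _ ((α⁻¹ : MulAut T) ⟨t, ht⟩).2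
  have h2 : (⟨t, ht⟩ : T) * α z = α z * (⟨t, ht⟩ : T) := by
    rw [e, ← map_mul, ← map_mul, hcomm]
  exact congrArg Subtype.val h2

/-- The automorphisms of `T` satisfying the extension condition. -/
def extGroup (F : FusionSystem S) (T : Subgroup Ω) (hTS : T ≤ S) : Subgroup (MulAut T) where
  carrier := {α | ∃ β ∈ F.autGroup (T ⊔ centralizerIn S T), Extends β α ∧
    ∀ c : ↥(T ⊔ centralizerIn S T), (c : Ω) ∈ centralizerIn S T →
      (c : Ω)⁻¹ * ((β c : ↥(T ⊔ centralizerIn S T)) : Ω) ∈ T ⊓ Subgroup.centralizer (T : Set Ω)}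
  one_mem' := by
    refine ⟨1, one_mem _, Extends.one, fun c hc => ?_⟩
    rw [MulAut.one_apply, inv_mul_cancel]
    exact Subgroup.one_mem _
  mul_mem' := by
    rintro α₁ α₂ ⟨β₁, hβ₁, he₁, hc₁⟩ ⟨β₂, hβ₂, he₂, hc₂⟩
    refine ⟨β₁ * β₂, mul_mem hβ₁ hβ₂, he₁.mul he₂, fun c hc => ?_⟩
    rw [MulAut.mul_apply]
    have hz := hc₂ c hc
    -- β₂ c = c * z with z central in T
    obtain ⟨z, hzdef⟩ : ∃ z : T, (z : Ω) = (c : Ω)⁻¹ * ((β₂ c : ↥(T ⊔ centralizerIn S T)) : Ω) :=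
      ⟨⟨_, hz.1⟩, rfl⟩
    have hzc : (z : Ω) ∈ Subgroup.centralizer (T : Set Ω) := hzdef ▸ hz.2
    have e : β₂ c = c * Subgroup.inclusion le_sup_left z := by
      apply Subtype.ext
      show _ = (c : Ω) * (z : Ω)
      rw [hzdef]
      group
    rw [e, map_mul, he₁.apply z]
    have h1 := hc₁ c hc
    have h2 := aut_center_mem α₁ z hzc
    have e2 : (c : Ω)⁻¹ * ((β₁ c * Subgroup.inclusion le_sup_left (α₁ z) :
        ↥(T ⊔ centralizerIn S T)) : Ω) =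
        ((c : Ω)⁻¹ * ((β₁ c : ↥(T ⊔ centralizerIn S T)) : Ω)) * ((α₁ z : T) : Ω) := by
      show (c : Ω)⁻¹ * (((β₁ c : ↥(T ⊔ centralizerIn S T)) : Ω) * ((α₁ z : T) : Ω)) = _
      group
    rw [e2]
    exact Subgroup.mul_mem _ h1 h2
  inv_mem' := by
    rintro α ⟨β, hβ, he, hc⟩
    refine ⟨β⁻¹, inv_mem hβ, he.inv, fun c hcc => ?_⟩
    -- apply the hypothesis to `c' = β⁻¹ c`
    have hc'cent : (((β⁻¹ : MulAut _) c : ↥(T ⊔ centralizerIn S T)) : Ω) ∈
        Subgroup.centralizer (T : Set Ω) := he.inv.centralizer_mem c hcc.2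
    have hc'S : (((β⁻¹ : MulAut _) c : ↥(T ⊔ centralizerIn S T)) : Ω) ∈ S :=
      (sup_le hTS inf_le_left :
        T ⊔ centralizerIn S T ≤ S) ((β⁻¹ : MulAut _) c).2
    have h1 := hc ((β⁻¹ : MulAut _) c) ⟨hc'S, hc'cent⟩
    rw [MulAut.apply_inv_self] at h1
    have h2 := Subgroup.inv_mem _ h1
    have e : ((((β⁻¹ : MulAut _) c : ↥(T ⊔ centralizerIn S T)) : Ω)⁻¹ * (c : Ω))⁻¹ =
        (c : Ω)⁻¹ * (((β⁻¹ : MulAut _) c : ↥(T ⊔ centralizerIn S T)) : Ω) := by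
      group
    rw [e] at h2
    exact h2

theorem inner_mem_extGroup (F : FusionSystem S) {T : Subgroup Ω} (hTS : T ≤ S) {t : Ω}
    (ht : t ∈ T) {r : MulAut T} (hr : ∀ x : T, ((r x : T) : Ω) = t * x * t⁻¹) :
    r ∈ extGroup F T hTS := by
  have hTCS : T ⊔ centralizerIn S T ≤ S := sup_le hTS inf_le_left
  have htN : t ∈ Subgroup.normalizer ((T ⊔ centralizerIn S T : Subgroup Ω) : Set Ω) :=
    Subgroup.le_normalizer ((le_sup_left : T ≤ T ⊔ centralizerIn S T) ht)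
  refine ⟨(T ⊔ centralizerIn S T).normalizerMonoidHom ⟨t, htN⟩,
    Fusion.autInducedBy_le_autGroup F hTCS (Subgroup.subset_closure ⟨t, hTS ht, fun _ => rfl⟩),
    fun x => (hr x).symm, fun c hc => ?_⟩
  show (c : Ω)⁻¹ * (t * (c : Ω) * t⁻¹) ∈ _
  have e : t * (c : Ω) = (c : Ω) * t := (Subgroup.mem_centralizer_iff.mp hc.2) t ht
  rw [e]
  have e2 : (c : Ω)⁻¹ * ((c : Ω) * t * t⁻¹) = 1 := by group
  rw [e2]
  exact Subgroup.one_mem _

theorem map_sup_mem {N : Subgroup Ω} (ψ : N →* Ω) {A B A' B' : Subgroup Ω} (hA : A ≤ N)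
    (hB : B ≤ N) (h1 : ∀ a (ha : a ∈ A), ψ ⟨a, hA ha⟩ ∈ A')
    (h2 : ∀ b (hb : b ∈ B), ψ ⟨b, hB hb⟩ ∈ B') (q : Ω) (hq : q ∈ A ⊔ B) :
    ψ ⟨q, sup_le hA hB hq⟩ ∈ A' ⊔ B' := by
  have hle : A ⊔ B ≤ ((A' ⊔ B').comap ψ).map N.subtype := by
    apply sup_le
    · intro a ha
      exact ⟨⟨a, hA ha⟩, Subgroup.mem_comap.mpr ((le_sup_left : A' ≤ A' ⊔ B') (h1 a ha)), rfl⟩
    · intro b hb
      exact ⟨⟨b, hB hb⟩, Subgroup.mem_comap.mpr ((le_sup_right : B' ≤ A' ⊔ B') (h2 b hb)), rfl⟩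
  obtain ⟨n, hn, hnq⟩ := hle hq
  have e : (⟨q, sup_le hA hB hq⟩ : N) = n := Subtype.ext hnq.symm
  rw [e]
  exact Subgroup.mem_comap.mp hn

/-- Every `F`-automorphism of the receptive subgroup `T` extends to an `F`-automorphism of
`T C_S(T)`. -/
theorem exists_extends [Finite S] (F : FusionSystem S) {T : Subgroup Ω} (hTr : F.IsReceptive T)
    {α : MulAut T} (hα : α ∈ F.autGroup T) :
    ∃ β ∈ F.autGroup (T ⊔ centralizerIn S T), Extends β α := by
  have hTS : T ≤ S := hTr.1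
  have hTCS : T ⊔ centralizerIn S T ≤ S := sup_le hTS inf_le_left
  have hfin : Finite ↥(T ⊔ centralizerIn S T) := finite_of_le hTCS
  have hφ : T.subtype.comp (α : T ≃* T).toMonoidHom ∈ F.Hom T :=
    (Fusion.mem_autGroup_iff F hTS).1 hα
  obtain ⟨ψ, hψ, hext⟩ := hTr.2 T _ hφ (Fusion.range_of_isIso (α : T ≃* T))
  have hTN : T ≤ extender S T (T.subtype.comp (α : T ≃* T).toMonoidHom) :=
    le_extender hTS (fun x => hTS (α x).2)
  have hCN : centralizerIn S T ≤ extender S T (T.subtype.comp (α : T ≃* T).toMonoidHom) :=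
    centralizerIn_le_extender _
  have hle := sup_le hTN hCN
  have hψT : ∀ t : T, ψ ⟨t, hTN t.2⟩ = ((α t : T) : Ω) := fun t => hext t t.2 (hTN t.2)
  have h1 : ∀ a (ha : a ∈ T), ψ ⟨a, hTN ha⟩ ∈ T := by
    intro a ha
    rw [hψT ⟨a, ha⟩]
    exact (α _).2
  have h2 : ∀ b (hb : b ∈ centralizerIn S T), ψ ⟨b, hCN hb⟩ ∈ centralizerIn S T := by
    intro b hb
    refine ⟨hom_mem F hψ _, ?_⟩
    apply Subgroup.mem_centralizer_iff.mpr
    intro t ht
    obtain ⟨t', ht'⟩ : ∃ t' : T, ((α t' : T) : Ω) = t :=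
      ⟨(α⁻¹ : MulAut T) ⟨t, ht⟩, by rw [MulAut.apply_inv_self]⟩
    subst ht'
    have hcomm : (⟨t', hTN t'.2⟩ : extender S T (T.subtype.comp (α : T ≃* T).toMonoidHom)) *
        ⟨b, hCN hb⟩ = ⟨b, hCN hb⟩ * ⟨t', hTN t'.2⟩ :=
      Subtype.ext ((Subgroup.mem_centralizer_iff.mp hb.2) _ t'.2)
    rw [← hψT t', ← map_mul, ← map_mul, hcomm]
  have hres := restrict_mem F hψ hle
  have hrange : (ψ.comp (Subgroup.inclusion hle)).range = T ⊔ centralizerIn S T := by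
    apply Subgroup.eq_of_le_of_card_ge
    · rintro _ ⟨q, rfl⟩
      exact map_sup_mem ψ hTN hCN h1 h2 q q.2
    · exact le_of_eq (Nat.card_congr (Equiv.ofInjective _ (F.injective_of_mem hres)))
  refine ⟨Fusion.equivOfRange _ (F.injective_of_mem hres) hrange,
    (Fusion.mem_autGroup_iff F hTCS).2 (Fusion.isIso_equivOfRange F hres hrange), fun x => ?_⟩
  exact hψT x

/-- Elements of order prime to `p` of `Aut_F(T)` satisfy the extension condition when `T`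
contains the hyperfocal subgroup. -/
theorem pprime_mem_extGroup [Finite S] (p : ℕ) [Fact p.Prime] (F : FusionSystem S)
    {T : Subgroup Ω} (hTr : F.IsReceptive T) (hT : F.hyperfocalSubgroup p ≤ T) {α : MulAut T}
    (hα : α ∈ F.autGroup T) (hαc : (orderOf α).Coprime p) : α ∈ extGroup F T hTr.1 := by
  have hTS : T ≤ S := hTr.1
  have hTCS : T ⊔ centralizerIn S T ≤ S := sup_le hTS inf_le_left
  have hfin : Finite ↥(T ⊔ centralizerIn S T) := finite_of_le hTCS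
  obtain ⟨β₀, hβ₀, hext⟩ := exists_extends F hTr hα
  have hm : orderOf β₀ ≠ 0 := (orderOf_pos β₀).ne'
  obtain ⟨e, n', hn', hm_eq⟩ :=
    Nat.exists_eq_pow_mul_and_not_dvd hm p (Fact.out : p.Prime).ne_one
  have hβ₁ : (β₀ ^ p ^ e) ^ n' = 1 := by
    rw [← pow_mul, ← hm_eq, pow_orderOf_eq_one]
  have hord : (orderOf (β₀ ^ p ^ e)).Coprime p := by
    have h1 : orderOf (β₀ ^ p ^ e) ∣ n' := orderOf_dvd_of_pow_eq_one hβ₁
    have h2 : Nat.Coprime n' p :=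
      ((Nat.Prime.coprime_iff_not_dvd (Fact.out : p.Prime)).2 hn').symm
    exact Nat.Coprime.coprime_dvd_left h1 h2
  have hβ₁F : β₀ ^ p ^ e ∈ F.autGroup (T ⊔ centralizerIn S T) := pow_mem hβ₀ _
  have hres : (⟨β₀ ^ p ^ e, hβ₁F⟩ : F.autGroup (T ⊔ centralizerIn S T)) ∈
      pResidual p (F.autGroup (T ⊔ centralizerIn S T)) := by
    apply Subgroup.subset_closure
    show (orderOf _).Coprime p
    rw [Subgroup.orderOf_mk]
    exact hord
  have hext₁ : Extends (β₀ ^ p ^ e) (α ^ p ^ e) := hext.pow _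
  have hmem : α ^ p ^ e ∈ extGroup F T hTS := by
    refine ⟨β₀ ^ p ^ e, hβ₁F, hext₁, fun c hc => ⟨?_, ?_⟩⟩
    · exact hT (mem_hyperfocal F p hTCS hres c)
    · exact Subgroup.mul_mem _ (Subgroup.inv_mem _ hc.2) (hext₁.centralizer_mem c hc.2)
  obtain ⟨u, hu⟩ := exists_pow_eq_self_of_coprime
    (Nat.Coprime.pow_left e hαc.symm : (p ^ e).Coprime (orderOf α))
  rw [← hu]
  exact pow_mem hmem u

theorem autGroup_le_extGroup [Finite S] (p : ℕ) [Fact p.Prime]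
    (F : FusionSystem S) (hF : F.IsSaturated p) {T : Subgroup Ω} (hTsc : F.StronglyClosed T)
    (hT : F.hyperfocalSubgroup p ≤ T) (E : FusionSystem T) (hEs : E.IsSaturated p)
    (hEsub : E.IsSubsystemOf F) : E.autGroup T ≤ extGroup F T hTsc.1 := by
  have hTS := hTsc.1
  have hTfin : Finite T := finite_of_le hTS
  have hTr := (automized_receptive_of_stronglyClosed p F hF hTsc).2
  obtain ⟨-, R, hR⟩ := (top_automized_receptive p E hEs).1
  intro α hα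
  have hsup := Cfsg.Agent.Lib.Helper18.pResidual_sup_sylow R
  have hmem : (⟨α, hα⟩ : E.autGroup T) ∈ pResidual p (E.autGroup T) ⊔ (R : Subgroup _) := by
    rw [hsup]
    trivial
  obtain ⟨β, hβ, r, hr, hβr⟩ := Subgroup.mem_sup_of_normal_left.mp hmem
  have hr' : r ∈ (R : Subgroup (E.autGroup T)) := hr
  rw [hR, Subgroup.mem_subgroupOf] at hr'
  obtain ⟨s, hsT, hs⟩ := Fusion.mem_autInducedBy_iff.1 hr'
  have hα_eq : α = (β : MulAut T) * (r : MulAut T) := congrArg Subtype.val hβr.symm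
  rw [hα_eq]
  apply Subgroup.mul_mem
  · have hle : (pResidual p (E.autGroup T)).map (E.autGroup T).subtype ≤ extGroup F T hTS := by
      rw [Subgroup.map_le_iff_le_comap]
      unfold pResidual
      rw [Subgroup.closure_le]
      intro γ hγ
      have hγc : (orderOf γ).Coprime p := hγ
      show (γ : MulAut T) ∈ extGroup F T hTS
      apply pprime_mem_extGroup p F hTr hT
      · exact (Fusion.mem_autGroup_iff F hTS).2
          (hEsub T ((Fusion.mem_autGroup_iff E le_rfl).1 γ.2))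
      · rw [Subgroup.orderOf_coe]
        exact hγc
    exact hle ⟨β, hβ, rfl⟩
  · exact inner_mem_extGroup F hTS hsT hs

/-- A saturated subsystem of `p`-power index over a subgroup normal in `S` is normal. -/
theorem isNormalIn_of_pPowerIndex [Finite S] (p : ℕ) [Fact p.Prime] (hS : IsPGroup p S)
    (F : FusionSystem S) (hF : F.IsSaturated p) (T : Subgroup Ω) (hTS : T ≤ S)
    (hTn : (T.subgroupOf S).Normal) (hT : F.hyperfocalSubgroup p ≤ T) (E : FusionSystem T)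
    (hEs : E.IsSaturated p) (hEi : E.HasPPowerIndexIn F p) : E.IsNormalIn F p := by
  have hTsc : F.StronglyClosed T :=
    stronglyClosed_of_hyperfocal_le p hS F hF hTS (conj_mem_iff_of_normal hTS hTn) hT
  have hinv : AutInv E F := autInv_of_pPowerIndex p hS F hTS E hEs hEi
  refine ⟨⟨hEs, hF, hEi.1, hTsc, hinv, frattini_of_pPowerIndex p hS F hF hTsc E hEi hinv⟩, ?_⟩
  intro α hα
  obtain ⟨β, hβ, he, hc⟩ := autGroup_le_extGroup p F hF hTsc hT E hEs hEi.1 hα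
  exact ⟨β, hβ, he, hc⟩

end Cfsg.Agent.Lib.Helper27
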