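import Mathlib
import Cfsg.Agent.Lib.Helper27.AbIndexPG
import Cfsg.Agent.Lib.Helper27.NormalCrit
import Cfsg.Agent.Lib.Helper27.PPowerNormal

set_option autoImplicit false

namespace Cfsg.Agent.Lib.Helper27

open Cfsg Cfsg.FusionSystem Cfsg.Agent.Lib.Helper26

section AbH

variable {Ω : Type*} [Group Ω] {S : Subgroup Ω}

theorem abh_map_eq {P : Subgroup Ω} (Q : Subgroup Ω) (G : Subgroup (MulAut ↥P))
    (h : ∀ α ∈ G, ∀ w : ↥P, (w : Ω) ∈ Q → ((α w : ↥P) : Ω) ∈ Q) :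
    ∀ α ∈ G, (Q.subgroupOf P).map α.toMonoidHom = Q.subgroupOf P := by
  intro α hα
  ext y
  constructor
  · rintro ⟨w, hw, rfl⟩
    exact Subgroup.mem_subgroupOf.mpr (h α hα w (Subgroup.mem_subgroupOf.mp hw))
  · intro hy
    refine ⟨α⁻¹ y, Subgroup.mem_subgroupOf.mpr
      (h α⁻¹ (G.inv_mem hα) y (Subgroup.mem_subgroupOf.mp hy)), ?_⟩
    show α (α⁻¹ y) = y
    rw [MulAut.apply_inv_self]

theorem abh_center_inv {P : Subgroup Ω} (Zc : Subgroup Ω)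
    (hZc : ∀ z ∈ Zc, ∀ y ∈ P, y * z = z * y)
    (hcen : ∀ y ∈ P, (∀ y' ∈ P, y' * y = y * y') → y ∈ Zc) (α : MulAut ↥P) (z : ↥P)
    (hz : (z : Ω) ∈ Zc) : ((α z : ↥P) : Ω) ∈ Zc := by
  apply hcen _ (α z).2
  intro y' hy'
  have h1 : (α⁻¹ ⟨y', hy'⟩) * z = z * (α⁻¹ ⟨y', hy'⟩) :=
    Subtype.ext (hZc z hz _ (α⁻¹ ⟨y', hy'⟩).2)
  have h2 := congrArg (fun q : ↥P => ((α q : ↥P) : Ω)) h1
  simp only [map_mul, MulAut.apply_inv_self, Subgroup.coe_mul] at h2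
  exact h2

theorem abh_fn [Finite S] (F : FusionSystem S) (Zc : Subgroup Ω) (hZS : Zc ≤ S)
    (hZc : ∀ z ∈ Zc, ∀ s ∈ S, s * z = z * s) : F.IsFullyNormalized Zc := by
  refine ⟨hZS, fun Q _ => ?_⟩
  have h1 : normalizerIn S Zc = S := by
    apply le_antisymm inf_le_left
    intro s hs
    refine ⟨hs, ?_⟩
    show s ∈ Subgroup.normalizer (Zc : Set Ω)
    rw [Subgroup.mem_normalizer_iff]
    intro z
    constructor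
    · intro hz
      rw [hZc z hz s hs, mul_inv_cancel_right]
      exact hz
    · intro hz
      have h2 := hZc _ hz s hs
      have h3 : z = s * z * s⁻¹ := by
        have h4 : s * (s * z * s⁻¹) = s * z := by
          rw [h2]
          group
        exact (mul_left_cancel h4).symm
      rw [h3]
      exact hz
  rw [h1]
  exact Subgroup.card_le_of_le inf_le_left

theorem abh_transport (F : FusionSystem S) (T : Subgroup Ω) (hT : T = S) (β : MulAut ↥T)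
    (hβ : β ∈ F.autGroup T) :
    ∃ α ∈ F.autGroup S, ∀ (s : Ω) (hs : s ∈ S) (hs' : s ∈ T),
      ((α ⟨s, hs⟩ : ↥S) : Ω) = ((β ⟨s, hs'⟩ : ↥T) : Ω) := by
  subst hT
  exact ⟨β, hβ, fun s hs hs' => rfl⟩

theorem abh_extend [Finite S] (F : FusionSystem S) (Zc : Subgroup Ω) (hZr : F.IsReceptive Zc)
    (hZc : ∀ z ∈ Zc, ∀ s ∈ S, s * z = z * s) (γ : MulAut ↥Zc) (hγ : γ ∈ F.autGroup Zc) :
    ∃ α ∈ F.autGroup S, ∀ (z : ↥Zc) (hz : (z : Ω) ∈ S),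
      ((α ⟨z, hz⟩ : ↥S) : Ω) = ((γ z : ↥Zc) : Ω) := by
  have hZS : Zc ≤ S := hZr.1
  have hT : Zc ⊔ centralizerIn S Zc = S := by
    apply le_antisymm (sup_le hZS inf_le_left)
    intro s hs
    apply Subgroup.mem_sup_right
    refine ⟨hs, ?_⟩
    show s ∈ Subgroup.centralizer (Zc : Set Ω)
    rw [Subgroup.mem_centralizer_iff]
    intro z hz
    exact (hZc z hz s hs).symm
  obtain ⟨β, hβ, hext⟩ := exists_extends F hZr hγ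
  obtain ⟨α, hα, hαβ⟩ := abh_transport F _ hT β hβ
  refine ⟨α, hα, fun z hz => ?_⟩
  rw [hαβ z hz (Subgroup.mem_sup_left z.2)]
  exact hext z

theorem abh_restrict [Finite S] (F : FusionSystem S) (Zc P : Subgroup Ω) (hZP : Zc ≤ P)
    (hPS : P ≤ S) (k : MulAut ↥P) (hk : k ∈ F.autGroup P)
    (hkZ : ∀ z : ↥P, (z : Ω) ∈ Zc → ((k z : ↥P) : Ω) ∈ Zc) :
    ∃ γ ∈ F.autGroup Zc, ∀ z : ↥Zc, ((γ z : ↥Zc) : Ω) = ((k ⟨z, hZP z.2⟩ : ↥P) : Ω) := by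
  have hZS : Zc ≤ S := hZP.trans hPS
  have hZfin : Finite ↥Zc := finite_of_le hZS
  have hkF : P.subtype.comp (k : P ≃* P).toMonoidHom ∈ F.Hom P :=
    (Fusion.mem_autGroup_iff F hPS).1 hk
  have hφ := restrict_mem F hkF hZP
  have hrange : ((P.subtype.comp (k : P ≃* P).toMonoidHom).comp
      (Subgroup.inclusion hZP)).range = Zc := by
    apply Subgroup.eq_of_le_of_card_ge
    · rintro _ ⟨z, rfl⟩
      exact hkZ ⟨z, hZP z.2⟩ z.2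
    · exact le_of_eq (Nat.card_congr (Equiv.ofInjective _ (F.injective_of_mem hφ)))
  exact ⟨Fusion.equivOfRange _ (F.injective_of_mem hφ) hrange,
    (Fusion.mem_autGroup_iff F hZS).2 (Fusion.isIso_equivOfRange F hφ hrange), fun z => rfl⟩

theorem abh_comm_inv [Finite S] (F : FusionSystem S) (Zc : Subgroup Ω) (hZr : F.IsReceptive Zc)
    (hZc : ∀ z ∈ Zc, ∀ s ∈ S, s * z = z * s) (γ : MulAut ↥Zc) (hγ : γ ∈ F.autGroup Zc)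
    (z : ↥Zc) (hz : (z : Ω) ∈ (commutator ↥S).map S.subtype) :
    ((γ z : ↥Zc) : Ω) ∈ (commutator ↥S).map S.subtype := by
  obtain ⟨α, hα, hαγ⟩ := abh_extend F Zc hZr hZc γ hγ
  obtain ⟨s', hs', hs'z⟩ := hz
  have hzS : (z : Ω) ∈ S := hZr.1 z.2
  have e : s' = ⟨z, hzS⟩ := Subtype.ext hs'z
  rw [← hαγ z hzS, ← e]
  refine ⟨α s', ?_, rfl⟩
  have hchar : (commutator ↥S).Characteristic := inferInstance
  have h2 : s' ∈ (commutator ↥S).comap α.toMonoidHom := by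
    rw [hchar.fixed α]
    exact hs'
  exact h2

/-- The candidate normal subgroup: the fixed points in `Zc` of the automorphisms in `Aut_F(Zc)`
acting trivially modulo `T`. -/
def abhW (F : FusionSystem S) (Zc T : Subgroup Ω) : Subgroup Ω where
  carrier := {w | ∃ hw : w ∈ Zc, ∀ γ ∈ F.autGroup Zc,
    (∀ z : ↥Zc, (z : Ω)⁻¹ * ((γ z : ↥Zc) : Ω) ∈ T) → γ ⟨w, hw⟩ = ⟨w, hw⟩}
  one_mem' := ⟨one_mem _, fun γ _ _ => map_one γ⟩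
  mul_mem' := by
    rintro a b ⟨ha, ha'⟩ ⟨hb, hb'⟩
    refine ⟨mul_mem ha hb, fun γ hγ h => ?_⟩
    have e : (⟨a * b, mul_mem ha hb⟩ : ↥Zc) = ⟨a, ha⟩ * ⟨b, hb⟩ := rfl
    rw [e, map_mul, ha' γ hγ h, hb' γ hγ h]
  inv_mem' := by
    rintro a ⟨ha, ha'⟩
    refine ⟨inv_mem ha, fun γ hγ h => ?_⟩
    have e : (⟨a⁻¹, inv_mem ha⟩ : ↥Zc) = (⟨a, ha⟩ : ↥Zc)⁻¹ := rfl
    rw [e, map_inv, ha' γ hγ h]

theorem abhW_le (F : FusionSystem S) (Zc T : Subgroup Ω) : abhW F Zc T ≤ Zc := by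
  rintro w ⟨hw, -⟩
  exact hw

theorem abhW_inv (F : FusionSystem S) (Zc T : Subgroup Ω)
    (hTinv : ∀ γ ∈ F.autGroup Zc, ∀ z : ↥Zc, (z : Ω) ∈ T → ((γ z : ↥Zc) : Ω) ∈ T)
    (δ : MulAut ↥Zc) (hδ : δ ∈ F.autGroup Zc) (w : ↥Zc) (hw : (w : Ω) ∈ abhW F Zc T) :
    ((δ w : ↥Zc) : Ω) ∈ abhW F Zc T := by
  obtain ⟨hwZ, hw'⟩ := hw
  refine ⟨(δ w).2, fun γ hγ h => ?_⟩
  have h1 := hw' (δ⁻¹ * γ * δ) (mul_mem (mul_mem (inv_mem hδ) hγ) hδ) (fun z => by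
    have h2 := hTinv δ⁻¹ (inv_mem hδ) ((δ z)⁻¹ * γ (δ z)) (h (δ z))
    have e : (δ⁻¹ : MulAut ↥Zc) ((δ z)⁻¹ * γ (δ z)) = z⁻¹ * (δ⁻¹ * γ * δ) z := by
      show (δ⁻¹ : MulAut ↥Zc) ((δ z)⁻¹ * γ (δ z)) = z⁻¹ * (δ⁻¹ : MulAut ↥Zc) (γ (δ z))
      rw [map_mul, map_inv, MulAut.inv_apply_self]
    rw [e] at h2
    exact h2)
  have h4 : (δ⁻¹ : MulAut ↥Zc) (γ (δ w)) = w := h1
  have h5 := congrArg δ h4
  rw [MulAut.apply_inv_self] at h5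
  exact h5

theorem abh_F1 [Finite S] (p : ℕ) [Fact p.Prime] (hS : IsPGroup p S) (F : FusionSystem S)
    (Zc T : Subgroup Ω) (hZa : F.IsFullyAutomized p Zc)
    (hZc : ∀ z ∈ Zc, ∀ s ∈ S, s * z = z * s)
    (γ : MulAut ↥Zc) (hγ : γ ∈ F.autGroup Zc)
    (h1 : ∀ z : ↥Zc, (z : Ω)⁻¹ * ((γ z : ↥Zc) : Ω) ∈ T)
    (h2 : ∀ z : ↥Zc, (z : Ω) ∈ T → γ z = z) : γ = 1 := by
  have htriv : ∀ t ∈ autInducedBy S Zc, t = 1 := by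
    intro t ht
    obtain ⟨s, hs, hst⟩ := Fusion.mem_autInducedBy_iff.1 ht
    apply MulEquiv.ext
    intro z
    apply Subtype.ext
    rw [hst z, hZc z z.2 s hs, mul_inv_cancel_right]
    rfl
  apply htriv
  apply mem_autS_of_stab p hS F hZa (T.subgroupOf Zc) _ γ hγ
  · intro d hd
    exact h2 d (Subgroup.mem_subgroupOf.mp hd)
  · intro z
    exact Subgroup.mem_subgroupOf.mpr (h1 z)
  · intro t ht d hd
    rw [htriv t ht]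
    exact hd

theorem abh_G2_mul {Zc : Subgroup Ω} (T : Subgroup Ω) (γ γ' : MulAut ↥Zc)
    (h : ∀ z : ↥Zc, (z : Ω)⁻¹ * ((γ z : ↥Zc) : Ω) ∈ T)
    (h' : ∀ z : ↥Zc, (z : Ω)⁻¹ * ((γ' z : ↥Zc) : Ω) ∈ T) :
    ∀ z : ↥Zc, (z : Ω)⁻¹ * (((γ * γ') z : ↥Zc) : Ω) ∈ T := by
  intro z
  have e : (z : Ω)⁻¹ * (((γ * γ') z : ↥Zc) : Ω) = ((z : Ω)⁻¹ * ((γ' z : ↥Zc) : Ω)) *
      (((γ' z : ↥Zc) : Ω)⁻¹ * ((γ (γ' z) : ↥Zc) : Ω)) := by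
    show (z : Ω)⁻¹ * ((γ (γ' z) : ↥Zc) : Ω) = _
    group
  rw [e]
  exact T.mul_mem (h' z) (h (γ' z))

theorem abh_G2_inv {Zc : Subgroup Ω} (T : Subgroup Ω) (γ : MulAut ↥Zc)
    (h : ∀ z : ↥Zc, (z : Ω)⁻¹ * ((γ z : ↥Zc) : Ω) ∈ T) :
    ∀ z : ↥Zc, (z : Ω)⁻¹ * (((γ⁻¹ : MulAut ↥Zc) z : ↥Zc) : Ω) ∈ T := by
  intro z
  have h1 := h (γ⁻¹ z)
  rw [MulAut.apply_inv_self] at h1
  have e : (z : Ω)⁻¹ * (((γ⁻¹ : MulAut ↥Zc) z : ↥Zc) : Ω) =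
      ((((γ⁻¹ : MulAut ↥Zc) z : ↥Zc) : Ω)⁻¹ * (z : Ω))⁻¹ := by group
  rw [e]
  exact T.inv_mem h1

theorem abhW_inv_of_Z [Finite S] (F : FusionSystem S) (Zc T : Subgroup Ω)
    (hTinv : ∀ γ ∈ F.autGroup Zc, ∀ z : ↥Zc, (z : Ω) ∈ T → ((γ z : ↥Zc) : Ω) ∈ T)
    (P : Subgroup Ω) (hZP : Zc ≤ P) (hPS : P ≤ S) (k : MulAut ↥P) (hk : k ∈ F.autGroup P)
    (hkZ : ∀ z : ↥P, (z : Ω) ∈ Zc → ((k z : ↥P) : Ω) ∈ Zc) (w : ↥P)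
    (hw : (w : Ω) ∈ abhW F Zc T) : ((k w : ↥P) : Ω) ∈ abhW F Zc T := by
  obtain ⟨γ, hγ, hγapp⟩ := abh_restrict F Zc P hZP hPS k hk hkZ
  have hwZ : (w : Ω) ∈ Zc := abhW_le F Zc T hw
  have h1 := abhW_inv F Zc T hTinv γ hγ ⟨w, hwZ⟩ hw
  rw [hγapp] at h1
  exact h1

theorem abhW_eq [Finite S] (p : ℕ) [Fact p.Prime] (hS : IsPGroup p S) (F : FusionSystem S)
    (Zc T : Subgroup Ω) (hZa : F.IsFullyAutomized p Zc)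
    (hZc : ∀ z ∈ Zc, ∀ s ∈ S, s * z = z * s)
    (hTinv : ∀ γ ∈ F.autGroup Zc, ∀ z : ↥Zc, (z : Ω) ∈ T → ((γ z : ↥Zc) : Ω) ∈ T)
    (hcard : Nat.card ↥(Zc ⊓ T) = p)
    (P : Subgroup Ω) (hZP : Zc ≤ P) (hPS : P ≤ S)
    (e₁ : Ω) (he₁ : e₁ ∈ Zc ⊓ T) (he₁ne : e₁ ≠ 1) (D : Subgroup Ω) (hDZ : D ≤ Zc)
    (ho5 : ∀ v ∈ D, v ∈ Subgroup.zpowers e₁ → v = 1)
    (h : MulAut ↥P) (hh : h ∈ F.autGroup P)
    (hh1 : ∀ z : ↥P, (z : Ω) ∈ Zc → ((h z : ↥P) : Ω) ∈ Zc ∧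
      (z : Ω)⁻¹ * ((h z : ↥P) : Ω) ∈ Subgroup.zpowers e₁)
    (hh2 : ∀ z : ↥P, (z : Ω) ∈ Zc → h z = z → (z : Ω) ∈ D)
    (hh3 : ∀ d : ↥P, (d : Ω) ∈ D → h d = d) :
    abhW F Zc T = D := by
  have hZS : Zc ≤ S := hZP.trans hPS
  have he₁Z : e₁ ∈ Zc := (Subgroup.mem_inf.mp he₁).1
  have he₁T : e₁ ∈ T := (Subgroup.mem_inf.mp he₁).2
  have hzpT : Subgroup.zpowers e₁ ≤ T := Subgroup.zpowers_le.mpr he₁T
  have hZ₀ : ∀ v ∈ Zc ⊓ T, v ∈ Subgroup.zpowers e₁ := by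
    intro v hv
    have h1 : (⟨e₁, he₁⟩ : ↥(Zc ⊓ T)) ≠ 1 := fun h0 => he₁ne (congrArg Subtype.val h0)
    have htop := zpowers_eq_top_of_prime_card hcard h1
    have h2 : (⟨v, hv⟩ : ↥(Zc ⊓ T)) ∈ Subgroup.zpowers (⟨e₁, he₁⟩ : ↥(Zc ⊓ T)) := by
      rw [htop]
      exact Subgroup.mem_top _
    obtain ⟨j, hj⟩ := Subgroup.mem_zpowers_iff.mp h2
    refine Subgroup.mem_zpowers_iff.mpr ⟨j, ?_⟩
    have h3 := congrArg Subtype.val hj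
    simp only [Subgroup.coe_zpow] at h3
    exact h3
  obtain ⟨γ₀, hγ₀, hγ₀app⟩ := abh_restrict F Zc P hZP hPS h hh (fun z hz => (hh1 z hz).1)
  have hγ₀2 : ∀ z : ↥Zc, (z : Ω)⁻¹ * ((γ₀ z : ↥Zc) : Ω) ∈ T := by
    intro z
    rw [hγ₀app]
    exact hzpT (hh1 ⟨z, hZP z.2⟩ z.2).2
  have hγ₀fix : ∀ z : ↥Zc, γ₀ z = z → (z : Ω) ∈ D := by
    intro z hz
    apply hh2 ⟨z, hZP z.2⟩ z.2
    apply Subtype.ext
    rw [← hγ₀app, hz]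
  have hγ₀D : ∀ z : ↥Zc, (z : Ω) ∈ D → γ₀ z = z := by
    intro z hz
    apply Subtype.ext
    rw [hγ₀app, hh3 ⟨z, hZP z.2⟩ hz]
  apply le_antisymm
  · rintro w ⟨hw, hw'⟩
    exact hγ₀fix ⟨w, hw⟩ (hw' γ₀ hγ₀ hγ₀2)
  · intro d hd
    refine ⟨hDZ hd, fun γ hγ hγ2 => ?_⟩
    obtain ⟨e', he'⟩ : ∃ e' : ↥Zc, (e' : Ω) = e₁ := ⟨⟨e₁, he₁Z⟩, rfl⟩
    have hpow : ∀ δ ∈ F.autGroup Zc, ∃ a : ℤ, δ e' = e' ^ a := by
      intro δ hδ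
      have h1 : ((δ e' : ↥Zc) : Ω) ∈ Zc ⊓ T :=
        Subgroup.mem_inf.mpr ⟨(δ e').2, hTinv δ hδ e' (by rw [he']; exact he₁T)⟩
      obtain ⟨a, ha⟩ := Subgroup.mem_zpowers_iff.mp (hZ₀ _ h1)
      refine ⟨a, Subtype.ext ?_⟩
      rw [Subgroup.coe_zpow, he']
      exact ha.symm
    have hee : (γ₀ * γ) e' = (γ * γ₀) e' := by
      obtain ⟨a, ha⟩ := hpow γ hγ
      obtain ⟨b, hb⟩ := hpow γ₀ hγ₀
      show γ₀ (γ e') = γ (γ₀ e')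
      rw [ha, hb, map_zpow, map_zpow, ha, hb, ← zpow_mul, ← zpow_mul, mul_comm]
    have hcomm : γ₀ * γ = γ * γ₀ := by
      have hc1 : (γ * γ₀)⁻¹ * (γ₀ * γ) = 1 := by
        apply abh_F1 p hS F Zc T hZa hZc _ (mul_mem (inv_mem (mul_mem hγ hγ₀)) (mul_mem hγ₀ hγ))
        · exact abh_G2_mul T _ _ (abh_G2_inv T _ (abh_G2_mul T _ _ hγ2 hγ₀2))
            (abh_G2_mul T _ _ hγ₀2 hγ2)
        · intro z hz
          obtain ⟨j, hj⟩ := Subgroup.mem_zpowers_iff.mp (hZ₀ z (Subgroup.mem_inf.mpr ⟨z.2, hz⟩))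
          have hz' : z = e' ^ j := by
            apply Subtype.ext
            rw [Subgroup.coe_zpow, he']
            exact hj.symm
          rw [hz']
          show (γ * γ₀)⁻¹ ((γ₀ * γ) (e' ^ j)) = e' ^ j
          rw [map_zpow, hee, ← map_zpow, MulAut.inv_apply_self]
      calc γ₀ * γ = (γ * γ₀) * ((γ * γ₀)⁻¹ * (γ₀ * γ)) := by group
        _ = γ * γ₀ := by rw [hc1, mul_one]
    have h4 : γ₀ (γ ⟨d, hDZ hd⟩) = γ ⟨d, hDZ hd⟩ := by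
      have h5 : (γ₀ * γ) ⟨d, hDZ hd⟩ = (γ * γ₀) ⟨d, hDZ hd⟩ := by rw [hcomm]
      have h6 : γ₀ (γ ⟨d, hDZ hd⟩) = γ (γ₀ ⟨d, hDZ hd⟩) := h5
      rw [h6, hγ₀D ⟨d, hDZ hd⟩ hd]
    have h7 : ((γ ⟨d, hDZ hd⟩ : ↥Zc) : Ω) ∈ D := hγ₀fix _ h4
    have h8 : d⁻¹ * ((γ ⟨d, hDZ hd⟩ : ↥Zc) : Ω) ∈ D := D.mul_mem (D.inv_mem hd) h7
    have h9 : d⁻¹ * ((γ ⟨d, hDZ hd⟩ : ↥Zc) : Ω) ∈ Subgroup.zpowers e₁ :=
      hZ₀ _ (Subgroup.mem_inf.mpr ⟨Zc.mul_mem (Zc.inv_mem (hDZ hd)) (γ _).2, hγ2 ⟨d, hDZ hd⟩⟩)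
    have h10 := ho5 _ h8 h9
    apply Subtype.ext
    have h11 : d * (d⁻¹ * ((γ ⟨d, hDZ hd⟩ : ↥Zc) : Ω)) = d * 1 := by rw [h10]
    rw [mul_inv_cancel_left, mul_one] at h11
    exact h11

theorem abh_Z_le_Z2 : S ⊓ Subgroup.centralizer (S : Set Ω) ≤
    (Subgroup.upperCentralSeries ↥S 2).map S.subtype := by
  intro z hz
  rw [abx_mem_Z2]
  obtain ⟨hzS, hzc⟩ := (abx_mem_Z).mp hz
  refine ⟨hzS, fun s hs => ?_⟩
  have e : z * s * z⁻¹ * s⁻¹ = 1 := by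
    rw [← hzc s hs]
    group
  rw [e]
  exact one_mem _

theorem abh_typeB (A : Subgroup Ω) (hAS : A ≤ S) (hAab : ∀ a ∈ A, ∀ b ∈ A, a * b = b * a)
    (hAgen : ∀ y ∈ S, y ∉ A → ∀ s ∈ S, ∃ i : ℕ, s * (y ^ i)⁻¹ ∈ A)
    (hZ2A : (Subgroup.upperCentralSeries ↥S 2).map S.subtype ≤ A) (x : Ω) (hxS : x ∈ S)
    (hxA : x ∉ A) (P : Subgroup Ω)
    (hPdef : P = (Subgroup.upperCentralSeries ↥S 2).map S.subtype ⊔ Subgroup.zpowers x) :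
    P = (S ⊓ Subgroup.centralizer (S : Set Ω)) ⊔ Subgroup.zpowers x ∨
    (∀ y ∈ P, (∀ y' ∈ P, y' * y = y * y') → y ∈ S ⊓ Subgroup.centralizer (S : Set Ω)) := by
  by_cases hZ2 : (Subgroup.upperCentralSeries ↥S 2).map S.subtype ≤
      S ⊓ Subgroup.centralizer (S : Set Ω)
  · left
    rw [hPdef, le_antisymm hZ2 abh_Z_le_Z2]
  · right
    obtain ⟨w, hwZ2, hwZ⟩ := SetLike.not_le_iff_exists.mp hZ2
    have hxP : x ∈ P := by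
      rw [hPdef]
      exact Subgroup.mem_sup_right (Subgroup.mem_zpowers x)
    have hwP : w ∈ P := by
      rw [hPdef]
      exact Subgroup.mem_sup_left hwZ2
    have hPS : P ≤ S := by
      rw [hPdef]
      exact sup_le (fun z hz => ((abx_mem_Z2).mp hz).1) (Subgroup.zpowers_le.mpr hxS)
    intro y hy hyc
    by_cases hyA : y ∈ A
    · exact abd_central A hAS hAab x (hAgen x hxS hxA) y hyA (hyc x hxP).symm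
    · exfalso
      exact hwZ (abd_central A hAS hAab y (hAgen y (hPS hy) hyA) w (hZ2A hwZ2) (hyc w hwP))

end AbH

end Cfsg.Agent.Lib.Helper27
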