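import Mathlib
import Cfsg.Agent.Lib.Helper27.AbIndexPH

set_option autoImplicit false

namespace Cfsg.Agent.Lib.Helper27

open Cfsg Cfsg.FusionSystem Cfsg.Agent.Lib.Helper26

section AbI

variable {Ω : Type*} [Group Ω] {S : Subgroup Ω}

theorem abi_center_ne_bot [Finite S] (p : ℕ) [Fact p.Prime] (hS : IsPGroup p S)
    (hna : ¬ ∀ s ∈ S, ∀ t ∈ S, s * t = t * s) :
    ¬ (S ⊓ Subgroup.centralizer (S : Set Ω) ≤ ⊥) := by
  intro hle
  have hnt : Nontrivial ↥S := by
    by_contra hnt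
    rw [not_nontrivial_iff_subsingleton] at hnt
    apply hna
    intro s hs t ht
    have h1 : (⟨s, hs⟩ : ↥S) = 1 := Subsingleton.elim _ _
    have h2 : s = 1 := congrArg Subtype.val h1
    rw [h2, one_mul, mul_one]
  have hcn : Nontrivial (Subgroup.center ↥S) := IsPGroup.center_nontrivial hS
  obtain ⟨c, hc⟩ := exists_ne (1 : Subgroup.center ↥S)
  have hcZ : ((c : ↥S) : Ω) ∈ S ⊓ Subgroup.centralizer (S : Set Ω) := by
    rw [abx_mem_Z]
    refine ⟨(c : ↥S).2, fun s hs => ?_⟩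
    have h1 := Subgroup.mem_center_iff.mp c.2 ⟨s, hs⟩
    exact congrArg Subtype.val h1
  have h2 := hle hcZ
  rw [Subgroup.mem_bot] at h2
  exact hc (Subtype.ext (Subtype.ext h2))

theorem abi_exists_H [Finite S] (p : ℕ) [Fact p.Prime] (hS : IsPGroup p S) (F : FusionSystem S)
    (hF : F.IsSaturated p) (hna : ¬ ∀ s ∈ S, ∀ t ∈ S, s * t = t * s) (A : Subgroup Ω)
    (hAS : A ≤ S) (hAab : ∀ a ∈ A, ∀ b ∈ A, a * b = b * a)
    (hidx : (A.subgroupOf S).index = p) (hcore : F.core = ⊥) (hAe : ¬ F.IsEssential p A) :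
    ∃ x ∈ S, x ∉ A ∧
      F.IsEssential p ((S ⊓ Subgroup.centralizer (S : Set Ω)) ⊔ Subgroup.zpowers x) := by
  by_contra hcon
  push Not at hcon
  obtain ⟨hAn, hAc, hApow, hAgen⟩ := abIndex_facts p hS A hAS hidx
  have hZnormal : F.IsNormal (S ⊓ Subgroup.centralizer (S : Set Ω)) := by
    apply isNormal_of_forall_essential p hS F hF
    intro P hP
    have hkey : ∀ P' : Subgroup Ω, P' ≤ S → S ⊓ Subgroup.centralizer (S : Set Ω) ≤ P' →
        (∀ y ∈ P', (∀ y' ∈ P', y' * y = y * y') → y ∈ S ⊓ Subgroup.centralizer (S : Set Ω)) →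
        (S ⊓ Subgroup.centralizer (S : Set Ω) ≤ P' ∧ ∀ α ∈ F.autGroup P',
          ((S ⊓ Subgroup.centralizer (S : Set Ω)).subgroupOf P').map α.toMonoidHom =
            (S ⊓ Subgroup.centralizer (S : Set Ω)).subgroupOf P') := by
      intro P' hPS hZP hcen
      exact ⟨hZP, abh_map_eq _ _ (fun α _ w hw => abh_center_inv _
        (fun z hz y hy => ((abx_mem_Z).mp hz).2 y (hPS hy)) hcen α w hw)⟩
    rcases hP with hPeq | hP
    · rw [hPeq]
      exact hkey S le_rfl inf_le_left (fun y hy hyc => (abx_mem_Z).mpr ⟨hy, hyc⟩)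
    · obtain ⟨h1, -⟩ := abx_essential p hS F hF A hAS hAab hidx P hP
      rcases h1 with hPA | ⟨x, hxS, hxA, hPdef⟩ | ⟨hZ2A, x, hxS, hxA, hPdef⟩
      · rw [hPA] at hP
        exact absurd hP hAe
      · rw [hPdef] at hP
        exact absurd hP (hcon x hxS hxA)
      · rcases abh_typeB A hAS hAab hAgen hZ2A x hxS hxA P hPdef with h2 | h2
        · rw [h2] at hP
          exact absurd hP (hcon x hxS hxA)
        · refine hkey P hP.1.1 ?_ h2
          rw [hPdef]
          exact le_sup_of_le_left abh_Z_le_Z2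
  have hle : S ⊓ Subgroup.centralizer (S : Set Ω) ≤ F.core := le_sSup hZnormal
  rw [hcore] at hle
  exact abi_center_ne_bot p hS hna hle

/-- Oliver's lemma for `A` not essential and `O_p(F) = 1`: an essential subgroup `Z⟨x⟩` exists,
`Z ≤ S'`, and `S` has maximal class. -/
theorem abi_result [Finite S] (p : ℕ) [Fact p.Prime] (hS : IsPGroup p S) (F : FusionSystem S)
    (hF : F.IsSaturated p) (hp2 : p ≠ 2) (hna : ¬ ∀ s ∈ S, ∀ t ∈ S, s * t = t * s)
    (A : Subgroup Ω) (hAS : A ≤ S) (hAab : ∀ a ∈ A, ∀ b ∈ A, a * b = b * a)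
    (hidx : (A.subgroupOf S).index = p)
    (huniq : ∀ B : Subgroup Ω, B ≤ S → (∀ a ∈ B, ∀ b ∈ B, a * b = b * a) →
      (B.subgroupOf S).index = p → B = A)
    (hcore : F.core = ⊥) (hAe : ¬ F.IsEssential p A) :
    (∃ x ∈ S, x ∉ A ∧
      F.IsEssential p ((S ⊓ Subgroup.centralizer (S : Set Ω)) ⊔ Subgroup.zpowers x)) ∧
    (S ⊓ Subgroup.centralizer (S : Set Ω)) ≤ (commutator ↥S).map S.subtype ∧
    ∀ n : ℕ, Nat.card S = p ^ n → 3 ≤ n → Subgroup.lowerCentralSeries S (n - 2) ≠ ⊥ := by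
  have hp : p.Prime := Fact.out
  obtain ⟨x, hxS, hxA, hP⟩ := abi_exists_H p hS F hF hna A hAS hAab hidx hcore hAe
  obtain ⟨hAn, hAc, hApow, hAgen⟩ := abIndex_facts p hS A hAS hidx
  have hPA : (S ⊓ Subgroup.centralizer (S : Set Ω)) ⊔ Subgroup.zpowers x ≠ A := by
    intro h
    apply hxA
    rw [← h]
    exact Subgroup.mem_sup_right (Subgroup.mem_zpowers x)
  obtain ⟨hZ2A, hZ₀, -, -, hmax⟩ := abd_result p hS F hF hna A hAS hAab hidx huniq _ hP hPA
  have hZA := abx_Z_le A hAab hAgen hna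
  have hZc : ∀ z ∈ S ⊓ Subgroup.centralizer (S : Set Ω), ∀ s ∈ S, s * z = z * s :=
    fun z hz s hs => ((abx_mem_Z).mp hz).2 s hs
  have hZfn := abh_fn F (S ⊓ Subgroup.centralizer (S : Set Ω)) inf_le_left hZc
  have hsat := (Cfsg.Agent.S5077.result p hS F).1 hF
  have hZa : F.IsFullyAutomized p (S ⊓ Subgroup.centralizer (S : Set Ω)) := (hsat.1 _ hZfn).2
  have hZr : F.IsReceptive (S ⊓ Subgroup.centralizer (S : Set Ω)) := hsat.2 _ (hsat.1 _ hZfn).1
  have hTinv : ∀ γ ∈ F.autGroup (S ⊓ Subgroup.centralizer (S : Set Ω)),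
      ∀ z : ↥(S ⊓ Subgroup.centralizer (S : Set Ω)), (z : Ω) ∈ (commutator ↥S).map S.subtype →
        ((γ z : ↥(S ⊓ Subgroup.centralizer (S : Set Ω))) : Ω) ∈ (commutator ↥S).map S.subtype :=
    fun γ hγ z hz => abh_comm_inv F _ hZr hZc γ hγ z hz
  obtain ⟨W, hWdef⟩ : ∃ W : Subgroup Ω, W = abhW F (S ⊓ Subgroup.centralizer (S : Set Ω))
      ((commutator ↥S).map S.subtype) := ⟨_, rfl⟩
  have hWZ : W ≤ S ⊓ Subgroup.centralizer (S : Set Ω) := by
    rw [hWdef]
    exact abhW_le F _ _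
  have hH : ∀ x' ∈ S, x' ∉ A → ∀ P' : Subgroup Ω,
      P' = (S ⊓ Subgroup.centralizer (S : Set Ω)) ⊔ Subgroup.zpowers x' → F.IsEssential p P' →
      (∀ k ∈ F.autGroup P', ∀ w : ↥P', (w : Ω) ∈ W → ((k w : ↥P') : Ω) ∈ W) ∧
      (W = ⊥ → S ⊓ Subgroup.centralizer (S : Set Ω) ≤ (commutator ↥S).map S.subtype) := by
    intro x' hx'S hx'A P' hP'def hP'
    obtain ⟨e₁, he₁, he₁ne, D, hDZ, ho2, ho3, ho5, h, hh, hh1, hh2, hh3⟩ :=
      abg_struct p hS F hF hp2 A hAS hAab hidx hZA hZ₀ x' hx'S hx'A P' hP'def hP'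
    have hWD : W = D := by
      rw [hWdef]
      exact abhW_eq p hS F _ _ hZa hZc hTinv hZ₀ P' (by rw [hP'def]; exact le_sup_left)
        hP'.1.1 e₁ he₁ he₁ne D hDZ ho5 h hh hh1 hh2 hh3
    refine ⟨?_, ?_⟩
    · rw [hWD]
      exact ho2
    · intro hbot z hz
      obtain ⟨i, hi⟩ := ho3 z hz
      rw [← hWD, hbot, Subgroup.mem_bot] at hi
      have e : z = e₁ ^ i := by
        have e2 : z = (z * (e₁ ^ i)⁻¹) * e₁ ^ i := by group
        rw [e2, hi, one_mul]
      rw [e]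
      exact Subgroup.pow_mem _ (Subgroup.mem_inf.mp he₁).2 i
  have hWn : F.IsNormal W := by
    apply isNormal_of_forall_essential p hS F hF
    intro P' hP'
    have hkey : ∀ P'' : Subgroup Ω, P'' ≤ S → S ⊓ Subgroup.centralizer (S : Set Ω) ≤ P'' →
        (∀ y ∈ P'', (∀ y' ∈ P'', y' * y = y * y') → y ∈ S ⊓ Subgroup.centralizer (S : Set Ω)) →
        (W ≤ P'' ∧ ∀ α ∈ F.autGroup P'',
          (W.subgroupOf P'').map α.toMonoidHom = W.subgroupOf P'') := by
      intro P'' hPS hZP hcen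
      refine ⟨hWZ.trans hZP, abh_map_eq _ _ (fun α hα w hw => ?_)⟩
      rw [hWdef] at hw ⊢
      exact abhW_inv_of_Z F _ _ hTinv P'' hZP hPS α hα (fun z hz => abh_center_inv _
        (fun z hz y hy => ((abx_mem_Z).mp hz).2 y (hPS hy)) hcen α z hz) w hw
    rcases hP' with hPeq | hP'
    · rw [hPeq]
      exact hkey S le_rfl inf_le_left (fun y hy hyc => (abx_mem_Z).mpr ⟨hy, hyc⟩)
    · obtain ⟨h1, -⟩ := abx_essential p hS F hF A hAS hAab hidx P' hP'
      have hHcase : ∀ x' ∈ S, x' ∉ A →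
          P' = (S ⊓ Subgroup.centralizer (S : Set Ω)) ⊔ Subgroup.zpowers x' →
          (W ≤ P' ∧ ∀ α ∈ F.autGroup P',
            (W.subgroupOf P').map α.toMonoidHom = W.subgroupOf P') := by
        intro x' hx'S hx'A hP'def
        refine ⟨hWZ.trans (by rw [hP'def]; exact le_sup_left),
          abh_map_eq _ _ (hH x' hx'S hx'A P' hP'def hP').1⟩
      rcases h1 with hPA' | ⟨x', hx'S, hx'A, hP'def⟩ | ⟨hZ2A', x', hx'S, hx'A, hP'def⟩
      · rw [hPA'] at hP'
        exact absurd hP' hAe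
      · exact hHcase x' hx'S hx'A hP'def
      · rcases abh_typeB A hAS hAab hAgen hZ2A' x' hx'S hx'A P' hP'def with h2 | h2
        · exact hHcase x' hx'S hx'A h2
        · refine hkey P' hP'.1.1 ?_ h2
          rw [hP'def]
          exact le_sup_of_le_left abh_Z_le_Z2
  have hWbot : W = ⊥ := by
    have hle : W ≤ F.core := le_sSup hWn
    rw [hcore] at hle
    exact le_bot_iff.mp hle
  have hZS' : S ⊓ Subgroup.centralizer (S : Set Ω) ≤ (commutator ↥S).map S.subtype :=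
    (hH x hxS hxA _ rfl hP).2 hWbot
  refine ⟨⟨x, hxS, hxA, hP⟩, hZS', ?_⟩
  intro n hn h3 hbot
  obtain ⟨k, rfl⟩ : ∃ k, n = k + 3 := ⟨n - 3, by omega⟩
  have hZcard : Nat.card ↥(S ⊓ Subgroup.centralizer (S : Set Ω)) = p := by
    have e : (S ⊓ Subgroup.centralizer (S : Set Ω)) ⊓ (commutator ↥S).map S.subtype =
        S ⊓ Subgroup.centralizer (S : Set Ω) := inf_eq_left.mpr hZS'
    rw [e] at hZ₀
    exact hZ₀
  have hidxZ : ((S ⊓ Subgroup.centralizer (S : Set Ω)).subgroupOf S).index = p ^ (k + 2) := by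
    have h1 := Subgroup.card_mul_index ((S ⊓ Subgroup.centralizer (S : Set Ω)).subgroupOf S)
    rw [abd_card_sub inf_le_left, hZcard, hn] at h1
    have h2 : p ^ (k + 3) = p * p ^ (k + 2) := by ring
    exact Nat.eq_of_mul_eq_mul_left hp.pos (h1.trans h2)
  have e1 : k + 3 - 2 = k + 1 := by omega
  rw [e1, Subgroup.lowerCentralSeries_succ] at hbot
  have hLle : Subgroup.lowerCentralSeries S k ≤ S ⊓ Subgroup.centralizer (S : Set Ω) := by
    intro l hl
    have hlS : l ∈ S := (Subgroup.lowerCentralSeries_antitone (S := S) (Nat.zero_le k)) hl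
    rw [abx_mem_Z]
    refine ⟨hlS, fun s hs => ?_⟩
    have h1 := Subgroup.commutator_mem_commutator hl hs
    rw [hbot, Subgroup.mem_bot] at h1
    exact (commutatorElement_eq_one_iff_mul_comm.mp h1).symm
  by_cases hk : k = 0
  · subst hk
    apply hna
    intro s hs t ht
    have hsZ := hLle (show s ∈ Subgroup.lowerCentralSeries S 0 from hs)
    exact (((abx_mem_Z).mp hsZ).2 t ht).symm
  · have h4 := hmax (k + 2) hidxZ (by omega)
    have e2 : k + 2 - 2 = k := by omega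
    rw [e2] at h4
    exact h4 hLle

end AbI

end Cfsg.Agent.Lib.Helper27
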