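import Mathlib
import Cfsg.Prelude.Def_FusionSystem
import Cfsg.Agent.Lib.Helper27.InnerNormal
import Cfsg.Agent.Lib.Helper27.Induct
import Cfsg.Agent.Lib.Helper27.SylowAux

set_option autoImplicit false

namespace Cfsg.Agent.Lib.Helper27

open Cfsg Cfsg.FusionSystem Cfsg.Agent.Lib.Helper26

/-- The norm map of a finite group of automorphisms of a commutative group. -/
theorem exists_norm_map {M : Type*} [Group M] [Finite M] (hcomm : ∀ x y : M, x * y = y * x)
    (A : Subgroup (MulAut M)) :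
    ∃ N : M →* M, (∀ s, ∀ α ∈ A, α (N s) = N s) ∧
      (∀ z, (∀ α ∈ A, α z = z) → N z = z ^ Nat.card A) ∧
      (∀ x, ∀ α ∈ A, N (x⁻¹ * α x) = 1) ∧
      (∀ s, (N s)⁻¹ * s ^ Nat.card A ∈
        Subgroup.closure {y : M | ∃ x : M, ∃ α ∈ A, y = x⁻¹ * α x}) := by
  classical
  let _ : CommGroup M := { (inferInstance : Group M) with mul_comm := hcomm }
  have _ : Fintype A := Fintype.ofFinite A
  let N : M →* M := MonoidHom.mk' (fun s => ∏ α : A, (α : MulAut M) s) (by
    intro a b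
    simp only [map_mul]
    exact Finset.prod_mul_distrib)
  have hN : ∀ s, N s = ∏ α : A, (α : MulAut M) s := fun s => rfl
  have hNα : ∀ x, ∀ α ∈ A, N (α x) = N x := by
    intro x α hα
    rw [hN, hN]
    exact Equiv.prod_comp (Equiv.mulRight (⟨α, hα⟩ : A)) (fun β : A => (β : MulAut M) x)
  refine ⟨N, ?_, ?_, ?_, ?_⟩
  · intro s α hα
    rw [hN, map_prod]
    exact Equiv.prod_comp (Equiv.mulLeft (⟨α, hα⟩ : A)) (fun β : A => (β : MulAut M) s)
  · intro z hz
    rw [hN]
    have : ∀ α : A, (α : MulAut M) z = z := fun α => hz α α.2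
    simp only [this]
    rw [Finset.prod_const, Finset.card_univ, Nat.card_eq_fintype_card]
  · intro x α hα
    rw [map_mul, map_inv, hNα x α hα, inv_mul_cancel]
  · intro s
    have h1 : (N s)⁻¹ * s ^ Nat.card A = ∏ α : A, (s⁻¹ * (α : MulAut M) s)⁻¹ := by
      rw [hN, Nat.card_eq_fintype_card, ← Finset.card_univ, ← Finset.prod_const,
        ← Finset.prod_inv_distrib, ← Finset.prod_mul_distrib]
      apply Finset.prod_congr rfl
      intro α _
      rw [mul_inv_rev, inv_inv]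
    rw [h1]
    apply Subgroup.prod_mem
    intro α _
    exact Subgroup.inv_mem _ (Subgroup.subset_closure ⟨s, α, α.2, rfl⟩)

variable {Ω : Type*} [Group Ω] {S : Subgroup Ω}

/-- A map of the system defined on all of `S` is an automorphism of `S`. -/
theorem exists_aut_of_hom_top [Finite S] (F : FusionSystem S) {ψ : S →* Ω} (hψ : ψ ∈ F.Hom S) :
    ∃ α ∈ F.autGroup S, ∀ x : S, ((α x : S) : Ω) = ψ x := by
  have hval : ∀ x : S, ψ x ∈ S := hom_mem F hψ
  have hinj : Function.Injective (ψ.codRestrict S hval) := fun a b hab =>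
    F.injective_of_mem hψ (congrArg Subtype.val hab)
  refine ⟨MulEquiv.ofBijective _ ⟨hinj, Finite.surjective_of_injective hinj⟩, ?_, fun x => rfl⟩
  rw [Fusion.mem_autGroup_iff F le_rfl]
  have : S.subtype.comp (MulEquiv.ofBijective _ ⟨hinj, Finite.surjective_of_injective hinj⟩ :
      S ≃* S).toMonoidHom = ψ := by
    ext x; rfl
  unfold Fusion.IsIso
  rw [this]; exact hψ

/-- Over an abelian `p`-group, `Aut_F(S)` has order prime to `p`. -/
theorem card_autGroup_top_coprime [Finite S] (p : ℕ) [Fact p.Prime] (F : FusionSystem S)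
    (hF : F.IsSaturated p) (hab : ∀ x ∈ S, ∀ y ∈ S, x * y = y * x) :
    Nat.Coprime (Nat.card (F.autGroup S)) p := by
  have hp : p.Prime := Fact.out
  obtain ⟨-, hR⟩ := (top_automized_receptive p F hF).1
  have hMfin : Finite (MulAut S) := inferInstance
  rw [sylow_subgroupOf_iff (Fusion.autInducedBy_le_autGroup F le_rfl)] at hR
  have hbot : autInducedBy S S = ⊥ := by
    rw [eq_bot_iff]
    intro α hα
    obtain ⟨g, hg, h⟩ := Fusion.mem_autInducedBy_iff.1 hα
    rw [Subgroup.mem_bot]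
    apply MulEquiv.ext
    intro x
    apply Subtype.ext
    rw [h x, hab g hg x x.2, mul_inv_cancel_right]
    rfl
  rw [hbot, Subgroup.card_bot] at hR
  have h0 : (Nat.card (F.autGroup S)).factorization p = 0 := by
    by_contra hne
    have : 1 < p ^ (Nat.card (F.autGroup S)).factorization p := Nat.one_lt_pow hne hp.one_lt
    omega
  rcases (Nat.factorization_eq_zero_iff _ _).1 h0 with h | h | h
  · exact absurd hp h
  · exact ((Nat.Prime.coprime_iff_not_dvd hp).2 h).symm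
  · exact absurd h Nat.card_pos.ne'

/-- Elements of the centre of the system are fixed by `Aut_F(S)`. -/
theorem autGroup_fix_center [Finite S] (F : FusionSystem S) {z : Ω} (hz : z ∈ F.center)
    (hzS : z ∈ S) {α : MulAut S} (hα : α ∈ F.autGroup S) : α ⟨z, hzS⟩ = ⟨z, hzS⟩ := by
  have hZc : F.IsCentral F.center := isCentral_center F
  obtain ⟨ψ, -, hext, hfix⟩ := hZc.2 S _ ((Fusion.mem_autGroup_iff F le_rfl).1 hα)
  have h1 := hext ⟨z, hzS⟩
  have h2 := hfix ⟨z, hz⟩
  have e : Subgroup.inclusion (le_sup_left : S ≤ S ⊔ F.center) ⟨z, hzS⟩ =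
      Subgroup.inclusion (le_sup_right : F.center ≤ S ⊔ F.center) ⟨z, hz⟩ := Subtype.ext rfl
  rw [e, h2] at h1
  exact Subtype.ext h1.symm

/-- Over an abelian `p`-group, an element of `S` fixed by `Aut_F(S)` lies in the centre of the
system. -/
theorem mem_center_of_fixed [Finite S] (p : ℕ) [Fact p.Prime] (hS : IsPGroup p S)
    (F : FusionSystem S) (hF : F.IsSaturated p) (hab : ∀ x ∈ S, ∀ y ∈ S, x * y = y * x)
    (c : S) (hc : ∀ α ∈ F.autGroup S, α c = c) : (c : Ω) ∈ F.center := by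
  have hQS : Subgroup.zpowers (c : Ω) ≤ S := (Subgroup.zpowers_le).2 c.2
  have hcen : F.IsCentral (Subgroup.zpowers (c : Ω)) := by
    refine ⟨hQS, fun P φ hφ => ?_⟩
    obtain ⟨ψ, hψ, hext⟩ := exists_extension_top_of_abelian p hS F hF hab hφ
    obtain ⟨α, hα, hαψ⟩ := exists_aut_of_hom_top F hψ
    have hPS : P ≤ S := hom_le F hφ
    have hle : P ⊔ Subgroup.zpowers (c : Ω) ≤ S := sup_le hPS hQS
    refine ⟨ψ.comp (Subgroup.inclusion hle), restrict_mem F hψ hle, fun x => ?_, fun q => ?_⟩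
    · exact hext x x.2 (hPS x.2)
    · obtain ⟨k, hk⟩ := Subgroup.mem_zpowers_iff.1 q.2
      have e : (Subgroup.inclusion hle (Subgroup.inclusion le_sup_right q) : S) = c ^ k := by
        apply Subtype.ext
        rw [Subgroup.coe_zpow]
        exact hk.symm
      show ψ (Subgroup.inclusion hle (Subgroup.inclusion le_sup_right q)) = q
      rw [e, map_zpow, ← hαψ c, hc α hα, hk]
  exact (le_sSup hcen : Subgroup.zpowers (c : Ω) ≤ F.center) (Subgroup.mem_zpowers _)

theorem focal_le (F : FusionSystem S) : F.focalSubgroup ≤ S := by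
  unfold FusionSystem.focalSubgroup
  rw [Subgroup.closure_le]
  rintro _ ⟨P, φ, x, hφ, rfl⟩
  exact S.mul_mem (S.inv_mem (hom_le F hφ x.2)) (hom_mem F hφ x)

/-- In a saturated fusion system over an abelian `p`-group `S`, `S = Z(F) × foc(F)`. -/
theorem center_focal_of_abelian [Finite S] (p : ℕ) [Fact p.Prime] (hS : IsPGroup p S)
    (F : FusionSystem S) (hF : F.IsSaturated p) (hab : ∀ x ∈ S, ∀ y ∈ S, x * y = y * x) :
    F.center ⊓ F.focalSubgroup = ⊥ ∧ F.center ⊔ F.focalSubgroup = S := by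
  have hcomm : ∀ x y : S, x * y = y * x := fun x y => Subtype.ext (hab x x.2 y y.2)
  obtain ⟨N, hN1, hN2, hN3, hN4⟩ := exists_norm_map hcomm (F.autGroup S)
  have hcop := card_autGroup_top_coprime p F hF hab
  have hZS : F.center ≤ S := (isCentral_center F).1
  have hpow : ∀ s : S, s ^ Nat.card (F.autGroup S) = 1 → s = 1 := by
    intro s hs
    obtain ⟨k, hk⟩ := hS s
    have h1 : orderOf s ∣ p ^ k := orderOf_dvd_of_pow_eq_one hk
    have h2 : Nat.Coprime (Nat.card (F.autGroup S)) (orderOf s) :=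
      Nat.Coprime.coprime_dvd_right h1 (Nat.Coprime.pow_right k hcop)
    obtain ⟨m, hm⟩ := exists_pow_eq_self_of_coprime h2
    rw [← hm, hs, one_pow]
  have hfocN : ∀ y ∈ F.focalSubgroup, ∃ h : y ∈ S, N ⟨y, h⟩ = 1 := by
    have hle : F.focalSubgroup ≤ (N.ker).map S.subtype := by
      conv_lhs => unfold FusionSystem.focalSubgroup
      rw [Subgroup.closure_le]
      rintro _ ⟨P, φ, x, hφ, rfl⟩
      obtain ⟨ψ, hψ, hext⟩ := exists_extension_top_of_abelian p hS F hF hab hφ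
      obtain ⟨α, hα, hαψ⟩ := exists_aut_of_hom_top F hψ
      have hPS : P ≤ S := hom_le F hφ
      refine ⟨(⟨x, hPS x.2⟩ : S)⁻¹ * α ⟨x, hPS x.2⟩, hN3 _ α hα, ?_⟩
      show (x : Ω)⁻¹ * ((α ⟨x, hPS x.2⟩ : S) : Ω) = (x : Ω)⁻¹ * φ x
      rw [hαψ, hext x x.2 (hPS x.2)]
    intro y hy
    obtain ⟨s, hs, rfl⟩ := hle hy
    exact ⟨s.2, hs⟩
  constructor
  · rw [eq_bot_iff]
    rintro z ⟨hzZ, hzf⟩
    obtain ⟨hzS, hNz⟩ := hfocN z hzf
    have h1 := hN2 ⟨z, hzS⟩ (fun α hα => autGroup_fix_center F hzZ hzS hα)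
    rw [hNz] at h1
    have h2 := hpow ⟨z, hzS⟩ h1.symm
    rw [Subgroup.mem_bot]
    exact congrArg Subtype.val h2
  · apply le_antisymm (sup_le hZS (focal_le F))
    intro s hs
    have hNc : ((N ⟨s, hs⟩ : S) : Ω) ∈ F.center :=
      mem_center_of_fixed p hS F hF hab _ (fun α hα => hN1 _ α hα)
    have hfoc : (((N ⟨s, hs⟩)⁻¹ * (⟨s, hs⟩ : S) ^ Nat.card (F.autGroup S) : S) : Ω) ∈
        F.focalSubgroup := by
      have hle : Subgroup.closure {y : S | ∃ x : S, ∃ α ∈ F.autGroup S, y = x⁻¹ * α x} ≤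
          (F.focalSubgroup).comap S.subtype := by
        rw [Subgroup.closure_le]
        rintro _ ⟨x, α, hα, rfl⟩
        exact Subgroup.subset_closure ⟨S, _, x, (Fusion.mem_autGroup_iff F le_rfl).1 hα, rfl⟩
      exact hle (hN4 ⟨s, hs⟩)
    have hsm : ((⟨s, hs⟩ : S) ^ Nat.card (F.autGroup S) : S) =
        N ⟨s, hs⟩ * ((N ⟨s, hs⟩)⁻¹ * (⟨s, hs⟩ : S) ^ Nat.card (F.autGroup S)) := by group
    have hmem : (((⟨s, hs⟩ : S) ^ Nat.card (F.autGroup S) : S) : Ω) ∈
        F.center ⊔ F.focalSubgroup := by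
      rw [hsm]
      exact Subgroup.mul_mem _ (Subgroup.mem_sup_left hNc) (Subgroup.mem_sup_right hfoc)
    obtain ⟨k, hk⟩ := hS ⟨s, hs⟩
    have h1 : orderOf (⟨s, hs⟩ : S) ∣ p ^ k := orderOf_dvd_of_pow_eq_one hk
    have h2 : Nat.Coprime (Nat.card (F.autGroup S)) (orderOf (⟨s, hs⟩ : S)) :=
      Nat.Coprime.coprime_dvd_right h1 (Nat.Coprime.pow_right k hcop)
    obtain ⟨m, hm⟩ := exists_pow_eq_self_of_coprime h2
    have h3 : s = ((((⟨s, hs⟩ : S) ^ Nat.card (F.autGroup S)) ^ m : S) : Ω) := by rw [hm]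
    rw [h3, Subgroup.coe_pow]
    exact Subgroup.pow_mem _ hmem m

end Cfsg.Agent.Lib.Helper27
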