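import Cfsg.Agent.Lib.Helper27.AutSys
import Cfsg.Agent.Lib.Helper26.FusionNormal
import Cfsg.Agent.Lib.Helper6.SL2Rec

set_option autoImplicit false

namespace Cfsg.Agent.Lib.Helper27

open Cfsg Cfsg.FusionSystem Cfsg.Agent.Lib.Helper26 Cfsg.Agent.Lib.Helper6.SL2Rec

section PlaneAut

variable {H : Type*} [Group H] {p : ℕ} [hp : Fact p.Prime]

/-- Automorphisms of a cyclic group commute. -/
theorem mulAut_comm_of_isCyclic [IsCyclic H] (α β : MulAut H) : α * β = β * α := by
  apply (IsCyclic.mulAutMulEquiv H).injective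
  rw [map_mul, map_mul, mul_comm]

theorem pow_p_eq_one_of_not_cyclic [Finite H] (hcard : Nat.card H = p ^ 2) (hnc : ¬ IsCyclic H)
    (x : H) : x ^ p = 1 := by
  have h1 : orderOf x ∣ p ^ 2 := hcard ▸ orderOf_dvd_natCard x
  rw [Nat.dvd_prime_pow hp.out] at h1
  obtain ⟨k, hk, hx⟩ := h1
  interval_cases k
  · rw [pow_zero, orderOf_eq_one_iff] at hx
    rw [hx, one_pow]
  · rw [pow_one] at hx
    rw [← hx]
    exact pow_orderOf_eq_one x
  · exact absurd (isCyclic_of_orderOf_eq_card x (hx.trans hcard.symm)) hnc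

theorem hind_of_not_mem (hexp : ∀ x : H, x ^ p = 1) {d₁ d₂ : H} (h1 : d₁ ≠ 1)
    (h2 : d₂ ∉ Subgroup.zpowers d₁) :
    ∀ i j : ZMod p, d₁ ^ i.val * d₂ ^ j.val = 1 → i = 0 ∧ j = 0 := by
  intro i j h
  have hj : j = 0 := by
    by_contra hj
    apply h2
    have h3 : d₂ ^ j.val ∈ Subgroup.zpowers d₁ := by
      have h5 : d₂ ^ j.val = (d₁ ^ i.val)⁻¹ := eq_inv_of_mul_eq_one_right h
      rw [h5]
      exact Subgroup.inv_mem _ (Subgroup.pow_mem _ (Subgroup.mem_zpowers d₁) _)
    have h4 : d₂ = (d₂ ^ j.val) ^ (j⁻¹).val := by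
      rw [← pow_val_mul (hexp d₂), mul_inv_cancel₀ hj, ZMod.val_one, pow_one]
    rw [h4]
    exact Subgroup.pow_mem _ h3 _
  subst hj
  rw [ZMod.val_zero, pow_zero, mul_one] at h
  refine ⟨?_, rfl⟩
  by_contra hi
  apply h1
  have h4 : d₁ = (d₁ ^ i.val) ^ (i⁻¹).val := by
    rw [← pow_val_mul (hexp d₁), mul_inv_cancel₀ hi, ZMod.val_one, pow_one]
  rw [h4, h, one_pow]

theorem theta_surjective_of_card [Finite H] (hcard : Nat.card H = p ^ 2)
    (hexp : ∀ x : H, x ^ p = 1) (hcomm : ∀ a b : H, a * b = b * a) {d₁ d₂ : H}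
    (hind : ∀ i j : ZMod p, d₁ ^ i.val * d₂ ^ j.val = 1 → i = 0 ∧ j = 0) :
    Function.Surjective (theta (p := p) d₁ d₂) := by
  have hinj := theta_injective (hexp d₁) (hexp d₂) (hcomm d₁ d₂) hind
  have hc : Nat.card (Fin 2 → ZMod p) = Nat.card H := by
    rw [hcard, Nat.card_fun, Nat.card_zmod, Nat.card_fin]
  exact ((Nat.bijective_iff_injective_and_card _).mpr ⟨hinj, hc⟩).2

omit hp in
theorem aut_ext_of_theta {d₁ d₂ : H} (hsurj : Function.Surjective (theta (p := p) d₁ d₂))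
    {γ δ : MulAut H} (h1 : γ d₁ = δ d₁) (h2 : γ d₂ = δ d₂) : γ = δ := by
  apply MulEquiv.ext
  intro z
  obtain ⟨v, rfl⟩ := hsurj z
  unfold theta
  rw [map_mul, map_mul, map_pow, map_pow, map_pow, map_pow, h1, h2]

/-- An automorphism of `p`-power order fixing `d₁` acts on `d₂` by a transvection. -/
theorem exists_transv_of_pow (hexp : ∀ x : H, x ^ p = 1) (hcomm : ∀ a b : H, a * b = b * a)
    {d₁ d₂ : H} (hind : ∀ i j : ZMod p, d₁ ^ i.val * d₂ ^ j.val = 1 → i = 0 ∧ j = 0)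
    (hsurj : Function.Surjective (theta (p := p) d₁ d₂))
    {b : MulAut H} {k : ℕ} (hb : b ^ (p ^ k) = 1) (hb1 : b d₁ = d₁) :
    ∃ α : ZMod p, b d₂ = d₁ ^ α.val * d₂ := by
  obtain ⟨v, hv⟩ := hsurj (b d₂)
  have hv' : b d₂ = d₁ ^ (v 0).val * d₂ ^ (v 1).val := hv.symm
  have key : ∀ n : ℕ, ∃ u : ZMod p, (b ^ n) d₂ = d₁ ^ u.val * d₂ ^ ((v 1) ^ n).val := by
    intro n
    induction n with
    | zero =>
      refine ⟨0, ?_⟩
      rw [pow_zero, pow_zero, ZMod.val_zero, pow_zero, one_mul, ZMod.val_one, pow_one]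
      rfl
    | succ n ih =>
      obtain ⟨u, hu⟩ := ih
      refine ⟨u + v 0 * (v 1) ^ n, ?_⟩
      have h1 : (b ^ (n + 1)) d₂ = b ((b ^ n) d₂) := by
        rw [pow_succ']
        rfl
      have h2 : Commute (d₁ ^ (v 0).val) (d₂ ^ (v 1).val) := hcomm _ _
      rw [h1, hu, map_mul, map_pow, map_pow, hb1, hv', h2.mul_pow,
        ← pow_val_mul (hexp d₁), ← pow_val_mul (hexp d₂), pow_val_add (hexp d₁), mul_assoc,
        pow_succ']
  obtain ⟨u, hu⟩ := key (p ^ k)
  rw [hb, ZMod.pow_card_pow] at hu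
  have h2 : theta (p := p) d₁ d₂ ![u, v 1] = theta (p := p) d₁ d₂ ![0, 1] := by
    rw [theta_e1]
    unfold theta
    exact hu.symm
  have h3 := theta_injective (hexp d₁) (hexp d₂) (hcomm d₁ d₂) hind h2
  have h4 : v 1 = 1 := by
    have := congrFun h3 1
    simpa using this
  refine ⟨v 0, ?_⟩
  rw [hv', h4, ZMod.val_one, pow_one]

omit hp in
theorem coe_pow_eq_one_of_sylow {A : Subgroup (MulAut H)} (R : Sylow p A) {r : A}
    (hr : r ∈ (R : Subgroup A)) : ∃ k : ℕ, (r : MulAut H) ^ (p ^ k) = 1 := by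
  obtain ⟨k, hk⟩ := R.2 ⟨r, hr⟩
  refine ⟨k, ?_⟩
  have h := congrArg (fun z : ↥(R : Subgroup A) => ((z : A) : MulAut H)) hk
  simpa using h

/-- Some element of `A` moves the fixed line of a non-normal Sylow subgroup. -/
theorem exists_move_of_not_normal [Finite H] (hcard : Nat.card H = p ^ 2)
    (hexp : ∀ x : H, x ^ p = 1) (hcomm : ∀ a b : H, a * b = b * a)
    {A : Subgroup (MulAut H)} (R : Sylow p A) (hR : ¬ (R : Subgroup A).Normal)
    {d₁ : H} (hd₁ : d₁ ≠ 1) (hfix : ∀ r ∈ (R : Subgroup A), (r : MulAut H) d₁ = d₁) :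
    ∃ g ∈ A, g d₁ ∉ Subgroup.zpowers d₁ := by
  by_contra hall
  push Not at hall
  apply hR
  have hex : ∃ d₂ : H, d₂ ∉ Subgroup.zpowers d₁ := by
    by_contra h
    push Not at h
    have htop : Subgroup.zpowers d₁ = ⊤ := by
      rw [eq_top_iff]
      intro x _
      exact h x
    have hc : Nat.card (Subgroup.zpowers d₁) = p := by
      rw [Nat.card_zpowers]
      exact orderOf_eq_prime (hexp d₁) hd₁
    rw [htop, Subgroup.card_top, hcard] at hc
    have h1 := hp.out.one_lt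
    nlinarith [hc]
  obtain ⟨d₂, hd₂⟩ := hex
  have hind := hind_of_not_mem hexp hd₁ hd₂
  have hsurj := theta_surjective_of_card hcard hexp hcomm hind
  let T : Subgroup A :=
    { carrier := {h | (h : MulAut H) d₁ = d₁ ∧
        ∃ α : ZMod p, (h : MulAut H) d₂ = d₁ ^ α.val * d₂}
      one_mem' := ⟨rfl, 0, by rw [ZMod.val_zero, pow_zero, one_mul]; rfl⟩
      mul_mem' := by
        rintro g h ⟨hg1, α, hgα⟩ ⟨hh1, β, hhβ⟩
        refine ⟨?_, β + α, ?_⟩
        · show (g : MulAut H) ((h : MulAut H) d₁) = d₁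
          rw [hh1, hg1]
        · show (g : MulAut H) ((h : MulAut H) d₂) = _
          rw [hhβ, map_mul, map_pow, hg1, hgα, pow_val_add (hexp d₁), mul_assoc]
      inv_mem' := by
        rintro g ⟨hg1, α, hgα⟩
        refine ⟨?_, -α, ?_⟩
        · show (g : MulAut H)⁻¹ d₁ = d₁
          apply (g : MulAut H).injective
          rw [MulAut.apply_inv_self, hg1]
        · show (g : MulAut H)⁻¹ d₂ = _
          apply (g : MulAut H).injective
          rw [MulAut.apply_inv_self, map_mul, map_pow, hg1, hgα, ← mul_assoc,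
            ← pow_val_add (hexp d₁), neg_add_cancel, ZMod.val_zero, pow_zero, one_mul] }
  have hT : IsPGroup p T := by
    rintro ⟨h, hh1, α, hhα⟩
    refine ⟨1, ?_⟩
    apply Subtype.ext
    apply Subtype.ext
    show (h : MulAut H) ^ (p ^ 1) = 1
    rw [pow_one]
    have key : ∀ n : ℕ, ((h : MulAut H) ^ n) d₁ = d₁ ∧
        ((h : MulAut H) ^ n) d₂ = d₁ ^ ((n : ZMod p) * α).val * d₂ := by
      intro n
      induction n with
      | zero =>
        refine ⟨rfl, ?_⟩
        rw [Nat.cast_zero, zero_mul, ZMod.val_zero, pow_zero, pow_zero, one_mul]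
        rfl
      | succ n ih =>
        have h1 : ∀ x : H, ((h : MulAut H) ^ (n + 1)) x = (h : MulAut H) (((h : MulAut H) ^ n) x) := by
          intro x
          rw [pow_succ']
          rfl
        refine ⟨by rw [h1, ih.1, hh1], ?_⟩
        rw [h1, ih.2, map_mul, map_pow, hh1, hhα, ← mul_assoc, ← pow_val_add (hexp d₁)]
        congr 3
        push_cast
        ring
    apply aut_ext_of_theta hsurj
    · rw [(key p).1]
      rfl
    · rw [(key p).2, ZMod.natCast_self, zero_mul, ZMod.val_zero, pow_zero, one_mul]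
      rfl
  have hRT : (R : Subgroup A) ≤ T := by
    intro r hr
    obtain ⟨k, hk⟩ := coe_pow_eq_one_of_sylow R hr
    exact ⟨hfix r hr, exists_transv_of_pow hexp hcomm hind hsurj hk (hfix r hr)⟩
  have hTR : T = (R : Subgroup A) := R.3 hT hRT
  constructor
  intro n hn g
  rw [← hTR]
  have h1 : ((g * n * g⁻¹ : A) : MulAut H) d₁ = d₁ := by
    show (g : MulAut H) ((n : MulAut H) ((g : MulAut H)⁻¹ d₁)) = d₁
    obtain ⟨m, hm⟩ := Subgroup.mem_zpowers_iff.mp (hall ((g⁻¹ : A) : MulAut H) (g⁻¹).2)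
    have hm' : d₁ ^ m = (g : MulAut H)⁻¹ d₁ := hm
    rw [← hm', map_zpow, hfix n hn, hm', MulAut.apply_inv_self]
  obtain ⟨k, hk⟩ := coe_pow_eq_one_of_sylow R hn
  have h2 : ((g * n * g⁻¹ : A) : MulAut H) ^ (p ^ k) = 1 := by
    have h3 : ((g * n * g⁻¹ : A) : MulAut H) = (g : MulAut H) * (n : MulAut H) * (g : MulAut H)⁻¹ := rfl
    rw [h3, conj_pow, hk, mul_one, mul_inv_cancel]
  exact ⟨h1, exists_transv_of_pow hexp hcomm hind hsurj h2 h1⟩

/-- A group of automorphisms of a group of order `p²` without normal Sylow `p`-subgroup: the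
group is elementary abelian and the automorphism group contains `SL₂(p)`. -/
theorem plane_aut_sl2 [Finite H] (hcard : Nat.card H = p ^ 2) (A : Subgroup (MulAut H))
    (hA : ∀ R : Sylow p A, ¬ (R : Subgroup A).Normal) :
    (∀ a b : H, a * b = b * a) ∧ (∀ x : H, x ^ p = 1) ∧
      ∃ K : Subgroup ↥A, Nonempty (↥K ≃* Matrix.SpecialLinearGroup (Fin 2) (ZMod p)) := by
  have hcomm : ∀ a b : H, a * b = b * a :=
    (IsPGroup.isMulCommutative_of_card_eq_prime_sq hcard).is_comm.comm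
  obtain ⟨R⟩ : Nonempty (Sylow p A) := inferInstance
  have hnc : ¬ IsCyclic H := by
    intro hcyc
    apply hA R
    constructor
    intro n hn g
    have h1 : g * n * g⁻¹ = n := by
      apply Subtype.ext
      show (g : MulAut H) * (n : MulAut H) * (g : MulAut H)⁻¹ = n
      rw [mulAut_comm_of_isCyclic (g : MulAut H) (n : MulAut H), mul_inv_cancel_right]
    rw [h1]
    exact hn
  have hexp := pow_p_eq_one_of_not_cyclic hcard hnc
  have hRp : IsPGroup p (R : Subgroup A) := R.2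
  have hdvd : p ∣ Nat.card H := by
    rw [hcard]
    exact dvd_pow_self p two_ne_zero
  have h1fix : (1 : H) ∈ MulAction.fixedPoints (R : Subgroup A) H := by
    intro r
    exact map_one ((r : A) : MulAut H)
  obtain ⟨d₁, hd₁fix, hd₁ne⟩ :=
    hRp.exists_fixed_point_of_prime_dvd_card_of_fixed_point H hdvd h1fix
  have hd₁ : d₁ ≠ 1 := fun h => hd₁ne h.symm
  have hfix : ∀ r ∈ (R : Subgroup A), (r : MulAut H) d₁ = d₁ := fun r hr => hd₁fix ⟨r, hr⟩
  obtain ⟨g, hgA, hg⟩ := exists_move_of_not_normal hcard hexp hcomm R (hA R) hd₁ hfix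
  obtain ⟨d₂, hd₂def⟩ : ∃ d₂ : H, d₂ = g d₁ := ⟨_, rfl⟩
  rw [← hd₂def] at hg
  have hind := hind_of_not_mem hexp hd₁ hg
  have hsurj := theta_surjective_of_card hcard hexp hcomm hind
  have hRne : (R : Subgroup A) ≠ ⊥ := by
    intro h
    apply hA R
    rw [h]
    infer_instance
  obtain ⟨⟨a, haR⟩, ha1⟩ := (Subgroup.ne_bot_iff_exists_ne_one).mp hRne
  have ha1' : (a : MulAut H) ≠ 1 := fun h => ha1 (Subtype.ext (Subtype.ext h))
  have ha₀fix : (a : MulAut H) d₁ = d₁ := hfix a haR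
  obtain ⟨k, hk⟩ := coe_pow_eq_one_of_sylow R haR
  obtain ⟨α, hα⟩ := exists_transv_of_pow hexp hcomm hind hsurj hk ha₀fix
  have hα0 : α ≠ 0 := by
    intro h
    apply ha1'
    apply aut_ext_of_theta hsurj
    · exact ha₀fix
    · rw [hα, h, ZMod.val_zero, pow_zero, one_mul]
      rfl
  obtain ⟨b₀, hb₀def⟩ : ∃ b₀ : MulAut H, b₀ = g * (a : MulAut H) * g⁻¹ := ⟨_, rfl⟩
  have hb₀A : b₀ ∈ A := hb₀def ▸ A.mul_mem (A.mul_mem hgA a.2) (A.inv_mem hgA)
  have hb₀fix : b₀ d₂ = d₂ := by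
    rw [hb₀def, hd₂def]
    show g ((a : MulAut H) (g⁻¹ (g d₁))) = g d₁
    rw [MulAut.inv_apply_self, ha₀fix]
  have hb₀pow : b₀ ^ (p ^ k) = 1 := by
    rw [hb₀def, conj_pow, hk, mul_one, mul_inv_cancel]
  have hind' : ∀ i j : ZMod p, d₂ ^ i.val * d₁ ^ j.val = 1 → i = 0 ∧ j = 0 :=
    fun i j h => (hind j i (by rw [hcomm]; exact h)).symm
  have hsurj' := theta_surjective_of_card hcard hexp hcomm hind'
  obtain ⟨β, hβ⟩ := exists_transv_of_pow hexp hcomm hind' hsurj' hb₀pow hb₀fix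
  have hβ0 : β ≠ 0 := by
    intro h
    apply ha1'
    have h1 : b₀ = 1 := by
      apply aut_ext_of_theta hsurj
      · rw [hβ, h, ZMod.val_zero, pow_zero, one_mul]
        rfl
      · exact hb₀fix
    rw [hb₀def] at h1
    exact conj_eq_one_iff.mp h1
  have hconj : ∀ (γ : MulAut H) (x : H),
      (SemidirectProduct.inr γ : H ⋊[MonoidHom.id (MulAut H)] MulAut H) *
        SemidirectProduct.inl x * (SemidirectProduct.inr γ)⁻¹ = SemidirectProduct.inl (γ x) := by
    intro γ x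
    rw [← map_inv]
    exact (SemidirectProduct.inl_aut (φ := MonoidHom.id (MulAut H)) γ x).symm
  have hPair : Pair p (SemidirectProduct.inl d₁ : H ⋊[MonoidHom.id (MulAut H)] MulAut H)
      (SemidirectProduct.inl d₂) (SemidirectProduct.inr (a : MulAut H))
      (SemidirectProduct.inr b₀) α β :=
    { hd₁ := by rw [← map_pow, hexp, map_one]
      hd₂ := by rw [← map_pow, hexp, map_one]
      hc := by rw [← map_mul, ← map_mul, hcomm]
      hind := by
        intro i j h
        rw [← map_pow, ← map_pow, ← map_mul] at h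
        exact hind i j (SemidirectProduct.inl_injective (h.trans (map_one _).symm))
      hα := hα0
      hβ := hβ0
      ha₁ := by rw [hconj, ha₀fix]
      ha₂ := by rw [hconj, hα, map_mul, map_pow]
      hb₁ := by rw [hconj, hβ, hcomm, map_mul, map_pow]
      hb₂ := by rw [hconj, hb₀fix] }
  have hL : (Subgroup.closure {(a : MulAut H), b₀}).map
      (SemidirectProduct.inr : MulAut H →* H ⋊[MonoidHom.id (MulAut H)] MulAut H) =
      Subgroup.closure {SemidirectProduct.inr (a : MulAut H), SemidirectProduct.inr b₀} := by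
    rw [MonoidHom.map_closure, Set.image_pair]
  have hfaith : ∀ g' ∈ (Subgroup.closure {(a : MulAut H), b₀}).map
      (SemidirectProduct.inr : MulAut H →* H ⋊[MonoidHom.id (MulAut H)] MulAut H),
      g' * SemidirectProduct.inl d₁ = SemidirectProduct.inl d₁ * g' →
      g' * SemidirectProduct.inl d₂ = SemidirectProduct.inl d₂ * g' → g' = 1 := by
    rintro _ ⟨γ, -, rfl⟩ h1 h2
    have e1 : γ d₁ = d₁ := by
      apply SemidirectProduct.inl_injective (φ := MonoidHom.id (MulAut H))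
      rw [← hconj, h1, mul_inv_cancel_right]
    have e2 : γ d₂ = d₂ := by
      apply SemidirectProduct.inl_injective (φ := MonoidHom.id (MulAut H))
      rw [← hconj, h2, mul_inv_cancel_right]
    have e3 : γ = 1 := aut_ext_of_theta hsurj e1 e2
    rw [e3, map_one]
  obtain ⟨φ, -⟩ := exists_equiv hPair _ hL hfaith
  have hle : Subgroup.closure {(a : MulAut H), b₀} ≤ A := by
    rw [Subgroup.closure_le]
    rintro x (rfl | rfl)
    · exact a.2
    · exact hb₀A
  exact ⟨hcomm, hexp, (Subgroup.closure {(a : MulAut H), b₀}).subgroupOf A,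
    ⟨(Subgroup.subgroupOfEquivOfLe hle).trans
      (((Subgroup.closure {(a : MulAut H), b₀}).equivMapOfInjective _
        SemidirectProduct.inr_injective).trans φ)⟩⟩

end PlaneAut

section Ess

variable {Ω : Type*} [Group Ω] {S : Subgroup Ω}

/-- An essential subgroup of order `p²` is elementary abelian and its automorphism group in
the system contains `SL₂(p)`. -/
theorem essential_card_sq [Finite S] {p : ℕ} [Fact p.Prime] (hS : IsPGroup p S)
    (F : FusionSystem S) {H : Subgroup Ω} (hH : F.IsEssential p H)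
    (hcard : Nat.card H = p ^ 2) :
    Cfsg.IsElementaryAbelian p H ∧
      ∃ K : Subgroup ↥(F.autGroup H),
        Nonempty (↥K ≃* Matrix.SpecialLinearGroup (Fin 2) (ZMod p)) := by
  have hHS : H ≤ S := hH.1.1
  have hfin : Finite H := Fusion.finite_of_le hHS
  have hrad := Fusion.isRadical_of_isEssential hS F hH
  have hA : ∀ R : Sylow p (F.autGroup H), ¬ (R : Subgroup (F.autGroup H)).Normal :=
    fun R hR => not_essential_of_normal_sylow F hrad R hR hH
  obtain ⟨hcomm, hexp, K, hK⟩ := plane_aut_sl2 hcard (F.autGroup H) hA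
  refine ⟨⟨⟨⟨hcomm⟩⟩, ?_⟩, K, hK⟩
  intro a ha
  exact congrArg Subtype.val (hexp ⟨a, ha⟩)

end Ess

end Cfsg.Agent.Lib.Helper27
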