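import Mathlib
import Cfsg.Agent.Lib.Helper27.AbIndexPI
import Cfsg.Agent.Lib.Helper27.EssGen

set_option autoImplicit false

namespace Cfsg.Agent.Lib.Helper27

open Cfsg Cfsg.FusionSystem Cfsg.Agent.Lib.Helper26

section AbK

variable {Ω : Type*} [Group Ω] {S : Subgroup Ω}

theorem abk_mem_center (s : ↥S) :
    s ∈ Subgroup.center ↥S ↔ (s : Ω) ∈ S ⊓ Subgroup.centralizer (S : Set Ω) := by
  rw [abx_mem_Z, Subgroup.mem_center_iff]
  constructor
  · intro h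
    exact ⟨s.2, fun t ht => congrArg Subtype.val (h ⟨t, ht⟩)⟩
  · rintro ⟨-, h⟩ t
    exact Subtype.ext (h t t.2)

theorem abk_not_cyclic (hna : ¬ ∀ s ∈ S, ∀ t ∈ S, s * t = t * s) :
    ¬ IsCyclic (↥S ⧸ Subgroup.center ↥S) := by
  intro hc
  apply hna
  intro s hs t ht
  have h1 := commutative_of_cyclic_center_quotient (QuotientGroup.mk' (Subgroup.center ↥S))
    (by rw [QuotientGroup.ker_mk']) ⟨s, hs⟩ ⟨t, ht⟩
  exact congrArg Subtype.val h1

theorem abk_card_quot [Finite S] (p : ℕ) [Fact p.Prime] (hS : IsPGroup p S)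
    (hna : ¬ ∀ s ∈ S, ∀ t ∈ S, s * t = t * s)
    (hZ : (Subgroup.center ↥S).index ≤ p ^ 2) :
    Nat.card (↥S ⧸ Subgroup.center ↥S) = p ^ 2 := by
  have hp : p.Prime := Fact.out
  have hQp : IsPGroup p (↥S ⧸ Subgroup.center ↥S) := hS.to_quotient _
  obtain ⟨k, hk⟩ := IsPGroup.iff_card.mp hQp
  have hncyc := abk_not_cyclic hna
  rw [Subgroup.index_eq_card, hk] at hZ
  have hk2 : k ≤ 2 := (Nat.pow_le_pow_iff_right hp.one_lt).mp hZ
  interval_cases k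
  · exfalso
    apply hncyc
    rw [pow_zero] at hk
    have : Subsingleton (↥S ⧸ Subgroup.center ↥S) := (Nat.card_eq_one_iff_unique.mp hk).1
    exact isCyclic_of_subsingleton
  · exfalso
    apply hncyc
    rw [pow_one] at hk
    exact isCyclic_of_prime_card hk
  · exact hk

theorem abk_quot_facts [Finite S] (p : ℕ) [Fact p.Prime] (hS : IsPGroup p S)
    (hna : ¬ ∀ s ∈ S, ∀ t ∈ S, s * t = t * s)
    (hZ : (Subgroup.center ↥S).index ≤ p ^ 2) :
    (∀ s ∈ S, ∀ t ∈ S, s * t * s⁻¹ * t⁻¹ ∈ S ⊓ Subgroup.centralizer (S : Set Ω)) ∧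
    (∀ s ∈ S, s ^ p ∈ S ⊓ Subgroup.centralizer (S : Set Ω)) := by
  have hp : p.Prime := Fact.out
  have hcard := abk_card_quot p hS hna hZ
  have hcomm := IsPGroup.commutative_of_card_eq_prime_sq hcard
  have hncyc := abk_not_cyclic hna
  constructor
  · intro s hs t ht
    have h1 : (((⟨s, hs⟩ : ↥S) * ⟨t, ht⟩ * (⟨s, hs⟩ : ↥S)⁻¹ * (⟨t, ht⟩ : ↥S)⁻¹ : ↥S) :
        ↥S ⧸ Subgroup.center ↥S) = 1 := by
      rw [QuotientGroup.mk_mul, QuotientGroup.mk_mul, QuotientGroup.mk_mul, QuotientGroup.mk_inv,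
        QuotientGroup.mk_inv, hcomm (((⟨s, hs⟩ : ↥S) : ↥S ⧸ Subgroup.center ↥S)) _]
      group
    rw [QuotientGroup.eq_one_iff] at h1
    exact (abk_mem_center _).mp h1
  · intro s hs
    have h1 : (((⟨s, hs⟩ : ↥S) ^ p : ↥S) : ↥S ⧸ Subgroup.center ↥S) = 1 := by
      rw [QuotientGroup.mk_pow]
      obtain ⟨q, hq⟩ : ∃ q : ↥S ⧸ Subgroup.center ↥S,
          q = ((⟨s, hs⟩ : ↥S) : ↥S ⧸ Subgroup.center ↥S) := ⟨_, rfl⟩
      rw [← hq]
      have hd : orderOf q ∣ p ^ 2 := hcard ▸ orderOf_dvd_natCard q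
      obtain ⟨j, hj, hjq⟩ := (Nat.dvd_prime_pow hp).mp hd
      have hj2 : j ≠ 2 := by
        rintro rfl
        exact hncyc (isCyclic_of_orderOf_eq_card q (hjq.trans hcard.symm))
      have hdp : orderOf q ∣ p := by
        rw [hjq]
        interval_cases j
        · simp
        · simp
        · exact absurd rfl hj2
      exact orderOf_dvd_iff_pow_eq_one.mp hdp
    rw [QuotientGroup.eq_one_iff] at h1
    exact (abk_mem_center _).mp h1

theorem abk_exists_A [Finite S] (p : ℕ) [Fact p.Prime] (hS : IsPGroup p S)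
    (hna : ¬ ∀ s ∈ S, ∀ t ∈ S, s * t = t * s)
    (hZ : (Subgroup.center ↥S).index ≤ p ^ 2) (a : Ω) (haS : a ∈ S)
    (haZ : a ∉ S ⊓ Subgroup.centralizer (S : Set Ω)) :
    ∃ A : Subgroup Ω, A ≤ S ∧ S ⊓ Subgroup.centralizer (S : Set Ω) ≤ A ∧ a ∈ A ∧
      (∀ y ∈ A, ∃ i : ℕ, y * (a ^ i)⁻¹ ∈ S ⊓ Subgroup.centralizer (S : Set Ω)) ∧
      (∀ y ∈ A, ∀ y' ∈ A, y * y' = y' * y) ∧
      (A.subgroupOf S).index = p := by
  have hp : p.Prime := Fact.out
  have hcard := abk_card_quot p hS hna hZ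
  obtain ⟨-, hpow⟩ := abk_quot_facts p hS hna hZ
  obtain ⟨q, hq⟩ : ∃ q : ↥S ⧸ Subgroup.center ↥S,
      q = ((⟨a, haS⟩ : ↥S) : ↥S ⧸ Subgroup.center ↥S) := ⟨_, rfl⟩
  have hq1 : q ≠ 1 := by
    intro h
    rw [hq, QuotientGroup.eq_one_iff] at h
    exact haZ ((abk_mem_center _).mp h)
  have hqp : q ^ p = 1 := by
    rw [hq, ← QuotientGroup.mk_pow, QuotientGroup.eq_one_iff]
    exact (abk_mem_center _).mpr (hpow a haS)
  have hord : orderOf q = p := orderOf_eq_prime hqp hq1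
  obtain ⟨A', hA'⟩ : ∃ A' : Subgroup ↥S,
      A' = (Subgroup.zpowers q).comap (QuotientGroup.mk' (Subgroup.center ↥S)) := ⟨_, rfl⟩
  have hA'idx : A'.index = p := by
    rw [hA', Subgroup.index_comap_of_surjective _ (QuotientGroup.mk'_surjective _)]
    have h1 := Subgroup.card_mul_index (Subgroup.zpowers q)
    rw [Nat.card_zpowers, hord, hcard, pow_two] at h1
    exact Nat.eq_of_mul_eq_mul_left hp.pos h1
  have hA'mem : ∀ y : ↥S, y ∈ A' ↔
      ∃ i : ℕ, (y : Ω) * (a ^ i)⁻¹ ∈ S ⊓ Subgroup.centralizer (S : Set Ω) := by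
    intro y
    rw [hA', Subgroup.mem_comap, ← mem_powers_iff_mem_zpowers, Submonoid.mem_powers_iff]
    constructor
    · rintro ⟨i, hi⟩
      refine ⟨i, ?_⟩
      have h1 : ((y * ((⟨a, haS⟩ : ↥S) ^ i)⁻¹ : ↥S) : ↥S ⧸ Subgroup.center ↥S) = 1 := by
        rw [QuotientGroup.mk_mul, QuotientGroup.mk_inv, QuotientGroup.mk_pow, ← hq, hi]
        exact mul_inv_cancel _
      rw [QuotientGroup.eq_one_iff] at h1
      exact (abk_mem_center _).mp h1
    · rintro ⟨i, hi⟩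
      refine ⟨i, ?_⟩
      have h1 : (y * ((⟨a, haS⟩ : ↥S) ^ i)⁻¹ : ↥S) ∈ Subgroup.center ↥S :=
        (abk_mem_center _).mpr hi
      rw [← QuotientGroup.eq_one_iff, QuotientGroup.mk_mul, QuotientGroup.mk_inv,
        QuotientGroup.mk_pow, ← hq] at h1
      exact (mul_inv_eq_one.mp h1).symm
  have hAmem : ∀ y ∈ A'.map S.subtype,
      ∃ i : ℕ, y * (a ^ i)⁻¹ ∈ S ⊓ Subgroup.centralizer (S : Set Ω) := by
    rintro _ ⟨y', hy', rfl⟩
    exact (hA'mem y').mp hy'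
  refine ⟨A'.map S.subtype, ?_, ?_, ?_, hAmem, ?_, ?_⟩
  · rintro _ ⟨y', -, rfl⟩
    exact y'.2
  · intro z hz
    refine ⟨⟨z, hz.1⟩, (hA'mem _).mpr ⟨0, ?_⟩, rfl⟩
    rw [pow_zero, inv_one, mul_one]
    exact hz
  · refine ⟨⟨a, haS⟩, (hA'mem _).mpr ⟨1, ?_⟩, rfl⟩
    rw [pow_one, mul_inv_cancel]
    exact one_mem _
  · intro y hy y' hy'
    obtain ⟨i, hi⟩ := hAmem y hy
    obtain ⟨j, hj⟩ := hAmem y' hy'
    obtain ⟨w, hw⟩ : ∃ w, w = y * (a ^ i)⁻¹ := ⟨_, rfl⟩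
    obtain ⟨w', hw'⟩ : ∃ w', w' = y' * (a ^ j)⁻¹ := ⟨_, rfl⟩
    rw [← hw] at hi
    rw [← hw'] at hj
    obtain ⟨hwS, hwc⟩ := (abx_mem_Z).mp hi
    obtain ⟨hw'S, hw'c⟩ := (abx_mem_Z).mp hj
    have e1 : y = w * a ^ i := by rw [hw]; group
    have e2 : y' = w' * a ^ j := by rw [hw']; group
    have c1 : a ^ i * w' = w' * a ^ i := hw'c _ (S.pow_mem haS i)
    have c2 : a ^ j * w = w * a ^ j := hwc _ (S.pow_mem haS j)
    have c3 : w * w' = w' * w := hw'c w hwS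
    have c4 : a ^ i * a ^ j = a ^ j * a ^ i := by rw [← pow_add, ← pow_add, add_comm]
    rw [e1, e2]
    calc w * a ^ i * (w' * a ^ j) = w * (a ^ i * w') * a ^ j := by group
      _ = w * (w' * a ^ i) * a ^ j := by rw [c1]
      _ = (w * w') * (a ^ i * a ^ j) := by group
      _ = (w' * w) * (a ^ j * a ^ i) := by rw [c3, c4]
      _ = w' * (w * a ^ j) * a ^ i := by group
      _ = w' * (a ^ j * w) * a ^ i := by rw [c2]
      _ = w' * a ^ j * (w * a ^ i) := by group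
  · show ((A'.map S.subtype).comap S.subtype).index = p
    rw [Subgroup.comap_map_eq_self_of_injective (Subgroup.subtype_injective S)]
    exact hA'idx

/-- A proper subgroup containing `Z` and a noncentral `x` is `Z⟨x⟩`. -/
theorem abk_gen [Finite S] (p : ℕ) [Fact p.Prime] (hS : IsPGroup p S)
    (hna : ¬ ∀ s ∈ S, ∀ t ∈ S, s * t = t * s)
    (hZ : (Subgroup.center ↥S).index ≤ p ^ 2) (B : Subgroup Ω) (hB : B < S)
    (hZB : S ⊓ Subgroup.centralizer (S : Set Ω) ≤ B) (x : Ω) (hxB : x ∈ B)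
    (hxZ : x ∉ S ⊓ Subgroup.centralizer (S : Set Ω)) :
    (∀ y ∈ B, ∃ i : ℕ, y * (x ^ i)⁻¹ ∈ S ⊓ Subgroup.centralizer (S : Set Ω)) ∧
    (∀ y ∈ B, ∀ y' ∈ B, y * y' = y' * y) ∧ (B.subgroupOf S).index = p := by
  have hp : p.Prime := Fact.out
  obtain ⟨A, hAS, hZA, hxA, hAdec, hAab, hAidx⟩ := abk_exists_A p hS hna hZ x (hB.le hxB) hxZ
  have hAB : A ≤ B := by
    intro y hy
    obtain ⟨i, hi⟩ := hAdec y hy
    have e : y = (y * (x ^ i)⁻¹) * x ^ i := by group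
    rw [e]
    exact B.mul_mem (hZB hi) (B.pow_mem hxB i)
  have h1 := Subgroup.relIndex_mul_relIndex A B S hAB hB.le
  have h2 : A.relIndex S = p := hAidx
  have h3 : B.relIndex S ≠ 1 := fun h => (not_le_of_gt hB) (Subgroup.relIndex_eq_one.mp h)
  rw [h2] at h1
  have h4 : B.relIndex S = p := by
    have h5 : B.relIndex S ∣ p := Dvd.intro_left _ h1
    rcases (Nat.dvd_prime hp).mp h5 with h | h
    · exact absurd h h3
    · exact h
  rw [h4] at h1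
  have h6 : A.relIndex B = 1 := by
    have h7 : A.relIndex B * p = 1 * p := by rw [one_mul]; exact h1
    exact Nat.eq_of_mul_eq_mul_right hp.pos h7
  have hBA : B ≤ A := Subgroup.relIndex_eq_one.mp h6
  exact ⟨fun y hy => hAdec y (hBA hy), fun y hy y' hy' => hAab y (hBA hy) y' (hBA hy'), h4⟩

/-- Shape of an essential subgroup when `|S : Z(S)| ≤ p²`. -/
theorem abk_shape [Finite S] (p : ℕ) [Fact p.Prime] (hS : IsPGroup p S) (F : FusionSystem S)
    (hF : F.IsSaturated p)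
    (hna : ¬ ∀ s ∈ S, ∀ t ∈ S, s * t = t * s)
    (hZ : (Subgroup.center ↥S).index ≤ p ^ 2) (P : Subgroup Ω) (hP : F.IsEssential p P) :
    ∃ x ∈ S, ∃ A : Subgroup Ω, A ≤ S ∧ (∀ a ∈ A, ∀ b ∈ A, a * b = b * a) ∧
      (A.subgroupOf S).index = p ∧ S ⊓ Subgroup.centralizer (S : Set Ω) ≤ A ∧ x ∉ A ∧
      P = (S ⊓ Subgroup.centralizer (S : Set Ω)) ⊔ Subgroup.zpowers x ∧
      Nat.card ↥((S ⊓ Subgroup.centralizer (S : Set Ω)) ⊓ ((commutator ↥S).map S.subtype)) = p := by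
  have hp : p.Prime := Fact.out
  have hPS : P ≤ S := hP.1.1
  have hPlt : P < S := lt_of_isEssential F hF hP
  have hcen : centralizerIn S P ≤ P := hP.1.2 P (Fusion.isConj_refl F hPS)
  obtain ⟨hcomm, hpow⟩ := abk_quot_facts p hS hna hZ
  have hmemC : ∀ s ∈ S, (∀ y ∈ P, y * s = s * y) → s ∈ P := by
    intro s hs h
    apply hcen
    refine ⟨hs, ?_⟩
    show s ∈ Subgroup.centralizer (P : Set Ω)
    rw [Subgroup.mem_centralizer_iff]
    exact h
  have hZP : S ⊓ Subgroup.centralizer (S : Set Ω) ≤ P := by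
    intro z hz
    obtain ⟨hzS, hzc⟩ := (abx_mem_Z).mp hz
    exact hmemC z hzS (fun y hy => hzc y (hPS hy))
  obtain ⟨x, hxP, hxZ⟩ : ∃ x ∈ P, x ∉ S ⊓ Subgroup.centralizer (S : Set Ω) := by
    by_contra hcon
    push Not at hcon
    apply not_le_of_gt hPlt
    intro s hs
    apply hmemC s hs
    intro y hy
    exact (((abx_mem_Z).mp (hcon y hy)).2 s hs).symm
  have hxS : x ∈ S := hPS hxP
  have hPdec := (abk_gen p hS hna hZ P hPlt hZP x hxP hxZ).1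
  obtain ⟨b, hbS, hbP⟩ := SetLike.exists_of_lt hPlt
  have hbZ : b ∉ S ⊓ Subgroup.centralizer (S : Set Ω) := fun h => hbP (hZP h)
  obtain ⟨A, hAS, hZA, hbA, hAdec, hAab, hAidx⟩ := abk_exists_A p hS hna hZ b hbS hbZ
  have hxA : x ∉ A := by
    intro hxA
    apply hbP
    apply hmemC b hbS
    intro y hy
    obtain ⟨i, hi⟩ := hPdec y hy
    have hc1 : b * (y * (x ^ i)⁻¹) = (y * (x ^ i)⁻¹) * b := ((abx_mem_Z).mp hi).2 b hbS
    have hc2 : b * x ^ i = x ^ i * b := hAab b hbA _ (A.pow_mem hxA i)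
    calc y * b = (y * (x ^ i)⁻¹) * (x ^ i * b) := by group
      _ = (y * (x ^ i)⁻¹) * (b * x ^ i) := by rw [hc2]
      _ = ((y * (x ^ i)⁻¹) * b) * x ^ i := by group
      _ = (b * (y * (x ^ i)⁻¹)) * x ^ i := by rw [hc1]
      _ = b * y := by group
  have hPdef : P = (S ⊓ Subgroup.centralizer (S : Set Ω)) ⊔ Subgroup.zpowers x := by
    apply le_antisymm
    · intro y hy
      obtain ⟨i, hi⟩ := hPdec y hy
      have e : y = (y * (x ^ i)⁻¹) * x ^ i := by group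
      rw [e]
      exact Subgroup.mul_mem _ (Subgroup.mem_sup_left hi)
        (Subgroup.mem_sup_right (Subgroup.pow_mem _ (Subgroup.mem_zpowers x) i))
    · exact sup_le hZP (Subgroup.zpowers_le.mpr hxP)
  have hAlt : A < S := by
    refine lt_of_le_of_ne hAS ?_
    intro h
    rw [h] at hxA
    exact hxA hxS
  refine ⟨x, hxS, A, hAS, hAab, hAidx, hZA, hxA, hPdef, ?_⟩
  obtain ⟨hAn, hAc, hApow, hAgen⟩ := abIndex_facts p hS A hAS hAidx
  have hdecS := hAgen x hxS hxA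
  have hθA : ∀ a ∈ A, x⁻¹ * (a * x * a⁻¹) ∈ A := by
    intro a ha
    have h1 := hAc x⁻¹ (S.inv_mem hxS) a (hAS ha)
    rw [inv_inv] at h1
    have e : x⁻¹ * (a * x * a⁻¹) = x⁻¹ * a * x * a⁻¹ := by group
    rw [e]
    exact h1
  have hθZ : ∀ a ∈ S, x⁻¹ * (a * x * a⁻¹) ∈ S ⊓ Subgroup.centralizer (S : Set Ω) := by
    intro a ha
    have h1 := hcomm x⁻¹ (S.inv_mem hxS) a ha
    rw [inv_inv] at h1
    have e : x⁻¹ * (a * x * a⁻¹) = x⁻¹ * a * x * a⁻¹ := by group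
    rw [e]
    exact h1
  apply abd_card_inf p A hAS hAab hAn x hxS hdecS hθA b hbA (hθZ b hbS) hbZ
  intro w hwA _ hwZ
  exact ⟨hpow w (hAS hwA), fun w' hw'A _ => (abk_gen p hS hna hZ A hAlt hZA w hwA hwZ).1 w' hw'A⟩

end AbK

end Cfsg.Agent.Lib.Helper27
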