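import Mathlib
import Cfsg.Agent.Lib.Helper27.AbIndexPA
import Cfsg.Agent.Lib.Helper27.SmallZA

set_option autoImplicit false

namespace Cfsg.Agent.Lib.Helper27

open Cfsg Cfsg.FusionSystem Cfsg.Agent.Lib.Helper26

section StrEmbPair

/-- In a group whose quotient by `I` has a strongly `p`-embedded subgroup there is a proper
subgroup `M` containing every `g` for which some non-`I` elements `x`, `g y g⁻¹` (`x, y ∈ T`)
generate a `p`-group. -/
theorem strEmb_pair {G : Type*} [Group G] [Finite G] (p : ℕ) [Fact p.Prime]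
    (I : Subgroup G) [I.Normal] (T : Subgroup G) (hT : IsPGroup p T) (E : Subgroup (G ⧸ I))
    (hE : IsStronglyPEmbedded p E) :
    ∃ M : Subgroup G, M ≠ ⊤ ∧ ∀ g : G, ∀ x ∈ T, x ∉ I → ∀ y ∈ T, y ∉ I →
      (∃ K : Subgroup G, IsPGroup p K ∧ x ∈ K ∧ g * y * g⁻¹ ∈ K) → g ∈ M := by
  rw [Cfsg.Agent.Lib.Helper18.isStronglyPEmbedded_iff] at hE
  obtain ⟨hEtop, R, hdata⟩ := hE
  obtain ⟨q, hq⟩ : ∃ q : G →* G ⧸ I, q = QuotientGroup.mk' I := ⟨_, rfl⟩
  have hqs : Function.Surjective q := by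
    rw [hq]
    exact QuotientGroup.mk'_surjective I
  have hq1 : ∀ t : G, q t = 1 → t ∈ I := by
    intro t ht
    rw [hq] at ht
    exact (QuotientGroup.eq_one_iff t).mp ht
  have hTbar : IsPGroup p (T.map q) := hT.map _
  obtain ⟨c, hc⟩ := exists_cj_le_sylow R hTbar
  obtain ⟨M, hM⟩ : ∃ M : Subgroup G, ∀ g : G, g ∈ M ↔ c * q g * c⁻¹ ∈ E :=
    ⟨(E.comap (MulAut.conj c).toMonoidHom).comap q, fun g => by
      rw [Subgroup.mem_comap, Subgroup.mem_comap]
      rfl⟩
  refine ⟨M, ?_, ?_⟩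
  · intro htop
    apply hEtop
    rw [Subgroup.eq_top_iff']
    intro k
    obtain ⟨g, hg⟩ := hqs (c⁻¹ * k * c)
    have h1 : g ∈ M := by
      rw [htop]
      exact Subgroup.mem_top g
    rw [hM, hg] at h1
    have e : c * (c⁻¹ * k * c) * c⁻¹ = k := by group
    rw [e] at h1
    exact h1
  · rintro g x hxT hxI y hyT hyI ⟨K, hKp, hxK, hgyK⟩
    have hxR : c * q x * c⁻¹ ∈ (R : Subgroup (G ⧸ I)) := hc ⟨_, ⟨x, hxT, rfl⟩, rfl⟩
    have hyR : c * q y * c⁻¹ ∈ (R : Subgroup (G ⧸ I)) := hc ⟨_, ⟨y, hyT, rfl⟩, rfl⟩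
    have hxE := hdata.sylow_le hxR
    have hyE := hdata.sylow_le hyR
    have hx1 : c * q x * c⁻¹ ≠ 1 := by
      intro h
      apply hxI
      apply hq1
      have e : q x = c⁻¹ * (c * q x * c⁻¹) * c := by group
      rw [e, h]
      group
    have hy1 : c * q y * c⁻¹ ≠ 1 := by
      intro h
      apply hyI
      apply hq1
      have e : q y = c⁻¹ * (c * q y * c⁻¹) * c := by group
      rw [e, h]
      group
    have hK' : IsPGroup p (K.map ((MulAut.conj c).toMonoidHom.comp q)) := hKp.map _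
    have hxK' : c * q x * c⁻¹ ∈ K.map ((MulAut.conj c).toMonoidHom.comp q) := ⟨x, hxK, rfl⟩
    have hgyK' : (c * q g * c⁻¹) * (c * q y * c⁻¹) * (c * q g * c⁻¹)⁻¹ ∈
        K.map ((MulAut.conj c).toMonoidHom.comp q) := by
      refine ⟨g * y * g⁻¹, hgyK, ?_⟩
      show c * q (g * y * g⁻¹) * c⁻¹ = _
      rw [map_mul, map_mul, map_inv]
      group
    have hKE := hdata.le_of_mem hK' hxK' hxE hx1
    have hyp : ∃ n : ℕ, (c * q y * c⁻¹) ^ (p ^ n) = 1 := by
      obtain ⟨n, hn⟩ := R.isPGroup' ⟨c * q y * c⁻¹, hyR⟩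
      exact ⟨n, congrArg Subtype.val hn⟩
    rw [hM]
    exact hdata.mem_of_conj_mem hyE hy1 hyp (hKE hgyK')

/-- The stabilizer of the chain `1 ≤ D ≤ P` in `Aut(P)` is a `p`-group. -/
theorem exists_stabChain {P : Type*} [Group P] [Finite P] (p : ℕ) [Fact p.Prime]
    (hPp : IsPGroup p P) (D : Subgroup P) :
    ∃ K : Subgroup (MulAut P), IsPGroup p K ∧
      ∀ c : MulAut P, c ∈ K ↔ (∀ d ∈ D, c d = d) ∧ ∀ x : P, x⁻¹ * c x ∈ D := by
  obtain ⟨K, hK⟩ : ∃ K : Subgroup (MulAut P), ∀ c : MulAut P,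
      c ∈ K ↔ (∀ d ∈ D, c d = d) ∧ ∀ x : P, x⁻¹ * c x ∈ D :=
    ⟨{ carrier := {c | (∀ d ∈ D, c d = d) ∧ ∀ x : P, x⁻¹ * c x ∈ D}
       one_mem' := ⟨fun d _ => rfl, fun x => by
         show x⁻¹ * x ∈ D
         rw [inv_mul_cancel]
         exact one_mem D⟩
       mul_mem' := by
         rintro c₁ c₂ ⟨h1, h1'⟩ ⟨h2, h2'⟩
         refine ⟨fun d hd => ?_, fun x => ?_⟩
         · show c₁ (c₂ d) = d
           rw [h2 d hd, h1 d hd]
         · show x⁻¹ * c₁ (c₂ x) ∈ D
           have e : x⁻¹ * c₁ (c₂ x) = (x⁻¹ * c₂ x) * ((c₂ x)⁻¹ * c₁ (c₂ x)) := by group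
           rw [e]
           exact D.mul_mem (h2' x) (h1' _)
       inv_mem' := by
         rintro c ⟨h1, h1'⟩
         refine ⟨fun d hd => ?_, fun x => ?_⟩
         · show c⁻¹ d = d
           have h2 := congrArg (fun z => c⁻¹ z) (h1 d hd)
           simp only [MulAut.inv_apply_self] at h2
           exact h2.symm
         · show x⁻¹ * c⁻¹ x ∈ D
           have h2 := h1' (c⁻¹ x)
           rw [MulAut.apply_inv_self] at h2
           have e : x⁻¹ * c⁻¹ x = ((c⁻¹ x)⁻¹ * x)⁻¹ := by group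
           rw [e]
           exact D.inv_mem h2 }, fun c => Iff.rfl⟩
  refine ⟨K, ?_, hK⟩
  obtain ⟨m, hm⟩ := IsPGroup.iff_card.mp hPp
  rintro ⟨c, hc⟩
  refine ⟨m, ?_⟩
  obtain ⟨h1, h1'⟩ := (hK c).mp hc
  apply Subtype.ext
  apply MulEquiv.ext
  intro x
  show (c ^ (p ^ m)) x = x
  rw [pow_apply_of_fixed c x (h1 _ (h1' x))]
  have h2 := pow_card_eq_one' (G := P) (x := x⁻¹ * c x)
  rw [hm] at h2
  rw [h2, mul_one]

end StrEmbPair

section EssStab

variable {Ω : Type*} [Group Ω] {S : Subgroup Ω}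

/-- If `D ≤ P` is invariant under `Aut_F(P)` for an essential `P`, then every element of `N_S(P)`
stabilizing the chain `1 ≤ D ≤ P` lies in `P`. -/
theorem essential_mem_of_stab [Finite S] (p : ℕ) [Fact p.Prime] (hS : IsPGroup p S)
    (F : FusionSystem S) (hF : F.IsSaturated p) {P : Subgroup Ω} (hP : F.IsEssential p P)
    (D : Subgroup P) (hD : ∀ g ∈ F.autGroup P, ∀ d ∈ D, g d ∈ D)
    {a : Ω} (haS : a ∈ S) (haN : a ∈ Subgroup.normalizer (P : Set Ω))
    (h1 : ∀ d ∈ D, a * (d : Ω) * a⁻¹ = d)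
    (h2 : ∀ x : P, ∃ d ∈ D, (d : Ω) = (x : Ω)⁻¹ * (a * x * a⁻¹)) : a ∈ P := by
  have hPS : P ≤ S := hP.1.1
  have hPfin : Finite P := finite_of_le hPS
  have hcen : centralizerIn S P ≤ P := hP.1.2 P (Fusion.isConj_refl F hPS)
  have hPa : F.IsFullyAutomized p P := (((Cfsg.Agent.S5077.result p hS F).1 hF).1 P hP.2.1).2
  obtain ⟨g, hgG, hg⟩ := exists_twist_of_essential p hS F hP
  obtain ⟨u, hu⟩ : ∃ u : MulAut P, ∀ x : P, ((u x : P) : Ω) = a * x * a⁻¹ :=
    ⟨P.normalizerMonoidHom ⟨a, haN⟩, fun x => rfl⟩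
  have huS : u ∈ autInducedBy S P := Fusion.mem_autInducedBy_iff.2 ⟨a, haS, hu⟩
  have huG : u ∈ F.autGroup P := Fusion.autInducedBy_le_autGroup F hPS huS
  have hud : ∀ d ∈ D, u d = d := by
    intro d hd
    apply Subtype.ext
    rw [hu, h1 d hd]
  have hux : ∀ x : P, x⁻¹ * u x ∈ D := by
    intro x
    obtain ⟨d, hd, hdx⟩ := h2 x
    have e : x⁻¹ * u x = d := by
      apply Subtype.ext
      rw [hdx]
      show (x : Ω)⁻¹ * ((u x : P) : Ω) = _
      rw [hu]
    rw [e]
    exact hd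
  have hginv : g⁻¹ ∈ F.autGroup P := inv_mem hgG
  have ht : g * u * g⁻¹ ∈ autInducedBy S P := by
    apply mem_autS_of_stab p hS F hPa D
      (fun τ hτ d hd => hD τ (Fusion.autInducedBy_le_autGroup F hPS hτ) d hd) _
      (mul_mem (mul_mem hgG huG) hginv)
    · intro d hd
      show g (u (g⁻¹ d)) = d
      rw [hud _ (hD _ hginv d hd), MulAut.apply_inv_self]
    · intro x
      have h3 := hD g hgG _ (hux (g⁻¹ x))
      rw [map_mul, map_inv, MulAut.apply_inv_self] at h3
      exact h3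
  have huinn : u ∈ Inn P := hg u huS ht
  obtain ⟨y, hy⟩ := huinn
  refine mem_of_conj_eq_inner hPS hcen haS y (fun x => ?_)
  rw [← hu x, ← hy]
  rfl

/-- The strongly embedded subgroup of an essential subgroup, in terms of `Aut_S(P)`. -/
theorem essential_strEmb [Finite S] (p : ℕ) [Fact p.Prime] (hS : IsPGroup p S)
    (F : FusionSystem S) {P : Subgroup Ω} (hP : F.IsEssential p P) :
    ∃ M : Subgroup (MulAut P), ¬ (F.autGroup P ≤ M) ∧ ∀ g ∈ F.autGroup P,
      ∀ x ∈ autInducedBy S P, x ∉ Inn P → ∀ y ∈ autInducedBy S P, y ∉ Inn P →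
      (∃ K : Subgroup (MulAut P), IsPGroup p K ∧ x ∈ K ∧ g * y * g⁻¹ ∈ K) → g ∈ M := by
  obtain ⟨hcen, hfn, hnorm, E, hE⟩ := hP
  have hPS : P ≤ S := hcen.1
  have hPfin : Finite P := finite_of_le hPS
  have hTp : IsPGroup p ((autInducedBy S P).subgroupOf (F.autGroup P)) :=
    isPGroup_autInducedBy hS le_rfl P _
  obtain ⟨M₀, hM₀top, hM₀⟩ := strEmb_pair p ((Inn P).subgroupOf (F.autGroup P))
    ((autInducedBy S P).subgroupOf (F.autGroup P)) hTp E hE
  refine ⟨M₀.map (F.autGroup P).subtype, ?_, ?_⟩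
  · intro hle
    apply hM₀top
    rw [Subgroup.eq_top_iff']
    intro k
    obtain ⟨k', hk', hkk⟩ := hle k.2
    have e : k' = k := Subtype.ext hkk
    rw [← e]
    exact hk'
  · rintro g hg x hx hxI y hy hyI ⟨K, hKp, hxK, hgyK⟩
    have hxG : x ∈ F.autGroup P := Fusion.autInducedBy_le_autGroup F hPS hx
    have hyG : y ∈ F.autGroup P := Fusion.autInducedBy_le_autGroup F hPS hy
    have h1 := hM₀ ⟨g, hg⟩ ⟨x, hxG⟩ (Subgroup.mem_subgroupOf.mpr hx)
      (fun h => hxI (Subgroup.mem_subgroupOf.mp h)) ⟨y, hyG⟩ (Subgroup.mem_subgroupOf.mpr hy)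
      (fun h => hyI (Subgroup.mem_subgroupOf.mp h))
      ⟨K.subgroupOf (F.autGroup P), hKp.comap_subtype, Subgroup.mem_subgroupOf.mpr hxK,
        Subgroup.mem_subgroupOf.mpr hgyK⟩
    exact ⟨⟨g, hg⟩, h1, rfl⟩

end EssStab

section ExtraComm

/-- In a group with central commutators, centre of order `p` and order at least `p⁴`, every
element commutes with some element outside a given proper abelian subgroup. -/
theorem extra_exists_comm {G : Type*} [Group G] [Finite G] (p : ℕ) [Fact p.Prime]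
    (hcomm : ∀ a b : G, a * b * a⁻¹ * b⁻¹ ∈ Subgroup.center G)
    (hZ : Nat.card (Subgroup.center G) = p) (hcard : p ^ 4 ≤ Nat.card G)
    (A : Subgroup G) (hA : ∀ a ∈ A, ∀ b ∈ A, a * b = b * a) (hAtop : A ≠ ⊤) (w : G) :
    ∃ q : G, q ∉ A ∧ w * q = q * w := by
  have hp : p.Prime := Fact.out
  obtain ⟨θ, hθ⟩ : ∃ θ : G → (G →* Subgroup.center G), ∀ w x : G,
      ((θ w x : Subgroup.center G) : G) = w * x * w⁻¹ * x⁻¹ :=
    ⟨fun w => MonoidHom.mk' (fun x => ⟨w * x * w⁻¹ * x⁻¹, hcomm w x⟩) (by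
      intro x y
      apply Subtype.ext
      show w * (x * y) * w⁻¹ * (x * y)⁻¹ = (w * x * w⁻¹ * x⁻¹) * (w * y * w⁻¹ * y⁻¹)
      have hc := Subgroup.mem_center_iff.mp (hcomm w y) x⁻¹
      calc w * (x * y) * w⁻¹ * (x * y)⁻¹ = w * x * w⁻¹ * ((w * y * w⁻¹ * y⁻¹) * x⁻¹) := by group
        _ = w * x * w⁻¹ * (x⁻¹ * (w * y * w⁻¹ * y⁻¹)) := by rw [hc]
        _ = (w * x * w⁻¹ * x⁻¹) * (w * y * w⁻¹ * y⁻¹) := by group), fun w x => rfl⟩
  have hker : ∀ w x : G, x ∈ (θ w).ker ↔ w * x = x * w := by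
    intro w x
    rw [MonoidHom.mem_ker]
    constructor
    · intro hx
      have h : w * x * w⁻¹ * x⁻¹ = 1 := by
        rw [← hθ w x, hx]
        rfl
      calc w * x = (w * x * w⁻¹ * x⁻¹) * (x * w) := by group
        _ = x * w := by rw [h, one_mul]
    · intro hx
      apply Subtype.ext
      rw [hθ w x, hx]
      show x * w * w⁻¹ * x⁻¹ = 1
      group
  have hidx : ∀ w : G, (θ w).ker.index ∣ p := by
    intro w
    rw [Subgroup.index_ker, ← hZ]
    exact Subgroup.card_subgroup_dvd_card _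
  by_contra hcon
  push Not at hcon
  -- the centralizer of `w` lies in `A`
  have hkA : (θ w).ker ≤ A := by
    intro x hx
    by_contra hxA
    exact hcon x hxA ((hker w x).mp hx)
  have hAidx : A.index = p := by
    have h1 : A.index ∣ p := (Subgroup.index_dvd_of_le hkA).trans (hidx w)
    rcases (Nat.dvd_prime hp).mp h1 with h | h
    · exact absurd (Subgroup.index_eq_one.mp h) hAtop
    · exact h
  obtain ⟨x, hx⟩ : ∃ x : G, x ∉ A := by
    by_contra h
    push Not at h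
    exact hAtop ((Subgroup.eq_top_iff' A).mpr h)
  -- elements of `A` commuting with `x` are central
  have hcent : ∀ a ∈ A, x * a = a * x → a ∈ Subgroup.center G := by
    intro a ha hax
    have hAC : A ≤ Subgroup.centralizer {a} := by
      intro b hb
      rw [Subgroup.mem_centralizer_iff]
      intro c hc
      rw [Set.mem_singleton_iff] at hc
      rw [hc]
      exact hA a ha b hb
    have hxC : x ∈ Subgroup.centralizer {a} := by
      rw [Subgroup.mem_centralizer_iff]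
      intro c hc
      rw [Set.mem_singleton_iff] at hc
      rw [hc]
      exact hax.symm
    have hCidx : (Subgroup.centralizer {a}).index ∣ p := by
      rw [← hAidx]
      exact Subgroup.index_dvd_of_le hAC
    have hCtop : Subgroup.centralizer {a} = ⊤ := by
      rcases (Nat.dvd_prime hp).mp hCidx with h | h
      · exact Subgroup.index_eq_one.mp h
      · exfalso
        have h3 := Subgroup.relIndex_mul_index hAC
        rw [h, hAidx] at h3
        have h4 : A.relIndex (Subgroup.centralizer {a}) = 1 := by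
          have hp0 : 0 < p := hp.pos
          exact Nat.eq_of_mul_eq_mul_right hp0 (by rw [h3, one_mul])
        exact hx (Subgroup.relIndex_eq_one.mp h4 hxC)
    rw [Subgroup.mem_center_iff]
    intro g
    have hg : g ∈ Subgroup.centralizer {a} := by
      rw [hCtop]
      exact Subgroup.mem_top g
    rw [Subgroup.mem_centralizer_iff] at hg
    exact (hg a (Set.mem_singleton a)).symm
  -- count `A`
  obtain ⟨f, hf⟩ : ∃ f : A →* Subgroup.center G, f = (θ x).comp A.subtype := ⟨_, rfl⟩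
  have hfidx : f.ker.index ∣ p := by
    rw [Subgroup.index_ker, ← hZ]
    exact Subgroup.card_subgroup_dvd_card _
  have hfk : ∀ a : A, a ∈ f.ker → x * (a : G) = (a : G) * x := by
    intro a ha
    have h1 : f a = 1 := MonoidHom.mem_ker.mp ha
    rw [hf, MonoidHom.comp_apply] at h1
    exact (hker x _).mp (MonoidHom.mem_ker.mpr h1)
  have hfker : Nat.card f.ker ≤ p := by
    have hinj : Function.Injective (fun a : f.ker => (⟨((a : A) : G),
        hcent _ (a : A).2 (hfk _ a.2)⟩ : Subgroup.center G)) := by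
      intro a b hab
      apply Subtype.ext
      apply Subtype.ext
      exact congrArg (fun z : Subgroup.center G => (z : G)) hab
    have h1 := Nat.card_le_card_of_injective _ hinj
    rw [hZ] at h1
    exact h1
  have hAcard : Nat.card A ≤ p * p := by
    rw [← Subgroup.card_mul_index f.ker]
    exact Nat.mul_le_mul hfker (Nat.le_of_dvd hp.pos hfidx)
  have hGcard : Nat.card G ≤ p * p * p := by
    rw [← Subgroup.card_mul_index A, hAidx]
    exact Nat.mul_le_mul_right p hAcard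
  have h34 : p * p * p < p ^ 4 := by
    have e : p ^ 4 = p * p * p * p := by ring
    rw [e]
    have h3 : 0 < p * p * p := Nat.mul_pos (Nat.mul_pos hp.pos hp.pos) hp.pos
    calc p * p * p = p * p * p * 1 := by rw [mul_one]
      _ < p * p * p * p := (Nat.mul_lt_mul_left h3).mpr hp.one_lt
  omega

end ExtraComm

end Cfsg.Agent.Lib.Helper27
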