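import Mathlib
import Cfsg.Agent.Lib.Helper27.SmallZA

set_option autoImplicit false

namespace Cfsg.Agent.Lib.Helper27

open Cfsg Cfsg.FusionSystem Cfsg.Agent.Lib.Helper26

section AbKD

variable {Ω : Type*} [Group Ω] {S : Subgroup Ω}

theorem abk_nonab [Finite S] (p : ℕ) [Fact p.Prime] (hS : IsPGroup p S) (F : FusionSystem S)
    (hF : F.IsSaturated p) (hS1 : S ≠ ⊥) (hcore : F.core = ⊥) :
    ¬ ∀ s ∈ S, ∀ t ∈ S, s * t = t * s := by
  intro hab
  have hnoess : ∀ P : Subgroup Ω, ¬ F.IsEssential p P := by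
    intro P hP
    have hPlt := lt_of_isEssential F hF hP
    have hcen : centralizerIn S P ≤ P := hP.1.2 P (Fusion.isConj_refl F hP.1.1)
    apply not_le_of_gt hPlt
    intro s hs
    apply hcen
    refine ⟨hs, ?_⟩
    show s ∈ Subgroup.centralizer (P : Set Ω)
    rw [Subgroup.mem_centralizer_iff]
    intro y hy
    exact hab y (hP.1.1 hy) s hs
  have hn : F.IsNormal S := by
    apply isNormal_of_forall_essential p hS F hF
    intro P hP
    rcases hP with hPeq | hP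
    · rw [hPeq]
      exact ⟨le_rfl, abh_map_eq _ _ (fun α _ w _ => (α w).2)⟩
    · exact absurd hP (hnoess P)
  have hle : S ≤ F.core := le_sSup hn
  rw [hcore] at hle
  exact hS1 (le_bot_iff.mp hle)

theorem abk_center_inv [Finite S] (F : FusionSystem S) :
    S ⊓ Subgroup.centralizer (S : Set Ω) ≤ S ∧ ∀ α ∈ F.autGroup S,
      ((S ⊓ Subgroup.centralizer (S : Set Ω)).subgroupOf S).map α.toMonoidHom =
        (S ⊓ Subgroup.centralizer (S : Set Ω)).subgroupOf S :=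
  ⟨inf_le_left, abh_map_eq _ _ (fun α _ w hw => abh_center_inv _
    (fun z hz y hy => ((abx_mem_Z).mp hz).2 y hy)
    (fun y hy hyc => (abx_mem_Z).mpr ⟨hy, hyc⟩) α w hw)⟩

theorem abk_exists_ess [Finite S] (p : ℕ) [Fact p.Prime] (hS : IsPGroup p S) (F : FusionSystem S)
    (hF : F.IsSaturated p) (hna : ¬ ∀ s ∈ S, ∀ t ∈ S, s * t = t * s) (hcore : F.core = ⊥) :
    ∃ P : Subgroup Ω, F.IsEssential p P := by
  by_contra hcon
  push Not at hcon
  have hZnormal : F.IsNormal (S ⊓ Subgroup.centralizer (S : Set Ω)) := by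
    apply isNormal_of_forall_essential p hS F hF
    intro P hP
    rcases hP with hPeq | hP
    · rw [hPeq]
      exact abk_center_inv F
    · exact absurd hP (hcon P)
  have hle : S ⊓ Subgroup.centralizer (S : Set Ω) ≤ F.core := le_sSup hZnormal
  rw [hcore] at hle
  exact abi_center_ne_bot p hS hna hle

/-- Odd case: `Z(S) ≤ S'` and `|Z(S)| = p`. -/
theorem abk_odd [Finite S] (p : ℕ) [Fact p.Prime] (hS : IsPGroup p S) (F : FusionSystem S)
    (hF : F.IsSaturated p) (hp2 : p ≠ 2) (hna : ¬ ∀ s ∈ S, ∀ t ∈ S, s * t = t * s)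
    (hZ : (Subgroup.center ↥S).index ≤ p ^ 2) (hcore : F.core = ⊥) :
    S ⊓ Subgroup.centralizer (S : Set Ω) ≤ (commutator ↥S).map S.subtype ∧
    Nat.card ↥(S ⊓ Subgroup.centralizer (S : Set Ω)) = p := by
  have hp : p.Prime := Fact.out
  obtain ⟨P, hP⟩ := abk_exists_ess p hS F hF hna hcore
  obtain ⟨x, hxS, A, hAS, hAab, hidx, hZA, hxA, hPdef, hZ₀⟩ := abk_shape p hS F hF hna hZ P hP
  have hZc : ∀ z ∈ S ⊓ Subgroup.centralizer (S : Set Ω), ∀ s ∈ S, s * z = z * s :=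
    fun z hz s hs => ((abx_mem_Z).mp hz).2 s hs
  have hZfn := abh_fn F (S ⊓ Subgroup.centralizer (S : Set Ω)) inf_le_left hZc
  have hsat := (Cfsg.Agent.S5077.result p hS F).1 hF
  have hZa : F.IsFullyAutomized p (S ⊓ Subgroup.centralizer (S : Set Ω)) := (hsat.1 _ hZfn).2
  have hZr : F.IsReceptive (S ⊓ Subgroup.centralizer (S : Set Ω)) := hsat.2 _ (hsat.1 _ hZfn).1
  have hTinv : ∀ γ ∈ F.autGroup (S ⊓ Subgroup.centralizer (S : Set Ω)),
      ∀ z : ↥(S ⊓ Subgroup.centralizer (S : Set Ω)), (z : Ω) ∈ (commutator ↥S).map S.subtype →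
        ((γ z : ↥(S ⊓ Subgroup.centralizer (S : Set Ω))) : Ω) ∈ (commutator ↥S).map S.subtype :=
    fun γ hγ z hz => abh_comm_inv F _ hZr hZc γ hγ z hz
  obtain ⟨W, hWdef⟩ : ∃ W : Subgroup Ω, W = abhW F (S ⊓ Subgroup.centralizer (S : Set Ω))
      ((commutator ↥S).map S.subtype) := ⟨_, rfl⟩
  have hWZ : W ≤ S ⊓ Subgroup.centralizer (S : Set Ω) := by
    rw [hWdef]
    exact abhW_le F _ _
  have hH : ∀ P' : Subgroup Ω, F.IsEssential p P' →
      S ⊓ Subgroup.centralizer (S : Set Ω) ≤ P' ∧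
      (∀ k ∈ F.autGroup P', ∀ w : ↥P', (w : Ω) ∈ W → ((k w : ↥P') : Ω) ∈ W) ∧
      (W = ⊥ → S ⊓ Subgroup.centralizer (S : Set Ω) ≤ (commutator ↥S).map S.subtype) := by
    intro P' hP'
    obtain ⟨x', hx'S, A', hA'S, hA'ab, hidx', hZA', hx'A', hP'def, -⟩ :=
      abk_shape p hS F hF hna hZ P' hP'
    obtain ⟨e₁, he₁, he₁ne, D, hDZ, ho2, ho3, ho5, h, hh, hh1, hh2, hh3⟩ :=
      abg_struct p hS F hF hp2 A' hA'S hA'ab hidx' hZA' hZ₀ x' hx'S hx'A' P' hP'def hP'
    have hZP' : S ⊓ Subgroup.centralizer (S : Set Ω) ≤ P' := by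
      rw [hP'def]
      exact le_sup_left
    have hWD : W = D := by
      rw [hWdef]
      exact abhW_eq p hS F _ _ hZa hZc hTinv hZ₀ P' hZP'
        hP'.1.1 e₁ he₁ he₁ne D hDZ ho5 h hh hh1 hh2 hh3
    refine ⟨hZP', ?_, ?_⟩
    · rw [hWD]
      exact ho2
    · intro hbot z hz
      obtain ⟨i, hi⟩ := ho3 z hz
      rw [← hWD, hbot, Subgroup.mem_bot] at hi
      have e : z = e₁ ^ i := by
        have e2 : z = (z * (e₁ ^ i)⁻¹) * e₁ ^ i := by group
        rw [e2, hi, one_mul]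
      rw [e]
      exact Subgroup.pow_mem _ (Subgroup.mem_inf.mp he₁).2 i
  have hWn : F.IsNormal W := by
    apply isNormal_of_forall_essential p hS F hF
    intro P' hP'
    rcases hP' with hPeq | hP'
    · rw [hPeq]
      refine ⟨hWZ.trans inf_le_left, abh_map_eq _ _ (fun α hα w hw => ?_)⟩
      rw [hWdef] at hw ⊢
      exact abhW_inv_of_Z F _ _ hTinv S inf_le_left le_rfl α hα (fun z hz => abh_center_inv _
        (fun z hz y hy => ((abx_mem_Z).mp hz).2 y hy)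
        (fun y hy hyc => (abx_mem_Z).mpr ⟨hy, hyc⟩) α z hz) w hw
    · obtain ⟨hZP', hinv, -⟩ := hH P' hP'
      exact ⟨hWZ.trans hZP', abh_map_eq _ _ hinv⟩
  have hWbot : W = ⊥ := by
    have hle : W ≤ F.core := le_sSup hWn
    rw [hcore] at hle
    exact le_bot_iff.mp hle
  have hZS' : S ⊓ Subgroup.centralizer (S : Set Ω) ≤ (commutator ↥S).map S.subtype :=
    (hH P hP).2.2 hWbot
  refine ⟨hZS', ?_⟩
  have e : (S ⊓ Subgroup.centralizer (S : Set Ω)) ⊓ (commutator ↥S).map S.subtype =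
      S ⊓ Subgroup.centralizer (S : Set Ω) := inf_eq_left.mpr hZS'
  rw [e] at hZ₀
  exact hZ₀

end AbKD

end Cfsg.Agent.Lib.Helper27
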