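import Mathlib
import Cfsg.Agent.Lib.Helper27.ExtraEssB
import Cfsg.Agent.Lib.Helper27.SmallZD

set_option autoImplicit false

namespace Cfsg.Agent.Lib.Helper27

open Cfsg Cfsg.FusionSystem Cfsg.Agent.Lib.Helper26
open scoped commutatorElement

section ClassTwoEss

variable {Ω : Type*} [Group Ω] {S : Subgroup Ω}

/-- Abstract core: `E ≤ R ≤ S` with `E` essential, `Z ≤ R` of order `p` central in `R` and
containing the commutators of `R`; if (when `E` is abelian) every element of `E` commutes with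
some element of `R` outside `E`, then `R ≤ E`. -/
theorem class2_ess_le [Finite S] (p : ℕ) [Fact p.Prime] (hS : IsPGroup p S)
    (F : FusionSystem S) (hF : F.IsSaturated p) (E : Subgroup Ω) (hE : F.IsEssential p E)
    (R : Subgroup Ω) (hRS : R ≤ S) (hER : E ≤ R) (Z : Subgroup Ω) (hZR : Z ≤ R)
    (hZcard : Nat.card Z = p)
    (hZcomm : ∀ z ∈ Z, ∀ a ∈ R, a * z = z * a)
    (hZc : ∀ a ∈ R, ∀ b ∈ R, a * b * a⁻¹ * b⁻¹ ∈ Z)
    (hex0 : (∀ a ∈ E, ∀ b ∈ E, a * b = b * a) →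
      ∀ w ∈ E, ∃ q ∈ R, q ∉ E ∧ w * q = q * w) : R ≤ E := by
  have hp : p.Prime := Fact.out
  have hES : E ≤ S := hE.1.1
  have hEfin : Finite E := finite_of_le hES
  have hEp : IsPGroup p E := hS.to_le hES
  have hcen : centralizerIn S E ≤ E := hE.1.2 E (Fusion.isConj_refl F hES)
  have hZE : Z ≤ E := by
    intro z hz
    apply hcen
    refine ⟨hRS (hZR hz), ?_⟩
    show z ∈ Subgroup.centralizer (E : Set Ω)
    rw [Subgroup.mem_centralizer_iff]
    intro e he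
    exact hZcomm z hz e (hER he)
  -- `Q` normalizes `E`
  have hEconj : ∀ a ∈ R, ∀ e ∈ E, a * e * a⁻¹ ∈ E := by
    intro a ha e he
    have h1 := hZE (hZc a ha e (hER he))
    have e1 : a * e * a⁻¹ = (a * e * a⁻¹ * e⁻¹) * e := by group
    rw [e1]
    exact E.mul_mem h1 he
  have hEn : ∀ a ∈ R, a ∈ Subgroup.normalizer (E : Set Ω) := by
    intro a ha
    rw [Subgroup.mem_normalizer_iff]
    intro e
    constructor
    · exact hEconj a ha e
    · intro h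
      have h1 := hEconj a⁻¹ (R.inv_mem ha) _ h
      have e1 : a⁻¹ * (a * e * a⁻¹) * a⁻¹⁻¹ = e := by group
      rw [e1] at h1
      exact h1
  -- a generator of `Z`
  have hgen : ∀ c ∈ Z, c ≠ 1 → ∀ z ∈ Z, ∃ n : ℕ, z = c ^ n := by
    intro c hc hc1 z hz
    have h1 := mem_powers_of_prime_card (G := ↥Z) hZcard (g := ⟨c, hc⟩) (g' := ⟨z, hz⟩)
      (fun h => hc1 (congrArg Subtype.val h))
    obtain ⟨n, hn⟩ := h1
    refine ⟨n, ?_⟩
    have h2 := congrArg (fun t : Z => (t : Ω)) hn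
    exact h2.symm
  obtain ⟨z₀, hz₀, hz₀1⟩ : ∃ z₀ ∈ Z, z₀ ≠ 1 := by
    by_contra hcon
    push Not at hcon
    have hbot : Z = ⊥ := by
      rw [eq_bot_iff]
      intro z hz
      rw [Subgroup.mem_bot]
      exact hcon z hz
    rw [hbot, Subgroup.card_bot] at hZcard
    exact hp.one_lt.ne hZcard
  by_contra hne
  have hQnE : ∃ a ∈ R, a ∉ E := by
    by_contra hcon
    push Not at hcon
    exact hne hcon
  -- main claim: `Z` is invariant
  have hA : ∀ g ∈ F.autGroup E, ((g ⟨z₀, hZE hz₀⟩ : E) : Ω) ∈ Z := by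
    by_contra hcon
    push Not at hcon
    obtain ⟨g₀, hg₀, hg₀z⟩ := hcon
    -- `E` is abelian
    have hab : ∀ a ∈ E, ∀ b ∈ E, a * b = b * a := by
      by_contra hnab
      push Not at hnab
      obtain ⟨a, ha, b, hb, hab⟩ := hnab
      have hc : a * b * a⁻¹ * b⁻¹ ∈ Z := hZc a (hER ha) b (hER hb)
      have hc1 : a * b * a⁻¹ * b⁻¹ ≠ 1 := by
        intro h
        apply hab
        calc a * b = (a * b * a⁻¹ * b⁻¹) * (b * a) := by group
          _ = b * a := by rw [h, one_mul]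
      obtain ⟨n, hn⟩ := hgen _ hc hc1 z₀ hz₀
      apply hg₀z
      have e1 : (⟨z₀, hZE hz₀⟩ : E) =
          ((⟨a, ha⟩ : E) * ⟨b, hb⟩ * (⟨a, ha⟩ : E)⁻¹ * (⟨b, hb⟩ : E)⁻¹) ^ n := by
        apply Subtype.ext
        exact hn
      rw [e1, map_pow, map_mul, map_mul, map_mul, map_inv, map_inv]
      exact Z.pow_mem (hZc _ (hER (g₀ ⟨a, ha⟩).2) _ (hER (g₀ ⟨b, hb⟩).2)) n
    obtain ⟨M, hMtop, hM⟩ := essential_strEmb p hS F hE
    have hex := hex0 hab
    -- conjugation automorphisms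
    have hconjAut : ∀ q ∈ R, q ∉ E → ∃ x : MulAut E, x ∈ autInducedBy S E ∧ x ∉ Inn E ∧
        ∀ e : E, ((x e : E) : Ω) = q * e * q⁻¹ := by
      intro q hq hqE
      obtain ⟨x, hx⟩ : ∃ x : MulAut E, ∀ e : E, ((x e : E) : Ω) = q * e * q⁻¹ :=
        ⟨E.normalizerMonoidHom ⟨q, hEn q hq⟩, fun e => rfl⟩
      refine ⟨x, Fusion.mem_autInducedBy_iff.2 ⟨q, hRS hq, hx⟩, ?_, hx⟩
      rintro ⟨y, hy⟩
      apply hqE
      refine mem_of_conj_eq_inner hES hcen (hRS hq) y (fun e => ?_)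
      rw [← hx e, ← hy]
      rfl
    have hkey : ∀ g ∈ F.autGroup E, ((g ⟨z₀, hZE hz₀⟩ : E) : Ω) ∉ Z → g ∈ M := by
      intro g hg hgz
      have hginv : g⁻¹ ∈ F.autGroup E := inv_mem hg
      obtain ⟨q₁, hq₁, hq₁E, hq₁w⟩ := hex _ (g ⟨z₀, hZE hz₀⟩).2
      obtain ⟨q₂, hq₂, hq₂E, hq₂w⟩ := hex _ (g⁻¹ ⟨z₀, hZE hz₀⟩).2
      obtain ⟨x, hxS, hxI, hx⟩ := hconjAut q₁ hq₁ hq₁E
      obtain ⟨y, hyS, hyI, hy⟩ := hconjAut q₂ hq₂ hq₂E
      obtain ⟨D, hDdef⟩ : ∃ D : Subgroup E,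
          D = Z.subgroupOf E ⊔ (Z.subgroupOf E).map g.toMonoidHom := ⟨_, rfl⟩
      have hZD : Z.subgroupOf E ≤ D := by
        rw [hDdef]
        exact le_sup_left
      have hgZD : ∀ d ∈ Z.subgroupOf E, g d ∈ D := by
        intro d hd
        rw [hDdef]
        exact Subgroup.mem_sup_right ⟨d, hd, rfl⟩
      obtain ⟨K, hKp, hK⟩ := exists_stabChain p hEp D
      -- every element of `Z` (in `E`) is a power of `z₀`
      have hpow : ∀ d ∈ Z.subgroupOf E, ∃ n : ℕ, d = (⟨z₀, hZE hz₀⟩ : E) ^ n := by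
        intro d hd
        obtain ⟨n, hn⟩ := hgen z₀ hz₀ hz₀1 d (Subgroup.mem_subgroupOf.mp hd)
        exact ⟨n, Subtype.ext hn⟩
      -- fixed points
      have hfix : ∀ k : MulAut E, (∀ d ∈ Z.subgroupOf E, k d = d) →
          (∀ d ∈ Z.subgroupOf E, k (g d) = g d) → ∀ d ∈ D, k d = d := by
        intro k h1 h2 d hd
        have hle : D ≤ k.toMonoidHom.eqLocus (MonoidHom.id E) := by
          rw [hDdef]
          apply sup_le
          · intro d hd
            exact h1 d hd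
          · rintro _ ⟨d, hd, rfl⟩
            exact h2 d hd
        exact hle hd
      have hxZ : ∀ d ∈ Z.subgroupOf E, x d = d := by
        intro d hd
        apply Subtype.ext
        rw [hx, hZcomm _ (Subgroup.mem_subgroupOf.mp hd) q₁ hq₁, mul_inv_cancel_right]
      have hyZ : ∀ d ∈ Z.subgroupOf E, y d = d := by
        intro d hd
        apply Subtype.ext
        rw [hy, hZcomm _ (Subgroup.mem_subgroupOf.mp hd) q₂ hq₂, mul_inv_cancel_right]
      have hxg : x (g ⟨z₀, hZE hz₀⟩) = g ⟨z₀, hZE hz₀⟩ := by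
        apply Subtype.ext
        rw [hx, ← hq₁w, mul_inv_cancel_right]
      have hyg : y (g⁻¹ ⟨z₀, hZE hz₀⟩) = g⁻¹ ⟨z₀, hZE hz₀⟩ := by
        apply Subtype.ext
        rw [hy, ← hq₂w, mul_inv_cancel_right]
      have hxcomm : ∀ e : E, e⁻¹ * x e ∈ Z.subgroupOf E := by
        intro e
        rw [Subgroup.mem_subgroupOf]
        show (e : Ω)⁻¹ * ((x e : E) : Ω) ∈ Z
        rw [hx]
        have h1 := hZc (e : Ω)⁻¹ (R.inv_mem (hER e.2)) q₁ hq₁
        have e1 : (e : Ω)⁻¹ * q₁ * ((e : Ω)⁻¹)⁻¹ * q₁⁻¹ = (e : Ω)⁻¹ * (q₁ * e * q₁⁻¹) := by group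
        rw [e1] at h1
        exact h1
      have hycomm : ∀ e : E, e⁻¹ * y e ∈ Z.subgroupOf E := by
        intro e
        rw [Subgroup.mem_subgroupOf]
        show (e : Ω)⁻¹ * ((y e : E) : Ω) ∈ Z
        rw [hy]
        have h1 := hZc (e : Ω)⁻¹ (R.inv_mem (hER e.2)) q₂ hq₂
        have e1 : (e : Ω)⁻¹ * q₂ * ((e : Ω)⁻¹)⁻¹ * q₂⁻¹ = (e : Ω)⁻¹ * (q₂ * e * q₂⁻¹) := by group
        rw [e1] at h1
        exact h1
      have hxK : x ∈ K := by
        rw [hK]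
        refine ⟨hfix x hxZ ?_, fun e => hZD (hxcomm e)⟩
        intro d hd
        obtain ⟨n, rfl⟩ := hpow d hd
        rw [map_pow, map_pow, hxg]
      have hgyK : g * y * g⁻¹ ∈ K := by
        rw [hK]
        refine ⟨hfix _ ?_ ?_, fun e => ?_⟩
        · intro d hd
          obtain ⟨n, rfl⟩ := hpow d hd
          show g (y (g⁻¹ (⟨z₀, hZE hz₀⟩ ^ n))) = _
          rw [map_pow, map_pow, hyg, ← map_pow, MulAut.apply_inv_self]
        · intro d hd
          show g (y (g⁻¹ (g d))) = g d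
          rw [MulAut.inv_apply_self, hyZ d hd]
        · show e⁻¹ * g (y (g⁻¹ e)) ∈ D
          have h1 := hgZD _ (hycomm (g⁻¹ e))
          rw [map_mul, map_inv, MulAut.apply_inv_self] at h1
          exact h1
      exact hM g hg x hxS hxI y hyS hyI ⟨K, hKp, hxK, hgyK⟩
    apply hMtop
    intro s hs
    by_cases hsz : ((s ⟨z₀, hZE hz₀⟩ : E) : Ω) ∈ Z
    · have hg₀M := hkey g₀ hg₀ hg₀z
      have hs1 : ((s ⟨z₀, hZE hz₀⟩ : E) : Ω) ≠ 1 := by
        intro h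
        apply hz₀1
        have h2 : s ⟨z₀, hZE hz₀⟩ = 1 := Subtype.ext h
        have h3 : s ⟨z₀, hZE hz₀⟩ = s 1 := by rw [h2, map_one]
        exact congrArg Subtype.val (s.injective h3)
      have hgs : g₀ * s ∈ M := by
        apply hkey _ (mul_mem hg₀ hs)
        intro hcon
        apply hg₀z
        obtain ⟨n, hn⟩ := hgen _ hsz hs1 z₀ hz₀
        have e1 : (⟨z₀, hZE hz₀⟩ : E) = (s ⟨z₀, hZE hz₀⟩) ^ n := Subtype.ext hn
        rw [e1, map_pow]
        exact Z.pow_mem hcon n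
      have e2 : s = g₀⁻¹ * (g₀ * s) := by group
      rw [e2]
      exact M.mul_mem (M.inv_mem hg₀M) hgs
    · exact hkey s hs hsz
  -- conclusion
  obtain ⟨a, haQ, haE⟩ := hQnE
  apply haE
  have hD : ∀ g ∈ F.autGroup E, ∀ d ∈ Z.subgroupOf E, g d ∈ Z.subgroupOf E := by
    intro g hg d hd
    obtain ⟨n, hn⟩ := hgen z₀ hz₀ hz₀1 d (Subgroup.mem_subgroupOf.mp hd)
    have e1 : d = (⟨z₀, hZE hz₀⟩ : E) ^ n := Subtype.ext hn
    rw [e1, map_pow, Subgroup.mem_subgroupOf]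
    exact Z.pow_mem (hA g hg) n
  refine essential_mem_of_stab p hS F hF hE (Z.subgroupOf E) hD (hRS haQ) (hEn a haQ) ?_ ?_
  · intro d hd
    rw [hZcomm _ (Subgroup.mem_subgroupOf.mp hd) a haQ, mul_inv_cancel_right]
  · intro e
    have h1 := hZc (e : Ω)⁻¹ (R.inv_mem (hER e.2)) a haQ
    have e1 : (e : Ω)⁻¹ * a * ((e : Ω)⁻¹)⁻¹ * a⁻¹ = (e : Ω)⁻¹ * (a * e * a⁻¹) := by group
    rw [e1] at h1
    exact ⟨⟨_, hZE h1⟩, Subgroup.mem_subgroupOf.mpr h1, rfl⟩


end ClassTwoEss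

end Cfsg.Agent.Lib.Helper27
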