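import Mathlib
import Cfsg.Agent.Lib.Helper27.ExtraEssC
import Cfsg.Agent.Lib.Helper27.AbIndexPB
import Cfsg.Agent.Lib.Helper27.EssGen

set_option autoImplicit false

namespace Cfsg.Agent.Lib.Helper27

open Cfsg Cfsg.FusionSystem Cfsg.Agent.Lib.Helper26
open scoped commutatorElement

section NormalCentral

/-- A normal subgroup of order `p` of a finite `p`-group is central. -/
theorem normal_central_of_card_prime {G : Type*} [Group G] [Finite G] {p : ℕ} [Fact p.Prime]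
    (hG : IsPGroup p G) (N : Subgroup G) [N.Normal] (hN : Nat.card N = p) :
    ∀ n ∈ N, ∀ g : G, g * n = n * g := by
  let _ : MulAction G N := MulAction.compHom N (MulAut.conjNormal (H := N))
  have hcard : p ∣ Nat.card N := by rw [hN]
  have hfix : (1 : N) ∈ MulAction.fixedPoints G N := by
    intro g
    show MulAut.conjNormal g (1 : N) = 1
    exact map_one _
  obtain ⟨b, hb, hb1⟩ := hG.exists_fixed_point_of_prime_dvd_card_of_fixed_point N hcard hfix
  have hbc : ∀ g : G, g * (b : G) = (b : G) * g := by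
    intro g
    have h1 : MulAut.conjNormal g b = b := hb g
    have h2 := congrArg (fun z : N => (z : G)) h1
    simp only [MulAut.conjNormal_apply] at h2
    calc g * (b : G) = (g * (b : G) * g⁻¹) * g := by group
      _ = (b : G) * g := by rw [h2]
  intro n hn g
  have h1 := mem_powers_of_prime_card (G := ↥N) hN (g := b) (g' := ⟨n, hn⟩) (fun h => hb1 h.symm)
  obtain ⟨k, hk⟩ := h1
  have h2 : n = (b : G) ^ k := (congrArg (fun t : N => (t : G)) hk).symm
  rw [h2]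
  exact ((show Commute g (b : G) from hbc g).pow_right k).eq

end NormalCentral

section ExtraCenter

variable {Ω : Type*} [Group Ω] {S : Subgroup Ω}

/-- If `S` has an extraspecial subgroup `Q` of index `p` (`p` odd) and `O_p(F) = 1`, then
`Z(S) = Z(Q)`. -/
theorem extra_center_eq [Finite S] (p : ℕ) [Fact p.Prime] (hp2 : p ≠ 2) (hS : IsPGroup p S)
    (Q : Subgroup Ω) (hQS : Q ≤ S) (hQ : Cfsg.IsExtraspecial p ↥Q)
    (hQi : (Q.subgroupOf S).index = p)
    (F : FusionSystem S) (hF : F.IsSaturated p) (hO : F.core = ⊥) :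
    S ⊓ Subgroup.centralizer (S : Set Ω) = Q ⊓ Subgroup.centralizer (Q : Set Ω) := by
  have hp : p.Prime := Fact.out
  have hQfin : Finite Q := finite_of_le hQS
  obtain ⟨Z, hZdef⟩ : ∃ Z : Subgroup Ω, Z = Q ⊓ Subgroup.centralizer (Q : Set Ω) := ⟨_, rfl⟩
  rw [← hZdef]
  have hZQ : Z ≤ Q := by
    rw [hZdef]
    exact inf_le_left
  have hZmem : ∀ z : Ω, z ∈ Z ↔ z ∈ Q ∧ ∀ a ∈ Q, a * z = z * a := by
    intro z
    rw [hZdef]
    constructor
    · rintro ⟨h1, h2⟩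
      exact ⟨h1, fun a ha => h2 a ha⟩
    · rintro ⟨h1, h2⟩
      exact ⟨h1, fun a ha => h2 a ha⟩
  have hZcQ : ∀ a ∈ Q, ∀ b ∈ Q, a * b * a⁻¹ * b⁻¹ ∈ Z := by
    intro a ha b hb
    have h1 : ⁅(⟨a, ha⟩ : Q), ⟨b, hb⟩⁆ ∈ commutator Q :=
      Subgroup.commutator_mem_commutator (Subgroup.mem_top _) (Subgroup.mem_top _)
    rw [hQ.1.2.2, abk_mem_center] at h1
    rw [hZdef]
    exact h1
  have hZcard : Nat.card Z = p := by
    rw [← hQ.2]
    apply Nat.card_congr
    have hz1 : ∀ z : Ω, z ∈ Z → z ∈ Q ⊓ Subgroup.centralizer (Q : Set Ω) := by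
      intro z hz
      rw [← hZdef]
      exact hz
    have hz2 : ∀ z : Ω, z ∈ Q ⊓ Subgroup.centralizer (Q : Set Ω) → z ∈ Z := by
      intro z hz
      rw [hZdef]
      exact hz
    refine ⟨fun z => ⟨⟨(z : Ω), hZQ z.2⟩, (abk_mem_center _).mpr (hz1 _ z.2)⟩,
      fun c => ⟨((c : Q) : Ω), hz2 _ ((abk_mem_center _).mp c.2)⟩, fun z => rfl, fun c => rfl⟩
  -- `Q` is normal in `S`
  have hQn : (Q.subgroupOf S).Normal := normal_of_index_prime_pgroup hS _ hQi
  have hQconj : ∀ s ∈ S, ∀ q ∈ Q, s * q * s⁻¹ ∈ Q := by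
    intro s hs q hq
    have h1 := hQn.conj_mem ⟨q, hQS hq⟩ (Subgroup.mem_subgroupOf.mpr hq) ⟨s, hs⟩
    exact Subgroup.mem_subgroupOf.mp h1
  -- `Z` is normal in `S`
  have hZconj : ∀ s ∈ S, ∀ z ∈ Z, s * z * s⁻¹ ∈ Z := by
    intro s hs z hz
    obtain ⟨hzQ, hzc⟩ := (hZmem z).mp hz
    rw [hZmem]
    refine ⟨hQconj s hs z hzQ, fun a ha => ?_⟩
    have h1 := hzc (s⁻¹ * a * s⁻¹⁻¹) (hQconj s⁻¹ (S.inv_mem hs) a ha)
    calc a * (s * z * s⁻¹) = s * ((s⁻¹ * a * s⁻¹⁻¹) * z) * s⁻¹ := by group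
      _ = s * (z * (s⁻¹ * a * s⁻¹⁻¹)) * s⁻¹ := by rw [h1]
      _ = s * z * s⁻¹ * a := by group
  have hZnS : (Z.subgroupOf S).Normal := ⟨fun n hn g => by
    rw [Subgroup.mem_subgroupOf] at hn ⊢
    exact hZconj g g.2 n hn⟩
  have hZScard : Nat.card (Z.subgroupOf S) = p := by
    rw [Nat.card_congr (Subgroup.subgroupOfEquivOfLe (hZQ.trans hQS)).toEquiv]
    exact hZcard
  have hZS : ∀ z ∈ Z, ∀ s ∈ S, s * z = z * s := by
    intro z hz s hs
    have h1 := normal_central_of_card_prime hS (Z.subgroupOf S) hZScard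
      ⟨z, hZQ.trans hQS hz⟩ (Subgroup.mem_subgroupOf.mpr hz) ⟨s, hs⟩
    exact congrArg Subtype.val h1
  have hZle : Z ≤ S ⊓ Subgroup.centralizer (S : Set Ω) := by
    intro z hz
    exact ⟨hQS (hZQ hz), fun s hs => hZS z hz s hs⟩
  apply le_antisymm _ hZle
  intro z hz
  by_contra hzZ
  have hzS : z ∈ S := hz.1
  have hzc : ∀ s ∈ S, s * z = z * s := fun s hs => hz.2 s hs
  have hzQ : z ∉ Q := fun h => hzZ ((hZmem z).mpr ⟨h, fun a ha => hzc a (hQS ha)⟩)
  -- decomposition of `S`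
  have hdec : ∀ s ∈ S, ∃ i : ℕ, s * (z ^ i)⁻¹ ∈ Q := by
    intro s hs
    obtain ⟨i, hi⟩ := gen_of_index_prime (Q.subgroupOf S) hQi ⟨z, hzS⟩
      (fun h => hzQ (Subgroup.mem_subgroupOf.mp h)) ⟨s, hs⟩
    exact ⟨i, Subgroup.mem_subgroupOf.mp hi⟩
  have hzi : ∀ i : ℕ, ∀ s ∈ S, (z ^ i) * s = s * (z ^ i) := by
    intro i s hs
    exact ((show Commute s z from hzc s hs).pow_right i).eq.symm
  have key : ∀ (u c x : Ω), c * x = x * c → (u * c) * x * (u * c)⁻¹ = u * x * u⁻¹ := by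
    intro u c x h
    calc (u * c) * x * (u * c)⁻¹ = u * (c * x * c⁻¹) * u⁻¹ := by group
      _ = u * x * u⁻¹ := by rw [h, mul_inv_cancel_right]
  -- commutators of `S` lie in `Z`
  have hZcS : ∀ a ∈ S, ∀ b ∈ S, a * b * a⁻¹ * b⁻¹ ∈ Z := by
    intro a ha b hb
    obtain ⟨i, hi⟩ := hdec a ha
    obtain ⟨j, hj⟩ := hdec b hb
    have e1 : a * b * a⁻¹ = (a * (z ^ i)⁻¹) * b * (a * (z ^ i)⁻¹)⁻¹ := by
      have h := key (a * (z ^ i)⁻¹) (z ^ i) b (hzi i b hb)
      rw [inv_mul_cancel_right] at h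
      exact h
    have e2 : b * (a * (z ^ i)⁻¹) * b⁻¹ =
        (b * (z ^ j)⁻¹) * (a * (z ^ i)⁻¹) * (b * (z ^ j)⁻¹)⁻¹ := by
      have h := key (b * (z ^ j)⁻¹) (z ^ j) (a * (z ^ i)⁻¹) (hzi j _ (hQS hi))
      rw [inv_mul_cancel_right] at h
      exact h
    have e3 : a * b * a⁻¹ * b⁻¹ =
        ((b * (a * (z ^ i)⁻¹) * b⁻¹) * (a * (z ^ i)⁻¹)⁻¹)⁻¹ := by
      rw [e1]
      group
    rw [e3, e2]
    exact Z.inv_mem (hZcQ _ hj _ hi)
  have hna : ¬ ∀ s ∈ S, ∀ t ∈ S, s * t = t * s := by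
    intro hab
    have hcbot : commutator Q = ⊥ := by
      rw [commutator_def, Subgroup.commutator_eq_bot_iff_le_centralizer]
      intro a _
      rw [Subgroup.mem_centralizer_iff]
      intro b _
      exact Subtype.ext (hab b (hQS b.2) a (hQS a.2))
    have h1 := hQ.2
    rw [← hQ.1.2.2, hcbot, Subgroup.card_bot] at h1
    exact hp.one_lt.ne h1
  have hcardQ : Nat.card (Q.subgroupOf S) = Nat.card Q :=
    Nat.card_congr (Subgroup.subgroupOfEquivOfLe hQS).toEquiv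
  have hcardS : Nat.card Q * p = Nat.card S := by
    have h1 := Subgroup.card_mul_index (Q.subgroupOf S)
    rw [hQi, hcardQ] at h1
    exact h1
  have hZSfin : Finite ↥(S ⊓ Subgroup.centralizer (S : Set Ω)) := finite_of_le inf_le_left
  have hZlt : p < Nat.card ↥(S ⊓ Subgroup.centralizer (S : Set Ω)) := by
    by_contra hcon
    push Not at hcon
    have heq := Subgroup.eq_of_le_of_card_ge hZle (by rw [hZcard]; exact hcon)
    apply hzZ
    rw [heq]
    exact hz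
  by_cases hbig : p ^ 4 ≤ Nat.card Q
  · obtain ⟨E, hE⟩ := abk_exists_ess p hS F hF hna hO
    have hElt := lt_of_isEssential F hF hE
    have hES : E ≤ S := hE.1.1
    have hcen : centralizerIn S E ≤ E := hE.1.2 E (Fusion.isConj_refl F hES)
    have hzE : z ∈ E := hcen ⟨hzS, fun e he => hzc e (hES he)⟩
    apply not_le_of_gt hElt
    apply class2_ess_le p hS F hF E hE S le_rfl hES Z (hZQ.trans hQS) hZcard
      (fun z' hz' a ha => hZS z' hz' a ha) hZcS
    intro hab w hw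
    obtain ⟨i, hi⟩ := hdec w (hES hw)
    have hcommQ : ∀ a b : Q, a * b * a⁻¹ * b⁻¹ ∈ Subgroup.center Q := by
      intro a b
      rw [abk_mem_center, ← hZdef]
      exact hZcQ a a.2 b b.2
    obtain ⟨q, hqA, hqw⟩ := extra_exists_comm p hcommQ hQ.2 hbig ((E ⊓ Q).subgroupOf Q)
      (fun a ha b hb => Subtype.ext (hab a (Subgroup.mem_subgroupOf.mp ha).1 b
        (Subgroup.mem_subgroupOf.mp hb).1))
      (fun htop => by
        apply not_le_of_gt hElt
        intro s hs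
        obtain ⟨j, hj⟩ := hdec s hs
        have h1 : (⟨s * (z ^ j)⁻¹, hj⟩ : Q) ∈ (E ⊓ Q).subgroupOf Q := by
          rw [htop]
          exact Subgroup.mem_top _
        have h2 : s * (z ^ j)⁻¹ ∈ E := (Subgroup.mem_subgroupOf.mp h1).1
        have e : s = (s * (z ^ j)⁻¹) * z ^ j := by group
        rw [e]
        exact E.mul_mem h2 (E.pow_mem hzE j)) ⟨w * (z ^ i)⁻¹, hi⟩
    refine ⟨q, hQS q.2, fun h => hqA (Subgroup.mem_subgroupOf.mpr ⟨h, q.2⟩), ?_⟩
    have h3 : (w * (z ^ i)⁻¹) * (q : Ω) = (q : Ω) * (w * (z ^ i)⁻¹) := congrArg Subtype.val hqw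
    have h4 := hzi i q (hQS q.2)
    calc w * (q : Ω) = (w * (z ^ i)⁻¹) * (z ^ i * q) := by group
      _ = (w * (z ^ i)⁻¹) * (q * z ^ i) := by rw [h4]
      _ = ((w * (z ^ i)⁻¹) * q) * z ^ i := by group
      _ = (q * (w * (z ^ i)⁻¹)) * z ^ i := by rw [h3]
      _ = q * w := by group
  · obtain ⟨k, hk⟩ := IsPGroup.iff_card.mp (hS.to_le hQS)
    have hk3 : k ≤ 3 := by
      by_contra h
      push Not at h
      apply hbig
      rw [hk]
      exact Nat.pow_le_pow_right hp.pos h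
    have hQ3 : Nat.card Q ≤ p ^ 3 := by
      rw [hk]
      exact Nat.pow_le_pow_right hp.pos hk3
    have hS4 : Nat.card S ≤ p ^ 4 := by
      rw [← hcardS]
      calc Nat.card Q * p ≤ p ^ 3 * p := Nat.mul_le_mul_right p hQ3
        _ = p ^ 4 := by ring
    have hcZ : Nat.card (Subgroup.center ↥S) =
        Nat.card ↥(S ⊓ Subgroup.centralizer (S : Set Ω)) :=
      Nat.card_congr ⟨fun c => ⟨((c : S) : Ω), (abk_mem_center _).mp c.2⟩,
        fun t => ⟨⟨(t : Ω), t.2.1⟩, (abk_mem_center _).mpr t.2⟩, fun _ => rfl, fun _ => rfl⟩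
    obtain ⟨m, hm⟩ := IsPGroup.iff_card.mp
      (hS.to_le (inf_le_left : S ⊓ Subgroup.centralizer (S : Set Ω) ≤ S))
    have hm2 : 2 ≤ m := by
      by_contra h
      push Not at h
      have h1 : p ^ m ≤ p ^ 1 := Nat.pow_le_pow_right hp.pos (by omega)
      rw [pow_one, ← hm] at h1
      omega
    have hZS2 : p ^ 2 ≤ Nat.card (Subgroup.center ↥S) := by
      rw [hcZ, hm]
      exact Nat.pow_le_pow_right hp.pos hm2
    have h5 := Subgroup.index_mul_card (Subgroup.center ↥S)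
    have h6 : (Subgroup.center ↥S).index * p ^ 2 ≤ p ^ 2 * p ^ 2 := by
      calc (Subgroup.center ↥S).index * p ^ 2
          ≤ (Subgroup.center ↥S).index * Nat.card (Subgroup.center ↥S) :=
            Nat.mul_le_mul_left _ hZS2
        _ = Nat.card S := h5
        _ ≤ p ^ 4 := hS4
        _ = p ^ 2 * p ^ 2 := by ring
    have hZidx : (Subgroup.center ↥S).index ≤ p ^ 2 :=
      Nat.le_of_mul_le_mul_right h6 (pow_pos hp.pos 2)
    have h1 := (abk_odd p hS F hF hp2 hna hZidx hO).2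
    omega

end ExtraCenter

end Cfsg.Agent.Lib.Helper27
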