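import Mathlib
import Cfsg.Prelude.Def_FusionSystem
import Cfsg.Agent.Lib.Helper27.Alperin
import Cfsg.Agent.Lib.Helper27.Induct
import Cfsg.Agent.Lib.Helper27.InnerSys
import Cfsg.Agent.S5077

set_option autoImplicit false

namespace Cfsg.Agent.Lib.Helper27

open Cfsg Cfsg.FusionSystem Cfsg.Agent.Lib.Helper26

section Pure

variable {P : Type*} [Group P]

/-- The commutator map `x ↦ x⁻¹ α(x)`. -/
def commMap (α : MulAut P) (x : P) : P := x⁻¹ * α x

theorem commMap_apply (α : MulAut P) (x : P) : commMap α (α x) = α (commMap α x) := by
  unfold commMap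
  rw [map_mul, map_inv]

theorem commMap_pow_apply (α : MulAut P) (i : ℕ) (x : P) :
    commMap α ((α ^ i) x) = (α ^ i) (commMap α x) := by
  induction i generalizing x with
  | zero => rfl
  | succ i ihi =>
    rw [pow_succ, MulAut.mul_apply, MulAut.mul_apply, ihi, commMap_apply]

theorem commMap_iter_pow (α : MulAut P) (k i : ℕ) (x : P) :
    (commMap α)^[k] ((α ^ i) x) = (α ^ i) ((commMap α)^[k] x) := by
  induction k generalizing x with
  | zero => rfl
  | succ k ih =>
    rw [Function.iterate_succ_apply, Function.iterate_succ_apply, ← ih, commMap_pow_apply]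

/-- The partial products `∏_{i<j} α^i(y)`. -/
def partProd (α : MulAut P) (y : P) : ℕ → P
  | 0 => 1
  | j + 1 => partProd α y j * (α ^ j) y

theorem pow_apply_eq_partProd (α : MulAut P) (x : P) (j : ℕ) :
    (α ^ j) x = x * partProd α (commMap α x) j := by
  induction j with
  | zero => simp [partProd]
  | succ j ih =>
    have h1 : α x = x * commMap α x := by unfold commMap; group
    rw [pow_succ, MulAut.mul_apply, h1, map_mul, ih]
    show _ = x * (partProd α (commMap α x) j * (α ^ j) (commMap α x))
    rw [mul_assoc]

/-- If the `k`-fold iterated commutator map of `α` is trivial at `x`, then `α ^ (N ^ k)` fixes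
`x`, where `N` is the order of the (finite) group. -/
theorem pow_fix_of_commMap_iter [Finite P] (α : MulAut P) (k : ℕ) :
    ∀ x : P, (commMap α)^[k] x = 1 → (α ^ (Nat.card P ^ k)) x = x := by
  induction k with
  | zero =>
    intro x hx
    have : x = 1 := hx
    rw [this, map_one]
  | succ k ih =>
    intro x hx
    rw [Function.iterate_succ_apply] at hx
    have hfixW : ∀ j : ℕ, (α ^ (Nat.card P ^ k)) (partProd α (commMap α x) j) =
        partProd α (commMap α x) j := by
      intro j
      induction j with
      | zero => simp [partProd]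
      | succ j ihj =>
        show (α ^ (Nat.card P ^ k)) (partProd α (commMap α x) j * (α ^ j) (commMap α x)) = _
        rw [map_mul, ihj]
        congr 1
        apply ih
        rw [commMap_iter_pow, hx, map_one]
    have hγ : (α ^ (Nat.card P ^ k)) x = x * partProd α (commMap α x) (Nat.card P ^ k) :=
      pow_apply_eq_partProd α x _
    have hpow : ∀ m : ℕ, ((α ^ (Nat.card P ^ k)) ^ m) x =
        x * partProd α (commMap α x) (Nat.card P ^ k) ^ m := by
      intro m
      induction m with
      | zero => simp
      | succ m ihm =>
        have hfixm : ((α ^ (Nat.card P ^ k)) ^ m) (partProd α (commMap α x) (Nat.card P ^ k)) =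
            partProd α (commMap α x) (Nat.card P ^ k) := by
          clear ihm
          induction m with
          | zero => rfl
          | succ m ihm' =>
            rw [pow_succ, MulAut.mul_apply, hfixW, ihm']
        rw [pow_succ, MulAut.mul_apply, hγ, map_mul, ihm, hfixm, pow_succ, mul_assoc]
    rw [pow_succ, pow_mul, hpow, pow_card_eq_one', mul_one]

end Pure

variable {Ω : Type*} [Group Ω] {S : Subgroup Ω}

/-- A saturated fusion system all of whose automizers are `p`-groups is the inner system. -/
theorem eq_inner_of_isPGroup_autGroup [Finite S] (p : ℕ) [Fact p.Prime] (hS : IsPGroup p S)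
    (F : FusionSystem S) (hF : F.IsSaturated p)
    (h : ∀ P : Subgroup Ω, P ≤ S → IsPGroup p (F.autGroup P)) :
    ∀ P : Subgroup Ω, F.Hom P = (innerFusionSystem S).Hom P := by
  have key : F ≤ innerFusionSystem S := by
    apply alperin p hS F hF
    intro P hP
    have hPa : F.IsFullyAutomized p P := by
      rcases hP with rfl | hP
      · exact (top_automized_receptive p F hF).1
      · exact (((Cfsg.Agent.S5077.result p hS F).1 hF).1 P hP.2.1).2
    obtain ⟨hPS, R, hR⟩ := hPa
    rw [innerFS_autGroup S hPS]
    have htop : (⊤ : Subgroup (F.autGroup P)) = R :=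
      R.3 ((h P hPS).to_subgroup ⊤) le_top
    rw [hR] at htop
    exact Subgroup.subgroupOf_eq_top.mp htop.symm
  intro P
  exact Set.Subset.antisymm (key P) (innerFS_subsystem F le_rfl P)

end Cfsg.Agent.Lib.Helper27
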