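import Mathlib
import Cfsg.Prelude.Def_FusionSystem
import Cfsg.Agent.Lib.Helper27.AutSys
import Cfsg.Agent.Lib.Helper27.IterComm
import Cfsg.Agent.Lib.Helper27.InnerSys
import Cfsg.Agent.Lib.Helper27.NormalCrit
import Cfsg.Agent.Lib.Helper27.Chain
import Cfsg.Agent.Lib.Helper27.Hyperfocal
import Cfsg.Agent.Lib.Helper27.SubgroupFusion
import Cfsg.Agent.Lib.Helper26.FusionNormal
import Cfsg.Agent.S5111

set_option autoImplicit false

namespace Cfsg.Agent.Lib.Helper27

open Cfsg Cfsg.FusionSystem Cfsg.Agent.Lib.Helper26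

variable {Ω : Type*} [Group Ω] {S : Subgroup Ω}

theorem autInducedBy_self (S : Subgroup Ω) : autInducedBy S S = Inn S := by
  ext α
  rw [Fusion.mem_autInducedBy_iff]
  constructor
  · rintro ⟨g, hg, h⟩
    refine ⟨⟨g, hg⟩, ?_⟩
    apply MulEquiv.ext
    intro x
    apply Subtype.ext
    rw [h]
    rfl
  · rintro ⟨y, rfl⟩
    exact ⟨y, y.2, fun x => rfl⟩

theorem autSystem_autGroup (A : Subgroup (MulAut S)) (hA : autInducedBy S S ≤ A) :
    (autSystem A hA).autGroup S = A := by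
  apply le_antisymm
  · intro α hα
    rw [Fusion.mem_autGroup_iff _ le_rfl] at hα
    obtain ⟨hSS, κ, hκ, h⟩ := hα
    have e : α = κ := by
      apply MulEquiv.ext
      intro x
      apply Subtype.ext
      exact h x
    rw [e]
    exact hκ
  · exact le_autGroup_autSystem A hA

theorem autSystem_receptive (A : Subgroup (MulAut S)) (hA : autInducedBy S S ≤ A)
    {Q : Subgroup Ω} (hQ : Q ≤ S) : (autSystem A hA).IsReceptive Q := by
  refine ⟨hQ, ?_⟩
  rintro P φ ⟨hP, α, hα, h⟩ -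
  have hle : extender S P φ ≤ S := (extender_le S P φ).trans inf_le_left
  refine ⟨(S.subtype.comp (α : MulAut S).toMonoidHom).comp (Subgroup.inclusion hle),
    ⟨hle, α, hα, fun y => rfl⟩, ?_⟩
  intro x hxP hxN
  rw [h]
  rfl

theorem autSystem_saturated [Finite S] (p : ℕ) [Fact p.Prime] (hS : IsPGroup p S)
    (A : Subgroup (MulAut S)) (hA : autInducedBy S S ≤ A)
    (hsyl : ∃ R : Sylow p A, (R : Subgroup A) = (autInducedBy S S).subgroupOf A) :
    (autSystem A hA).IsSaturated p := by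
  rw [Cfsg.Agent.S5111.result p hS]
  refine ⟨⟨le_rfl, ?_⟩, fun P hP => autSystem_receptive A hA hP.1⟩
  rw [autSystem_autGroup]
  exact hsyl

theorem sylow_inn_sup_zpowers [Finite S] (p : ℕ) [Fact p.Prime] (hS : IsPGroup p S)
    (γ : MulAut S) (hγ : (orderOf γ).Coprime p) :
    ∃ R : Sylow p ↥(autInducedBy S S ⊔ Subgroup.zpowers γ),
      (R : Subgroup ↥(autInducedBy S S ⊔ Subgroup.zpowers γ)) =
        (autInducedBy S S).subgroupOf (autInducedBy S S ⊔ Subgroup.zpowers γ) := by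
  have hp := isPGroup_autInducedBy hS (le_rfl : S ≤ S) S (autInducedBy S S ⊔ Subgroup.zpowers γ)
  have hN : (autInducedBy S S).Normal := by
    rw [autInducedBy_self]
    infer_instance
  have hidx : ¬ p ∣
      ((autInducedBy S S).subgroupOf (autInducedBy S S ⊔ Subgroup.zpowers γ)).index := by
    intro hdvd
    have h1 : (autInducedBy S S).relIndex (autInducedBy S S ⊔ Subgroup.zpowers γ) =
        (autInducedBy S S).relIndex (Subgroup.zpowers γ) := Subgroup.relIndex_sup_left _ _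
    have h2 : (autInducedBy S S).relIndex (Subgroup.zpowers γ) ∣ orderOf γ := by
      rw [← Nat.card_zpowers]
      exact Subgroup.relIndex_dvd_card _ _
    have hdvd' : p ∣ (autInducedBy S S).relIndex (autInducedBy S S ⊔ Subgroup.zpowers γ) := hdvd
    rw [h1] at hdvd'
    have h3 : p = 1 := (Nat.Coprime.symm hγ).eq_one_of_dvd (hdvd'.trans h2)
    exact (Fact.out : p.Prime).one_lt.ne' h3
  exact ⟨hp.toSylow hidx, rfl⟩

theorem autSystem_sub (F : FusionSystem S) {P : Subgroup Ω} (hP : P ≤ S)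
    (A : Subgroup (MulAut P)) (hA : autInducedBy P P ≤ A) (hAF : A ≤ F.autGroup P) :
    (autSystem A hA).IsSubsystemOf F := by
  rintro R φ ⟨hR, α, hα, h⟩
  have h1 := (Fusion.mem_autGroup_iff F hP).1 (hAF hα)
  have h2 := Fusion.restrict_mem F h1 hR
  have e : φ = (P.subtype.comp (α : P ≃* P).toMonoidHom).comp (Subgroup.inclusion hR) := by
    ext x
    exact h x
  rw [e]
  exact h2

theorem exists_prime_order_of_not_isPGroup {A : Type*} [Group A] [Finite A] (p : ℕ)
    [Fact p.Prime] (h : ¬ IsPGroup p A) :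
    ∃ (q : ℕ) (a : A), q.Prime ∧ q ≠ p ∧ orderOf a = q := by
  by_contra hcon
  push Not at hcon
  apply h
  have hcard : Nat.card A = p ^ (Nat.card A).primeFactorsList.length := by
    apply Nat.eq_prime_pow_of_unique_prime_dvd Nat.card_pos.ne'
    intro d hd hdvd
    by_contra hne
    have : Fact d.Prime := ⟨hd⟩
    obtain ⟨a, ha⟩ := exists_prime_orderOf_dvd_card' d hdvd
    exact hcon d a hd hne ha
  exact IsPGroup.of_card hcard

theorem pow_eq_one_of_inner_hom [Finite S] {p : ℕ} [Fact p.Prime] (hS : IsPGroup p S)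
    {β : MulAut S}
    (h : S.subtype.comp (β : S ≃* S).toMonoidHom ∈ (innerFusionSystem S).Hom S) :
    ∃ k : ℕ, β ^ p ^ k = 1 := by
  obtain ⟨-, g, hg, hgc⟩ := mem_innerFS_hom.1 h
  obtain ⟨m, hm⟩ := hS ⟨g, hg⟩
  have hm' : g ^ p ^ m = 1 := by
    have := congrArg Subtype.val hm
    rwa [Subgroup.coe_pow] at this
  refine ⟨m, ?_⟩
  ext x
  rw [conj_pow_apply (c := β) (g := g) (fun x => hgc x), hm']
  simp

theorem sparse_key [Finite S] (p : ℕ) [Fact p.Prime] (hS : IsPGroup p S) (F : FusionSystem S)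
    (hmin : ∀ (T : Subgroup Ω) (E : FusionSystem T), E.IsSaturated p → E.IsSubsystemOf F →
      (T = S ∧ ∀ P : Subgroup Ω, E.Hom P = F.Hom P) ∨
        (∀ P : Subgroup Ω, E.Hom P = (innerFusionSystem T).Hom P))
    {P : Subgroup Ω} (hPS : P ≤ S) {β : MulAut P} (hβ : β ∈ F.autGroup P) {q : ℕ}
    (hq : q.Prime) (hqp : q ≠ p) (hord : orderOf β ∣ q) (hβ1 : β ≠ 1) :
    P = S ∧ ∀ R : Subgroup Ω,
      (autSystem (autInducedBy P P ⊔ Subgroup.zpowers β) le_sup_left).Hom R = F.Hom R := by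
  have hPfin : Finite P := finite_of_le hPS
  have hPp : IsPGroup p P := hS.to_le hPS
  have hqcop : q.Coprime p := (Nat.coprime_primes hq Fact.out).2 hqp
  have hcop : (orderOf β).Coprime p := Nat.Coprime.coprime_dvd_left hord hqcop
  have hsat := autSystem_saturated p hPp _ le_sup_left (sylow_inn_sup_zpowers p hPp β hcop)
  have hAF : autInducedBy P P ⊔ Subgroup.zpowers β ≤ F.autGroup P := by
    refine sup_le ?_ ((Subgroup.zpowers_le).2 hβ)
    rw [autInducedBy_self]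
    exact Fusion.inn_le_autGroup F hPS
  have hsub := autSystem_sub F hPS _ le_sup_left hAF
  rcases hmin P _ hsat hsub with h | h
  · exact h
  · exfalso
    have h1 : P.subtype.comp (β : P ≃* P).toMonoidHom ∈
        (autSystem (autInducedBy P P ⊔ Subgroup.zpowers β) le_sup_left).Hom P :=
      ⟨le_rfl, β, Subgroup.mem_sup_right (Subgroup.mem_zpowers β), fun x => rfl⟩
    rw [h P] at h1
    obtain ⟨k, hk⟩ := pow_eq_one_of_inner_hom hPp h1
    have h2 : orderOf β ∣ p ^ k := orderOf_dvd_of_pow_eq_one hk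
    have h3 : orderOf β ∣ Nat.gcd q (p ^ k) := Nat.dvd_gcd hord h2
    have h4 : Nat.gcd q (p ^ k) = 1 := Nat.Coprime.pow_right k hqcop
    rw [h4, Nat.dvd_one, orderOf_eq_one_iff] at h3
    exact hβ1 h3

theorem sparse_top [Finite S] (p : ℕ) [Fact p.Prime] (hS : IsPGroup p S) (F : FusionSystem S)
    (hmin : ∀ (T : Subgroup Ω) (E : FusionSystem T), E.IsSaturated p → E.IsSubsystemOf F →
      (T = S ∧ ∀ P : Subgroup Ω, E.Hom P = F.Hom P) ∨
        (∀ P : Subgroup Ω, E.Hom P = (innerFusionSystem T).Hom P))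
    (β : MulAut S) (hβ : β ∈ F.autGroup S) {q : ℕ} (hq : q.Prime) (hqp : q ≠ p)
    (hord : orderOf β = q)
    (hEF : ∀ R : Subgroup Ω,
      (autSystem (autInducedBy S S ⊔ Subgroup.zpowers β) le_sup_left).Hom R = F.Hom R) :
    F.IsNormal S ∧ F.focalSubgroup = S ∧ F.hyperfocalSubgroup p = S ∧
      ∃ (q : ℕ) (β : MulAut S), q.Prime ∧ q ≠ p ∧ β ∈ F.autGroup S ∧ orderOf β = q ∧
        F.autGroup S = Inn S ⊔ Subgroup.zpowers β := by
  have hAF : autInducedBy S S ⊔ Subgroup.zpowers β ≤ F.autGroup S := by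
    refine sup_le ?_ ((Subgroup.zpowers_le).2 hβ)
    rw [autInducedBy_self]
    exact Fusion.inn_le_autGroup F le_rfl
  have hnorm : F.IsNormal S := by
    apply isNormal_top_of_le
    intro R φ hφ
    rw [← hEF R] at hφ
    obtain ⟨hR, α, hα, h⟩ := hφ
    exact ⟨hR, α, hAF hα, h⟩
  have hAut : F.autGroup S = Inn S ⊔ Subgroup.zpowers β := by
    rw [← autInducedBy_self]
    apply le_antisymm
    · intro α hα
      have h1 : S.subtype.comp (α : S ≃* S).toMonoidHom ∈ F.Hom S :=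
        (Fusion.mem_autGroup_iff F le_rfl).1 hα
      rw [← hEF S] at h1
      obtain ⟨hSS, κ, hκ, h⟩ := h1
      have e : α = κ := by
        apply MulEquiv.ext
        intro x
        apply Subtype.ext
        exact h x
      rw [e]
      exact hκ
    · exact hAF
  have hβq : β ^ q = 1 := by
    rw [← hord]
    exact pow_orderOf_eq_one β
  have hβ1 : β ≠ 1 := by
    intro h
    rw [h, orderOf_one] at hord
    exact hq.one_lt.ne hord
  have hqcop : q.Coprime p := (Nat.coprime_primes hq Fact.out).2 hqp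
  obtain ⟨T₀, hT₀def⟩ : ∃ T₀ : Subgroup Ω,
      T₀ = Subgroup.closure {y : Ω | ∃ x : S, y = (x : Ω)⁻¹ * (β x : S)} := ⟨_, rfl⟩
  have hgen : ∀ x : S, (x : Ω)⁻¹ * (β x : S) ∈ T₀ := by
    intro x
    rw [hT₀def]
    exact Subgroup.subset_closure ⟨x, rfl⟩
  have hT₀S : T₀ ≤ S := by
    rw [hT₀def, Subgroup.closure_le]
    rintro _ ⟨x, rfl⟩
    exact S.mul_mem (S.inv_mem x.2) (β x).2
  have hT₀fin : Finite T₀ := finite_of_le hT₀S
  have hT₀p : IsPGroup p T₀ := hS.to_le hT₀S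
  have hβT : ∀ t : T₀, (((β ⟨t, hT₀S t.2⟩ : S)) : Ω) ∈ T₀ := by
    intro t
    have h1 := T₀.mul_mem t.2 (hgen ⟨t, hT₀S t.2⟩)
    rwa [mul_inv_cancel_left] at h1
  have hβiso := (Fusion.mem_autGroup_iff F le_rfl).1 hβ
  have hres := Fusion.restrict_mem F hβiso hT₀S
  have hr : ((S.subtype.comp (β : S ≃* S).toMonoidHom).comp
      (Subgroup.inclusion hT₀S)).range = T₀ := by
    apply Subgroup.eq_of_le_of_card_ge
    · rintro _ ⟨t, rfl⟩
      exact hβT t
    · exact le_of_eq (Nat.card_congr (Equiv.ofInjective _ (F.injective_of_mem hres)))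
  obtain ⟨β₀, hβ₀def⟩ : ∃ β₀ : MulAut T₀,
      β₀ = Fusion.equivOfRange _ (F.injective_of_mem hres) hr := ⟨_, rfl⟩
  have hβ₀ : ∀ t : T₀, ((β₀ t : T₀) : Ω) = ((β ⟨t, hT₀S t.2⟩ : S) : Ω) := by
    intro t
    rw [hβ₀def]
    rfl
  have hβ₀F : β₀ ∈ F.autGroup T₀ := by
    rw [hβ₀def]
    exact (Fusion.mem_autGroup_iff F hT₀S).2 (Fusion.isIso_equivOfRange F hres hr)
  have hpow : ∀ n : ℕ, ∀ t : T₀,
      (((β₀ ^ n) t : T₀) : Ω) = (((β ^ n) ⟨t, hT₀S t.2⟩ : S) : Ω) := by
    intro n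
    induction n with
    | zero => intro t; rfl
    | succ n ih =>
      intro t
      rw [pow_succ', pow_succ', MulAut.mul_apply, MulAut.mul_apply, hβ₀]
      have e : (⟨((β₀ ^ n) t : T₀), hT₀S ((β₀ ^ n) t).2⟩ : S) = (β ^ n) ⟨t, hT₀S t.2⟩ :=
        Subtype.ext (ih t)
      rw [e]
  have hβ₀q : β₀ ^ q = 1 := by
    ext t
    rw [hpow, hβq]
    rfl
  have hord₀ : orderOf β₀ ∣ q := orderOf_dvd_of_pow_eq_one hβ₀q
  have hT₀eq : T₀ = S := by
    by_contra hne
    have hβ₀1 : β₀ = 1 := by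
      by_contra hβ₀1
      exact hne (sparse_key p hS F hmin hT₀S hβ₀F hq hqp hord₀ hβ₀1).1
    have hfix : ∀ x : S, β (x⁻¹ * β x) = x⁻¹ * β x := by
      intro x
      have h1 := hβ₀ ⟨(x : Ω)⁻¹ * (β x : S), hgen x⟩
      rw [hβ₀1] at h1
      apply Subtype.ext
      exact h1.symm
    apply hβ1
    ext x
    have h2 := pow_apply_of_fixed β x (hfix x) q
    rw [hβq] at h2
    have h3 : (x⁻¹ * β x) ^ q = 1 := by
      have h2' : x = x * (x⁻¹ * β x) ^ q := h2
      exact mul_eq_left.1 h2'.symm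
    obtain ⟨m, hm⟩ := hS (x⁻¹ * β x)
    have h4 : orderOf (x⁻¹ * β x) ∣ Nat.gcd q (p ^ m) :=
      Nat.dvd_gcd (orderOf_dvd_of_pow_eq_one h3) (orderOf_dvd_of_pow_eq_one hm)
    have h5 : Nat.gcd q (p ^ m) = 1 := Nat.Coprime.pow_right m hqcop
    rw [h5, Nat.dvd_one, orderOf_eq_one_iff] at h4
    have h6 : x = β x := inv_mul_eq_one.1 h4
    exact congrArg Subtype.val h6.symm
  have hSle : S ≤ T₀ := hT₀eq.ge
  refine ⟨hnorm, ?_, ?_, q, β, hq, hqp, hβ, hord, hAut⟩
  · apply le_antisymm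
    · unfold FusionSystem.focalSubgroup
      rw [Subgroup.closure_le]
      rintro _ ⟨P, φ, x, hφ, rfl⟩
      exact S.mul_mem (S.inv_mem ((F.le_of_mem hφ).1 x.2)) ((F.le_of_mem hφ).2 x)
    · refine hSle.trans ?_
      rw [hT₀def, Subgroup.closure_le]
      rintro _ ⟨x, rfl⟩
      exact Subgroup.subset_closure
        ⟨S, S.subtype.comp (β : S ≃* S).toMonoidHom, x, hβiso, rfl⟩
  · apply le_antisymm (hyperfocal_le F p)
    refine hSle.trans ?_
    rw [hT₀def, Subgroup.closure_le]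
    rintro _ ⟨x, rfl⟩
    have hres' : (⟨β, hβ⟩ : F.autGroup S) ∈ pResidual p (F.autGroup S) := by
      apply Subgroup.subset_closure
      show Nat.Coprime (orderOf (⟨β, hβ⟩ : F.autGroup S)) p
      have e : orderOf (⟨β, hβ⟩ : F.autGroup S) = orderOf β :=
        (Subgroup.orderOf_coe (⟨β, hβ⟩ : F.autGroup S)).symm
      rw [e, hord]
      exact hqcop
    exact mem_hyperfocal F p le_rfl hres' x

/-- S5245: structure of extremely sparse fusion systems. -/
theorem extremely_sparse [Finite S] (p : ℕ) [Fact p.Prime] (hS : IsPGroup p S)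
    (F : FusionSystem S) (hF : F.IsSaturated p)
    (hnot : ¬ (∀ P : Subgroup Ω, F.Hom P = (innerFusionSystem S).Hom P))
    (hmin : ∀ (T : Subgroup Ω) (E : FusionSystem T), E.IsSaturated p → E.IsSubsystemOf F →
      (T = S ∧ ∀ P : Subgroup Ω, E.Hom P = F.Hom P) ∨
        (∀ P : Subgroup Ω, E.Hom P = (innerFusionSystem T).Hom P)) :
    F.IsNormal S ∧ F.focalSubgroup = S ∧ F.hyperfocalSubgroup p = S ∧
      ∃ (q : ℕ) (β : MulAut S), q.Prime ∧ q ≠ p ∧ β ∈ F.autGroup S ∧ orderOf β = q ∧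
        F.autGroup S = Inn S ⊔ Subgroup.zpowers β := by
  obtain ⟨P, hPS, hPnp⟩ : ∃ P : Subgroup Ω, P ≤ S ∧ ¬ IsPGroup p (F.autGroup P) := by
    by_contra hcon
    push Not at hcon
    exact hnot (eq_inner_of_isPGroup_autGroup p hS F hF hcon)
  have hPfin : Finite P := finite_of_le hPS
  obtain ⟨q, b, hq, hqp, hb⟩ := exists_prime_order_of_not_isPGroup p hPnp
  have hbord : orderOf (b : MulAut P) = q := by
    rw [Subgroup.orderOf_coe]
    exact hb
  have hb1 : (b : MulAut P) ≠ 1 := by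
    intro h
    rw [h, orderOf_one] at hbord
    exact hq.one_lt.ne hbord
  obtain ⟨hPeq, hEF⟩ := sparse_key p hS F hmin hPS b.2 hq hqp (dvd_of_eq hbord) hb1
  subst hPeq
  exact sparse_top p hS F hmin b b.2 hq hqp hbord hEF

end Cfsg.Agent.Lib.Helper27
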