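import Mathlib
import Cfsg.Prelude.Def_FusionSystem
import Cfsg.Prelude.Def_PLocal
import Cfsg.Agent.Lib.Helper21.CoprimeP
import Cfsg.Agent.Lib.Helper27.SylowAux
import Cfsg.Agent.Lib.Helper27.Chain
import Cfsg.Agent.Lib.Helper27.Lift
import Cfsg.Agent.Lib.Helper27.NormalCrit
import Cfsg.Agent.Lib.Helper27.Sparse
import Cfsg.Agent.Lib.Helper27.ConstrNormal

set_option autoImplicit false

namespace Cfsg.Agent.Lib.Helper27

open Cfsg Cfsg.FusionSystem Cfsg.Agent.Lib.Helper26

open scoped commutatorElement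

section Abstract

variable {P : Type*} [Group P]

/-- An automorphism stabilizing a chain `1 = C 0 ≤ C 1 ≤ ⋯ ≤ C n` has a power (of exponent
`|P| ^ n`) fixing `C n` elementwise. -/
theorem fix_of_stab_chain [Finite P] (α : MulAut P) (n : ℕ) (C : ℕ → Subgroup P)
    (h0 : C 0 = ⊥) (hmono : ∀ i < n, C i ≤ C (i + 1))
    (hstab : ∀ i < n, ∀ x ∈ C (i + 1), x⁻¹ * α x ∈ C i) :
    ∀ x ∈ C n, (α ^ (Nat.card P ^ n)) x = x := by
  have hpow : ∀ m : ℕ, ∀ i < n, ∀ x ∈ C (i + 1),
      (α ^ m) x ∈ C (i + 1) ∧ x⁻¹ * (α ^ m) x ∈ C i := by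
    intro m
    induction m with
    | zero =>
      intro i hi x hx
      refine ⟨hx, ?_⟩
      simp [(C i).one_mem]
    | succ m ih =>
      intro i hi x hx
      obtain ⟨h1, h2⟩ := ih i hi x hx
      have h3 := hstab i hi _ h1
      have h4 : (α ^ (m + 1)) x = α ((α ^ m) x) := by
        rw [pow_succ', MulAut.mul_apply]
      have h5 : α ((α ^ m) x) = (α ^ m) x * (((α ^ m) x)⁻¹ * α ((α ^ m) x)) := by group
      have h6 : x⁻¹ * α ((α ^ m) x) =
          (x⁻¹ * (α ^ m) x) * (((α ^ m) x)⁻¹ * α ((α ^ m) x)) := by group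
      rw [h4]
      refine ⟨?_, ?_⟩
      · rw [h5]
        exact (C (i + 1)).mul_mem h1 (hmono i hi h3)
      · rw [h6]
        exact (C i).mul_mem h2 h3
  have key : ∀ i : ℕ, i ≤ n → ∀ x ∈ C i, (α ^ (Nat.card P ^ i)) x = x := by
    intro i
    induction i with
    | zero =>
      intro _ x hx
      rw [h0, Subgroup.mem_bot] at hx
      rw [hx, map_one]
    | succ i ih =>
      intro hi x hx
      have hi' : i < n := hi
      have hz := (hpow (Nat.card P ^ i) i hi' x hx).2
      have hfix := ih hi'.le _ hz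
      have h1 := pow_apply_of_fixed (α ^ (Nat.card P ^ i)) x hfix (Nat.card P)
      rw [pow_succ, pow_mul, h1, pow_card_eq_one', mul_one]
  exact key n le_rfl

theorem pow_fix {α : MulAut P} {x : P} (h : α x = x) (m : ℕ) : (α ^ m) x = x := by
  induction m with
  | zero => rfl
  | succ m ih => rw [pow_succ, MulAut.mul_apply, h, ih]

/-- If `α ^ N` fixes `x` and `N` is coprime to the order of `α`, then `α` fixes `x`. -/
theorem fix_of_pow_fix_coprime {α : MulAut P} {x : P} {N : ℕ}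
    (hN : Nat.Coprime N (orderOf α)) (h : (α ^ N) x = x) : α x = x := by
  obtain ⟨m, hm⟩ := exists_pow_eq_self_of_coprime hN
  have h1 := pow_fix h m
  rwa [hm] at h1

/-- External form of the coprime-action lemma: an automorphism of order prime to `p` of a finite
`p`-group that fixes the elements of exponent `m` of an invariant subgroup `W` fixes `W`
elementwise (`m = p` for odd `p`, `m = 4` for `p = 2`). -/
theorem fix_of_fix_omega [Finite P] {p : ℕ} [Fact p.Prime] (hP : IsPGroup p P) (m : ℕ)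
    (hm1 : p ∣ m) (hm2 : p ∣ m * (m - 1) / 2) (α : MulAut P) (hα : (orderOf α).Coprime p)
    (W : Subgroup P) (hW : ∀ w ∈ W, α w ∈ W) (hfix : ∀ w ∈ W, w ^ m = 1 → α w = w) :
    ∀ w ∈ W, α w = w := by
  have : Finite (P ⋊[MonoidHom.id (MulAut P)] MulAut P) :=
    Finite.of_equiv _ SemidirectProduct.equivProd.symm
  have hord : orderOf (SemidirectProduct.inr α : P ⋊[MonoidHom.id (MulAut P)] MulAut P) =
      orderOf α := orderOf_injective SemidirectProduct.inr SemidirectProduct.inr_injective α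
  have hconj : ∀ w : P, (SemidirectProduct.inr α : P ⋊[MonoidHom.id (MulAut P)] MulAut P) *
      SemidirectProduct.inl w * (SemidirectProduct.inr α)⁻¹ = SemidirectProduct.inl (α w) := by
    intro w
    rw [← map_inv, ← SemidirectProduct.inl_aut]
    rfl
  have hPp : IsPGroup p (W.map
      (SemidirectProduct.inl : P →* P ⋊[MonoidHom.id (MulAut P)] MulAut P)) :=
    (hP.to_subgroup W).map _
  have hnorm : (SemidirectProduct.inr α : P ⋊[MonoidHom.id (MulAut P)] MulAut P) ∈
      Subgroup.normalizer ((W.map (SemidirectProduct.inl :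
        P →* P ⋊[MonoidHom.id (MulAut P)] MulAut P) : Subgroup _) : Set _) := by
    apply mem_normalizer_of_cj_eq
    apply Subgroup.eq_of_le_of_card_ge
    · rintro _ ⟨_, ⟨w, hw, rfl⟩, rfl⟩
      show (SemidirectProduct.inr α : P ⋊[MonoidHom.id (MulAut P)] MulAut P) *
        SemidirectProduct.inl w * (SemidirectProduct.inr α)⁻¹ ∈ _
      rw [hconj]
      exact Subgroup.mem_map_of_mem _ (hW w hw)
    · rw [card_cj]
  have key := Cfsg.Agent.Lib.Helper21.centralizes_of_centralizes_omega (p := p) m hm1 hm2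
    (SemidirectProduct.inr α : P ⋊[MonoidHom.id (MulAut P)] MulAut P)
    (by rw [hord]; exact hα) _ _ le_rfl hPp hnorm
  have key2 := key (by
    rintro _ ⟨w, hw, rfl⟩ hpow
    have h2 : α w = w := by
      apply hfix w hw
      apply SemidirectProduct.inl_injective (φ := MonoidHom.id (MulAut P))
      rw [map_pow, hpow, map_one]
    rw [hconj, h2])
  intro w hw
  have h1 := key2 _ (Subgroup.mem_map_of_mem _ hw)
  rw [hconj] at h1
  exact SemidirectProduct.inl_injective h1

end Abstract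

variable {Ω : Type*} [Group Ω] {S : Subgroup Ω}

/-- Criterion: a strongly closed `P` (for odd `p`) is normal in `F` if `Ω₁(P)` has a strongly
closed chain centralized step by step by `P`. -/
theorem isNormal_of_omega_chain [Finite S] (p : ℕ) [Fact p.Prime] (hS : IsPGroup p S)
    (F : FusionSystem S) (hF : F.IsSaturated p) (hp : p ≠ 2) (P : Subgroup Ω)
    (hP : F.StronglyClosed P) (n : ℕ) (D : ℕ → Subgroup Ω) (hD0 : D 0 = ⊥)
    (hDn : D n = omegaOne p P) (hmono : ∀ i < n, D i ≤ D (i + 1))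
    (hsc : ∀ i ≤ n, F.StronglyClosed (D i)) (hcomm : ∀ i < n, ⁅D (i + 1), P⁆ ≤ D i) :
    F.IsNormal P := by
  rw [isNormal_iff_stronglyClosed_radical p hS F hF]
  refine ⟨hP, fun R hRc hRr => ?_⟩
  have hR : R ≤ S := hRc.1
  have hRfin : Finite R := finite_of_le hR
  have hRp : IsPGroup p R := hS.to_le hR
  have hcen : centralizerIn S R ≤ R := hRc.2 R (Fusion.isConj_refl F hR)
  have hSNP : S ≤ Subgroup.normalizer (P : Set Ω) := normal_of_stronglyClosed F hP
  have hinv : ∀ i ≤ n, ∀ α ∈ F.autGroup R, ∀ x : R, (x : Ω) ∈ D i → ((α x : R) : Ω) ∈ D i :=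
    fun i hi α hα x hx => apply_mem_of_stronglyClosed F (hsc i hi) hR hα x hx
  obtain ⟨K, hKdef⟩ : ∃ K : Subgroup (F.autGroup R),
      K = tGroup F P R ⊓ chainGroup F R n D hmono hinv := ⟨_, rfl⟩
  have hKn : K.Normal := by
    rw [hKdef]
    have h1 := tGroup_normal F hP hR
    have h2 := chainGroup_normal F R n D hmono hinv
    infer_instance
  have hKp : IsPGroup p K := by
    by_contra hnp
    obtain ⟨q, a, hq, hqp, ha⟩ := exists_prime_order_of_not_isPGroup p hnp
    obtain ⟨hat, hac⟩ := hKdef.le a.2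
    obtain ⟨α, hαdef⟩ : ∃ α : MulAut R, α = ((a : F.autGroup R) : MulAut R) := ⟨_, rfl⟩
    have hαord : orderOf α = q := by
      rw [hαdef, Subgroup.orderOf_coe, Subgroup.orderOf_coe]
      exact ha
    have hqcop : q.Coprime p := (Nat.coprime_primes hq Fact.out).2 hqp
    have hαcop : (orderOf α).Coprime p := by
      rw [hαord]
      exact hqcop
    have hαF : α ∈ F.autGroup R := by
      rw [hαdef]
      exact (a : F.autGroup R).2
    have hat' : ∀ x : R, (x : Ω)⁻¹ * ((α x : R) : Ω) ∈ P := by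
      rw [hαdef]
      exact hat
    have hac' : ∀ i < n, ∀ x : R, (x : Ω) ∈ D (i + 1) →
        (x : Ω)⁻¹ * ((α x : R) : Ω) ∈ D i := by
      rw [hαdef]
      exact hac
    obtain ⟨e, he⟩ := (IsPGroup.iff_card).1 hRp
    have hNcop : ∀ k : ℕ, Nat.Coprime (Nat.card R ^ k) (orderOf α) := by
      intro k
      rw [he, hαord, ← pow_mul]
      exact Nat.Coprime.pow_left _ hqcop.symm
    have h2a : ∀ x : R, (x : Ω) ∈ D n → α x = x := by
      intro x hx
      have h1 := fix_of_stab_chain α n (fun i => (D i).subgroupOf R)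
        (by
          show (D 0).subgroupOf R = ⊥
          rw [hD0]
          exact Subgroup.bot_subgroupOf R)
        (fun i hi y hy => Subgroup.mem_subgroupOf.mpr (hmono i hi (Subgroup.mem_subgroupOf.mp hy)))
        (fun i hi y hy => Subgroup.mem_subgroupOf.mpr (hac' i hi y (Subgroup.mem_subgroupOf.mp hy)))
        x (Subgroup.mem_subgroupOf.mpr hx)
      exact fix_of_pow_fix_coprime (hNcop n) h1
    have hodd : p ∣ p * (p - 1) / 2 := by
      have h2 : 2 ∣ p - 1 := by
        rcases (Fact.out : p.Prime).eq_two_or_odd' with h | h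
        · exact absurd h hp
        · obtain ⟨k, hk⟩ := h
          exact ⟨k, by omega⟩
      rw [Nat.mul_div_assoc p h2]
      exact dvd_mul_right p _
    have h2c : ∀ w ∈ P.subgroupOf R, α w = w := by
      apply fix_of_fix_omega hRp p (dvd_refl p) hodd α hαcop
      · intro w hw
        exact Subgroup.mem_subgroupOf.mpr
          (apply_mem_of_stronglyClosed F hP hR hαF w (Subgroup.mem_subgroupOf.mp hw))
      · intro w hw hwp
        apply h2a
        rw [hDn]
        apply Subgroup.subset_closure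
        refine ⟨Subgroup.mem_subgroupOf.mp hw, ?_⟩
        have h1 := congrArg Subtype.val hwp
        rwa [Subgroup.coe_pow] at h1
    have h2d : α ^ (Nat.card R ^ 2) = 1 := by
      apply pow_eq_one_of_stab_chain α 2
        (fun i => if i = 0 then ⊥ else if i = 1 then P.subgroupOf R else ⊤)
      · simp
      · simp
      · intro i hi
        interval_cases i <;> simp
      · intro i hi x hx
        interval_cases i
        · have hx' : x ∈ P.subgroupOf R := by simpa using hx
          show x⁻¹ * α x ∈ (⊥ : Subgroup R)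
          rw [h2c x hx', inv_mul_cancel]
          exact Subgroup.one_mem _
        · show x⁻¹ * α x ∈ P.subgroupOf R
          exact Subgroup.mem_subgroupOf.mpr (hat' x)
    have h3 : orderOf α ∣ Nat.card R ^ 2 := orderOf_dvd_of_pow_eq_one h2d
    have h4 := Nat.Coprime.eq_one_of_dvd (hNcop 2).symm h3
    rw [hαord] at h4
    exact hq.one_lt.ne' h4
  apply le_of_normalizer_le hS hR hP.1 (hR.trans hSNP)
  intro g hgP hgN
  have hgS := hP.1 hgP
  have hcA : R.normalizerMonoidHom ⟨g, hgN⟩ ∈ F.autGroup R :=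
    Fusion.autInducedBy_le_autGroup F hR (Subgroup.subset_closure ⟨g, hgS, fun x => rfl⟩)
  refine mem_of_radical_of_normal_pgroup F hcen hRr K hKn hKp hgS ⟨⟨_, hcA⟩, ?_, fun x => rfl⟩
  rw [hKdef]
  refine ⟨?_, ?_⟩
  · intro x
    show (x : Ω)⁻¹ * (g * x * g⁻¹) ∈ P
    have h1 : (x : Ω)⁻¹ * g * ((x : Ω)⁻¹)⁻¹ ∈ P :=
      (Subgroup.mem_normalizer_iff.1 (hSNP (S.inv_mem (hR x.2))) g).1 hgP
    have e : (x : Ω)⁻¹ * (g * x * g⁻¹) = ((x : Ω)⁻¹ * g * ((x : Ω)⁻¹)⁻¹) * g⁻¹ := by group
    rw [e]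
    exact P.mul_mem h1 (P.inv_mem hgP)
  · intro i hi x hx
    show (x : Ω)⁻¹ * (g * x * g⁻¹) ∈ D i
    apply hcomm i hi
    have e : (x : Ω)⁻¹ * (g * x * g⁻¹) = ⁅(x : Ω)⁻¹, g⁆ := by
      rw [commutatorElement_def]
      group
    rw [e]
    exact Subgroup.commutator_mem_commutator ((D (i + 1)).inv_mem hx) hgP

/-- A subgroup of `P ⊴ F` invariant under `Aut_F(P)` is strongly closed in `F`. -/
theorem stronglyClosed_map_of_char [Finite S] (F : FusionSystem S) {P : Subgroup Ω}
    (hPn : F.IsNormal P) (W : Subgroup P) (hW : ∀ b ∈ F.autGroup P, ∀ z ∈ W, b z ∈ W) :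
    F.StronglyClosed (W.map P.subtype) := by
  have hle : W.map P.subtype ≤ P := by
    rintro _ ⟨z, -, rfl⟩
    exact z.2
  refine ⟨hle.trans hPn.1, ?_⟩
  intro R hR φ hφ x
  obtain ⟨ψ, hψ, hext, hmap⟩ := hPn.2 R φ hφ
  obtain ⟨b, hb, hbψ⟩ := exists_aut_of_map_eq F (le_sup_right : P ≤ R ⊔ P) hψ hmap
  obtain ⟨z, hz, hzx⟩ := hR x.2
  refine ⟨b z, hW b hb z hz, ?_⟩
  show ((b z : P) : Ω) = φ x
  rw [hbψ, ← hext x]
  congr 1
  apply Subtype.ext
  exact hzx

/-- The series `Ω₁(P) ≥ [Ω₁(P), P] ≥ [Ω₁(P), P, P] ≥ ⋯` inside `P`. -/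
def omegaSeries (p : ℕ) (P : Subgroup Ω) : ℕ → Subgroup P
  | 0 => Subgroup.closure {x : P | x ^ p = 1}
  | (j + 1) => ⁅omegaSeries p P j, (⊤ : Subgroup P)⁆

theorem omegaSeries_char (p : ℕ) (P : Subgroup Ω) (j : ℕ) (b : MulAut P) :
    (omegaSeries p P j).map b.toMonoidHom ≤ omegaSeries p P j := by
  induction j with
  | zero =>
    show (Subgroup.closure {x : P | x ^ p = 1}).map b.toMonoidHom ≤
      Subgroup.closure {x : P | x ^ p = 1}
    rw [MonoidHom.map_closure]
    apply Subgroup.closure_mono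
    rintro _ ⟨x, hx, rfl⟩
    show (b x) ^ p = 1
    have hx' : x ^ p = 1 := hx
    rw [← map_pow, hx', map_one]
  | succ j ih =>
    show (⁅omegaSeries p P j, (⊤ : Subgroup P)⁆).map b.toMonoidHom ≤
      ⁅omegaSeries p P j, (⊤ : Subgroup P)⁆
    rw [Subgroup.map_commutator]
    exact Subgroup.commutator_mono ih le_top

theorem omegaSeries_normal (p : ℕ) (P : Subgroup Ω) (j : ℕ) : (omegaSeries p P j).Normal := by
  refine ⟨fun n hn g => ?_⟩
  exact omegaSeries_char p P j (MulAut.conj g) ⟨n, hn, rfl⟩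

theorem omegaSeries_succ_le (p : ℕ) (P : Subgroup Ω) (j : ℕ) :
    omegaSeries p P (j + 1) ≤ omegaSeries p P j := by
  have := omegaSeries_normal p P j
  exact Subgroup.commutator_le_left _ _

theorem omegaSeries_le_lcs (p : ℕ) (P : Subgroup Ω) (j : ℕ) :
    omegaSeries p P j ≤ (⊤ : Subgroup P).lowerCentralSeries j := by
  induction j with
  | zero =>
    show _ ≤ (⊤ : Subgroup P)
    exact le_top
  | succ j ih => exact Subgroup.commutator_mono ih le_rfl

theorem omegaSeries_map_zero (p : ℕ) (P : Subgroup Ω) :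
    (omegaSeries p P 0).map P.subtype = omegaOne p P := by
  show (Subgroup.closure {x : P | x ^ p = 1}).map P.subtype = omegaOne p P
  rw [MonoidHom.map_closure]
  unfold omegaOne
  congr 1
  ext y
  constructor
  · rintro ⟨x, hx, rfl⟩
    have hx' : x ^ p = 1 := hx
    refine ⟨x.2, ?_⟩
    have h1 := congrArg Subtype.val hx'
    rwa [Subgroup.coe_pow] at h1
  · rintro ⟨hy, hyp⟩
    exact ⟨⟨y, hy⟩, Subtype.ext hyp, rfl⟩

theorem omegaSeries_map_succ (p : ℕ) (P : Subgroup Ω) (j : ℕ) :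
    (omegaSeries p P (j + 1)).map P.subtype = ⁅(omegaSeries p P j).map P.subtype, P⁆ := by
  show (⁅omegaSeries p P j, (⊤ : Subgroup P)⁆).map P.subtype = _
  rw [Subgroup.map_commutator, ← MonoidHom.range_eq_map, Subgroup.range_subtype]

/-- If `P ⊴ F` then `Ω₁(P)` has a chain of strongly closed subgroups, each step centralized
modulo the previous one by `P`. -/
theorem exists_omega_chain [Finite S] (p : ℕ) [Fact p.Prime] (hS : IsPGroup p S)
    (F : FusionSystem S) (P : Subgroup Ω) (hPn : F.IsNormal P) :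
    ∃ (n : ℕ) (Q : Fin (n + 1) → Subgroup Ω), Q 0 = ⊥ ∧ Q (Fin.last n) = omegaOne p P ∧
      Monotone Q ∧ (∀ i : Fin (n + 1), F.StronglyClosed (Q i)) ∧
        ∀ i : Fin n, ⁅Q i.succ, P⁆ ≤ Q i.castSucc := by
  have hPfin : Finite P := finite_of_le hPn.1
  have hPp : IsPGroup p P := hS.to_le hPn.1
  have hnil : Group.IsNilpotent P := hPp.isNilpotent
  obtain ⟨c, hc⟩ := Subgroup.nilpotent_iff_lowerCentralSeries.1 hnil
  have hWc : omegaSeries p P c = ⊥ := by
    rw [eq_bot_iff, ← hc]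
    exact omegaSeries_le_lcs p P c
  have hanti : Antitone (omegaSeries p P) := antitone_nat_of_succ_le (omegaSeries_succ_le p P)
  refine ⟨c, fun i => (omegaSeries p P (c - (i : ℕ))).map P.subtype, ?_, ?_, ?_, ?_, ?_⟩
  · show (omegaSeries p P (c - ((0 : Fin (c + 1)) : ℕ))).map P.subtype = ⊥
    rw [Fin.val_zero, Nat.sub_zero, hWc, Subgroup.map_bot]
  · show (omegaSeries p P (c - ((Fin.last c : Fin (c + 1)) : ℕ))).map P.subtype = omegaOne p P
    rw [Fin.val_last, Nat.sub_self]
    exact omegaSeries_map_zero p P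
  · intro i j hij
    apply Subgroup.map_mono
    apply hanti
    have h1 : (i : ℕ) ≤ (j : ℕ) := hij
    omega
  · intro i
    apply stronglyClosed_map_of_char F hPn
    intro b hb z hz
    exact omegaSeries_char p P _ b ⟨z, hz, rfl⟩
  · intro i
    show ⁅(omegaSeries p P (c - ((i.succ : Fin (c + 1)) : ℕ))).map P.subtype, P⁆ ≤
      (omegaSeries p P (c - ((i.castSucc : Fin (c + 1)) : ℕ))).map P.subtype
    rw [← omegaSeries_map_succ]
    have e : c - ((i.succ : Fin (c + 1)) : ℕ) + 1 = c - ((i.castSucc : Fin (c + 1)) : ℕ) := by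
      rw [Fin.val_succ, Fin.val_castSucc]
      have := i.2
      omega
    rw [e]

/-- S5236. -/
theorem isNormal_iff_omega_chain [Finite S] (p : ℕ) [Fact p.Prime] (hS : IsPGroup p S)
    (F : FusionSystem S) (hF : F.IsSaturated p) (hp : p ≠ 2) (P : Subgroup Ω)
    (hP : F.StronglyClosed P) :
    F.IsNormal P ↔ ∃ (n : ℕ) (Q : Fin (n + 1) → Subgroup Ω), Q 0 = ⊥ ∧
      Q (Fin.last n) = omegaOne p P ∧ Monotone Q ∧ (∀ i : Fin (n + 1), F.StronglyClosed (Q i)) ∧
        ∀ i : Fin n, ⁅Q i.succ, P⁆ ≤ Q i.castSucc := by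
  constructor
  · exact exists_omega_chain p hS F P
  · rintro ⟨n, Q, hQ0, hQn, hQmono, hQsc, hQcomm⟩
    have hD : ∀ i (hi : i ≤ n),
        (if h : i ≤ n then Q ⟨i, Nat.lt_succ_of_le h⟩ else Q (Fin.last n)) =
          Q ⟨i, Nat.lt_succ_of_le hi⟩ := fun i hi => dif_pos hi
    refine isNormal_of_omega_chain p hS F hF hp P hP n
      (fun i => if h : i ≤ n then Q ⟨i, Nat.lt_succ_of_le h⟩ else Q (Fin.last n)) ?_ ?_ ?_ ?_ ?_
    · show (if h : 0 ≤ n then Q ⟨0, Nat.lt_succ_of_le h⟩ else Q (Fin.last n)) = ⊥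
      rw [hD 0 (Nat.zero_le n)]
      exact hQ0
    · show (if h : n ≤ n then Q ⟨n, Nat.lt_succ_of_le h⟩ else Q (Fin.last n)) = omegaOne p P
      rw [hD n le_rfl]
      exact hQn
    · intro i hi
      show (if h : i ≤ n then Q ⟨i, Nat.lt_succ_of_le h⟩ else Q (Fin.last n)) ≤
        (if h : i + 1 ≤ n then Q ⟨i + 1, Nat.lt_succ_of_le h⟩ else Q (Fin.last n))
      rw [hD i hi.le, hD (i + 1) hi]
      apply hQmono
      show i ≤ i + 1
      exact Nat.le_succ i
    · intro i hi
      show F.StronglyClosed (if h : i ≤ n then Q ⟨i, Nat.lt_succ_of_le h⟩ else Q (Fin.last n))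
      rw [hD i hi]
      exact hQsc _
    · intro i hi
      show ⁅(if h : i + 1 ≤ n then Q ⟨i + 1, Nat.lt_succ_of_le h⟩ else Q (Fin.last n)), P⁆ ≤
        (if h : i ≤ n then Q ⟨i, Nat.lt_succ_of_le h⟩ else Q (Fin.last n))
      rw [hD i hi.le, hD (i + 1) hi]
      exact hQcomm ⟨i, hi⟩

end Cfsg.Agent.Lib.Helper27
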