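import Mathlib
import Cfsg.Prelude.Def_FusionSystem
import Cfsg.Agent.Lib.Helper27.OmegaChain

set_option autoImplicit false

namespace Cfsg.Agent.Lib.Helper27

open Cfsg Cfsg.FusionSystem Cfsg.Agent.Lib.Helper26

section Pure

variable {G : Type*} [Group G]

/-- Conjugation normalizing `⟨x⟩` with `x ^ 4 = 1` sends `x` to `x` or `x⁻¹`. -/
theorem conj_eq_or_inv_of_pow_four {x g : G} (hx : x ^ 4 = 1)
    (h : g * x * g⁻¹ ∈ Subgroup.zpowers x) : g * x * g⁻¹ = x ∨ g * x * g⁻¹ = x⁻¹ := by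
  obtain ⟨i, hi⟩ := Subgroup.mem_zpowers_iff.1 h
  have hx4 : x ^ (4 : ℤ) = 1 := by
    have : x ^ ((4 : ℕ) : ℤ) = 1 := by rw [zpow_natCast, hx]
    exact this
  have e := zpow_eq_zpow_emod i hx4
  rw [e] at hi
  have h1 : 0 ≤ i % 4 := Int.emod_nonneg i (by norm_num)
  have h2 : i % 4 < 4 := Int.emod_lt_of_pos i (by norm_num)
  have hcases : i % 4 = 0 ∨ i % 4 = 1 ∨ i % 4 = 2 ∨ i % 4 = 3 := by omega
  rcases hcases with h0 | h0 | h0 | h0
  · rw [h0, zpow_zero] at hi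
    have hx1 : x = 1 := conj_eq_one_iff.1 hi.symm
    left
    rw [← hi, hx1]
  · rw [h0, zpow_one] at hi
    exact Or.inl hi.symm
  · rw [h0] at hi
    have hi' : g * x * g⁻¹ = x ^ 2 := by
      rw [← hi]
      exact zpow_natCast x 2
    have h3 : (g * x * g⁻¹) ^ 2 = 1 := by
      rw [hi', ← pow_mul]
      exact hx
    rw [conj_pow] at h3
    have hx2 : x ^ 2 = 1 := conj_eq_one_iff.1 h3
    rw [hx2] at hi'
    have hx1 : x = 1 := conj_eq_one_iff.1 hi'
    left
    rw [hi', hx1]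
  · rw [h0] at hi
    have hi' : g * x * g⁻¹ = x ^ 3 := by
      rw [← hi]
      exact zpow_natCast x 3
    right
    rw [hi']
    apply eq_inv_of_mul_eq_one_left
    rw [← pow_succ]
    exact hx

/-- A `p`-element normalizing `⟨x⟩` with `x ^ p = 1` centralizes `x`. -/
theorem conj_eq_of_pow_prime {p : ℕ} [Fact p.Prime] {x g : G} (hx : x ^ p = 1) {e : ℕ}
    (hg : g ^ p ^ e = 1) (h : g * x * g⁻¹ ∈ Subgroup.zpowers x) : g * x * g⁻¹ = x := by
  have hp : p.Prime := Fact.out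
  obtain ⟨i, hi⟩ := Subgroup.mem_zpowers_iff.1 h
  have hxp : x ^ (p : ℤ) = 1 := by rw [zpow_natCast, hx]
  have e1 := zpow_eq_zpow_emod i hxp
  have hnn : 0 ≤ i % (p : ℤ) := Int.emod_nonneg i (by exact_mod_cast hp.ne_zero)
  obtain ⟨n, hn⟩ := Int.eq_ofNat_of_zero_le hnn
  rw [e1, hn, zpow_natCast] at hi
  have hpow : ∀ k : ℕ, g ^ k * x * (g ^ k)⁻¹ = x ^ (n ^ k) := by
    intro k
    induction k with
    | zero => simp
    | succ k ih =>
      have e2 : g ^ (k + 1) * x * (g ^ (k + 1))⁻¹ = g * (g ^ k * x * (g ^ k)⁻¹) * g⁻¹ := by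
        rw [pow_succ']
        group
      rw [e2, ih, ← conj_pow, ← hi, ← pow_mul, pow_succ']
  have h1 := hpow (p ^ e)
  rw [hg] at h1
  have h2 : x = x ^ (n ^ p ^ e) := by simpa using h1
  have h3 : (n ^ p ^ e) % p = n % p := by
    rw [← ZMod.natCast_eq_natCast_iff', Nat.cast_pow, ZMod.pow_card_pow]
  rw [pow_eq_pow_mod _ hx, h3, ← pow_eq_pow_mod _ hx] at h2
  rw [← hi, ← h2]

end Pure

variable {Ω : Type*} [Group Ω] {S : Subgroup Ω}

theorem focal_hom_mem (F : FusionSystem S) {R : Subgroup Ω} {φ : R →* Ω} (hφ : φ ∈ F.Hom R)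
    (x : R) (hx : (x : Ω) ∈ F.focalSubgroup) : φ x ∈ F.focalSubgroup := by
  have h1 : (x : Ω)⁻¹ * φ x ∈ F.focalSubgroup := Subgroup.subset_closure ⟨R, φ, x, hφ, rfl⟩
  have h2 := F.focalSubgroup.mul_mem hx h1
  rwa [mul_inv_cancel_left] at h2

theorem focal_comm_mem (F : FusionSystem S) {R : Subgroup Ω} (hR : R ≤ S) {α : MulAut R}
    (hα : α ∈ F.autGroup R) (x : R) : (x : Ω)⁻¹ * ((α x : R) : Ω) ∈ F.focalSubgroup :=
  Subgroup.subset_closure ⟨R, R.subtype.comp (α : R ≃* R).toMonoidHom, x,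
    (Fusion.mem_autGroup_iff F hR).1 hα, rfl⟩

theorem focal_apply_mem (F : FusionSystem S) {R : Subgroup Ω} (hR : R ≤ S) {α : MulAut R}
    (hα : α ∈ F.autGroup R) (x : R) (hx : (x : Ω) ∈ F.focalSubgroup) :
    ((α x : R) : Ω) ∈ F.focalSubgroup :=
  focal_hom_mem F ((Fusion.mem_autGroup_iff F hR).1 hα) x hx

/-- The automorphisms in `Aut_F(R)` acting on every element of exponent `m` of `foc(F) ∩ R`
as the identity (or, for `p = 2`, possibly as inversion). -/
def powGroup (F : FusionSystem S) (p m : ℕ) (R : Subgroup Ω) : Subgroup (F.autGroup R) where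
  carrier := {α | ∀ x : R, (x : Ω) ∈ F.focalSubgroup → x ^ m = 1 →
    (α : MulAut R) x = x ∨ (p = 2 ∧ (α : MulAut R) x = x⁻¹)}
  one_mem' := fun x _ _ => Or.inl rfl
  mul_mem' := by
    intro α β hα hβ x hx hxm
    show (α : MulAut R) ((β : MulAut R) x) = x ∨
      (p = 2 ∧ (α : MulAut R) ((β : MulAut R) x) = x⁻¹)
    rcases hβ x hx hxm with h | ⟨h2, h⟩
    · rw [h]
      exact hα x hx hxm
    · rw [h, map_inv]
      rcases hα x hx hxm with h' | ⟨_, h'⟩
      · rw [h']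
        exact Or.inr ⟨h2, rfl⟩
      · rw [h', inv_inv]
        exact Or.inl rfl
  inv_mem' := by
    intro α hα x hx hxm
    show (α : MulAut R)⁻¹ x = x ∨ (p = 2 ∧ (α : MulAut R)⁻¹ x = x⁻¹)
    rcases hα x hx hxm with h | ⟨h2, h⟩
    · left
      conv_lhs => rw [← h]
      exact MulAut.inv_apply_self _ _ _
    · right
      refine ⟨h2, ?_⟩
      have h3 : (α : MulAut R) x⁻¹ = x := by rw [map_inv, h, inv_inv]
      conv_lhs => rw [← h3]
      exact MulAut.inv_apply_self _ _ _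

theorem powGroup_normal (F : FusionSystem S) (p m : ℕ) {R : Subgroup Ω} (hR : R ≤ S) :
    (powGroup F p m R).Normal := by
  refine ⟨fun α hα γ x hx hxm => ?_⟩
  show (γ : MulAut R) ((α : MulAut R) ((γ : MulAut R)⁻¹ x)) = x ∨
    (p = 2 ∧ (γ : MulAut R) ((α : MulAut R) ((γ : MulAut R)⁻¹ x)) = x⁻¹)
  have hy : ((((γ : MulAut R)⁻¹ x : R)) : Ω) ∈ F.focalSubgroup :=
    focal_apply_mem F hR (γ⁻¹).2 x hx
  have hym : ((γ : MulAut R)⁻¹ x) ^ m = 1 := by rw [← map_pow, hxm, map_one]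
  rcases hα _ hy hym with h | ⟨h2, h⟩
  · left
    rw [h, MulAut.apply_inv_self]
  · right
    refine ⟨h2, ?_⟩
    rw [h, map_inv, MulAut.apply_inv_self]

theorem powGroup_isPGroup [Finite S] (p : ℕ) [Fact p.Prime] (hS : IsPGroup p S)
    (F : FusionSystem S) {R : Subgroup Ω} (hR : R ≤ S) (m : ℕ) (hm1 : p ∣ m)
    (hm2 : p ∣ m * (m - 1) / 2) : IsPGroup p (powGroup F p m R) := by
  have hRfin : Finite R := finite_of_le hR
  have hRp : IsPGroup p R := hS.to_le hR
  by_contra hnp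
  obtain ⟨q, a, hq, hqp, ha⟩ := exists_prime_order_of_not_isPGroup p hnp
  obtain ⟨α, hαdef⟩ : ∃ α : MulAut R, α = ((a : F.autGroup R) : MulAut R) := ⟨_, rfl⟩
  have hαord : orderOf α = q := by
    rw [hαdef, Subgroup.orderOf_coe, Subgroup.orderOf_coe]
    exact ha
  have hqcop : q.Coprime p := (Nat.coprime_primes hq Fact.out).2 hqp
  have hαcop : (orderOf α).Coprime p := by
    rw [hαord]
    exact hqcop
  have hαF : α ∈ F.autGroup R := by
    rw [hαdef]
    exact (a : F.autGroup R).2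
  have hC : ∀ x : R, (x : Ω) ∈ F.focalSubgroup → x ^ m = 1 →
      α x = x ∨ (p = 2 ∧ α x = x⁻¹) := by
    rw [hαdef]
    exact a.2
  have hfixm : ∀ x : R, (x : Ω) ∈ F.focalSubgroup → x ^ m = 1 → α x = x := by
    intro x hx hxm
    rcases hC x hx hxm with h | ⟨h2, h⟩
    · exact h
    · have h3 : (α ^ 2) x = x := by
        rw [pow_two, MulAut.mul_apply, h, map_inv, h, inv_inv]
      apply fix_of_pow_fix_coprime ?_ h3
      rw [hαord]
      exact (Nat.coprime_primes Nat.prime_two hq).2 (by rw [← h2]; exact hqp.symm)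
  have hW : ∀ w ∈ F.focalSubgroup.subgroupOf R, α w = w := by
    apply fix_of_fix_omega hRp m hm1 hm2 α hαcop
    · intro w hw
      exact Subgroup.mem_subgroupOf.mpr
        (focal_apply_mem F hR hαF w (Subgroup.mem_subgroupOf.mp hw))
    · intro w hw hwm
      exact hfixm w (Subgroup.mem_subgroupOf.mp hw) hwm
  obtain ⟨e, he⟩ := (IsPGroup.iff_card).1 hRp
  have hNcop : Nat.Coprime (Nat.card R ^ 2) (orderOf α) := by
    rw [he, hαord, ← pow_mul]
    exact Nat.Coprime.pow_left _ hqcop.symm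
  have h2d : α ^ (Nat.card R ^ 2) = 1 := by
    apply pow_eq_one_of_stab_chain α 2
      (fun i => if i = 0 then ⊥ else if i = 1 then F.focalSubgroup.subgroupOf R else ⊤)
    · simp
    · simp
    · intro i hi
      interval_cases i <;> simp
    · intro i hi x hx
      interval_cases i
      · have hx' : x ∈ F.focalSubgroup.subgroupOf R := by simpa using hx
        show x⁻¹ * α x ∈ (⊥ : Subgroup R)
        rw [hW x hx', inv_mul_cancel]
        exact Subgroup.one_mem _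
      · show x⁻¹ * α x ∈ F.focalSubgroup.subgroupOf R
        exact Subgroup.mem_subgroupOf.mpr (focal_comm_mem F hR hαF x)
  have h3 : orderOf α ∣ Nat.card R ^ 2 := orderOf_dvd_of_pow_eq_one h2d
  have h4 := Nat.Coprime.eq_one_of_dvd hNcop.symm h3
  rw [hαord] at h4
  exact hq.one_lt.ne' h4

/-- S5300. -/
theorem isNormal_top_of_focal_cyclic [Finite S] (p : ℕ) [Fact p.Prime] (hS : IsPGroup p S)
    (F : FusionSystem S) (hF : F.IsSaturated p)
    (hnorm : ∀ x ∈ F.focalSubgroup, (x ^ p = 1 ∨ (p = 2 ∧ x ^ 4 = 1)) →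
      ∀ s ∈ S, s * x * s⁻¹ ∈ Subgroup.zpowers x) :
    F.IsNormal S := by
  have hp : p.Prime := Fact.out
  rw [isNormal_iff_stronglyClosed_radical p hS F hF]
  refine ⟨⟨le_rfl, fun R hR φ hφ x => (F.le_of_mem hφ).2 x⟩, fun R hRc hRr => ?_⟩
  have hR : R ≤ S := hRc.1
  have hcen : centralizerIn S R ≤ R := hRc.2 R (Fusion.isConj_refl F hR)
  obtain ⟨m, hmdef⟩ : ∃ m : ℕ, m = if p = 2 then 4 else p := ⟨_, rfl⟩
  have hm1 : p ∣ m := by
    rw [hmdef]
    split_ifs with h2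
    · rw [h2]
      norm_num
    · exact dvd_refl p
  have hm2 : p ∣ m * (m - 1) / 2 := by
    rw [hmdef]
    split_ifs with h2
    · rw [h2]
      norm_num
    · have h3 : 2 ∣ p - 1 := by
        rcases hp.eq_two_or_odd' with h | h
        · exact absurd h h2
        · obtain ⟨k, hk⟩ := h
          exact ⟨k, by omega⟩
      rw [Nat.mul_div_assoc p h3]
      exact dvd_mul_right p _
  have hKn := powGroup_normal F p m hR
  have hKp := powGroup_isPGroup p hS F hR m hm1 hm2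
  apply le_of_normalizer_le hS hR le_rfl (hR.trans Subgroup.le_normalizer)
  intro g hgS hgN
  have hcA : R.normalizerMonoidHom ⟨g, hgN⟩ ∈ F.autGroup R :=
    Fusion.autInducedBy_le_autGroup F hR (Subgroup.subset_closure ⟨g, hgS, fun x => rfl⟩)
  refine mem_of_radical_of_normal_pgroup F hcen hRr _ hKn hKp hgS ⟨⟨_, hcA⟩, ?_, fun x => rfl⟩
  intro x hx hxm
  have hxm' : (x : Ω) ^ m = 1 := by
    have h1 := congrArg Subtype.val hxm
    rwa [Subgroup.coe_pow] at h1
  show R.normalizerMonoidHom ⟨g, hgN⟩ x = x ∨ (p = 2 ∧ R.normalizerMonoidHom ⟨g, hgN⟩ x = x⁻¹)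
  by_cases h2 : p = 2
  · have hx4 : (x : Ω) ^ 4 = 1 := by
      rw [hmdef, if_pos h2] at hxm'
      exact hxm'
    have h1 := hnorm x hx (Or.inr ⟨h2, hx4⟩) g hgS
    rcases conj_eq_or_inv_of_pow_four hx4 h1 with h | h
    · exact Or.inl (Subtype.ext h)
    · exact Or.inr ⟨h2, Subtype.ext h⟩
  · have hxp : (x : Ω) ^ p = 1 := by
      rw [hmdef, if_neg h2] at hxm'
      exact hxm'
    have h1 := hnorm x hx (Or.inl hxp) g hgS
    obtain ⟨e, he⟩ := hS ⟨g, hgS⟩
    have he' : g ^ p ^ e = 1 := by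
      have := congrArg Subtype.val he
      rwa [Subgroup.coe_pow] at this
    exact Or.inl (Subtype.ext (conj_eq_of_pow_prime hxp he' h1))

end Cfsg.Agent.Lib.Helper27
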