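import Mathlib
import Cfsg.Prelude.Def_FusionSystem
import Cfsg.Prelude.Def_FusionComponents
import Cfsg.Agent.Lib.Helper18.Basic
import Cfsg.Agent.Lib.Helper26.FusionGen
import Cfsg.Agent.Lib.Helper27.Basic
import Cfsg.Agent.Lib.Helper27.Alperin
import Cfsg.Agent.Lib.Helper27.CentSys
import Cfsg.Agent.Lib.Helper27.CentralZ
import Cfsg.Agent.Lib.Helper27.CenterFactor
import Cfsg.Agent.Lib.Helper27.QuotSat
import Cfsg.Agent.S5077
import Cfsg.Agent.S5134

set_option autoImplicit false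

namespace Cfsg.Agent.Lib.Helper27

open Cfsg Cfsg.FusionSystem Cfsg.Agent.Lib.Helper26

theorem conj_central_aux {G : Type*} [Group G] (a x z zg c g : G) (hz : Commute z a)
    (hzgx : Commute zg x) (hzgz : Commute zg z) (hc : Commute c z)
    (h1 : (a * zg) * (x * z) * (a * zg)⁻¹ = x * z * c) (h2 : g * x * g⁻¹ = x * c) :
    x * (g⁻¹ * a) = (g⁻¹ * a) * x := by
  have h1' : a * (zg * (x * z) * zg⁻¹) * a⁻¹ = x * z * c := by
    rw [← h1]
    group
  have h3 : zg * (x * z) * zg⁻¹ = x * z := by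
    rw [(hzgx.mul_right hzgz).eq, mul_inv_cancel_right]
  rw [h3] at h1'
  have h4 : a * (x * z) * a⁻¹ = a * x * a⁻¹ * z := by
    calc a * (x * z) * a⁻¹ = a * x * (z * a⁻¹) := by group
      _ = a * x * (a⁻¹ * z) := by rw [hz.inv_right.eq]
      _ = a * x * a⁻¹ * z := by group
  have h5 : x * z * c = x * c * z := by
    calc x * z * c = x * (z * c) := by group
      _ = x * (c * z) := by rw [hc.eq]
      _ = x * c * z := by group
  rw [h4, h5] at h1'
  have e : a * x * a⁻¹ = g * x * g⁻¹ := by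
    rw [h2]
    exact mul_right_cancel h1'
  calc x * (g⁻¹ * a) = g⁻¹ * (g * x * g⁻¹) * a := by group
    _ = g⁻¹ * (a * x * a⁻¹) * a := by rw [e]
    _ = (g⁻¹ * a) * x := by group

variable {Ω : Type*} [Group Ω] {S : Subgroup Ω}

/-- A map of the system fixes every element of a central subgroup lying in its source. -/
theorem apply_eq_of_isCentral (F : FusionSystem S) {Q : Subgroup Ω} (hQ : F.IsCentral Q)
    {P : Subgroup Ω} {φ : P →* Ω} (hφ : φ ∈ F.Hom P) {z : Ω} (hz : z ∈ Q) (hzP : z ∈ P) :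
    φ ⟨z, hzP⟩ = z := by
  obtain ⟨ψ, -, hext, hfix⟩ := hQ.2 P φ hφ
  have h1 := hext ⟨z, hzP⟩
  have h2 := hfix ⟨z, hz⟩
  have e : Subgroup.inclusion (le_sup_left : P ≤ P ⊔ Q) ⟨z, hzP⟩ =
      Subgroup.inclusion (le_sup_right : Q ≤ P ⊔ Q) ⟨z, hz⟩ := Subtype.ext rfl
  rw [e, h2] at h1
  exact h1.symm

theorem stronglyClosed_of_isCentral (F : FusionSystem S) {Q : Subgroup Ω} (hQ : F.IsCentral Q) :
    F.StronglyClosed Q := by
  refine ⟨hQ.1, fun R hR φ hφ x => ?_⟩
  rw [apply_eq_of_isCentral F hQ hφ (hR x.2) x.2]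
  exact hR x.2

/-- Transport of a fusion system along an equality of the underlying subgroups. -/
theorem exists_cast_system {T : Subgroup Ω} (h : T = S) (E : FusionSystem T) :
    ∃ E' : FusionSystem S, ∀ P : Subgroup Ω, E'.Hom P = E.Hom P := by
  subst h
  exact ⟨E, fun _ => rfl⟩

section Grun

variable [Finite S] {Ω' : Type*} [Group Ω'] {S' : Subgroup Ω'}

omit [Finite S] in
/-- An element whose image is central in the factor system by the centre is moved by every map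
only by an element of the centre. -/
theorem fix_mod_center (F : FusionSystem S) {θ : S →* Ω'} {E : FusionSystem S'} [Finite S']
    (hE : F.IsFactorSystem F.center θ E) (hsm : F.IsSurjectiveMorphism E θ) {x : S}
    (hx : θ x ∈ E.center) {P : Subgroup Ω} {φ : P →* Ω} (hφ : φ ∈ F.Hom P)
    (hxP : (x : Ω) ∈ P) : (x : Ω)⁻¹ * φ ⟨x, hxP⟩ ∈ F.center := by
  obtain ⟨φ', hφ', hP, hφS, hP', hind⟩ := hsm.1.2 P φ hφ
  have h1 := hind ⟨x, hxP⟩
  have h2 : φ' ⟨θ ⟨(x : Ω), hP hxP⟩, hP' ⟨x, hxP⟩⟩ = θ ⟨(x : Ω), hP hxP⟩ :=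
    apply_eq_of_isCentral E (isCentral_center E) hφ' hx _
  rw [h2] at h1
  have h3 : θ (x⁻¹ * ⟨φ ⟨x, hxP⟩, hφS _⟩) = 1 := by
    rw [map_mul, map_inv, ← h1]
    exact inv_mul_cancel _
  exact (hE.2.1 _).1 h3

theorem central_of_factor_center (p : ℕ) (F : FusionSystem S) {θ : S →* Ω'}
    {E : FusionSystem S'} [Finite S']
    (hE : F.IsFactorSystem F.center θ E) (hsm : F.IsSurjectiveMorphism E θ)
    (hperf : F.hyperfocalSubgroup p = S) {x : S} (hx : θ x ∈ E.center) :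
    ∀ s ∈ S, s * (x : Ω) = x * s := by
  have hZ := center_le_centerS F
  have hZS : F.center ≤ S := (isCentral_center F).1
  have hZc : ∀ z ∈ F.center, ∀ s ∈ S, s * z = z * s := fun z hz s hs =>
    Subgroup.mem_centralizer_iff.1 (hZ hz).2 s hs
  have hle : F.hyperfocalSubgroup p ≤ Subgroup.centralizer ({(x : Ω)} : Set Ω) := by
    unfold FusionSystem.hyperfocalSubgroup
    rw [Subgroup.closure_le]
    rintro _ ⟨P, α, g, hP, -, rfl⟩
    show _ ∈ Subgroup.centralizer ({(x : Ω)} : Set Ω)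
    rw [Subgroup.mem_centralizer_iff]
    rintro _ rfl
    have hφ : P.subtype.comp (α : MulAut P).toMonoidHom ∈ F.Hom P :=
      (Fusion.mem_autGroup_iff F hP).1 α.2
    obtain ⟨φ', hφ', hP_, hφS, hP', hind⟩ := hsm.1.2 P _ hφ
    obtain ⟨φ'', hφ'', hext, hfix⟩ := (isCentral_center E).2 _ φ' hφ'
    obtain ⟨ψ₂, hψ₂, hψ₂S, hψ₂ind⟩ := exists_lift_hom hsm hφ''
    have hgD : (g : Ω) ∈ preimageAlong θ (imageAlong θ P ⊔ E.center) :=
      mem_preimageAlong.2 ⟨hP g.2, (le_sup_left : imageAlong θ P ≤ _) (hP' g)⟩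
    have hxD : (x : Ω) ∈ preimageAlong θ (imageAlong θ P ⊔ E.center) :=
      mem_preimageAlong.2 ⟨x.2, (le_sup_right : E.center ≤ _) hx⟩
    have haS : (((α : MulAut P) g : P) : Ω) ∈ S := hP (Subtype.coe_prop _)
    have e1 : θ ⟨ψ₂ ⟨g, hgD⟩, hψ₂S _⟩ = θ ⟨(((α : MulAut P) g : P) : Ω), haS⟩ := by
      rw [← hψ₂ind ⟨g, hgD⟩]
      have := hind g
      rw [← hext ⟨θ ⟨g, hP g.2⟩, hP' g⟩] at this
      exact this
    have e2 : θ ⟨ψ₂ ⟨x, hxD⟩, hψ₂S _⟩ = θ x := by
      rw [← hψ₂ind ⟨x, hxD⟩]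
      exact hfix ⟨θ x, hx⟩
    -- the three central elements
    have hzg : (((α : MulAut P) g : P) : Ω)⁻¹ * ψ₂ ⟨g, hgD⟩ ∈ F.center := by
      have h3 : θ ((⟨(((α : MulAut P) g : P) : Ω), haS⟩ : S)⁻¹ * ⟨ψ₂ ⟨g, hgD⟩, hψ₂S _⟩) = 1 := by
        rw [map_mul, map_inv, e1]
        exact inv_mul_cancel _
      exact (hE.2.1 _).1 h3
    have hz : (x : Ω)⁻¹ * ψ₂ ⟨x, hxD⟩ ∈ F.center := by
      have h3 : θ (x⁻¹ * ⟨ψ₂ ⟨x, hxD⟩, hψ₂S _⟩) = 1 := by
        rw [map_mul, map_inv, e2]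
        exact inv_mul_cancel _
      exact (hE.2.1 _).1 h3
    have hc : (x : Ω)⁻¹ * ((g : Ω) * x * (g : Ω)⁻¹) ∈ F.center :=
      fix_mod_center F hE hsm hx (F.conj_mem le_rfl (hP g.2)) x.2
    have hcD : (x : Ω)⁻¹ * ((g : Ω) * x * (g : Ω)⁻¹) ∈
        preimageAlong θ (imageAlong θ P ⊔ E.center) := by
      refine mem_preimageAlong.2 ⟨hZS hc, ?_⟩
      rw [(hE.2.1 ⟨_, hZS hc⟩).2 hc]
      exact Subgroup.one_mem _
    have hψc := apply_eq_of_isCentral F (isCentral_center F) hψ₂ hc hcD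
    have hid : (⟨g, hgD⟩ : preimageAlong θ (imageAlong θ P ⊔ E.center)) * ⟨x, hxD⟩ * ⟨g, hgD⟩⁻¹ =
        ⟨x, hxD⟩ * ⟨_, hcD⟩ := by
      apply Subtype.ext
      show (g : Ω) * x * (g : Ω)⁻¹ = x * ((x : Ω)⁻¹ * ((g : Ω) * x * (g : Ω)⁻¹))
      group
    have hid2 := congrArg ψ₂ hid
    rw [map_mul, map_mul, map_mul, map_inv, hψc] at hid2
    have hg2 : ψ₂ ⟨g, hgD⟩ = (((α : MulAut P) g : P) : Ω) *
        ((((α : MulAut P) g : P) : Ω)⁻¹ * ψ₂ ⟨g, hgD⟩) := by group
    have hx2 : ψ₂ ⟨x, hxD⟩ = (x : Ω) * ((x : Ω)⁻¹ * ψ₂ ⟨x, hxD⟩) := by group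
    rw [hg2, hx2] at hid2
    refine conj_central_aux _ _ _ _ _ _ ?_ ?_ ?_ ?_ hid2 (by group)
    · exact (hZc _ hz _ haS).symm
    · exact (hZc _ hzg _ x.2).symm
    · exact (hZc _ hzg _ (hZS hz)).symm
    · exact (hZc _ hc _ (hZS hz)).symm
  intro s hs
  have h1 : s ∈ Subgroup.centralizer ({(x : Ω)} : Set Ω) := hle (by rw [hperf]; exact hs)
  exact (Subgroup.mem_centralizer_iff.1 h1 x rfl).symm

theorem aut_fix_of_factor_center (p : ℕ) [Fact p.Prime] (hS : IsPGroup p S) (F : FusionSystem S)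
    {θ : S →* Ω'} {E : FusionSystem S'} [Finite S']
    (hE : F.IsFactorSystem F.center θ E) (hsm : F.IsSurjectiveMorphism E θ) {x : S}
    (hx : θ x ∈ E.center) (hxc : ∀ s ∈ S, s * (x : Ω) = x * s) {P : Subgroup Ω}
    (hPa : F.IsFullyAutomized p P) (hxP : (x : Ω) ∈ P) :
    ∀ α ∈ F.autGroup P, α ⟨x, hxP⟩ = ⟨x, hxP⟩ := by
  have hP : P ≤ S := hPa.1
  have hPfin : Finite P := finite_of_le hP
  have hmem : ∀ α : F.autGroup P, (x : Ω)⁻¹ * (((α : MulAut P) ⟨x, hxP⟩ : P) : Ω) ∈ F.center :=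
    fun α => fix_mod_center F hE hsm hx ((Fusion.mem_autGroup_iff F hP).1 α.2) hxP
  let δ : F.autGroup P →* F.center :=
    { toFun := fun α => ⟨_, hmem α⟩
      map_one' := by
        apply Subtype.ext
        show (x : Ω)⁻¹ * (x : Ω) = 1
        exact inv_mul_cancel _
      map_mul' := fun α β => by
        apply Subtype.ext
        show (x : Ω)⁻¹ * (((α : MulAut P) ((β : MulAut P) ⟨x, hxP⟩) : P) : Ω) =
          (x : Ω)⁻¹ * (((α : MulAut P) ⟨x, hxP⟩ : P) : Ω) *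
            ((x : Ω)⁻¹ * (((β : MulAut P) ⟨x, hxP⟩ : P) : Ω))
        have hzP : (x : Ω)⁻¹ * (((β : MulAut P) ⟨x, hxP⟩ : P) : Ω) ∈ P :=
          P.mul_mem (P.inv_mem hxP) (Subtype.coe_prop _)
        have h1 := autGroup_fix_center' F hP (hmem β) hzP α.2
        have h2 : (β : MulAut P) ⟨x, hxP⟩ = ⟨x, hxP⟩ * ⟨_, hzP⟩ := by
          apply Subtype.ext
          show _ = (x : Ω) * ((x : Ω)⁻¹ * _)
          group
        rw [h2, map_mul, h1]
        show (x : Ω)⁻¹ * ((((α : MulAut P) ⟨x, hxP⟩ : P) : Ω) *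
          ((x : Ω)⁻¹ * (((β : MulAut P) ⟨x, hxP⟩ : P) : Ω))) = _
        rw [← h2]
        group }
  have hδ : ∀ α : F.autGroup P, ((δ α : F.center) : Ω) =
      (x : Ω)⁻¹ * (((α : MulAut P) ⟨x, hxP⟩ : P) : Ω) := fun α => rfl
  have hZp : IsPGroup p F.center := hS.to_le (isCentral_center F).1
  have hquot : IsPGroup p (F.autGroup P ⧸ δ.ker) :=
    IsPGroup.of_injective hZp (QuotientGroup.kerLift δ) (QuotientGroup.kerLift_injective δ)
  have hker : pResidual p (F.autGroup P) ≤ δ.ker :=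
    Cfsg.Agent.Lib.Helper18.pResidual_le_of_isPGroup_quotient δ.ker hquot
  obtain ⟨-, R, hR⟩ := hPa
  have hRker : (R : Subgroup (F.autGroup P)) ≤ δ.ker := by
    intro r hr
    rw [hR] at hr
    obtain ⟨g, hg, hgr⟩ := Fusion.mem_autInducedBy_iff.1 (Subgroup.mem_subgroupOf.1 hr)
    show δ r = 1
    apply Subtype.ext
    rw [hδ, hgr]
    show (x : Ω)⁻¹ * (g * (x : Ω) * g⁻¹) = 1
    rw [hxc g hg]
    group
  have htop : δ.ker = ⊤ := by
    rw [eq_top_iff, ← Cfsg.Agent.Lib.Helper18.pResidual_sup_sylow R]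
    exact sup_le hker hRker
  intro α hα
  have h1 : (⟨α, hα⟩ : F.autGroup P) ∈ δ.ker := by
    rw [htop]
    exact Subgroup.mem_top _
  have h2 : δ ⟨α, hα⟩ = 1 := h1
  have h3 := congrArg Subtype.val h2
  rw [hδ] at h3
  apply Subtype.ext
  exact (inv_mul_eq_one.1 h3).symm

/-- Grün's lemma for fusion systems: if the hyperfocal subgroup is all of `S`, the factor
system of `F` by its centre has trivial centre. -/
theorem center_factor_trivial (p : ℕ) [Fact p.Prime] (hS : IsPGroup p S) (F : FusionSystem S)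
    (hF : F.IsSaturated p) (hperf : F.hyperfocalSubgroup p = S) (θ : S →* Ω')
    (E : FusionSystem S') (hE : F.IsFactorSystem F.center θ E) : E.center = ⊥ := by
  have hZsc := stronglyClosed_of_isCentral F (isCentral_center F)
  have hsm := Cfsg.Agent.S5134.result p hS F hF F.center hZsc θ E hE
  have hfinS' : Finite S' := by
    rw [← hE.2.2.1]
    exact Finite.of_surjective θ.rangeRestrict θ.rangeRestrict_surjective
  have hEc := isCentral_center E
  rw [eq_bot_iff]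
  intro x' hx'
  have hx'S : x' ∈ θ.range := by
    rw [hE.2.2.1]
    exact hEc.1 hx'
  obtain ⟨x, rfl⟩ := hx'S
  rw [Subgroup.mem_bot]
  apply (hE.2.1 x).2
  have hxc := central_of_factor_center p F hE hsm hperf hx'
  have hQS : Subgroup.zpowers (x : Ω) ≤ S := (Subgroup.zpowers_le).2 x.2
  have hcent : centralizerIn S (Subgroup.zpowers (x : Ω)) = S :=
    centralizerIn_zpowers_central hxc
  obtain ⟨E', hE'⟩ := exists_cast_system hcent (centralizerSystem F (Subgroup.zpowers (x : Ω)) hQS)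
  have h77 := (Cfsg.Agent.S5077.result p hS F).1 hF
  have hle : F ≤ E' := by
    apply alperin p hS F hF E'
    intro P hP
    have hPS : P ≤ S := by
      rcases hP with hP | hP
      · exact hP.le
      · exact hP.1.1
    have hxP : (x : Ω) ∈ P := by
      rcases hP with hP | hP
      · rw [hP]
        exact x.2
      · refine hP.1.2 P (Fusion.isConj_refl F hP.1.1) ⟨x.2, ?_⟩
        show _ ∈ Subgroup.centralizer (P : Set Ω)
        rw [Subgroup.mem_centralizer_iff]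
        intro h hh
        exact hxc h (hP.1.1 hh)
    have hPa : F.IsFullyAutomized p P := by
      rcases hP with hP | hP
      · rw [hP]
        exact Fusion.top_fullyAutomized F hF
      · exact (h77.1 P hP.2.1).2
    have hfix := aut_fix_of_factor_center p hS F hE hsm hx' hxc hPa hxP
    apply Subgroup.closure_mono
    intro α hα
    show P.subtype.comp α.toMonoidHom ∈ E'.Hom P
    rw [hE' P]
    have hsup : P ⊔ Subgroup.zpowers (x : Ω) ≤ P := sup_le le_rfl ((Subgroup.zpowers_le).2 hxP)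
    refine ⟨hα, ?_, ?_, (P.subtype.comp α.toMonoidHom).comp (Subgroup.inclusion hsup),
      Fusion.restrict_mem F hα hsup, fun y => ?_, fun q => ?_⟩
    · rw [hcent]
      exact hPS
    · intro y
      rw [hcent]
      exact hPS (Subtype.coe_prop _)
    · rfl
    · obtain ⟨k, hk⟩ := Subgroup.mem_zpowers_iff.1 q.2
      have hα' : α ∈ F.autGroup P := Subgroup.subset_closure hα
      have e : (Subgroup.inclusion hsup (Subgroup.inclusion le_sup_right q) : P) =
          ⟨x, hxP⟩ ^ k := by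
        apply Subtype.ext
        rw [Subgroup.coe_zpow]
        exact hk.symm
      show ((α (Subgroup.inclusion hsup (Subgroup.inclusion le_sup_right q)) : P) : Ω) = q
      rw [e, map_zpow, hfix α hα', Subgroup.coe_zpow]
      exact hk
  have hcen : F.IsCentral (Subgroup.zpowers (x : Ω)) := by
    refine ⟨hQS, fun P φ hφ => ?_⟩
    have := hle P hφ
    rw [hE' P] at this
    exact this.2.2.2
  exact (le_sSup hcen : Subgroup.zpowers (x : Ω) ≤ F.center) (Subgroup.mem_zpowers _)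

end Grun

end Cfsg.Agent.Lib.Helper27
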