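import Cfsg.Agent.Lib.Helper27.QuotSat
import Cfsg.Agent.Lib.Helper27.Hyperfocal
import Cfsg.Agent.Lib.Helper27.Chain
import Cfsg.Agent.S5134

set_option autoImplicit false

namespace Cfsg.Agent.Lib.Helper27

open Cfsg Cfsg.FusionSystem Cfsg.Agent.Lib.Helper26

/-- A surjection of finite groups maps the `p`-residual onto the `p`-residual. -/
theorem pResidual_le_map {G G' : Type*} [Group G] [Group G'] [Finite G] (p : ℕ) [Fact p.Prime]
    (Φ : G →* G') (hΦ : Function.Surjective Φ) : pResidual p G' ≤ (pResidual p G).map Φ := by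
  conv_lhs => unfold pResidual
  rw [Subgroup.closure_le]
  intro g' hg'
  obtain ⟨g, rfl⟩ := hΦ g'
  obtain ⟨n, hn⟩ := Cfsg.Agent.Lib.Helper18.exists_pow_mem_pResidual (p := p) g
  have h1 : (Φ g) ^ (p ^ n) ∈ (pResidual p G).map Φ := ⟨_, hn, map_pow Φ g _⟩
  exact Cfsg.Agent.Lib.Helper18.mem_of_pow_mem_of_coprime h1 hg'

variable {Ω : Type*} [Group Ω] {S : Subgroup Ω} {Ω' : Type*} [Group Ω'] {S' : Subgroup Ω'}

/-- The restriction of `θ` to `P`, onto its image. -/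
def imgMap (θ : S →* Ω') {P : Subgroup Ω} (hP : P ≤ S) : P →* imageAlong θ P :=
  (θ.comp (Subgroup.inclusion hP)).codRestrict (imageAlong θ P)
    (fun x => ⟨⟨x, hP x.2⟩, Subgroup.mem_subgroupOf.mpr x.2, rfl⟩)

theorem imgMap_coe (θ : S →* Ω') {P : Subgroup Ω} (hP : P ≤ S) (x : P) :
    ((imgMap θ hP x : imageAlong θ P) : Ω') = θ ⟨x, hP x.2⟩ := rfl

theorem imgMap_surjective (θ : S →* Ω') {P : Subgroup Ω} (hP : P ≤ S) :
    Function.Surjective (imgMap θ hP) := by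
  rintro ⟨_, s, hs, rfl⟩
  exact ⟨⟨s, Subgroup.mem_subgroupOf.mp hs⟩, rfl⟩

theorem imgMap_eq_one_iff (θ : S →* Ω') {P : Subgroup Ω} (hP : P ≤ S) (x : P) :
    imgMap θ hP x = 1 ↔ (x : Ω) ∈ kerSub θ := by
  constructor
  · intro h
    exact mem_kerSub.mpr ⟨hP x.2, congrArg Subtype.val h⟩
  · intro h
    obtain ⟨h1, h2⟩ := mem_kerSub.mp h
    exact Subtype.ext h2

theorem autGroup_le_stabKer_img [Finite S] {F : FusionSystem S} {θ : S →* Ω'}
    (hK : F.StronglyClosed (kerSub θ)) {P : Subgroup Ω} (hP : P ≤ S) :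
    F.autGroup P ≤ stabKer (imgMap θ hP) := by
  intro β hβ x
  rw [imgMap_eq_one_iff, imgMap_eq_one_iff]
  constructor
  · intro h
    have h1 := apply_mem_of_stronglyClosed F hK hP (inv_mem hβ) (β x) h
    rwa [MulAut.inv_apply_self] at h1
  · intro h
    exact apply_mem_of_stronglyClosed F hK hP hβ x h

/-- The automorphism of `θ(P)` induced by an element of `Aut_F(P)`. -/
noncomputable def hqImgHom [Finite S] {F : FusionSystem S} {θ : S →* Ω'}
    (hK : F.StronglyClosed (kerSub θ)) {P : Subgroup Ω} (hP : P ≤ S) :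
    F.autGroup P →* MulAut (imageAlong θ P) :=
  (quotAut (imgMap θ hP) (imgMap_surjective θ hP)).comp
    (Subgroup.inclusion (autGroup_le_stabKer_img hK hP))

theorem hqImgHom_apply [Finite S] {F : FusionSystem S} {θ : S →* Ω'}
    (hK : F.StronglyClosed (kerSub θ)) {P : Subgroup Ω} (hP : P ≤ S)
    (β : F.autGroup P) (x : P) :
    hqImgHom hK hP β (imgMap θ hP x) = imgMap θ hP ((β : MulAut _) x) :=
  quotAut_apply _ _ _ x

theorem hqImgHom_mem [Finite S] {F : FusionSystem S} {F' : FusionSystem S'} {θ : S →* Ω'}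
    (hθ : F.IsMorphism F' θ) (hK : F.StronglyClosed (kerSub θ)) {P : Subgroup Ω} (hP : P ≤ S)
    (β : F.autGroup P) : hqImgHom hK hP β ∈ F'.autGroup (imageAlong θ P) := by
  have hP'S' : imageAlong θ P ≤ S' := by
    rintro _ ⟨s, -, rfl⟩
    exact hθ.1 s
  rw [Fusion.mem_autGroup_iff F' hP'S']
  obtain ⟨φ', hφ', hP₁, hφS, hP'', hind⟩ := hθ.2 P _ ((Fusion.mem_autGroup_iff F hP).1 β.2)
  have e : (imageAlong θ P).subtype.comp
      (hqImgHom hK hP β : imageAlong θ P ≃* imageAlong θ P).toMonoidHom = φ' := by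
    ext y
    obtain ⟨x, rfl⟩ := imgMap_surjective θ hP y
    show ((hqImgHom hK hP β (imgMap θ hP x) : imageAlong θ P) : Ω') = φ' (imgMap θ hP x)
    rw [hqImgHom_apply]
    exact (hind x).symm
  unfold Fusion.IsIso
  rw [e]
  exact hφ'

/-- The induced homomorphism `Aut_F(P) → Aut_{F'}(θ(P))`. -/
noncomputable def imgAut [Finite S] {F : FusionSystem S} {F' : FusionSystem S'} {θ : S →* Ω'}
    (hθ : F.IsMorphism F' θ) (hK : F.StronglyClosed (kerSub θ)) {P : Subgroup Ω} (hP : P ≤ S) :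
    F.autGroup P →* F'.autGroup (imageAlong θ P) :=
  (hqImgHom hK hP).codRestrict _ (hqImgHom_mem hθ hK hP)

theorem imgAut_apply [Finite S] {F : FusionSystem S} {F' : FusionSystem S'} {θ : S →* Ω'}
    (hθ : F.IsMorphism F' θ) (hK : F.StronglyClosed (kerSub θ)) {P : Subgroup Ω} (hP : P ≤ S)
    (β : F.autGroup P) (x : P) :
    ((imgAut hθ hK hP β : F'.autGroup (imageAlong θ P)) : MulAut _) (imgMap θ hP x) =
      imgMap θ hP ((β : MulAut _) x) :=
  hqImgHom_apply hK hP β x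

/-- The image of the hyperfocal subgroup lies in the hyperfocal subgroup of the image. -/
theorem hyperfocal_le_preimage [Finite S] (p : ℕ) {F : FusionSystem S} {F' : FusionSystem S'}
    {θ : S →* Ω'} (hθ : F.IsMorphism F' θ) (hK : F.StronglyClosed (kerSub θ)) :
    F.hyperfocalSubgroup p ≤ preimageAlong θ (F'.hyperfocalSubgroup p) := by
  conv_lhs => unfold FusionSystem.hyperfocalSubgroup
  rw [Subgroup.closure_le]
  rintro _ ⟨P, α, x, hP, hα, rfl⟩
  have hP'S' : imageAlong θ P ≤ S' := by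
    rintro _ ⟨s, -, rfl⟩
    exact hθ.1 s
  have hmemS : (x : Ω)⁻¹ * (((α : MulAut P) x : P) : Ω) ∈ S :=
    S.mul_mem (S.inv_mem (hP x.2)) (hP ((α : MulAut P) x).2)
  refine mem_preimageAlong.mpr ⟨hmemS, ?_⟩
  have hα' : imgAut hθ hK hP α ∈ pResidual p (F'.autGroup (imageAlong θ P)) :=
    pResidual_map_le p (imgAut hθ hK hP) ⟨α, hα, rfl⟩
  have h1 := mem_hyperfocal F' p hP'S' hα' (imgMap θ hP x)
  rw [imgAut_apply, imgMap_coe, imgMap_coe] at h1
  have e : (⟨(x : Ω)⁻¹ * (((α : MulAut P) x : P) : Ω), hmemS⟩ : S) =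
      (⟨x, hP x.2⟩ : S)⁻¹ * ⟨(((α : MulAut P) x : P) : Ω), hP ((α : MulAut P) x).2⟩ := rfl
  rw [e, map_mul, map_inv]
  exact h1

/-- The hyperfocal subgroup of the image is the image of the hyperfocal subgroup. -/
theorem hyperfocal_image [Finite S] (p : ℕ) [Fact p.Prime] {F : FusionSystem S}
    {F' : FusionSystem S'} {θ : S →* Ω'} (hθ : F.IsSurjectiveMorphism F' θ)
    (hK : F.StronglyClosed (kerSub θ)) :
    F'.hyperfocalSubgroup p = ((F.hyperfocalSubgroup p).subgroupOf S).map θ := by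
  apply le_antisymm
  · conv_lhs => unfold FusionSystem.hyperfocalSubgroup
    rw [Subgroup.closure_le]
    rintro _ ⟨P', α', x', hP', hα', rfl⟩
    have hQS := preimageAlong_le θ P'
    have hQfin : Finite ↥(preimageAlong θ P') := finite_of_le hQS
    have hAfin : Finite (F.autGroup (preimageAlong θ P')) := inferInstance
    obtain ⟨α, hα, rfl⟩ :=
      pResidual_le_map p (piAut hθ hK hP') (piAut_surjective hθ hK hP') hα'
    obtain ⟨x, rfl⟩ := preMap_surjective hθ.2.1 hP' x'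
    rw [piAut_apply, preMap_coe, preMap_coe]
    have hmem := mem_hyperfocal F p hQS hα x
    have hmemS : (x : Ω)⁻¹ * (((α : MulAut _) x : preimageAlong θ P') : Ω) ∈ S :=
      S.mul_mem (S.inv_mem (hQS x.2)) (hQS ((α : MulAut _) x).2)
    refine ⟨⟨_, hmemS⟩, Subgroup.mem_subgroupOf.mpr hmem, ?_⟩
    have e : (⟨(x : Ω)⁻¹ * (((α : MulAut _) x : preimageAlong θ P') : Ω), hmemS⟩ : S) =
        (⟨x, hQS x.2⟩ : S)⁻¹ * ⟨(((α : MulAut _) x : preimageAlong θ P') : Ω),
          hQS ((α : MulAut _) x).2⟩ := rfl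
    rw [e, map_mul, map_inv]
  · rintro _ ⟨s, hs, rfl⟩
    have h1 := hyperfocal_le_preimage p hθ.1 hK (Subgroup.mem_subgroupOf.mp hs)
    obtain ⟨h2, h3⟩ := mem_preimageAlong.mp h1
    exact h3

theorem kerSub_eq_of_ker {θ : S →* Ω'} {T : Subgroup Ω} (hTS : T ≤ S)
    (hker : ∀ s : S, θ s = 1 ↔ (s : Ω) ∈ T) : kerSub θ = T := by
  ext x
  rw [mem_kerSub]
  constructor
  · rintro ⟨h, hx⟩
    exact (hker ⟨x, h⟩).1 hx
  · intro hx
    exact ⟨hTS hx, (hker ⟨x, hTS hx⟩).2 hx⟩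

end Cfsg.Agent.Lib.Helper27
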