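import Cfsg.Prelude.Def_LocalEven
import Cfsg.Agent.Lib.Helper27.SylowAux

set_option autoImplicit false

namespace Cfsg.Agent.Lib.Helper27

open Cfsg

universe u v w

theorem involves_iff_exists_surj {A : Type u} [Group A] {B : Type v} [Group B] :
    Involves A B ↔ ∃ (K : Subgroup B) (f : K →* A), Function.Surjective f := by
  constructor
  · rintro ⟨K, R, hn, ⟨e⟩⟩
    exact ⟨K, e.toMonoidHom.comp (QuotientGroup.mk' (R.subgroupOf K)),
      e.surjective.comp (QuotientGroup.mk'_surjective _)⟩
  · rintro ⟨K, f, hf⟩
    have h1 : (f.ker.map K.subtype).subgroupOf K = f.ker := by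
      ext x
      rw [Subgroup.mem_subgroupOf]
      constructor
      · rintro ⟨y, hy, hyx⟩
        have : y = x := Subtype.ext hyx
        rwa [← this]
      · intro hx
        exact ⟨x, hx, rfl⟩
    have hn : ((f.ker.map K.subtype).subgroupOf K).Normal := by
      rw [h1]; infer_instance
    refine ⟨K, f.ker.map K.subtype, hn, ⟨?_⟩⟩
    exact (QuotientGroup.quotientMulEquivOfEq h1).trans
      (QuotientGroup.quotientKerEquivOfSurjective f hf)

theorem involves_self (A : Type u) [Group A] : Involves A A :=
  involves_iff_exists_surj.mpr ⟨⊤, (Subgroup.topEquiv : (⊤ : Subgroup A) ≃* A).toMonoidHom,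
    Subgroup.topEquiv.surjective⟩

theorem involves_of_injective {A : Type u} [Group A] {B : Type v} [Group B] {C : Type w}
    [Group C] (f : B →* C) (hf : Function.Injective f) (h : Involves A B) : Involves A C := by
  obtain ⟨K, g, hg⟩ := involves_iff_exists_surj.mp h
  refine involves_iff_exists_surj.mpr ⟨K.map f, g.comp (K.equivMapOfInjective f hf).symm.toMonoidHom,
    hg.comp (K.equivMapOfInjective f hf).symm.surjective⟩

theorem involves_of_surjective_of_subgroup {A : Type u} [Group A] {B : Type v} [Group B]
    {C : Type w} [Group C] (M : Subgroup C) (f : M →* B) (hf : Function.Surjective f)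
    (h : Involves A B) : Involves A C := by
  obtain ⟨K, g, hg⟩ := involves_iff_exists_surj.mp h
  have h1 : Involves A M :=
    involves_iff_exists_surj.mpr ⟨K.comap f, g.comp (f.subgroupComap K),
      hg.comp (f.subgroupComap_surjective_of_surjective K hf)⟩
  exact involves_of_injective M.subtype M.subtype_injective h1

theorem involves_trans {A : Type u} [Group A] {B : Type v} [Group B] {C : Type w} [Group C]
    (h₁ : Involves A B) (h₂ : Involves B C) : Involves A C := by
  obtain ⟨M, f, hf⟩ := involves_iff_exists_surj.mp h₂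
  exact involves_of_surjective_of_subgroup M f hf h₁

theorem involves_subgroup {H : Type u} [Group H] (Q : Subgroup H) : Involves Q H :=
  involves_of_injective Q.subtype Q.subtype_injective (involves_self Q)

/-- A `p`-group involved in a finite group is involved in any of its Sylow `p`-subgroups. -/
theorem involves_sylow {Q : Type u} [Group Q] [Finite Q] {L : Type v} [Group L] [Finite L]
    {p : ℕ} [Fact p.Prime] (hQ : IsPGroup p Q) (T : Sylow p L) (h : Involves Q L) :
    Involves Q (T : Subgroup L) := by
  obtain ⟨K, f, hf⟩ := involves_iff_exists_surj.mp h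
  obtain ⟨P₁⟩ : Nonempty (Sylow p K) := inferInstance
  have himg : (P₁ : Subgroup K).map f = ⊤ := by
    have h1 : ((P₁.mapSurjective hf : Sylow p Q) : Subgroup Q) = (P₁ : Subgroup K).map f :=
      Sylow.coe_mapSurjective hf P₁
    have htop : IsPGroup p (⊤ : Subgroup Q) := hQ.of_equiv Subgroup.topEquiv.symm
    have h2 := (P₁.mapSurjective hf).3 htop le_top
    rw [← h1, ← h2]
  -- the image of `P₁` in `L`
  set P₂ : Subgroup L := (P₁ : Subgroup K).map K.subtype with hP₂
  have hP₂p : IsPGroup p P₂ := P₁.2.map _
  obtain ⟨c, hc⟩ := exists_cj_le_sylow T hP₂p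
  -- a surjection from `P₂` onto `Q`
  let e₁ : (P₁ : Subgroup K) ≃* P₂ := (P₁ : Subgroup K).equivMapOfInjective K.subtype
    K.subtype_injective
  let g₁ : P₂ →* Q := (f.comp (P₁ : Subgroup K).subtype).comp e₁.symm.toMonoidHom
  have hg₁ : Function.Surjective g₁ := by
    have : Function.Surjective (f.comp (P₁ : Subgroup K).subtype) := by
      intro q
      have hq : q ∈ (P₁ : Subgroup K).map f := by rw [himg]; exact Subgroup.mem_top q
      obtain ⟨x, hx, rfl⟩ := hq
      exact ⟨⟨x, hx⟩, rfl⟩
    exact this.comp e₁.symm.surjective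
  have h3 : Involves Q P₂ := involves_iff_exists_surj.mpr
    ⟨⊤, g₁.comp (Subgroup.topEquiv : (⊤ : Subgroup P₂) ≃* P₂).toMonoidHom,
      hg₁.comp Subgroup.topEquiv.surjective⟩
  -- embed `P₂` into `T` by conjugation
  let j : P₂ →* (T : Subgroup L) :=
    { toFun := fun x => ⟨c * x * c⁻¹, hc (conj_mem_cj x.2)⟩
      map_one' := by ext; simp
      map_mul' := by intro x y; ext; simp [mul_assoc] }
  have hj : Function.Injective j := by
    intro x y hxy
    have : c * (x : L) * c⁻¹ = c * (y : L) * c⁻¹ := congrArg Subtype.val hxy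
    exact Subtype.ext (mul_left_cancel (mul_right_cancel this))
  exact involves_of_injective j hj h3

end Cfsg.Agent.Lib.Helper27
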