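import Mathlib
import Cfsg.Prelude.Def_FusionSystem
import Cfsg.Agent.Lib.Helper27.KNorm
import Cfsg.Agent.Lib.Helper27.QuotSat

set_option autoImplicit false

namespace Cfsg.Agent.Lib.Helper27

open Cfsg Cfsg.FusionSystem Cfsg.Agent.Lib.Helper26

section generic

variable {X Y : Type*} [Group X] [Group Y] [Finite X] {p : ℕ} [Fact p.Prime]

/-- The image of a Sylow subgroup under a homomorphism is a Sylow subgroup of the image. -/
theorem card_map_pPart (f : X →* Y) {T A : Subgroup X} (hTA : T ≤ A)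
    (hT : Nat.card T = p ^ (Nat.card A).factorization p) :
    Nat.card (T.map f) = p ^ (Nat.card (A.map f)).factorization p := by
  have hfin : Finite (A.map f) :=
    Finite.of_surjective (f.subgroupMap A) (f.subgroupMap_surjective A)
  let P : Sylow p A := Sylow.ofCard (T.subgroupOf A) (by
    rw [← hT]
    exact Nat.card_congr (Subgroup.subgroupOfEquivOfLe hTA).toEquiv)
  let P' : Sylow p (A.map f) := P.mapSurjective (f.subgroupMap_surjective A)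
  have h1 : Nat.card (P' : Subgroup (A.map f)) = p ^ (Nat.card (A.map f)).factorization p :=
    P'.card_eq_multiplicity
  have h2 : ((P' : Subgroup (A.map f))).map (A.map f).subtype = T.map f := by
    rw [Sylow.coe_mapSurjective]
    ext y
    constructor
    · rintro ⟨_, ⟨x, hx, rfl⟩, rfl⟩
      exact ⟨x, hx, rfl⟩
    · rintro ⟨x, hx, rfl⟩
      exact ⟨_, ⟨⟨x, hTA hx⟩, hx, rfl⟩, rfl⟩
  rw [← h2, Subgroup.card_map_of_injective (Subgroup.subtype_injective _), h1]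

/-- A `p`-subgroup whose image lies in the image of the Sylow subgroup `T` of `A` is conjugate
into `T` by an element of `A` in the kernel. -/
theorem exists_ker_cj_le (f : X →* Y) {T A L : Subgroup X} (hTA : T ≤ A)
    (hT : Nat.card T = p ^ (Nat.card A).factorization p)
    (hLA : L ≤ A) (hL : IsPGroup p L) (hLT : L.map f ≤ T.map f) :
    ∃ c ∈ A, f c = 1 ∧ cj c L ≤ T := by
  have hTB : T ≤ (T.map f).comap f ⊓ A := le_inf (Subgroup.le_comap_map f T) hTA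
  have hLB : L ≤ (T.map f).comap f ⊓ A := le_inf (Subgroup.map_le_iff_le_comap.1 hLT) hLA
  have hTp : IsPGroup p T := isPGroup_of_card_pPart hT
  obtain ⟨T₁, hTT₁, hT₁B, hT₁p, hT₁c⟩ := exists_sylow_between (p := p) hTB hTp
  have h1 : Nat.card T₁ ≤ Nat.card T := by
    rw [hT]
    exact card_le_pPart (hT₁B.trans inf_le_right) hT₁p
  have h2 : Nat.card T ≤ Nat.card T₁ := Subgroup.card_le_of_le hTT₁
  have hT' : Nat.card T = p ^ (Nat.card ↥((T.map f).comap f ⊓ A)).factorization p := by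
    rw [← hT₁c]
    exact le_antisymm h2 h1
  obtain ⟨b, hb, hbL⟩ := exists_cj_le_of_card hTB hT' hLB hL
  obtain ⟨τ, hτ, hτb⟩ := hb.1
  refine ⟨τ⁻¹ * b, A.mul_mem (A.inv_mem (hTA hτ)) hb.2, ?_, ?_⟩
  · rw [map_mul, map_inv, hτb]
    simp
  · rw [← cj_cj]
    calc cj τ⁻¹ (cj b L) ≤ cj τ⁻¹ T := cj_mono hbL
      _ = T := cj_eq_self_of_mem (T.inv_mem hτ)

omit [Finite X] in
theorem card_subgroupOf_inf (K₁ A : Subgroup X) :
    Nat.card (A.subgroupOf K₁) = Nat.card ↥(K₁ ⊓ A) := by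
  rw [← Subgroup.inf_subgroupOf_left]
  exact Nat.card_congr (Subgroup.subgroupOfEquivOfLe inf_le_left).toEquiv

end generic

variable {Ω : Type*} [Group Ω] {S : Subgroup Ω}

/-- An automorphism of a finite group mapping `P` into `P` maps `P` onto `P`. -/
theorem stab_iff_of_imp {M : Subgroup Ω} [Finite M] (P : Subgroup Ω) (α : MulAut M)
    (h : ∀ m : M, (m : Ω) ∈ P → ((α m : M) : Ω) ∈ P) (m : M) :
    (m : Ω) ∈ P ↔ ((α m : M) : Ω) ∈ P := by
  refine ⟨h m, fun hm => ?_⟩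
  have hle : (P.subgroupOf M).map α.toMonoidHom ≤ P.subgroupOf M := by
    rintro _ ⟨x, hx, rfl⟩
    exact Subgroup.mem_subgroupOf.2 (h x (Subgroup.mem_subgroupOf.1 hx))
  have hcard : Nat.card (P.subgroupOf M) ≤ Nat.card ((P.subgroupOf M).map α.toMonoidHom) :=
    (Subgroup.card_map_of_injective α.injective).ge
  have heq := Subgroup.eq_of_le_of_card_ge hle hcard
  have hm' : α m ∈ (P.subgroupOf M).map α.toMonoidHom := by
    rw [heq]
    exact Subgroup.mem_subgroupOf.2 hm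
  obtain ⟨x, hx, hxm⟩ := hm'
  have : x = m := α.injective hxm
  rw [← this]
  exact Subgroup.mem_subgroupOf.1 hx

/-- `K_P`: the automorphisms of `M` (in use `M = PQ`) stabilising `P` and restricting on `Q`
to an element of `K`. -/
def KP (M P Q : Subgroup Ω) (hQM : Q ≤ M) (K : Subgroup (MulAut Q)) : Subgroup (MulAut M) where
  carrier := {α | (∀ m : M, (m : Ω) ∈ P ↔ ((α m : M) : Ω) ∈ P) ∧
    ∃ κ ∈ K, ∀ q : Q, ((α (Subgroup.inclusion hQM q) : M) : Ω) = ((κ q : Q) : Ω)}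
  one_mem' := ⟨fun m => Iff.rfl, 1, K.one_mem, fun q => rfl⟩
  mul_mem' := by
    rintro α β ⟨hα, κ, hκ, h1⟩ ⟨hβ, μ, hμ, h2⟩
    refine ⟨fun m => (hβ m).trans (hα (β m)), κ * μ, K.mul_mem hκ hμ, fun q => ?_⟩
    have e : β (Subgroup.inclusion hQM q) = Subgroup.inclusion hQM (μ q) := Subtype.ext (h2 q)
    show ((α (β (Subgroup.inclusion hQM q)) : M) : Ω) = ((κ (μ q) : Q) : Ω)
    rw [e, h1]
  inv_mem' := by
    rintro α ⟨hα, κ, hκ, h1⟩
    refine ⟨fun m => ?_, κ⁻¹, K.inv_mem hκ, fun q => ?_⟩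
    · have := hα (α⁻¹ m)
      rw [MulAut.apply_inv_self] at this
      exact this.symm
    · have h2 := h1 (κ⁻¹ q)
      rw [MulAut.apply_inv_self] at h2
      have e : α (Subgroup.inclusion hQM (κ⁻¹ q)) = Subgroup.inclusion hQM q := Subtype.ext h2
      have e2 : α⁻¹ (Subgroup.inclusion hQM q) = Subgroup.inclusion hQM (κ⁻¹ q) := by
        rw [← e, MulAut.inv_apply_self]
      rw [e2]
      rfl

theorem mem_KP {M P Q : Subgroup Ω} {hQM : Q ≤ M} {K : Subgroup (MulAut Q)} {α : MulAut M} :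
    α ∈ KP M P Q hQM K ↔ (∀ m : M, (m : Ω) ∈ P ↔ ((α m : M) : Ω) ∈ P) ∧
    ∃ κ ∈ K, ∀ q : Q, ((α (Subgroup.inclusion hQM q) : M) : Ω) = ((κ q : Q) : Ω) := Iff.rfl

theorem Kt_self {Q : Subgroup Ω} {K : Subgroup (MulAut Q)} {χ : MulAut Q} (hχ : χ ∈ K) :
    Kt χ K = K := by
  ext β
  constructor
  · rintro ⟨κ, hκ, rfl⟩
    have : MulAut.congr χ κ = χ * κ * χ⁻¹ := by
      apply MulEquiv.ext
      intro q
      rfl
    show MulAut.congr χ κ ∈ K
    rw [this]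
    exact K.mul_mem (K.mul_mem hχ hκ) (K.inv_mem hχ)
  · intro hβ
    refine ⟨χ⁻¹ * β * χ, K.mul_mem (K.mul_mem (K.inv_mem hχ) hβ) hχ, ?_⟩
    apply MulEquiv.ext
    intro q
    show χ (χ⁻¹ (β (χ (χ.symm q)))) = β q
    simp

/-- Transport of `K_P` along an isomorphism respecting `P` and acting on `Q` by an element of
`K`. -/
theorem Kt_KP_le {M M' P P' Q : Subgroup Ω} (hQM : Q ≤ M) (hQM' : Q ≤ M')
    (K : Subgroup (MulAut Q)) (θ : M ≃* M')
    (hP : ∀ m : M, (m : Ω) ∈ P ↔ ((θ m : M') : Ω) ∈ P')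
    (χ : MulAut Q) (hχ : χ ∈ K)
    (hθQ : ∀ q : Q, ((θ (Subgroup.inclusion hQM q) : M') : Ω) = ((χ q : Q) : Ω)) :
    Kt θ (KP M P Q hQM K) ≤ KP M' P' Q hQM' K := by
  rintro _ ⟨α, ⟨hα, κ, hκ, h1⟩, rfl⟩
  refine ⟨fun m' => ?_, χ * κ * χ⁻¹, K.mul_mem (K.mul_mem hχ hκ) (K.inv_mem hχ), fun q => ?_⟩
  · show (m' : Ω) ∈ P' ↔ ((θ (α (θ.symm m')) : M') : Ω) ∈ P'
    rw [← hP, ← hα, hP, MulEquiv.apply_symm_apply]
  · show ((θ (α (θ.symm (Subgroup.inclusion hQM' q))) : M') : Ω) = ((χ (κ (χ⁻¹ q)) : Q) : Ω)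
    have e1 : θ.symm (Subgroup.inclusion hQM' q) = Subgroup.inclusion hQM (χ⁻¹ q) := by
      rw [MulEquiv.symm_apply_eq]
      apply Subtype.ext
      rw [hθQ, MulAut.apply_inv_self]
      rfl
    have e2 : α (Subgroup.inclusion hQM (χ⁻¹ q)) = Subgroup.inclusion hQM (κ (χ⁻¹ q)) :=
      Subtype.ext (h1 _)
    rw [e1, e2, hθQ]

theorem Kt_KP_eq {M M' P P' Q : Subgroup Ω} (hQM : Q ≤ M) (hQM' : Q ≤ M')
    (K : Subgroup (MulAut Q)) (θ : M ≃* M')
    (hP : ∀ m : M, (m : Ω) ∈ P ↔ ((θ m : M') : Ω) ∈ P')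
    (χ : MulAut Q) (hχ : χ ∈ K)
    (hθQ : ∀ q : Q, ((θ (Subgroup.inclusion hQM q) : M') : Ω) = ((χ q : Q) : Ω)) :
    Kt θ (KP M P Q hQM K) = KP M' P' Q hQM' K := by
  refine le_antisymm (Kt_KP_le hQM hQM' K θ hP χ hχ hθQ) (fun β hβ => ?_)
  have h1 : MulAut.congr θ.symm β ∈ Kt θ.symm (KP M' P' Q hQM' K) := congr_mem_Kt _ hβ
  have h2 := Kt_KP_le (P := P') (P' := P) hQM' hQM K θ.symm (fun m' => by
    rw [hP, MulEquiv.apply_symm_apply]) χ⁻¹ (K.inv_mem hχ) (fun q => by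
      have e1 : θ.symm (Subgroup.inclusion hQM' q) = Subgroup.inclusion hQM (χ⁻¹ q) := by
        rw [MulEquiv.symm_apply_eq]
        apply Subtype.ext
        rw [hθQ, MulAut.apply_inv_self]
        rfl
      rw [e1]
      rfl) h1
  refine ⟨_, h2, ?_⟩
  apply MulEquiv.ext
  intro m'
  show θ (θ.symm (β (θ.symm.symm (θ.symm m')))) = β m'
  simp

/-- Restriction to `P` of the automorphisms in `K_P`. -/
noncomputable def resKP {M P Q : Subgroup Ω} (hPM : P ≤ M) (hQM : Q ≤ M)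
    (K : Subgroup (MulAut Q)) : ↥(KP M P Q hQM K) →* MulAut P where
  toFun α :=
    { toFun := fun x => ⟨((α.1 ⟨x, hPM x.2⟩ : M) : Ω), (α.2.1 ⟨x, hPM x.2⟩).1 x.2⟩
      invFun := fun x => ⟨((α.1⁻¹ ⟨x, hPM x.2⟩ : M) : Ω), by
        have := α.2.1 (α.1⁻¹ ⟨x, hPM x.2⟩)
        rw [MulAut.apply_inv_self] at this
        exact this.2 x.2⟩
      left_inv := fun x => by
        apply Subtype.ext
        show ((α.1⁻¹ (α.1 ⟨x, hPM x.2⟩) : M) : Ω) = x
        rw [MulAut.inv_apply_self]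
      right_inv := fun x => by
        apply Subtype.ext
        show ((α.1 (α.1⁻¹ ⟨x, hPM x.2⟩) : M) : Ω) = x
        rw [MulAut.apply_inv_self]
      map_mul' := fun x y => by
        apply Subtype.ext
        show ((α.1 (⟨x, hPM x.2⟩ * ⟨y, hPM y.2⟩) : M) : Ω) = _
        rw [map_mul]
        rfl }
  map_one' := by
    apply MulEquiv.ext
    intro x
    rfl
  map_mul' := fun α β => by
    apply MulEquiv.ext
    intro x
    rfl

theorem resKP_apply {M P Q : Subgroup Ω} (hPM : P ≤ M) (hQM : Q ≤ M)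
    (K : Subgroup (MulAut Q)) (α : ↥(KP M P Q hQM K)) (x : P) :
    ((resKP hPM hQM K α x : P) : Ω) = ((α.1 ⟨x, hPM x.2⟩ : M) : Ω) := rfl

/-- Conjugation by an element of `N_S^K(Q)` normalizing `P` is an element of `K_P` induced by
`S`. -/
theorem conj_mem_KP {P Q : Subgroup Ω} {K : Subgroup (MulAut Q)} {g : Ω}
    (hg : g ∈ NK S Q K) (hgP : g ∈ Subgroup.normalizer (P : Set Ω)) :
    ∃ α : MulAut ↥(P ⊔ Q), α ∈ KP (P ⊔ Q) P Q le_sup_right K ∧ α ∈ autInducedBy S (P ⊔ Q) ∧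
      ∀ m : ↥(P ⊔ Q), ((α m : ↥(P ⊔ Q)) : Ω) = g * m * g⁻¹ := by
  have hgQ : g ∈ Subgroup.normalizer (Q : Set Ω) := NK_le_normalizer Q K hg
  have hgM : g ∈ Subgroup.normalizer ((P ⊔ Q : Subgroup Ω) : Set Ω) :=
    Subgroup.normalizer_inf_normalizer_le_normalizer_sup P Q ⟨hgP, hgQ⟩
  obtain ⟨hgS, κ, hκ, h1⟩ := hg
  refine ⟨(P ⊔ Q).normalizerMonoidHom ⟨g, hgM⟩, ⟨fun m => ?_, κ, hκ, fun q => ?_⟩,
    Subgroup.subset_closure ⟨g, hgS, fun m => rfl⟩, fun m => rfl⟩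
  · exact Subgroup.mem_normalizer_iff.1 hgP m
  · rw [h1]
    rfl

/-- The maps of the `K`-normalizer system `N_F^K(Q)` with source `P`. -/
def NKHom (F : FusionSystem S) (Q : Subgroup Ω) (K : Subgroup (MulAut Q)) (P : Subgroup Ω) :
    Set (P →* Ω) :=
  {φ | φ ∈ F.Hom P ∧ P ≤ NK S Q K ∧ (∀ x : P, φ x ∈ NK S Q K) ∧
    ∃ ψ ∈ F.Hom (P ⊔ Q), (∀ x : P, ψ (Subgroup.inclusion le_sup_left x) = φ x) ∧
      ∃ κ ∈ K, ∀ q : Q, ψ (Subgroup.inclusion le_sup_right q) = ((κ q : Q) : Ω)}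

end Cfsg.Agent.Lib.Helper27
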