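import Mathlib

set_option autoImplicit false

namespace Cfsg.Agent.Lib.Helper27

section MaxClassGroup

variable {G : Type*} [Group G] [Finite G] {p : ℕ} [Fact p.Prime]

/-- A strict inclusion of subgroups of a finite `p`-group multiplies the order by at least `p`. -/
theorem card_mul_prime_dvd_of_lt (hG : IsPGroup p G) {H K : Subgroup G} (h : H < K) :
    Nat.card H * p ∣ Nat.card K := by
  obtain ⟨a, ha⟩ := IsPGroup.iff_card.mp (hG.to_subgroup H)
  obtain ⟨b, hb⟩ := IsPGroup.iff_card.mp (hG.to_subgroup K)
  have hp : p.Prime := Fact.out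
  have hlt : Nat.card H < Nat.card K := by
    by_contra hc
    exact h.ne (Subgroup.eq_of_le_of_card_ge h.le (not_lt.mp hc))
  rw [ha, hb] at hlt
  have hab : a < b := (Nat.pow_lt_pow_iff_right hp.one_lt).mp hlt
  rw [ha, hb, ← pow_succ]
  exact pow_dvd_pow p hab

/-- Orders along the upper central series grow by a factor `p` at each step below the class. -/
theorem ucs_card_dvd (hG : IsPGroup p G) {i j : ℕ} (hij : i ≤ j)
    (hj : j ≤ Group.nilpotencyClass G) :
    Nat.card (Subgroup.upperCentralSeries G i) * p ^ (j - i) ∣ Nat.card (Subgroup.upperCentralSeries G j) := by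
  induction j, hij using Nat.le_induction with
  | base => simp
  | succ k hik ih =>
    have ih' := ih (by omega)
    have hlt : Subgroup.upperCentralSeries G k < Subgroup.upperCentralSeries G (k + 1) :=
      Subgroup.upperCentralSeries.StrictMonoOn G (Set.mem_Iic.mpr (by omega)) (Set.mem_Iic.mpr hj)
        (Nat.lt_succ_self k)
    have h1 := card_mul_prime_dvd_of_lt hG hlt
    have e : k + 1 - i = (k - i) + 1 := by omega
    rw [e, pow_succ, ← mul_assoc]
    exact (Nat.mul_dvd_mul_right ih' p).trans h1

/-- A term `Z_{m+1}` of the upper central series never has prime index. -/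
theorem ucs_index_ne_prime (m : ℕ) : (Subgroup.upperCentralSeries G (m + 1)).index ≠ p := by
  intro hidx
  have hp : p.Prime := Fact.out
  have hle : Subgroup.upperCentralSeries G m ≤ Subgroup.upperCentralSeries G (m + 1) :=
    Subgroup.upperCentralSeries_mono G (Nat.le_succ m)
  let f : G ⧸ Subgroup.upperCentralSeries G m →* G ⧸ Subgroup.upperCentralSeries G (m + 1) :=
    QuotientGroup.map _ _ (MonoidHom.id G) (fun x hx => hle hx)
  have hcard : Nat.card (G ⧸ Subgroup.upperCentralSeries G (m + 1)) = p := hidx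
  haveI : IsCyclic (G ⧸ Subgroup.upperCentralSeries G (m + 1)) := isCyclic_of_prime_card hcard
  have hker : f.ker ≤ Subgroup.center (G ⧸ Subgroup.upperCentralSeries G m) := by
    intro q hq
    induction q using QuotientGroup.induction_on with
    | H x =>
      rw [MonoidHom.mem_ker] at hq
      have hx : x ∈ Subgroup.upperCentralSeries G (m + 1) := by
        rw [← QuotientGroup.eq_one_iff]
        exact hq
      rw [Subgroup.mem_center_iff]
      intro g
      induction g using QuotientGroup.induction_on with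
      | H y =>
        have h1 := Subgroup.mem_upperCentralSeries_succ_iff.mp (inv_mem hx) y⁻¹
        rw [commutatorElement_def] at h1
        rw [← QuotientGroup.mk_mul, ← QuotientGroup.mk_mul, QuotientGroup.eq]
        have e : (y * x)⁻¹ * (x * y) = x⁻¹ * y⁻¹ * x⁻¹⁻¹ * y⁻¹⁻¹ := by group
        rw [e]
        exact h1
  have hcomm := commutative_of_cyclic_center_quotient f hker
  have htop : Subgroup.upperCentralSeries G (m + 1) = ⊤ := by
    rw [eq_top_iff]
    intro a _
    rw [Subgroup.mem_upperCentralSeries_succ_iff]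
    intro b
    rw [commutatorElement_def, ← QuotientGroup.eq_one_iff]
    have h := hcomm (a : G ⧸ Subgroup.upperCentralSeries G m) (b : G ⧸ Subgroup.upperCentralSeries G m)
    simp only [QuotientGroup.mk_mul, QuotientGroup.mk_inv]
    rw [h]
    group
  rw [htop, Subgroup.index_top] at hidx
  exact hp.one_lt.ne hidx

/-- In a `p`-group of maximal class of order `p ^ n` with `n ≥ 4`, the centre has order `p` and
the second centre has order `p ^ 2`. -/
theorem maxclass_center_cards (hG : IsPGroup p G) {n : ℕ} (hn : Nat.card G = p ^ n) (h4 : 4 ≤ n)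
    (hmax : Subgroup.upperCentralSeries G (n - 2) ≠ ⊤) :
    Nat.card (Subgroup.center G) = p ∧ Nat.card (Subgroup.upperCentralSeries G 2) = p ^ 2 := by
  have hp : p.Prime := Fact.out
  haveI := hG.isNilpotent
  have hcl : n - 1 ≤ Group.nilpotencyClass G := by
    by_contra hc
    exact hmax (Subgroup.upperCentralSeries_eq_top_iff_nilpotencyClass_le.mpr (by omega))
  have hidx : p ^ 2 ∣ (Subgroup.upperCentralSeries G (n - 2)).index := by
    obtain ⟨k, hk⟩ := hG.index (Subgroup.upperCentralSeries G (n - 2))
    have h1 : k ≠ 0 := by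
      rintro rfl
      rw [pow_zero, Subgroup.index_eq_one] at hk
      exact hmax hk
    have h2 : k ≠ 1 := by
      rintro rfl
      rw [pow_one] at hk
      have e : n - 2 = (n - 3) + 1 := by omega
      rw [e] at hk
      exact ucs_index_ne_prime (n - 3) hk
    rw [hk]
    exact pow_dvd_pow p (by omega)
  have hcardZ : Nat.card (Subgroup.upperCentralSeries G (n - 2)) * p ^ 2 ∣ p ^ n := by
    rw [← hn, ← Subgroup.card_mul_index (Subgroup.upperCentralSeries G (n - 2))]
    exact Nat.mul_dvd_mul_left _ hidx
  have h02 := ucs_card_dvd hG (i := 0) (j := 2) (by omega) (by omega)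
  have h2n := ucs_card_dvd hG (i := 2) (j := n - 2) (by omega) (by omega)
  have h01 := ucs_card_dvd hG (i := 0) (j := 1) (by omega) (by omega)
  have h12 := ucs_card_dvd hG (i := 1) (j := 2) (by omega) (by omega)
  have h0 : Nat.card (Subgroup.upperCentralSeries G 0) = 1 := by
    rw [Subgroup.upperCentralSeries_zero]
    exact Subgroup.card_bot
  rw [h0, one_mul] at h02 h01
  rw [Subgroup.upperCentralSeries_one] at h01 h12
  have hpos : 0 < p ^ (n - 2 - 2) * p ^ 2 := Nat.mul_pos (pow_pos hp.pos _) (pow_pos hp.pos _)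
  have hZ2 : Nat.card (Subgroup.upperCentralSeries G 2) ∣ p ^ 2 := by
    have h3 : Nat.card (Subgroup.upperCentralSeries G 2) * (p ^ (n - 2 - 2) * p ^ 2) ∣
        p ^ 2 * (p ^ (n - 2 - 2) * p ^ 2) := by
      have e : p ^ 2 * (p ^ (n - 2 - 2) * p ^ 2) = p ^ n := by
        rw [← pow_add, ← pow_add]
        congr 1
        omega
      rw [e, ← mul_assoc]
      exact (Nat.mul_dvd_mul_right h2n (p ^ 2)).trans hcardZ
    exact Nat.dvd_of_mul_dvd_mul_right hpos h3
  have hZ2' : Nat.card (Subgroup.upperCentralSeries G 2) = p ^ 2 := Nat.dvd_antisymm hZ2 h02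
  refine ⟨?_, hZ2'⟩
  rw [hZ2'] at h12
  have e1 : 2 - 1 = 1 := rfl
  have e0 : 1 - 0 = 1 := rfl
  rw [e1, pow_one] at h12
  rw [e0, pow_one] at h01
  have h4 : Nat.card (Subgroup.center G) ∣ p := by
    have h5 : Nat.card (Subgroup.center G) * p ∣ p * p := by
      rw [← sq]
      exact h12
    exact Nat.dvd_of_mul_dvd_mul_right hp.pos h5
  exact Nat.dvd_antisymm h4 h01

/-- If the centre has order `p` and the second centre has order `p ^ 2`, the centralizer of the
second centre is a maximal subgroup (or the whole group). -/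
theorem centralizer_second_center_max (h1 : Nat.card (Subgroup.center G) = p)
    (h2 : Nat.card (Subgroup.upperCentralSeries G 2) = p ^ 2) (N : Subgroup G)
    (hN : Subgroup.centralizer (Subgroup.upperCentralSeries G 2 : Set G) < N) : N = ⊤ := by
  have hp : p.Prime := Fact.out
  have hle : Subgroup.center G ≤ Subgroup.upperCentralSeries G 2 := by
    rw [← Subgroup.upperCentralSeries_one]
    exact Subgroup.upperCentralSeries_mono G (by omega)
  have hlt : Subgroup.center G < Subgroup.upperCentralSeries G 2 := by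
    refine lt_of_le_of_ne hle (fun h => ?_)
    rw [← h, h1] at h2
    have : p ^ 1 = p ^ 2 := by rw [pow_one]; exact h2
    have := Nat.pow_right_injective hp.two_le this
    omega
  obtain ⟨w, hw2, hw1⟩ := SetLike.exists_of_lt hlt
  have hw : ∀ y : G, w * y * w⁻¹ * y⁻¹ ∈ Subgroup.center G := by
    intro y
    have h := (Subgroup.mem_upperCentralSeries_succ_iff (n := 1)).mp hw2 y
    rw [Subgroup.upperCentralSeries_one, commutatorElement_def] at h
    exact h
  let θ : G →* Subgroup.center G := MonoidHom.mk' (fun x => ⟨w * x * w⁻¹ * x⁻¹, hw x⟩) (by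
    intro x y
    apply Subtype.ext
    show w * (x * y) * w⁻¹ * (x * y)⁻¹ = (w * x * w⁻¹ * x⁻¹) * (w * y * w⁻¹ * y⁻¹)
    have hc := Subgroup.mem_center_iff.mp (hw y) x⁻¹
    calc w * (x * y) * w⁻¹ * (x * y)⁻¹ = w * x * w⁻¹ * ((w * y * w⁻¹ * y⁻¹) * x⁻¹) := by group
      _ = w * x * w⁻¹ * (x⁻¹ * (w * y * w⁻¹ * y⁻¹)) := by rw [hc]
      _ = (w * x * w⁻¹ * x⁻¹) * (w * y * w⁻¹ * y⁻¹) := by group)
  have hθ : ∀ x : G, x ∈ θ.ker → w * x = x * w := by
    intro x hx
    rw [MonoidHom.mem_ker] at hx
    have h : w * x * w⁻¹ * x⁻¹ = 1 := congrArg Subtype.val hx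
    calc w * x = (w * x * w⁻¹ * x⁻¹) * (x * w) := by group
      _ = x * w := by rw [h, one_mul]
  -- the second centre is generated by `w` and the centre
  have hH : Subgroup.zpowers w ⊔ Subgroup.center G = Subgroup.upperCentralSeries G 2 := by
    have hle' : Subgroup.zpowers w ⊔ Subgroup.center G ≤ Subgroup.upperCentralSeries G 2 :=
      sup_le (Subgroup.zpowers_le.mpr hw2) hle
    apply Subgroup.eq_of_le_of_card_ge hle'
    have hlt' : Subgroup.center G < Subgroup.zpowers w ⊔ Subgroup.center G := by
      refine lt_of_le_of_ne le_sup_right (fun h => hw1 ?_)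
      rw [h]
      exact (le_sup_left : Subgroup.zpowers w ≤ _) (Subgroup.mem_zpowers w)
    have hcl : Nat.card (Subgroup.center G) < Nat.card ↥(Subgroup.zpowers w ⊔ Subgroup.center G) := by
      by_contra hc
      exact hlt'.ne (Subgroup.eq_of_le_of_card_ge hlt'.le (not_lt.mp hc))
    have hdvd : Nat.card ↥(Subgroup.zpowers w ⊔ Subgroup.center G) ∣ p ^ 2 := by
      rw [← h2]
      exact Subgroup.card_dvd_of_le hle'
    obtain ⟨m, hm, hmeq⟩ := (Nat.dvd_prime_pow hp).mp hdvd
    rw [h2, hmeq]
    rw [h1, hmeq] at hcl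
    have h1m : 1 < m := by
      by_contra hc
      have hm1 : m ≤ 1 := not_lt.mp hc
      have := Nat.pow_le_pow_right hp.pos hm1
      rw [pow_one] at this
      omega
    exact Nat.pow_le_pow_right hp.pos (by omega)
  have hker : θ.ker ≤ Subgroup.centralizer (Subgroup.upperCentralSeries G 2 : Set G) := by
    intro x hx
    rw [Subgroup.mem_centralizer_iff]
    intro v hv
    have hv' : v ∈ Subgroup.zpowers w ⊔ Subgroup.center G := by
      rw [hH]
      exact hv
    have hsub : Subgroup.zpowers w ⊔ Subgroup.center G ≤ Subgroup.centralizer ({x} : Set G) := by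
      apply sup_le
      · rw [Subgroup.zpowers_le, Subgroup.mem_centralizer_iff]
        intro h hh
        rw [Set.mem_singleton_iff] at hh
        rw [hh]
        exact (hθ x hx).symm
      · exact Subgroup.center_le_centralizer _
    have := Subgroup.mem_centralizer_iff.mp (hsub hv') x (Set.mem_singleton x)
    exact this.symm
  have hidx : θ.ker.index ∣ p := by
    rw [Subgroup.index_ker, ← h1]
    exact Subgroup.card_subgroup_dvd_card _
  have hkN : θ.ker ≤ N := hker.trans hN.le
  have hNidx : N.index ∣ p := (Subgroup.index_dvd_of_le hkN).trans hidx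
  rcases (Nat.dvd_prime hp).mp hNidx with h | h
  · exact Subgroup.index_eq_one.mp h
  · exfalso
    have hk : θ.ker.index = p := by
      apply Nat.dvd_antisymm hidx
      rw [← h]
      exact Subgroup.index_dvd_of_le hkN
    have hrel := Subgroup.relIndex_mul_index hkN
    rw [h, hk] at hrel
    have hrel1 : θ.ker.relIndex N = 1 := by
      have : θ.ker.relIndex N * p = 1 * p := by rw [one_mul]; exact hrel
      exact Nat.eq_of_mul_eq_mul_right hp.pos this
    have hNk : N ≤ θ.ker := Subgroup.relIndex_eq_one.mp hrel1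
    exact hN.not_ge (hNk.trans hker)

end MaxClassGroup

section MaxClassSub

variable {Ω : Type*} [Group Ω] {S : Subgroup Ω} [Finite S] {p : ℕ} [Fact p.Prime]

/-- In a subgroup `S` of maximal class of order `p ^ n`, `n ≥ 4`, the centre has order `p` and
the second centre has order `p ^ 2` (from the hypothesis on the lower central series). -/
theorem maxclass_sub_cards (hS : IsPGroup p S) {n : ℕ} (hn : Nat.card S = p ^ n) (h4 : 4 ≤ n)
    (hmax : Subgroup.lowerCentralSeries S (n - 2) ≠ ⊥) :
    Nat.card (Subgroup.center S) = p ∧ Nat.card (Subgroup.upperCentralSeries S 2) = p ^ 2 := by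
  apply maxclass_center_cards hS hn h4
  intro h
  apply hmax
  rw [← Subgroup.top_subtype_lowerCentralSeries,
    Subgroup.lowerCentralSeries_eq_bot_iff_upperCentralSeries_eq_top.mpr h, Subgroup.map_bot]

/-- In a subgroup `S` of maximal class, a subgroup of `S` strictly containing `C_S(Z₂(S))` is
`S` itself. -/
theorem maxclass_centralizerIn_max (hS : IsPGroup p S) {n : ℕ} (hn : Nat.card S = p ^ n)
    (h4 : 4 ≤ n) (hmax : Subgroup.lowerCentralSeries S (n - 2) ≠ ⊥) {N : Subgroup Ω} (hNS : N ≤ S)
    (hlt : S ⊓ Subgroup.centralizer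
      (((Subgroup.upperCentralSeries S 2).map S.subtype : Subgroup Ω) : Set Ω) < N) : N = S := by
  obtain ⟨h1, h2⟩ := maxclass_sub_cards hS hn h4 hmax
  have hmem : ∀ x : S, x ∈ Subgroup.centralizer (Subgroup.upperCentralSeries S 2 : Set S) →
      (x : Ω) ∈ S ⊓ Subgroup.centralizer
        (((Subgroup.upperCentralSeries S 2).map S.subtype : Subgroup Ω) : Set Ω) := by
    intro x hx
    refine Subgroup.mem_inf.mpr ⟨x.2, ?_⟩
    rw [Subgroup.mem_centralizer_iff]
    rintro _ ⟨v, hv, rfl⟩
    have := Subgroup.mem_centralizer_iff.mp hx v hv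
    exact congrArg Subtype.val this
  have hlt' : Subgroup.centralizer (Subgroup.upperCentralSeries S 2 : Set S) < N.subgroupOf S := by
    refine lt_of_le_of_ne (fun x hx => Subgroup.mem_subgroupOf.mpr (hlt.le (hmem x hx))) ?_
    intro h
    obtain ⟨y, hyN, hyE⟩ := SetLike.exists_of_lt hlt
    apply hyE
    have hy : (⟨y, hNS hyN⟩ : S) ∈ N.subgroupOf S := Subgroup.mem_subgroupOf.mpr hyN
    rw [← h] at hy
    exact hmem _ hy
  have htop := centralizer_second_center_max h1 h2 _ hlt'
  apply le_antisymm hNS
  intro x hx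
  have : (⟨x, hx⟩ : S) ∈ N.subgroupOf S := by
    rw [htop]
    exact Subgroup.mem_top _
  exact Subgroup.mem_subgroupOf.mp this

end MaxClassSub

end Cfsg.Agent.Lib.Helper27
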