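import Mathlib
import Cfsg.Prelude.Def_FusionSystem
import Cfsg.Agent.Lib.Helper27.Alperin
import Cfsg.Agent.Lib.Helper27.AbelianFS
import Cfsg.Agent.Lib.Helper27.ConstrNormal
import Cfsg.Agent.Lib.Helper27.MaxClass
import Cfsg.Agent.S5077

set_option autoImplicit false

namespace Cfsg.Agent.Lib.Helper27

open Cfsg Cfsg.FusionSystem Cfsg.Agent.Lib.Helper26

variable {Ω : Type*} [Group Ω] {S : Subgroup Ω}

/-- Transport of a map of the system along an equality of sources. -/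
theorem hom_transport_eq (F : FusionSystem S) {P P' : Subgroup Ω} (h : P = P') {ψ : P →* Ω}
    (hψ : ψ ∈ F.Hom P) :
    ∃ ψ' ∈ F.Hom P', ∀ (x : Ω) (hx : x ∈ P) (hx' : x ∈ P'), ψ' ⟨x, hx'⟩ = ψ ⟨x, hx⟩ := by
  subst h
  exact ⟨ψ, hψ, fun _ _ _ => rfl⟩

/-- A subgroup of `S` normalized by `S` is fully normalized. -/
theorem fullyNormalized_of_normal_sub [Finite S] (F : FusionSystem S) {Q : Subgroup Ω}
    (hQS : Q ≤ S) (hN : S ≤ Subgroup.normalizer (Q : Set Ω)) : F.IsFullyNormalized Q := by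
  refine ⟨hQS, fun Q' _ => ?_⟩
  have h1 : normalizerIn S Q = S := inf_eq_left.2 hN
  have hle : normalizerIn S Q' ≤ normalizerIn S Q := by
    rw [h1]
    exact inf_le_left
  have : Finite (normalizerIn S Q) := by
    rw [h1]
    infer_instance
  exact Subgroup.card_le_of_le hle

/-- The automorphisms of `P` preserving membership in `Z`. -/
def presGroup (P Z : Subgroup Ω) : Subgroup (MulAut P) where
  carrier := {β | ∀ x : P, (x : Ω) ∈ Z ↔ ((β x : P) : Ω) ∈ Z}
  one_mem' := fun _ => Iff.rfl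
  mul_mem' := by
    intro a b ha hb x
    show (x : Ω) ∈ Z ↔ ((a (b x) : P) : Ω) ∈ Z
    exact (hb x).trans (ha (b x))
  inv_mem' := by
    intro a ha x
    have h := ha (a⁻¹ x)
    have e : a (a⁻¹ x) = x := MulAut.apply_inv_self _ a x
    rw [e] at h
    exact h.symm

theorem coe_mem_map_subtype_iff {H : Subgroup Ω} (K : Subgroup H) (x : H) :
    (x : Ω) ∈ K.map H.subtype ↔ x ∈ K := by
  constructor
  · rintro ⟨y, hy, hyx⟩
    have : y = x := Subtype.ext hyx
    rwa [← this]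
  · intro hx
    exact ⟨x, hx, rfl⟩

theorem aut_center_iff {G : Type*} [Group G] (σ : MulAut G) (x : G) :
    x ∈ Subgroup.center G ↔ σ x ∈ Subgroup.center G := by
  rw [Subgroup.mem_center_iff, Subgroup.mem_center_iff]
  constructor
  · intro h g
    obtain ⟨g', rfl⟩ := σ.surjective g
    rw [← map_mul, ← map_mul, h g']
  · intro h g
    have := h (σ g)
    rw [← map_mul, ← map_mul] at this
    exact σ.injective this

/-- A map of the system defined on `R ≥ Q` sending `Q` into `Q` restricts to an element of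
`Aut_F(Q)`. -/
theorem exists_aut_of_map_le [Finite S] (F : FusionSystem S) {R Q : Subgroup Ω} (hQR : Q ≤ R)
    {ψ : R →* Ω} (hψ : ψ ∈ F.Hom R) (hmap : ∀ q : Q, ψ ⟨q, hQR q.2⟩ ∈ Q) :
    ∃ b ∈ F.autGroup Q, ∀ q : Q, ((b q : Q) : Ω) = ψ ⟨q, hQR q.2⟩ := by
  have hQS : Q ≤ S := hQR.trans (F.le_of_mem hψ).1
  have hQfin : Finite Q := finite_of_le hQS
  have hres := Fusion.restrict_mem F hψ hQR
  have hr : (ψ.comp (Subgroup.inclusion hQR)).range = Q := by
    apply Subgroup.eq_of_le_of_card_ge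
    · rintro _ ⟨t, rfl⟩
      exact hmap t
    · exact le_of_eq (Nat.card_congr (Equiv.ofInjective _ (F.injective_of_mem hres)))
  exact ⟨Fusion.equivOfRange _ (F.injective_of_mem hres) hr,
    (Fusion.mem_autGroup_iff F hQS).2 (Fusion.isIso_equivOfRange F hres hr), fun q => rfl⟩

theorem conj_mem_inf_centralizer {V : Subgroup Ω} (hVn : S ≤ Subgroup.normalizer (V : Set Ω))
    {g x : Ω} (hg : g ∈ S) (hx : x ∈ S ⊓ Subgroup.centralizer (V : Set Ω)) :
    g * x * g⁻¹ ∈ S ⊓ Subgroup.centralizer (V : Set Ω) := by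
  obtain ⟨hxS, hxC⟩ := Subgroup.mem_inf.mp hx
  refine Subgroup.mem_inf.mpr ⟨S.mul_mem (S.mul_mem hg hxS) (S.inv_mem hg), ?_⟩
  rw [Subgroup.mem_centralizer_iff]
  intro v hv
  have hgn : g⁻¹ ∈ Subgroup.normalizer (V : Set Ω) := hVn (S.inv_mem hg)
  have hv' : g⁻¹ * v * g⁻¹⁻¹ ∈ V := (Subgroup.mem_normalizer_iff.mp hgn v).mp hv
  have hc := Subgroup.mem_centralizer_iff.mp hxC _ hv'
  calc v * (g * x * g⁻¹) = g * ((g⁻¹ * v * g⁻¹⁻¹) * x) * g⁻¹ := by group
    _ = g * (x * (g⁻¹ * v * g⁻¹⁻¹)) * g⁻¹ := by rw [hc]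
    _ = g * x * g⁻¹ * v := by group

theorem le_normalizer_map_subtype (K : Subgroup S) [hK : K.Normal] :
    S ≤ Subgroup.normalizer ((K.map S.subtype : Subgroup Ω) : Set Ω) := by
  have key : ∀ g ∈ S, ∀ h ∈ K.map S.subtype, g * h * g⁻¹ ∈ K.map S.subtype := by
    rintro g hg _ ⟨v, hv, rfl⟩
    exact ⟨⟨g, hg⟩ * v * ⟨g, hg⟩⁻¹, hK.conj_mem v hv ⟨g, hg⟩, rfl⟩
  intro g hg
  rw [Subgroup.mem_normalizer_iff]
  intro h
  constructor
  · exact key g hg h
  · intro hh
    have := key g⁻¹ (S.inv_mem hg) _ hh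
    have e : g⁻¹ * (g * h * g⁻¹) * g⁻¹⁻¹ = h := by group
    rwa [e] at this

/-- If `V ⊴ S`, `C_S(V)` is maximal in `S` (or equal to it), and a map of the saturated system on
`V` with image `V` moves an element of `Z(S)` out of `Z(S)`, then `C_S(V)` is essential. -/
theorem maxclass_essential [Finite S] (p : ℕ) [Fact p.Prime] (hS : IsPGroup p S)
    (F : FusionSystem S) (hF : F.IsSaturated p) (V Z : Subgroup Ω) (hVS : V ≤ S)
    (hVn : S ≤ Subgroup.normalizer (V : Set Ω))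
    (hZ : Z = (Subgroup.center S).map S.subtype)
    (hmaxl : ∀ N : Subgroup Ω, N ≤ S → S ⊓ Subgroup.centralizer (V : Set Ω) < N → N = S)
    (φ : V →* Ω) (hφ : φ ∈ F.Hom V) (hφV : φ.range = V)
    (hmove : ∃ (z : Ω) (hz : z ∈ V), z ∈ Z ∧ φ ⟨z, hz⟩ ∉ Z) :
    F.IsEssential p (S ⊓ Subgroup.centralizer (V : Set Ω)) := by
  by_contra hne
  have hES : S ⊓ Subgroup.centralizer (V : Set Ω) ≤ S := inf_le_left
  have h77 := (Cfsg.Agent.S5077.result p hS F).1 hF
  have hVfn : F.IsFullyNormalized V := fullyNormalized_of_normal_sub F hVS hVn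
  have hVr : F.IsReceptive V := h77.2 V (h77.1 V hVfn).1
  obtain ⟨z, hz, hzZ, hφz⟩ := hmove
  obtain ⟨ψ, hψ, hψφ⟩ := hVr.2 V φ hφ hφV
  have hval : ∀ x : V, φ x ∈ S := (F.le_of_mem hφ).2
  have hVN : V ≤ extender S V φ := le_extender hVS hval
  have hEN : S ⊓ Subgroup.centralizer (V : Set Ω) ≤ extender S V φ := centralizerIn_le_extender φ
  have hψE : ∀ x : ↥(S ⊓ Subgroup.centralizer (V : Set Ω)),
      ψ ⟨x, hEN x.2⟩ ∈ S ⊓ Subgroup.centralizer (V : Set Ω) := by
    intro x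
    refine Subgroup.mem_inf.mpr ⟨(F.le_of_mem hψ).2 _, ?_⟩
    rw [Subgroup.mem_centralizer_iff]
    intro v hv
    have hvr : v ∈ φ.range := by
      rw [hφV]
      exact hv
    obtain ⟨v', rfl⟩ := hvr
    have e : φ v' = ψ ⟨v', hVN v'.2⟩ := (hψφ v' v'.2 (hVN v'.2)).symm
    rw [e, ← map_mul, ← map_mul]
    congr 1
    apply Subtype.ext
    show (v' : Ω) * x = x * v'
    exact (Subgroup.mem_centralizer_iff.mp (Subgroup.mem_inf.mp x.2).2) v' v'.2
  obtain ⟨χ, hχ, hχψ⟩ := exists_aut_of_map_le F hEN hψ hψE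
  have hzE : z ∈ S ⊓ Subgroup.centralizer (V : Set Ω) := by
    refine Subgroup.mem_inf.mpr ⟨hVS hz, ?_⟩
    rw [Subgroup.mem_centralizer_iff]
    intro v hv
    have hzZ' := hzZ
    rw [hZ] at hzZ'
    obtain ⟨c, hc, hcz⟩ := hzZ'
    have := Subgroup.mem_center_iff.mp hc ⟨v, hVS hv⟩
    rw [← hcz]
    exact congrArg Subtype.val this
  have hχz : ((χ ⟨z, hzE⟩ : ↥(S ⊓ Subgroup.centralizer (V : Set Ω))) : Ω) = φ ⟨z, hz⟩ := by
    rw [hχψ]
    exact hψφ z hz _
  have hχB : χ ∉ presGroup (S ⊓ Subgroup.centralizer (V : Set Ω)) Z := by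
    intro h
    have := (h ⟨z, hzE⟩).mp hzZ
    rw [hχz] at this
    exact hφz this
  by_cases hEeq : S ⊓ Subgroup.centralizer (V : Set Ω) = S
  · apply hφz
    have hVZ : V ≤ Z := by
      intro v hv
      rw [hZ]
      refine ⟨⟨v, hVS hv⟩, ?_, rfl⟩
      rw [SetLike.mem_coe, Subgroup.mem_center_iff]
      intro g
      apply Subtype.ext
      show (g : Ω) * v = v * g
      have hg : (g : Ω) ∈ S ⊓ Subgroup.centralizer (V : Set Ω) := by
        rw [hEeq]
        exact g.2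
      exact ((Subgroup.mem_centralizer_iff.mp (Subgroup.mem_inf.mp hg).2) v hv).symm
    have hmem : φ ⟨z, hz⟩ ∈ φ.range := ⟨_, rfl⟩
    rw [hφV] at hmem
    exact hVZ hmem
  · have hElt : S ⊓ Subgroup.centralizer (V : Set Ω) < S := lt_of_le_of_ne hES hEeq
    have hEn : S ≤ Subgroup.normalizer ((S ⊓ Subgroup.centralizer (V : Set Ω) : Subgroup Ω) : Set Ω) := by
      intro g hg
      rw [Subgroup.mem_normalizer_iff]
      intro h
      constructor
      · exact fun hh => conj_mem_inf_centralizer hVn hg hh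
      · intro hh
        have := conj_mem_inf_centralizer hVn (S.inv_mem hg) hh
        have e : g⁻¹ * (g * h * g⁻¹) * g⁻¹⁻¹ = h := by group
        rwa [e] at this
    have hEfn : F.IsFullyNormalized (S ⊓ Subgroup.centralizer (V : Set Ω)) :=
      fullyNormalized_of_normal_sub F hES hEn
    obtain ⟨hEfc, hEa⟩ := h77.1 _ hEfn
    have hEr : F.IsReceptive (S ⊓ Subgroup.centralizer (V : Set Ω)) := h77.2 _ hEfc
    have hle := autGroup_le_of_extender hS F hElt hEa hEr hne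
      (presGroup (S ⊓ Subgroup.centralizer (V : Set Ω)) Z) ?_
    · exact hχB (hle hχ)
    · intro α hα hlt
      have hNS : extender S (S ⊓ Subgroup.centralizer (V : Set Ω))
          ((S ⊓ Subgroup.centralizer (V : Set Ω)).subtype.comp α.toMonoidHom) ≤ S :=
        (Subgroup.closure_le _).mpr (fun x hx => hx.1)
      have hNeq := hmaxl _ hNS hlt
      have hα' := (Fusion.mem_autGroup_iff F hES).1 hα
      have hrange : ((S ⊓ Subgroup.centralizer (V : Set Ω)).subtype.comp α.toMonoidHom).range =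
          S ⊓ Subgroup.centralizer (V : Set Ω) := Fusion.range_of_isIso α
      obtain ⟨ψ', hψ', hψ'α⟩ := hEr.2 _ _ hα' hrange
      obtain ⟨ψ'', hψ'', hcast⟩ := hom_transport_eq F hNeq hψ'
      obtain ⟨σ, hσ, hσψ⟩ := exists_aut_of_hom_top F hψ''
      intro x
      show (x : Ω) ∈ Z ↔ ((α x : ↥(S ⊓ Subgroup.centralizer (V : Set Ω))) : Ω) ∈ Z
      have hxN : (x : Ω) ∈ extender S (S ⊓ Subgroup.centralizer (V : Set Ω))
          ((S ⊓ Subgroup.centralizer (V : Set Ω)).subtype.comp α.toMonoidHom) := by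
        rw [hNeq]
        exact hES x.2
      have hx : ((α x : ↥(S ⊓ Subgroup.centralizer (V : Set Ω))) : Ω) =
          ((σ ⟨x, hES x.2⟩ : S) : Ω) := by
        rw [hσψ, hcast (x : Ω) hxN (hES x.2)]
        exact (hψ'α x x.2 hxN).symm
      rw [hx, hZ, coe_mem_map_subtype_iff, ← aut_center_iff σ]
      exact coe_mem_map_subtype_iff (Subgroup.center S) ⟨x, hES x.2⟩

end Cfsg.Agent.Lib.Helper27
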