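import Mathlib
import Cfsg.Prelude.Def_Transfer
import Cfsg.Agent.Lib.Helper27.ChainSylow
import Cfsg.Agent.Lib.Helper27.AbDistinct
import Cfsg.Agent.Lib.Helper3.QuatRecog
import Cfsg.Agent.Lib.Helper18.Frattini

set_option autoImplicit false

namespace Cfsg.Agent.Lib.Helper27

universe u

open scoped commutatorElement

section Tools

variable {G : Type u} [Group G]

theorem nchain_of_nat (A : Subgroup (MulAut G)) (M : ℕ) (c : ℕ → Subgroup G)
    (h0 : c 0 = ⊥) (hM : c M = ⊤)
    (hinv : ∀ t, (c t).Normal ∧ ∀ α ∈ A, ∀ x ∈ c t, α x ∈ c t)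
    (hstep : ∀ t < M, c t ≤ c (t + 1) ∧ ∃ y, c (t + 1) = c t ⊔ Subgroup.zpowers y) :
    NChain A M (fun i => c i.val) :=
  ⟨h0, hM, fun i => hinv _, fun i => hstep i.val i.2⟩

theorem sup_zpowers_of_prime_index [Finite G] {p : ℕ} (hp : p.Prime) {C D : Subgroup G}
    (hCD : C ≤ D) (hcard : Nat.card D = p * Nat.card C) {y : G} (hyD : y ∈ D) (hyC : y ∉ C) :
    D = C ⊔ Subgroup.zpowers y := by
  have hle : C ⊔ Subgroup.zpowers y ≤ D := sup_le hCD (Subgroup.zpowers_le.mpr hyD)
  symm
  apply Subgroup.eq_of_le_of_card_ge hle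
  have h1 : Nat.card C ∣ Nat.card ↥(C ⊔ Subgroup.zpowers y) := Subgroup.card_dvd_of_le le_sup_left
  have h2 : Nat.card ↥(C ⊔ Subgroup.zpowers y) ∣ Nat.card D := Subgroup.card_dvd_of_le hle
  obtain ⟨k, hk⟩ := h1
  have hCpos : 0 < Nat.card C := Nat.card_pos
  rw [hk, hcard, mul_comm p] at h2
  have h3 : k ∣ p := Nat.dvd_of_mul_dvd_mul_left hCpos h2
  rcases (Nat.dvd_prime hp).mp h3 with h | h
  · exfalso
    apply hyC
    have e : C = C ⊔ Subgroup.zpowers y :=
      Subgroup.eq_of_le_of_card_ge le_sup_left (by rw [hk, h, mul_one])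
    rw [e]
    exact Subgroup.mem_sup_right (Subgroup.mem_zpowers y)
  · rw [hk, h, hcard, mul_comm]

theorem pow_mul_of_central_comm (x y c : G) (hc : y * x = x * y * c) (hcx : c * x = x * c)
    (hcy : c * y = y * c) (n : ℕ) : y ^ n * x = x * y ^ n * c ^ n := by
  induction n with
  | zero => simp
  | succ n ih =>
    have hcyn : c ^ n * y = y * c ^ n := ((Commute.pow_left (show Commute c y from hcy) n)).eq
    calc y ^ (n + 1) * x = y * (y ^ n * x) := by rw [pow_succ', mul_assoc]
      _ = y * (x * y ^ n * c ^ n) := by rw [ih]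
      _ = (y * x) * y ^ n * c ^ n := by group
      _ = x * y * c * y ^ n * c ^ n := by rw [hc]
      _ = x * y * (c * y ^ n) * c ^ n := by group
      _ = x * y * (y ^ n * c) * c ^ n := by
        rw [((Commute.pow_right (show Commute c y from hcy) n)).eq]
      _ = x * y ^ (n + 1) * c ^ (n + 1) := by
        rw [pow_succ' y n, pow_succ' c n]
        group

theorem mul_pow_of_central_comm (x y c : G) (hc : y * x = x * y * c) (hcx : c * x = x * c)
    (hcy : c * y = y * c) (n : ℕ) : (x * y) ^ n = x ^ n * y ^ n * c ^ (n.choose 2) := by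
  induction n with
  | zero => simp
  | succ n ih =>
    have h1 := pow_mul_of_central_comm x y c hc hcx hcy n
    have hcT : c ^ (n.choose 2) * x = x * c ^ (n.choose 2) :=
      ((Commute.pow_left (show Commute c x from hcx) _)).eq
    have hcT' : c ^ (n.choose 2) * y = y * c ^ (n.choose 2) :=
      ((Commute.pow_left (show Commute c y from hcy) _)).eq
    have hcn : c ^ n * y = y * c ^ n := ((Commute.pow_left (show Commute c y from hcy) _)).eq
    have hch : (n + 1).choose 2 = n + n.choose 2 := by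
      rw [Nat.choose_succ_succ, Nat.choose_one_right]
    calc (x * y) ^ (n + 1) = (x * y) ^ n * (x * y) := pow_succ _ _
      _ = x ^ n * y ^ n * c ^ (n.choose 2) * (x * y) := by rw [ih]
      _ = x ^ n * y ^ n * (c ^ (n.choose 2) * x) * y := by group
      _ = x ^ n * y ^ n * (x * c ^ (n.choose 2)) * y := by rw [hcT]
      _ = x ^ n * (y ^ n * x) * (c ^ (n.choose 2) * y) := by group
      _ = x ^ n * (x * y ^ n * c ^ n) * (y * c ^ (n.choose 2)) := by rw [h1, hcT']
      _ = x ^ n * x * y ^ n * (c ^ n * y) * c ^ (n.choose 2) := by group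
      _ = x ^ n * x * y ^ n * (y * c ^ n) * c ^ (n.choose 2) := by rw [hcn]
      _ = x ^ (n + 1) * y ^ (n + 1) * c ^ ((n + 1).choose 2) := by
        rw [hch, pow_succ x n, pow_succ y n, pow_add c n]
        group

end Tools

section Cube

variable {P : Type u} [Group P] [Finite P]

theorem cube_abelian_cases (p : ℕ) [Fact p.Prime] (hcard : Nat.card P = p ^ 3)
    (hcomm : ∀ a b : P, a * b = b * a) :
    (∃ (m : ℕ) (c : Fin (m + 1) → Subgroup P), NChain ⊤ m c) ∨ (∀ a : P, a ^ p = 1) := by
  have hp : p.Prime := Fact.out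
  have hG : IsPGroup p P := IsPGroup.of_card hcard
  rcases ab_chain_or_decomp hcomm p hG with ⟨m, c, h0, hm, hinv, hstep⟩ | ⟨n, H, _, hn, ⟨φ⟩⟩
  · left
    refine ⟨m, c, h0, hm, fun i => ⟨⟨fun x hx g => ?_⟩, fun α _ x hx => hinv i α x hx⟩, hstep⟩
    rw [hcomm g x, mul_inv_cancel_right]
    exact hx
  · right
    have hc1 : Nat.card (Multiplicative (ZMod (p ^ n))) = p ^ n := by
      rw [Nat.card_congr Multiplicative.toAdd, Nat.card_zmod]
    have hcardT : Nat.card P = p ^ n * p ^ n * Nat.card H := by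
      rw [Nat.card_congr φ.toEquiv, Nat.card_prod, Nat.card_prod, hc1]
    rw [hcard] at hcardT
    have hn1 : n = 1 := by
      have h1 : p ^ (n + n) ∣ p ^ 3 := by
        rw [hcardT, pow_add]
        exact dvd_mul_right _ _
      have h2 := (Nat.pow_dvd_pow_iff_le_right hp.one_lt).mp h1
      omega
    subst hn1
    have hH : Nat.card H = p := by
      have h3 : p ^ 3 = p ^ 1 * p ^ 1 * p := by ring
      rw [h3] at hcardT
      exact (Nat.eq_of_mul_eq_mul_left (Nat.mul_pos (pow_pos hp.pos 1) (pow_pos hp.pos 1))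
        hcardT).symm
    have hHfin : Finite H := Nat.finite_of_card_ne_zero (by rw [hH]; exact hp.ne_zero)
    have hne : NeZero (p ^ 1) := ⟨pow_ne_zero 1 hp.ne_zero⟩
    intro a
    apply φ.injective
    rw [map_pow, map_one]
    refine Prod.ext (Prod.ext ?_ ?_) ?_
    · show (φ a).1.1 ^ p = 1
      have h4 := pow_card_eq_one' (G := Multiplicative (ZMod (p ^ 1))) (x := (φ a).1.1)
      rw [hc1] at h4
      have h5 : (φ a).1.1 ^ p = (φ a).1.1 ^ (p ^ 1) :=
        congrArg (fun k => (φ a).1.1 ^ k) (pow_one p).symm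
      exact h5.trans h4
    · show (φ a).1.2 ^ p = 1
      have h4 := pow_card_eq_one' (G := Multiplicative (ZMod (p ^ 1))) (x := (φ a).1.2)
      rw [hc1] at h4
      have h5 : (φ a).1.2 ^ p = (φ a).1.2 ^ (p ^ 1) :=
        congrArg (fun k => (φ a).1.2 ^ k) (pow_one p).symm
      exact h5.trans h4
    · show (φ a).2 ^ p = 1
      have h4 := pow_card_eq_one' (G := H) (x := (φ a).2)
      rwa [hH] at h4

theorem card_center_of_cube (p : ℕ) [Fact p.Prime] (hcard : Nat.card P = p ^ 3)
    (hnc : ¬ ∀ a b : P, a * b = b * a) : Nat.card (Subgroup.center P) = p := by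
  have hp : p.Prime := Fact.out
  have hG : IsPGroup p P := IsPGroup.of_card hcard
  have hnt : Nontrivial P := by
    rw [← Finite.one_lt_card_iff_nontrivial, hcard]
    exact Nat.one_lt_pow (by norm_num) hp.one_lt
  obtain ⟨k, hk⟩ := IsPGroup.iff_card.mp (hG.to_subgroup (Subgroup.center P))
  have hdvd : p ^ k ∣ p ^ 3 := by
    rw [← hk, ← hcard]
    exact Subgroup.card_subgroup_dvd_card _
  have hk3 : k ≤ 3 := (Nat.pow_dvd_pow_iff_le_right hp.one_lt).mp hdvd
  have hk0 : k ≠ 0 := by
    intro h0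
    rw [h0, pow_zero] at hk
    have h1 := hG.center_nontrivial
    have h2 := Finite.one_lt_card_iff_nontrivial.mpr h1
    omega
  have hk3' : k ≠ 3 := by
    intro h3
    apply hnc
    have htop : Subgroup.center P = ⊤ := Subgroup.eq_top_of_card_eq _ (by rw [hk, h3, hcard])
    intro a b
    have ha : a ∈ Subgroup.center P := htop ▸ Subgroup.mem_top a
    exact (Subgroup.mem_center_iff.mp ha b).symm
  have hk2 : k ≠ 2 := by
    intro h2
    apply hnc
    have hq : Nat.card (P ⧸ Subgroup.center P) = p := by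
      have h1 := Subgroup.card_eq_card_quotient_mul_card_subgroup (Subgroup.center P)
      rw [hcard, hk, h2] at h1
      have h3 : p ^ 3 = p * p ^ 2 := by ring
      rw [h3] at h1
      exact (Nat.eq_of_mul_eq_mul_right (pow_pos hp.pos 2) h1).symm
    have hcyc : IsCyclic (P ⧸ Subgroup.center P) := isCyclic_of_prime_card hq
    exact commutative_of_cyclic_center_quotient (QuotientGroup.mk' (Subgroup.center P))
      (by rw [QuotientGroup.ker_mk'])
  have hk1 : k = 1 := by omega
  rw [hk, hk1, pow_one]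

theorem cube_quot_facts (p : ℕ) [Fact p.Prime] (hcard : Nat.card P = p ^ 3)
    (hnc : ¬ ∀ a b : P, a * b = b * a) :
    (∀ a b : P, a * b * a⁻¹ * b⁻¹ ∈ Subgroup.center P) ∧ ∀ a : P, a ^ p ∈ Subgroup.center P := by
  have hp : p.Prime := Fact.out
  have hZ := card_center_of_cube p hcard hnc
  have hq : Nat.card (P ⧸ Subgroup.center P) = p ^ 2 := by
    have h1 := Subgroup.card_eq_card_quotient_mul_card_subgroup (Subgroup.center P)
    rw [hcard, hZ] at h1
    have h3 : p ^ 3 = p ^ 2 * p := by ring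
    rw [h3] at h1
    exact (Nat.eq_of_mul_eq_mul_right hp.pos h1).symm
  have hqc := IsPGroup.commutative_of_card_eq_prime_sq hq
  constructor
  · intro a b
    rw [← QuotientGroup.eq_one_iff]
    rw [QuotientGroup.mk_mul, QuotientGroup.mk_mul, QuotientGroup.mk_mul, QuotientGroup.mk_inv,
      QuotientGroup.mk_inv, hqc (a : P ⧸ Subgroup.center P) b, mul_inv_cancel_right,
      mul_inv_cancel]
  · intro a
    rw [← QuotientGroup.eq_one_iff, QuotientGroup.mk_pow]
    have hord : orderOf (a : P ⧸ Subgroup.center P) ∣ p ^ 2 := by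
      rw [← hq]
      exact orderOf_dvd_natCard _
    obtain ⟨j, hj, hoj⟩ := (Nat.dvd_prime_pow hp).mp hord
    have hj2 : j ≠ 2 := by
      intro h2
      apply hnc
      have hcyc : IsCyclic (P ⧸ Subgroup.center P) :=
        isCyclic_of_orderOf_eq_card (a : P ⧸ Subgroup.center P) (by rw [hoj, h2, hq])
      exact commutative_of_cyclic_center_quotient (QuotientGroup.mk' (Subgroup.center P))
        (by rw [QuotientGroup.ker_mk'])
    have hdvd : orderOf (a : P ⧸ Subgroup.center P) ∣ p := by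
      rw [hoj]
      have hj1 : j ≤ 1 := by omega
      exact pow_dvd_pow p hj1 |>.trans (by rw [pow_one])
    exact orderOf_dvd_iff_pow_eq_one.mp hdvd

theorem cube_extraspecial (p : ℕ) [Fact p.Prime] (hcard : Nat.card P = p ^ 3)
    (hnc : ¬ ∀ a b : P, a * b = b * a) : Cfsg.IsExtraspecial p P := by
  have hp : p.Prime := Fact.out
  have hG : IsPGroup p P := IsPGroup.of_card hcard
  have hZ := card_center_of_cube p hcard hnc
  obtain ⟨hc, hpw⟩ := cube_quot_facts p hcard hnc
  have hcomle : commutator P ≤ Subgroup.center P := by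
    rw [commutator_def, Subgroup.commutator_le]
    intro a _ b _
    rw [commutatorElement_def]
    exact hc a b
  refine ⟨⟨hG, ?_, ?_⟩, hZ⟩
  · apply le_antisymm
    · exact Cfsg.Agent.Lib.Helper18.frattini_le_of_elementary (p := p) (Subgroup.center P) hc hpw
    · show Subgroup.center P ≤ Order.radical (Subgroup P)
      unfold Order.radical
      refine le_iInf₂ (fun M hM => ?_)
      by_contra hZM
      apply hnc
      have hinf : Subgroup.center P ⊓ M = ⊥ := by
        have h1 : Nat.card ↥(Subgroup.center P ⊓ M) ∣ p := by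
          rw [← hZ]
          exact Subgroup.card_dvd_of_le inf_le_left
        rcases (Nat.dvd_prime hp).mp h1 with h | h
        · exact Subgroup.card_eq_one.mp h
        · exfalso
          apply hZM
          have e : Subgroup.center P ⊓ M = Subgroup.center P :=
            Subgroup.eq_of_le_of_card_ge inf_le_left (by rw [h, hZ])
          rw [← e]
          exact inf_le_right
      have hsup : Subgroup.center P ⊔ M = ⊤ := by
        apply hM.2
        refine lt_of_le_of_ne le_sup_right (fun h => hZM ?_)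
        rw [h]
        exact le_sup_left
      have hMc : ∀ m1 ∈ M, ∀ m2 ∈ M, m1 * m2 = m2 * m1 := by
        intro m1 h1 m2 h2
        have h3 : m1 * m2 * m1⁻¹ * m2⁻¹ ∈ Subgroup.center P ⊓ M :=
          ⟨hc m1 m2, M.mul_mem (M.mul_mem (M.mul_mem h1 h2) (M.inv_mem h1)) (M.inv_mem h2)⟩
        rw [hinf, Subgroup.mem_bot, mul_inv_eq_one, mul_inv_eq_iff_eq_mul] at h3
        exact h3
      intro a b
      have ha : a ∈ Subgroup.center P ⊔ M := hsup ▸ Subgroup.mem_top a
      have hb : b ∈ Subgroup.center P ⊔ M := hsup ▸ Subgroup.mem_top b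
      obtain ⟨z, hz, m, hm, rfl⟩ := Subgroup.mem_sup_of_normal_left.mp ha
      obtain ⟨z', hz', m', hm', rfl⟩ := Subgroup.mem_sup_of_normal_left.mp hb
      have e1 := Subgroup.mem_center_iff.mp hz
      have e2 := Subgroup.mem_center_iff.mp hz'
      have h1 : m * z' = z' * m := e2 m
      have h2 : z' * z = z * z' := e1 z'
      have h3 : m' * z = z * m' := e1 m'
      have h4 : m * m' = m' * m := hMc m hm m' hm'
      calc z * m * (z' * m') = z * (m * z') * m' := by group
        _ = z * (z' * m) * m' := by rw [h1]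
        _ = (z * z') * (m * m') := by group
        _ = (z' * z) * (m' * m) := by rw [h2, h4]
        _ = z' * (z * m') * m := by group
        _ = z' * (m' * z) * m := by rw [h3]
        _ = z' * m' * (z * m) := by group
  · apply Subgroup.eq_of_le_of_card_ge hcomle
    have h1 : Nat.card ↥(commutator P) ∣ p := by
      rw [← hZ]
      exact Subgroup.card_dvd_of_le hcomle
    rcases (Nat.dvd_prime hp).mp h1 with h | h
    · exfalso
      apply hnc
      have hbot := Subgroup.card_eq_one.mp h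
      intro a b
      have h2 : ⁅a, b⁆ ∈ commutator P := by
        rw [commutator_def]
        exact Subgroup.commutator_mem_commutator (Subgroup.mem_top a) (Subgroup.mem_top b)
      rw [hbot, Subgroup.mem_bot, commutatorElement_def, mul_inv_eq_one,
        mul_inv_eq_iff_eq_mul] at h2
      exact h2
    · rw [h, hZ]

theorem cube_odd_chain (p : ℕ) [Fact p.Prime] (hodd : p ≠ 2) (hcard : Nat.card P = p ^ 3)
    (hnc : ¬ ∀ a b : P, a * b = b * a) (x₀ : P) (hx₀ : x₀ ^ p ≠ 1) :
    ∃ (m : ℕ) (c : Fin (m + 1) → Subgroup P), NChain ⊤ m c := by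
  have hp : p.Prime := Fact.out
  have hZ := card_center_of_cube p hcard hnc
  obtain ⟨hc, hpw⟩ := cube_quot_facts p hcard hnc
  have hZp : ∀ z ∈ Subgroup.center P, z ^ p = 1 := by
    intro z hz
    have h1 := pow_card_eq_one' (G := ↥(Subgroup.center P)) (x := ⟨z, hz⟩)
    rw [hZ] at h1
    exact congrArg Subtype.val h1
  have hmul : ∀ x y : P, (x * y) ^ p = x ^ p * y ^ p := by
    intro x y
    obtain ⟨c, hcdef⟩ : ∃ c : P, c = (x * y)⁻¹ * (y * x) := ⟨_, rfl⟩
    have hcZ : c ∈ Subgroup.center P := by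
      have h1 := hc y⁻¹ x⁻¹
      rw [inv_inv, inv_inv] at h1
      rw [hcdef, mul_inv_rev, ← mul_assoc]
      exact h1
    have hyx : y * x = x * y * c := by
      rw [hcdef]
      group
    have hcx : c * x = x * c := (Subgroup.mem_center_iff.mp hcZ x).symm
    have hcy : c * y = y * c := (Subgroup.mem_center_iff.mp hcZ y).symm
    rw [mul_pow_of_central_comm x y c hyx hcx hcy p]
    have hdvd : p ∣ p.choose 2 :=
      hp.dvd_choose_self (by norm_num) (lt_of_le_of_ne hp.two_le (Ne.symm hodd))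
    obtain ⟨k, hk⟩ := hdvd
    rw [hk, pow_mul, hZp c hcZ, one_pow, mul_one]
  obtain ⟨f, hf⟩ : ∃ f : P →* P, ∀ x, f x = x ^ p :=
    ⟨{ toFun := fun x => x ^ p, map_one' := one_pow p, map_mul' := hmul }, fun _ => rfl⟩
  obtain ⟨Ω, hΩ⟩ : ∃ Ω : Subgroup P, Ω = f.ker := ⟨_, rfl⟩
  have hmemΩ : ∀ x, x ∈ Ω ↔ x ^ p = 1 := by
    intro x
    rw [hΩ, MonoidHom.mem_ker, hf]
  have hZΩ : Subgroup.center P ≤ Ω := fun z hz => (hmemΩ z).mpr (hZp z hz)
  have hΩn : Ω.Normal := by
    rw [hΩ]
    infer_instance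
  have hrange : Nat.card f.range = p := by
    have hle : f.range ≤ Subgroup.center P := by
      rintro _ ⟨x, rfl⟩
      rw [hf]
      exact hpw x
    have h1 : Nat.card ↥f.range ∣ p := by
      rw [← hZ]
      exact Subgroup.card_dvd_of_le hle
    rcases (Nat.dvd_prime hp).mp h1 with h | h
    · exfalso
      apply hx₀
      have hbot := Subgroup.card_eq_one.mp h
      have h2 : f x₀ ∈ f.range := ⟨x₀, rfl⟩
      rw [hbot, Subgroup.mem_bot, hf] at h2
      exact h2
    · exact h
  have hΩcard : Nat.card Ω = p ^ 2 := by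
    have h1 := Subgroup.card_mul_index f.ker
    rw [Subgroup.index_ker, hrange, hcard] at h1
    have h3 : p ^ 3 = p ^ 2 * p := by ring
    rw [h3] at h1
    rw [hΩ]
    exact Nat.eq_of_mul_eq_mul_right hp.pos h1
  obtain ⟨z₀, hz₀⟩ : ∃ z₀ : P, Subgroup.center P = ⊥ ⊔ Subgroup.zpowers z₀ := by
    have hnt : ∃ z ∈ Subgroup.center P, z ≠ 1 := by
      by_contra hcon
      push Not at hcon
      have e : Subgroup.center P = ⊥ := (Subgroup.eq_bot_iff_forall _).mpr hcon
      rw [e, Subgroup.card_bot] at hZ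
      exact hp.one_lt.ne hZ
    obtain ⟨z, hz, hz1⟩ := hnt
    exact ⟨z, sup_zpowers_of_prime_index hp bot_le (by rw [hZ, Subgroup.card_bot, mul_one]) hz
      (by rw [Subgroup.mem_bot]; exact hz1)⟩
  obtain ⟨y, hy⟩ : ∃ y : P, Ω = Subgroup.center P ⊔ Subgroup.zpowers y := by
    have hex : ∃ y ∈ Ω, y ∉ Subgroup.center P := by
      by_contra hcon
      push Not at hcon
      have e : Ω = Subgroup.center P := le_antisymm hcon hZΩ
      rw [e, hZ] at hΩcard
      have e2 : p ^ 1 = p ^ 2 := by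
        rw [pow_one]
        exact hΩcard
      exact absurd (Nat.pow_right_injective hp.two_le e2) (by norm_num)
    obtain ⟨y, hyΩ, hyZ⟩ := hex
    exact ⟨y, sup_zpowers_of_prime_index hp hZΩ (by rw [hΩcard, hZ]; ring) hyΩ hyZ⟩
  have htop : (⊤ : Subgroup P) = Ω ⊔ Subgroup.zpowers x₀ :=
    sup_zpowers_of_prime_index hp le_top (by rw [Subgroup.card_top, hcard, hΩcard]; ring)
      (Subgroup.mem_top _) (fun h => hx₀ ((hmemΩ x₀).mp h))
  refine ⟨3, _, nchain_of_nat ⊤ 3
    (fun t => match t with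
      | 0 => ⊥
      | 1 => Subgroup.center P
      | 2 => Ω
      | _ => ⊤) rfl rfl ?_ ?_⟩
  · intro t
    rcases t with _ | _ | _ | t
    · refine ⟨(inferInstance : (⊥ : Subgroup P).Normal), fun α _ x hx => ?_⟩
      have hx' : x ∈ (⊥ : Subgroup P) := hx
      show α x ∈ (⊥ : Subgroup P)
      rw [Subgroup.mem_bot] at hx' ⊢
      rw [hx', map_one]
    · exact ⟨inferInstanceAs (Subgroup.center P).Normal, fun α _ x hx => aut_center_mem' α hx⟩
    · refine ⟨hΩn, fun α _ x hx => ?_⟩
      have hx' : x ∈ Ω := hx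
      show α x ∈ Ω
      rw [hmemΩ] at hx' ⊢
      rw [← map_pow, hx', map_one]
    · exact ⟨inferInstanceAs (⊤ : Subgroup P).Normal, fun α _ x _ => Subgroup.mem_top _⟩
  · intro t ht
    interval_cases t
    · exact ⟨bot_le, z₀, hz₀⟩
    · exact ⟨hZΩ, y, hy⟩
    · exact ⟨le_top, x₀, htop⟩

omit [Finite P] in
theorem comm_of_gens {a b : P} (hn : (Subgroup.zpowers a).Normal) (hab : a * b = b * a)
    (htop : (⊤ : Subgroup P) = Subgroup.zpowers a ⊔ Subgroup.zpowers b) :
    ∀ x y : P, x * y = y * x := by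
  have hcomm : Commute a b := hab
  intro x y
  have hx : x ∈ Subgroup.zpowers a ⊔ Subgroup.zpowers b := htop ▸ Subgroup.mem_top x
  have hy : y ∈ Subgroup.zpowers a ⊔ Subgroup.zpowers b := htop ▸ Subgroup.mem_top y
  obtain ⟨u, hu, v, hv, rfl⟩ := Subgroup.mem_sup_of_normal_left.mp hx
  obtain ⟨u', hu', v', hv', rfl⟩ := Subgroup.mem_sup_of_normal_left.mp hy
  obtain ⟨i, rfl⟩ := Subgroup.mem_zpowers_iff.mp hu
  obtain ⟨j, rfl⟩ := Subgroup.mem_zpowers_iff.mp hv
  obtain ⟨i', rfl⟩ := Subgroup.mem_zpowers_iff.mp hu'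
  obtain ⟨j', rfl⟩ := Subgroup.mem_zpowers_iff.mp hv'
  have h1 : Commute (a ^ i * b ^ j) (a ^ i' * b ^ j') :=
    Commute.mul_left
      (Commute.mul_right (Commute.zpow_zpow_self a i i') (hcomm.zpow_zpow i j'))
      (Commute.mul_right (hcomm.symm.zpow_zpow j i') (Commute.zpow_zpow_self b j j'))
  exact h1.eq

theorem cube_two_cases (hcard : Nat.card P = 2 ^ 3) (hnc : ¬ ∀ a b : P, a * b = b * a) :
    (∃ (m : ℕ) (c : Fin (m + 1) → Subgroup P), NChain ⊤ m c) ∨
      Nonempty (P ≃* QuaternionGroup 2) := by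
  classical
  have hp2 : Fact (Nat.Prime 2) := ⟨Nat.prime_two⟩
  have hZ := card_center_of_cube 2 hcard hnc
  obtain ⟨hc, hpw⟩ := cube_quot_facts 2 hcard hnc
  obtain ⟨a, ha⟩ : ∃ a : P, a ^ 2 ≠ 1 := by
    by_contra hcon
    push Not at hcon
    apply hnc
    intro x y
    have h1 := hcon (x * y)
    have h2 := hcon x
    have h3 := hcon y
    have hx : x⁻¹ = x := by
      rw [inv_eq_iff_mul_eq_one, ← sq]
      exact h2
    have hy : y⁻¹ = y := by
      rw [inv_eq_iff_mul_eq_one, ← sq]
      exact h3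
    have hxy : (x * y)⁻¹ = x * y := by
      rw [inv_eq_iff_mul_eq_one, ← sq]
      exact h1
    rw [mul_inv_rev, hx, hy] at hxy
    exact hxy.symm
  have haZ : a ^ 2 ∈ Subgroup.center P := hpw a
  have hZelts : ∀ z ∈ Subgroup.center P, z ≠ 1 → z = a ^ 2 := by
    intro z hz hz1
    obtain ⟨w, -, hw⟩ := (Nat.card_eq_two_iff' (1 : ↥(Subgroup.center P))).mp hZ
    have e1 := hw ⟨z, hz⟩ (fun h => hz1 (congrArg Subtype.val h))
    have e2 := hw ⟨a ^ 2, haZ⟩ (fun h => ha (congrArg Subtype.val h))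
    exact congrArg Subtype.val (e1.trans e2.symm)
  have ha4 : a ^ 4 = 1 := by
    have h1 := pow_card_eq_one' (G := ↥(Subgroup.center P)) (x := ⟨a ^ 2, haZ⟩)
    rw [hZ] at h1
    have h2 : (a ^ 2) ^ 2 = 1 := congrArg Subtype.val h1
    rw [← pow_mul] at h2
    exact h2
  have hord : orderOf a = 4 := by
    have h1 : orderOf a ∣ 2 ^ 2 := orderOf_dvd_of_pow_eq_one ha4
    obtain ⟨j, hj, hoj⟩ := (Nat.dvd_prime_pow Nat.prime_two).mp h1
    interval_cases j
    · exfalso
      apply ha
      rw [pow_zero] at hoj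
      rw [orderOf_eq_one_iff.mp hoj, one_pow]
    · exfalso
      apply ha
      rw [pow_one] at hoj
      rw [← hoj]
      exact pow_orderOf_eq_one a
    · rw [hoj]
      norm_num
  have hAcard : Nat.card (Subgroup.zpowers a) = 4 := by
    rw [Nat.card_zpowers, hord]
  have hAn : (Subgroup.zpowers a).Normal := by
    apply Subgroup.normal_of_index_eq_two
    have h1 := Subgroup.card_mul_index (Subgroup.zpowers a)
    rw [hAcard, hcard] at h1
    omega
  have hZA : Subgroup.center P ≤ Subgroup.zpowers a := by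
    intro z hz
    by_cases hz1 : z = 1
    · rw [hz1]
      exact one_mem _
    · rw [hZelts z hz hz1]
      exact Subgroup.pow_mem _ (Subgroup.mem_zpowers a) 2
  have hAelts : ∀ c ∈ Subgroup.zpowers a, c ^ 2 ≠ 1 → c = a ∨ c = a⁻¹ := by
    intro c hc hc2
    have hc' := (mem_powers_iff_mem_zpowers).mpr hc
    rw [mem_powers_iff_mem_range_orderOf, hord] at hc'
    obtain ⟨k, hk, rfl⟩ := Finset.mem_image.mp hc'
    rw [Finset.mem_range] at hk
    interval_cases k
    · exfalso
      apply hc2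
      simp
    · left
      simp
    · exfalso
      apply hc2
      show (a ^ 2) ^ 2 = 1
      rw [← pow_mul]
      exact ha4
    · right
      show a ^ 3 = a⁻¹
      rw [eq_inv_iff_mul_eq_one, ← pow_succ]
      exact ha4
  obtain ⟨b₀, hb₀⟩ : ∃ b : P, b ∉ Subgroup.zpowers a := by
    by_contra hcon
    push Not at hcon
    have e : Subgroup.zpowers a = ⊤ := (Subgroup.eq_top_iff' _).mpr hcon
    rw [e, Subgroup.card_top, hcard] at hAcard
    norm_num at hAcard
  have htop : ∀ b : P, b ∉ Subgroup.zpowers a →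
      (⊤ : Subgroup P) = Subgroup.zpowers a ⊔ Subgroup.zpowers b := fun b hb =>
    sup_zpowers_of_prime_index Nat.prime_two le_top
      (by rw [Subgroup.card_top, hcard, hAcard]; norm_num) (Subgroup.mem_top _) hb
  by_cases hall : ∀ b : P, b ^ 2 ≠ 1 → b ∈ Subgroup.zpowers a
  · left
    have hz₀ : Subgroup.center P = ⊥ ⊔ Subgroup.zpowers (a ^ 2) :=
      sup_zpowers_of_prime_index Nat.prime_two bot_le (by rw [hZ, Subgroup.card_bot]) haZ
        (by rw [Subgroup.mem_bot]; exact ha)
    refine ⟨3, _, nchain_of_nat ⊤ 3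
      (fun t => match t with
        | 0 => ⊥
        | 1 => Subgroup.center P
        | 2 => Subgroup.zpowers a
        | _ => ⊤) rfl rfl ?_ ?_⟩
    · intro t
      rcases t with _ | _ | _ | t
      · refine ⟨(inferInstance : (⊥ : Subgroup P).Normal), fun α _ x hx => ?_⟩
        have hx' : x ∈ (⊥ : Subgroup P) := hx
        show α x ∈ (⊥ : Subgroup P)
        rw [Subgroup.mem_bot] at hx' ⊢
        rw [hx', map_one]
      · exact ⟨inferInstanceAs (Subgroup.center P).Normal, fun α _ x hx => aut_center_mem' α hx⟩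
      · refine ⟨hAn, fun α _ x hx => ?_⟩
        have hx' : x ∈ Subgroup.zpowers a := hx
        show α x ∈ Subgroup.zpowers a
        obtain ⟨k, rfl⟩ := Subgroup.mem_zpowers_iff.mp hx'
        rw [map_zpow]
        apply Subgroup.zpow_mem
        apply hall
        rw [← map_pow]
        intro h
        apply ha
        apply α.injective
        rw [h, map_one]
      · exact ⟨inferInstanceAs (⊤ : Subgroup P).Normal, fun α _ x _ => Subgroup.mem_top _⟩
    · intro t ht
      interval_cases t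
      · exact ⟨bot_le, a ^ 2, hz₀⟩
      · exact ⟨hZA, a, (sup_eq_right.mpr (hZA.trans (Subgroup.zpowers_le.mpr
          (Subgroup.mem_zpowers a)))).symm⟩
      · exact ⟨le_top, b₀, htop b₀ hb₀⟩
  · right
    push Not at hall
    obtain ⟨b, hb2, hbA⟩ := hall
    have hbb : b * b = a ^ 2 := by
      rw [← sq]
      exact hZelts _ (hpw b) hb2
    have hcA : b⁻¹ * a * b ∈ Subgroup.zpowers a := by
      have h1 := hAn.conj_mem a (Subgroup.mem_zpowers a) b⁻¹
      rw [inv_inv] at h1
      exact h1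
    have hc2 : (b⁻¹ * a * b) ^ 2 ≠ 1 := by
      intro h
      apply ha
      have e : (b⁻¹ * a * b) ^ 2 = b⁻¹ * a ^ 2 * b := by
        rw [sq, sq]
        group
      rw [e] at h
      have e2 : a ^ 2 = b * (b⁻¹ * a ^ 2 * b) * b⁻¹ := by group
      rw [e2, h]
      group
    have hconj : a * b = b * a⁻¹ := by
      rcases hAelts _ hcA hc2 with h | h
      · exfalso
        have hab : a * b = b * a := by
          have e : a * b = b * (b⁻¹ * a * b) := by group
          rw [e, h]
        exact hnc (comm_of_gens hAn hab (htop b hbA))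
      · have e : a * b = b * (b⁻¹ * a * b) := by group
        rw [e, h]
    obtain ⟨φ, h1, h2⟩ := Cfsg.Agent.Lib.Helper3.exists_quat_hom (n := 2) a b hord hbb hconj
    have hinj := Cfsg.Agent.Lib.Helper3.quat_hom_injective (n := 2) a b hord hbA φ h1 h2
    have hcardQ : Nat.card (QuaternionGroup 2) = 8 := by
      rw [Nat.card_eq_fintype_card, QuaternionGroup.card]
    have hbij : Function.Bijective φ :=
      hinj.bijective_of_nat_card_le (by rw [hcard, hcardQ]; norm_num)
    exact ⟨(MulEquiv.ofBijective φ hbij).symm⟩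

/-- A group of order `p ^ 3` has a characteristic chain with cyclic steps unless it is elementary
abelian, extraspecial of exponent `p` (`p` odd), or quaternion. -/
theorem cube_cases (p : ℕ) [Fact p.Prime] (hcard : Nat.card P = p ^ 3) :
    (∃ (m : ℕ) (c : Fin (m + 1) → Subgroup P), NChain ⊤ m c) ∨
    ((∀ a b : P, a * b = b * a) ∧ ∀ a : P, a ^ p = 1) ∨
    (Odd p ∧ Cfsg.IsExtraspecial p P ∧ ∀ x : P, x ^ p = 1) ∨
    (p = 2 ∧ Nonempty (P ≃* QuaternionGroup 2)) := by
  have hp : p.Prime := Fact.out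
  by_cases hcomm : ∀ a b : P, a * b = b * a
  · rcases cube_abelian_cases p hcard hcomm with h | h
    · exact Or.inl h
    · exact Or.inr (Or.inl ⟨hcomm, h⟩)
  · by_cases hp2 : p = 2
    · subst hp2
      rcases cube_two_cases hcard hcomm with h | h
      · exact Or.inl h
      · exact Or.inr (Or.inr (Or.inr ⟨rfl, h⟩))
    · by_cases hexp : ∀ x : P, x ^ p = 1
      · exact Or.inr (Or.inr (Or.inl ⟨hp.odd_of_ne_two hp2,
          cube_extraspecial p hcard hcomm, hexp⟩))
      · push Not at hexp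
        obtain ⟨x₀, hx₀⟩ := hexp
        exact Or.inl (cube_odd_chain p hp2 hcard hcomm x₀ hx₀)

end Cube

section FusionCube

open Cfsg Cfsg.FusionSystem Cfsg.Agent.Lib.Helper26

variable {Ω : Type u} [Group Ω] {S : Subgroup Ω}

theorem essential_card_cube [Finite S] (p : ℕ) [Fact p.Prime] (hS : IsPGroup p S)
    (F : Cfsg.FusionSystem S) (H : Subgroup Ω) (hH : F.IsEssential p H)
    (hcard : Nat.card H = p ^ 3) :
    Cfsg.IsElementaryAbelian p H ∨ (Odd p ∧ Cfsg.IsExtraspecial p ↥H ∧ ∀ x ∈ H, x ^ p = 1) ∨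
      (p = 2 ∧ Nonempty (↥H ≃* QuaternionGroup 2)) := by
  have hHS : H ≤ S := hH.1.1
  have hfin : Finite ↥H := finite_of_le hHS
  rcases cube_cases (P := ↥H) p hcard with ⟨m, c, hch⟩ | ⟨hcomm, hexp⟩ | ⟨hodd, hex, hexp⟩ | h
  · exfalso
    exact not_essential_of_chain p hS F (c := c)
      ⟨hch.1, hch.2.1, fun i => ⟨(hch.2.2.1 i).1, fun α _ x hx =>
        (hch.2.2.1 i).2 α (Subgroup.mem_top α) x hx⟩, hch.2.2.2⟩ hH
  · left
    exact ⟨⟨⟨fun a b => hcomm a b⟩⟩, fun a ha => congrArg Subtype.val (hexp ⟨a, ha⟩)⟩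
  · right
    left
    exact ⟨hodd, hex, fun x hx => congrArg Subtype.val (hexp ⟨x, hx⟩)⟩
  · right
    right
    exact h

end FusionCube

end Cfsg.Agent.Lib.Helper27
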