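import Mathlib
import Cfsg.Agent.Lib.Helper27.OrderCube
import Cfsg.Agent.Lib.Helper27.MaxClass
import Cfsg.Agent.Lib.Helper1.Cores

set_option autoImplicit false

namespace Cfsg.Agent.Lib.Helper27

universe u

section QuarticTools

variable {P : Type u} [Group P]

theorem charN_of_inv (K : Subgroup P) (h : ∀ α : MulAut P, ∀ x ∈ K, α x ∈ K) :
    K.Normal ∧ ∀ α ∈ (⊤ : Subgroup (MulAut P)), ∀ x ∈ K, α x ∈ K :=
  ⟨⟨fun x hx g => by
      have h1 := h (MulAut.conj g) x hx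
      rwa [MulAut.conj_apply] at h1⟩, fun α _ x hx => h α x hx⟩

theorem char_inv (H : Subgroup P) [hH : H.Characteristic] (α : MulAut P) {x : P} (hx : x ∈ H) :
    α x ∈ H := by
  have h1 := hH.fixed α
  rw [← h1] at hx
  exact hx

theorem step_of_card [Finite P] {p : ℕ} (hp : p.Prime) {C D : Subgroup P} (hCD : C ≤ D)
    (hcard : Nat.card D = p * Nat.card C) : ∃ y, D = C ⊔ Subgroup.zpowers y := by
  have hex : ∃ y ∈ D, y ∉ C := by
    by_contra hcon
    push Not at hcon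
    have e : D = C := le_antisymm hcon hCD
    rw [e] at hcard
    have hpos : 0 < Nat.card C := Nat.card_pos
    have h1 : 1 * Nat.card C = p * Nat.card C := by
      rw [one_mul]
      exact hcard
    have h2 := Nat.eq_of_mul_eq_mul_right hpos h1
    exact hp.one_lt.ne h2
  obtain ⟨y, hyD, hyC⟩ := hex
  exact ⟨y, sup_zpowers_of_prime_index hp hCD hcard hyD hyC⟩

theorem chain_of_four (C1 C2 C3 : Subgroup P)
    (i1 : ∀ α : MulAut P, ∀ x ∈ C1, α x ∈ C1) (i2 : ∀ α : MulAut P, ∀ x ∈ C2, α x ∈ C2)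
    (i3 : ∀ α : MulAut P, ∀ x ∈ C3, α x ∈ C3)
    (s1 : ∃ y, C1 = ⊥ ⊔ Subgroup.zpowers y) (s2 : ∃ y, C2 = C1 ⊔ Subgroup.zpowers y)
    (s3 : ∃ y, C3 = C2 ⊔ Subgroup.zpowers y)
    (s4 : ∃ y, (⊤ : Subgroup P) = C3 ⊔ Subgroup.zpowers y) :
    ∃ (m : ℕ) (c : Fin (m + 1) → Subgroup P), NChain ⊤ m c := by
  refine ⟨4, _, nchain_of_nat ⊤ 4
    (fun t => match t with
      | 0 => ⊥
      | 1 => C1
      | 2 => C2
      | 3 => C3
      | _ => ⊤) rfl rfl ?_ ?_⟩
  · intro t
    rcases t with _ | _ | _ | _ | t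
    · exact charN_of_inv (⊥ : Subgroup P) (fun α x hx => by
        rw [Subgroup.mem_bot] at hx ⊢
        rw [hx, map_one])
    · exact charN_of_inv C1 i1
    · exact charN_of_inv C2 i2
    · exact charN_of_inv C3 i3
    · exact charN_of_inv (⊤ : Subgroup P) (fun α x _ => Subgroup.mem_top _)
  · intro t ht
    interval_cases t
    · obtain ⟨y, hy⟩ := s1
      exact ⟨bot_le, y, hy⟩
    · obtain ⟨y, hy⟩ := s2
      exact ⟨le_of_le_of_eq le_sup_left hy.symm, y, hy⟩
    · obtain ⟨y, hy⟩ := s3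
      exact ⟨le_of_le_of_eq le_sup_left hy.symm, y, hy⟩
    · obtain ⟨y, hy⟩ := s4
      exact ⟨le_top, y, hy⟩

theorem chain_of_cards [Finite P] (p : ℕ) [Fact p.Prime] (hcard : Nat.card P = p ^ 4)
    (C1 C2 C3 : Subgroup P)
    (i1 : ∀ α : MulAut P, ∀ x ∈ C1, α x ∈ C1) (i2 : ∀ α : MulAut P, ∀ x ∈ C2, α x ∈ C2)
    (i3 : ∀ α : MulAut P, ∀ x ∈ C3, α x ∈ C3)
    (h1 : Nat.card C1 = p) (h2 : Nat.card C2 = p ^ 2) (h3 : Nat.card C3 = p ^ 3)
    (h12 : C1 ≤ C2) (h23 : C2 ≤ C3) :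
    ∃ (m : ℕ) (c : Fin (m + 1) → Subgroup P), NChain ⊤ m c := by
  have hp : p.Prime := Fact.out
  refine chain_of_four C1 C2 C3 i1 i2 i3 ?_ ?_ ?_ ?_
  · exact step_of_card hp bot_le (by rw [h1, Subgroup.card_bot, mul_one])
  · exact step_of_card hp h12 (by rw [h1, h2, sq])
  · exact step_of_card hp h23 (by rw [h2, h3]; ring)
  · exact step_of_card hp le_top (by rw [Subgroup.card_top, hcard, h3]; ring)

/-- Splitting off a central subgroup of prime order not contained in a subgroup of index `p`. -/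
theorem split_central [Finite P] (p : ℕ) [Fact p.Prime] (M : Subgroup P) (w : P)
    (hw : w ∈ Subgroup.center P) (hwM : w ∉ M) (hwp : w ^ p = 1)
    (hcard : Nat.card P = Nat.card M * p) : Nonempty (P ≃* M × Multiplicative (ZMod p)) := by
  have hp : p.Prime := Fact.out
  have hw1 : w ≠ 1 := fun h => hwM (h ▸ one_mem M)
  have hord : orderOf w = p := orderOf_eq_prime hwp hw1
  have hK : Nat.card (Subgroup.zpowers w) = p := by rw [Nat.card_zpowers, hord]
  have hKc : ∀ k : ↥(Subgroup.zpowers w), ∀ g : P, g * (k : P) = (k : P) * g := by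
    intro k g
    obtain ⟨i, hi⟩ := Subgroup.mem_zpowers_iff.mp k.2
    rw [← hi]
    exact Subgroup.mem_center_iff.mp (Subgroup.zpow_mem _ hw i) g
  obtain ⟨f, hf⟩ : ∃ f : ↥M × ↥(Subgroup.zpowers w) →* P, ∀ mk, f mk = (mk.1 : P) * (mk.2 : P) :=
    ⟨MonoidHom.noncommCoprod M.subtype (Subgroup.zpowers w).subtype
      (fun m k => hKc k (m : P)), fun mk => MonoidHom.noncommCoprod_apply _ _ _ mk⟩
  have hinj : Function.Injective f := by
    rw [injective_iff_map_eq_one]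
    rintro ⟨m, k⟩ h
    rw [hf] at h
    have hkM : (k : P) ∈ M := by
      have e : (k : P) = (m : P)⁻¹ := eq_inv_of_mul_eq_one_right h
      rw [e]
      exact M.inv_mem m.2
    have hk1 : k = 1 := by
      by_contra hne
      apply hwM
      have htop := zpowers_eq_top_of_prime_card hK hne
      have hmem : (⟨w, Subgroup.mem_zpowers w⟩ : ↥(Subgroup.zpowers w)) ∈ Subgroup.zpowers k := by
        rw [htop]
        exact Subgroup.mem_top _
      obtain ⟨j, hj⟩ := Subgroup.mem_zpowers_iff.mp hmem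
      have hj' : (k : P) ^ j = w := by
        have := congrArg Subtype.val hj
        rwa [Subgroup.coe_zpow] at this
      rw [← hj']
      exact Subgroup.zpow_mem _ hkM j
    have hm1 : m = 1 := by
      apply Subtype.ext
      have h' := h
      rw [hk1] at h'
      simpa using h'
    rw [hk1, hm1]
    rfl
  have hbij : Function.Bijective f :=
    hinj.bijective_of_nat_card_le (by rw [Nat.card_prod, hK, hcard])
  have e1 : ↥(Subgroup.zpowers w) ≃* Multiplicative (ZMod (Nat.card ↥(Subgroup.zpowers w))) :=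
    (zmodCyclicMulEquiv (Subgroup.isCyclic_zpowers w)).symm
  have e2 : Multiplicative (ZMod (Nat.card ↥(Subgroup.zpowers w))) ≃* Multiplicative (ZMod p) :=
    AddEquiv.toMultiplicative (ZMod.ringEquivCongr hK).toAddEquiv
  exact ⟨(MulEquiv.ofBijective f hbij).symm.trans
    (MulEquiv.prodCongr (MulEquiv.refl ↥M) (e1.trans e2))⟩

/-- If `P` is generated by a central subgroup and two elements whose commutator lies in a normal
subgroup `D`, then all commutators lie in `D`. -/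
theorem comm_mod_of_gens (D : Subgroup P) [D.Normal] (Z : Subgroup P)
    (hZ : Z ≤ Subgroup.center P) (x₀ y₀ : P) (hc : x₀ * y₀ * x₀⁻¹ * y₀⁻¹ ∈ D)
    (htop : (⊤ : Subgroup P) = (Z ⊔ Subgroup.zpowers x₀) ⊔ Subgroup.zpowers y₀) :
    ∀ a b : P, a * b * a⁻¹ * b⁻¹ ∈ D := by
  obtain ⟨q, hq⟩ : ∃ q : P →* P ⧸ D, q = QuotientGroup.mk' D := ⟨_, rfl⟩
  have hqs : Function.Surjective q := by
    rw [hq]
    exact QuotientGroup.mk'_surjective D
  have hq1 : ∀ g : P, q g = 1 ↔ g ∈ D := by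
    intro g
    rw [hq]
    exact QuotientGroup.eq_one_iff g
  have hxy : q x₀ * q y₀ = q y₀ * q x₀ := by
    have h1 : q (x₀ * y₀ * x₀⁻¹ * y₀⁻¹) = 1 := (hq1 _).mpr hc
    rw [map_mul, map_mul, map_mul, map_inv, map_inv, mul_inv_eq_one, mul_inv_eq_iff_eq_mul] at h1
    exact h1
  have hZc : ∀ z ∈ Z, ∀ g : P ⧸ D, g * q z = q z * g := by
    intro z hz g
    obtain ⟨g, rfl⟩ := hqs g
    rw [← map_mul, ← map_mul, Subgroup.mem_center_iff.mp (hZ hz) g]
  have hmap : (⊤ : Subgroup (P ⧸ D)) =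
      (Z.map q ⊔ Subgroup.zpowers (q x₀)) ⊔ Subgroup.zpowers (q y₀) := by
    have h1 : (⊤ : Subgroup P).map q = ⊤ := by
      rw [← MonoidHom.range_eq_map, MonoidHom.range_eq_top]
      exact hqs
    rw [← h1, htop, Subgroup.map_sup, Subgroup.map_sup, MonoidHom.map_zpowers,
      MonoidHom.map_zpowers]
  have hcen : ∀ u : P ⧸ D, (∀ z ∈ Z, q z * u = u * q z) → q x₀ * u = u * q x₀ →
      q y₀ * u = u * q y₀ → u ∈ Subgroup.center (P ⧸ D) := by
    intro u h1 h2 h3
    have hle : (⊤ : Subgroup (P ⧸ D)) ≤ Subgroup.centralizer {u} := by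
      rw [hmap]
      refine sup_le (sup_le ?_ ?_) ?_
      · rintro _ ⟨z, hz, rfl⟩
        rw [Subgroup.mem_centralizer_iff]
        intro h hh
        rw [Set.mem_singleton_iff] at hh
        rw [hh]
        exact (h1 z hz).symm
      · rw [Subgroup.zpowers_le, Subgroup.mem_centralizer_iff]
        intro h hh
        rw [Set.mem_singleton_iff] at hh
        rw [hh]
        exact h2.symm
      · rw [Subgroup.zpowers_le, Subgroup.mem_centralizer_iff]
        intro h hh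
        rw [Set.mem_singleton_iff] at hh
        rw [hh]
        exact h3.symm
    rw [Subgroup.mem_center_iff]
    intro g
    have h4 := hle (Subgroup.mem_top g)
    rw [Subgroup.mem_centralizer_iff] at h4
    exact (h4 u rfl).symm
  have hcx : q x₀ ∈ Subgroup.center (P ⧸ D) :=
    hcen _ (fun z hz => (hZc z hz _).symm) rfl hxy.symm
  have hcy : q y₀ ∈ Subgroup.center (P ⧸ D) :=
    hcen _ (fun z hz => (hZc z hz _).symm) hxy rfl
  have hall : (⊤ : Subgroup (P ⧸ D)) ≤ Subgroup.center (P ⧸ D) := by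
    rw [hmap]
    refine sup_le (sup_le ?_ (Subgroup.zpowers_le.mpr hcx)) (Subgroup.zpowers_le.mpr hcy)
    rintro _ ⟨z, hz, rfl⟩
    rw [Subgroup.mem_center_iff]
    intro g
    exact hZc z hz g
  intro a b
  rw [← hq1]
  have h := Subgroup.mem_center_iff.mp (hall (Subgroup.mem_top (q a))) (q b)
  rw [map_mul, map_mul, map_mul, map_inv, map_inv, ← h, mul_inv_cancel_right, mul_inv_cancel]

/-- In a group with central commutators, `y ↦ x y x⁻¹ y⁻¹` is a homomorphism. -/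
theorem class2_comm_hom (hc : ∀ a b : P, a * b * a⁻¹ * b⁻¹ ∈ Subgroup.center P) (x : P) :
    ∃ f : P →* P, ∀ y, f y = x * y * x⁻¹ * y⁻¹ := by
  refine ⟨{ toFun := fun y => x * y * x⁻¹ * y⁻¹, map_one' := by group, map_mul' := ?_ },
    fun _ => rfl⟩
  intro y z
  have hk := Subgroup.mem_center_iff.mp (hc x z)
  have e := hk y⁻¹
  show x * (y * z) * x⁻¹ * (y * z)⁻¹ = x * y * x⁻¹ * y⁻¹ * (x * z * x⁻¹ * z⁻¹)
  calc x * (y * z) * x⁻¹ * (y * z)⁻¹ = x * y * x⁻¹ * ((x * z * x⁻¹ * z⁻¹) * y⁻¹) := by group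
    _ = x * y * x⁻¹ * (y⁻¹ * (x * z * x⁻¹ * z⁻¹)) := by rw [e]
    _ = x * y * x⁻¹ * y⁻¹ * (x * z * x⁻¹ * z⁻¹) := by group

/-- The defect `c = (x y)⁻¹ (y x)` of commutativity in a group with central commutators. -/
theorem class2_defect (hc : ∀ a b : P, a * b * a⁻¹ * b⁻¹ ∈ Subgroup.center P) (x y : P) :
    (x * y)⁻¹ * (y * x) ∈ Subgroup.center P ∧
      (∀ n : ℕ, y ^ n * x = x * y ^ n * ((x * y)⁻¹ * (y * x)) ^ n) ∧
      ∀ n : ℕ, (x * y) ^ n = x ^ n * y ^ n * ((x * y)⁻¹ * (y * x)) ^ (n.choose 2) := by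
  obtain ⟨c, hcdef⟩ : ∃ c : P, c = (x * y)⁻¹ * (y * x) := ⟨_, rfl⟩
  have hcZ : c ∈ Subgroup.center P := by
    have h1 := hc y⁻¹ x⁻¹
    rw [inv_inv, inv_inv] at h1
    rw [hcdef, mul_inv_rev, ← mul_assoc]
    exact h1
  have hyx : y * x = x * y * c := by
    rw [hcdef]
    group
  have hcx : c * x = x * c := (Subgroup.mem_center_iff.mp hcZ x).symm
  have hcy : c * y = y * c := (Subgroup.mem_center_iff.mp hcZ y).symm
  rw [← hcdef]
  exact ⟨hcZ, fun n => pow_mul_of_central_comm x y c hyx hcx hcy n,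
    fun n => mul_pow_of_central_comm x y c hyx hcx hcy n⟩

/-- A power map is a homomorphism when the relevant powers of all defects vanish. -/
theorem class2_pow_hom (hc : ∀ a b : P, a * b * a⁻¹ * b⁻¹ ∈ Subgroup.center P) (n : ℕ)
    (hn : ∀ x y : P, ((x * y)⁻¹ * (y * x)) ^ (n.choose 2) = 1) :
    ∃ f : P →* P, ∀ x, f x = x ^ n := by
  refine ⟨{ toFun := fun x => x ^ n, map_one' := one_pow n, map_mul' := ?_ }, fun _ => rfl⟩
  intro x y
  show (x * y) ^ n = x ^ n * y ^ n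
  rw [(class2_defect hc x y).2.2 n, hn x y, mul_one]

end QuarticTools

end Cfsg.Agent.Lib.Helper27
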