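import Mathlib
import Cfsg.Agent.Lib.Helper27.OrderQuarticA

set_option autoImplicit false

namespace Cfsg.Agent.Lib.Helper27

universe u

section QuarticB

variable {P : Type u} [Group P] [Finite P]

/-- A group of order `p ^ 3` with a central subgroup of order more than `p` is abelian. -/
theorem abelian_of_cube_center (p : ℕ) [Fact p.Prime] (hcard : Nat.card P = p ^ 3)
    (Z' : Subgroup P) (hZ' : Z' ≤ Subgroup.center P) (hlt : p < Nat.card Z') :
    ∀ a b : P, a * b = b * a := by
  by_contra hnc
  have h1 := card_center_of_cube p hcard hnc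
  have h2 := Subgroup.card_le_of_le hZ'
  omega

theorem no_class2_center_prime (p : ℕ) [Fact p.Prime] (hcard : Nat.card P = p ^ 4)
    (hZ : Nat.card (Subgroup.center P) = p)
    (hc : ∀ a b : P, a * b * a⁻¹ * b⁻¹ ∈ Subgroup.center P) : False := by
  have hp : p.Prime := Fact.out
  have hG : IsPGroup p P := IsPGroup.of_card hcard
  have hidx : ∀ x : P, ∃ K : Subgroup P, (∀ y, y ∈ K ↔ x * y = y * x) ∧ K.index ∣ p := by
    intro x
    obtain ⟨f, hf⟩ := class2_comm_hom hc x
    refine ⟨f.ker, fun y => ?_, ?_⟩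
    · rw [MonoidHom.mem_ker, hf, mul_inv_eq_one, mul_inv_eq_iff_eq_mul]
    · rw [Subgroup.index_ker, ← hZ]
      apply Subgroup.card_dvd_of_le
      rintro _ ⟨y, rfl⟩
      rw [hf]
      exact hc x y
  obtain ⟨x₀, hx₀⟩ : ∃ x₀ : P, x₀ ∉ Subgroup.center P := by
    by_contra hcon
    push Not at hcon
    have e : Subgroup.center P = ⊤ := (Subgroup.eq_top_iff' _).mpr hcon
    rw [e, Subgroup.card_top, hcard] at hZ
    have h1 : p ^ 4 = p ^ 1 := by
      rw [pow_one]
      exact hZ
    have h2 := Nat.pow_right_injective hp.two_le h1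
    omega
  obtain ⟨A, hA, hAidx⟩ := hidx x₀
  have hAtop : A ≠ ⊤ := by
    intro h
    apply hx₀
    rw [Subgroup.mem_center_iff]
    intro g
    have hg : g ∈ A := h ▸ Subgroup.mem_top g
    exact ((hA g).mp hg).symm
  have hAindex : A.index = p := by
    rcases (Nat.dvd_prime hp).mp hAidx with h | h
    · exact absurd (Subgroup.index_eq_one.mp h) hAtop
    · exact h
  have hAcard : Nat.card A = p ^ 3 := by
    have h1 := Subgroup.card_mul_index A
    rw [hAindex, hcard] at h1
    have h3 : p ^ 4 = p ^ 3 * p := by ring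
    rw [h3] at h1
    exact Nat.eq_of_mul_eq_mul_right hp.pos h1
  have hZA : Subgroup.center P ≤ A := fun z hz =>
    (hA z).mpr (Subgroup.mem_center_iff.mp hz x₀)
  have hx₀A : x₀ ∈ A := (hA x₀).mpr rfl
  have hAab : ∀ a ∈ A, ∀ b ∈ A, a * b = b * a := by
    have hW : Subgroup.center P ⊔ Subgroup.zpowers x₀ ≤ A :=
      sup_le hZA (Subgroup.zpowers_le.mpr hx₀A)
    have hWc : (Subgroup.center P ⊔ Subgroup.zpowers x₀).subgroupOf A ≤ Subgroup.center ↥A := by
      intro a ha
      rw [Subgroup.mem_subgroupOf] at ha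
      rw [Subgroup.mem_center_iff]
      intro g
      apply Subtype.ext
      show (g : P) * (a : P) = (a : P) * (g : P)
      have hle : Subgroup.center P ⊔ Subgroup.zpowers x₀ ≤ Subgroup.centralizer {(g : P)} := by
        refine sup_le ?_ ?_
        · intro z hz
          rw [Subgroup.mem_centralizer_iff]
          intro h hh
          rw [Set.mem_singleton_iff] at hh
          rw [hh]
          exact Subgroup.mem_center_iff.mp hz _
        · rw [Subgroup.zpowers_le, Subgroup.mem_centralizer_iff]
          intro h hh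
          rw [Set.mem_singleton_iff] at hh
          rw [hh]
          exact ((hA g).mp g.2).symm
      have h1 := hle ha
      rw [Subgroup.mem_centralizer_iff] at h1
      exact h1 _ rfl
    have hWcard : p < Nat.card ↥((Subgroup.center P ⊔ Subgroup.zpowers x₀).subgroupOf A) := by
      rw [Nat.card_congr (Subgroup.subgroupOfEquivOfLe hW).toEquiv]
      have hlt : Subgroup.center P < Subgroup.center P ⊔ Subgroup.zpowers x₀ := by
        refine lt_of_le_of_ne le_sup_left (fun h => hx₀ ?_)
        rw [h]
        exact Subgroup.mem_sup_right (Subgroup.mem_zpowers x₀)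
      have h1 := card_mul_prime_dvd_of_lt hG hlt
      rw [hZ] at h1
      have h2 := Nat.le_of_dvd Nat.card_pos h1
      have h3 : p * 1 < p * p := Nat.mul_lt_mul_of_pos_left hp.one_lt hp.pos
      omega
    have hab := abelian_of_cube_center (P := ↥A) p hAcard _ hWc hWcard
    intro a ha b hb
    exact congrArg Subtype.val (hab ⟨a, ha⟩ ⟨b, hb⟩)
  obtain ⟨y₀, hy₀⟩ : ∃ y₀ : P, y₀ ∉ A := by
    by_contra hcon
    push Not at hcon
    exact hAtop ((Subgroup.eq_top_iff' _).mpr hcon)
  have htop : (⊤ : Subgroup P) = A ⊔ Subgroup.zpowers y₀ :=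
    sup_zpowers_of_prime_index hp le_top (by rw [Subgroup.card_top, hcard, hAcard]; ring)
      (Subgroup.mem_top _) hy₀
  obtain ⟨B', hB', hB'idx⟩ := hidx y₀
  have hBle : A ⊓ B' ≤ Subgroup.center P := by
    intro b hb
    have hbA : b ∈ A := hb.1
    have hbB : y₀ * b = b * y₀ := (hB' b).mp hb.2
    have hle : (⊤ : Subgroup P) ≤ Subgroup.centralizer {b} := by
      rw [htop]
      refine sup_le ?_ ?_
      · intro a ha
        rw [Subgroup.mem_centralizer_iff]
        intro h hh
        rw [Set.mem_singleton_iff] at hh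
        rw [hh]
        exact hAab b hbA a ha
      · rw [Subgroup.zpowers_le, Subgroup.mem_centralizer_iff]
        intro h hh
        rw [Set.mem_singleton_iff] at hh
        rw [hh]
        exact hbB.symm
    rw [Subgroup.mem_center_iff]
    intro g
    have h1 := hle (Subgroup.mem_top g)
    rw [Subgroup.mem_centralizer_iff] at h1
    exact (h1 b rfl).symm
  have h1 : (A ⊓ B').index ≤ p * p := by
    refine Subgroup.index_inf_le.trans ?_
    rw [hAindex]
    exact Nat.mul_le_mul_left p (Nat.le_of_dvd hp.pos hB'idx)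
  have h2 := Subgroup.card_mul_index (A ⊓ B')
  have h3 := Subgroup.card_le_of_le hBle
  rw [hZ] at h3
  rw [hcard] at h2
  have h4 : p ^ 4 ≤ p * (p * p) := by
    rw [← h2]
    exact Nat.mul_le_mul h3 h1
  have h5 : p * (p * p) < p ^ 4 := by
    have e : p ^ 4 = p * (p * p) * p := by ring
    rw [e]
    have hpos : 0 < p * (p * p) := Nat.mul_pos hp.pos (Nat.mul_pos hp.pos hp.pos)
    calc p * (p * p) = p * (p * p) * 1 := (mul_one _).symm
      _ < p * (p * p) * p := Nat.mul_lt_mul_of_pos_left hp.one_lt hpos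
  omega

/-- A group of order `p ^ 4` with centre of order `p` has a characteristic chain with cyclic
steps. -/
theorem quartic_center_prime (p : ℕ) [Fact p.Prime] (hcard : Nat.card P = p ^ 4)
    (hZ : Nat.card (Subgroup.center P) = p) :
    ∃ (m : ℕ) (c : Fin (m + 1) → Subgroup P), NChain ⊤ m c := by
  have hp : p.Prime := Fact.out
  have hG : IsPGroup p P := IsPGroup.of_card hcard
  haveI := hG.isNilpotent
  have hcl : 2 ≤ Group.nilpotencyClass P := by
    by_contra hcon
    have h1 : Subgroup.upperCentralSeries P 1 = ⊤ :=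
      Subgroup.upperCentralSeries_eq_top_iff_nilpotencyClass_le.mpr (by omega)
    rw [Subgroup.upperCentralSeries_one] at h1
    rw [h1, Subgroup.card_top, hcard] at hZ
    have h2 : p ^ 4 = p ^ 1 := by
      rw [pow_one]
      exact hZ
    have h3 := Nat.pow_right_injective hp.two_le h2
    omega
  have h12 := ucs_card_dvd hG (i := 1) (j := 2) (by omega) hcl
  rw [Subgroup.upperCentralSeries_one, hZ] at h12
  obtain ⟨k, hk⟩ := IsPGroup.iff_card.mp (hG.to_subgroup (Subgroup.upperCentralSeries P 2))
  have hk4 : k ≤ 4 := by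
    have hdvd : p ^ k ∣ p ^ 4 := by
      rw [← hk, ← hcard]
      exact Subgroup.card_subgroup_dvd_card _
    exact (Nat.pow_dvd_pow_iff_le_right hp.one_lt).mp hdvd
  have hk2 : 2 ≤ k := by
    rw [hk] at h12
    have e : p * p ^ (2 - 1) = p ^ 2 := by
      show p * p ^ 1 = p ^ 2
      ring
    rw [e] at h12
    exact (Nat.pow_dvd_pow_iff_le_right hp.one_lt).mp h12
  have hk3 : k ≠ 3 := by
    intro h3
    apply ucs_index_ne_prime (G := P) (p := p) 1
    have h1 := Subgroup.card_mul_index (Subgroup.upperCentralSeries P 2)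
    rw [hk, h3, hcard] at h1
    have e : p ^ 4 = p ^ 3 * p := by ring
    rw [e] at h1
    exact Nat.eq_of_mul_eq_mul_left (pow_pos hp.pos 3) h1
  have hk4' : k ≠ 4 := by
    intro h4
    have htop : Subgroup.upperCentralSeries P 2 = ⊤ :=
      Subgroup.eq_top_of_card_eq _ (by rw [hk, h4, hcard])
    apply no_class2_center_prime p hcard hZ
    intro a b
    have ha : a ∈ Subgroup.upperCentralSeries P (1 + 1) := htop ▸ Subgroup.mem_top a
    have h1 := Subgroup.mem_upperCentralSeries_succ_iff.mp ha b
    rw [Subgroup.upperCentralSeries_one, commutatorElement_def] at h1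
    exact h1
  have hk' : k = 2 := by omega
  rw [hk'] at hk
  obtain ⟨C, hCdef⟩ : ∃ C : Subgroup P,
      C = Subgroup.centralizer (Subgroup.upperCentralSeries P 2 : Set P) := ⟨_, rfl⟩
  have hCmax := centralizer_second_center_max hZ hk
  have hCtop : C ≠ ⊤ := by
    intro h
    have hle : Subgroup.upperCentralSeries P 2 ≤ Subgroup.center P := by
      intro z hz
      rw [Subgroup.mem_center_iff]
      intro g
      have hg : g ∈ C := h ▸ Subgroup.mem_top g
      rw [hCdef, Subgroup.mem_centralizer_iff] at hg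
      exact (hg z hz).symm
    have h1 := Subgroup.card_le_of_le hle
    rw [hk, hZ] at h1
    have h3 : p * 1 < p * p := Nat.mul_lt_mul_of_pos_left hp.one_lt hp.pos
    rw [sq] at h1
    omega
  have hCco : IsCoatom C := ⟨hCtop, fun N hN => hCmax N (by rw [hCdef] at hN; exact hN)⟩
  have hCidx := Cfsg.Agent.Lib.Helper1.coatom_index_of_pgroup hG hCco
  have hCcard : Nat.card C = p ^ 3 := by
    have h1 := Subgroup.card_mul_index C
    rw [hCidx, hcard] at h1
    have h3 : p ^ 4 = p ^ 3 * p := by ring
    rw [h3] at h1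
    exact Nat.eq_of_mul_eq_mul_right hp.pos h1
  have hZ2C : Subgroup.upperCentralSeries P 2 ≤ C := by
    intro z hz
    rw [hCdef, Subgroup.mem_centralizer_iff]
    intro h hh
    have h1 := IsPGroup.commutative_of_card_eq_prime_sq hk
      (⟨h, hh⟩ : ↥(Subgroup.upperCentralSeries P 2)) ⟨z, hz⟩
    exact congrArg Subtype.val h1
  have hZZ2 : Subgroup.center P ≤ Subgroup.upperCentralSeries P 2 := by
    rw [← Subgroup.upperCentralSeries_one]
    exact Subgroup.upperCentralSeries_mono P (by omega)
  refine chain_of_cards p hcard (Subgroup.center P) (Subgroup.upperCentralSeries P 2) C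
    (fun α x hx => aut_center_mem' α hx) (fun α x hx => char_inv _ α hx) ?_ hZ hk hCcard hZZ2 hZ2C
  intro α x hx
  rw [hCdef, Subgroup.mem_centralizer_iff] at hx ⊢
  intro h hh
  have h1 := hx (α.symm h) (char_inv _ α.symm hh)
  have h2 := congrArg α h1
  rw [map_mul, map_mul, MulEquiv.apply_symm_apply] at h2
  exact h2

end QuarticB

end Cfsg.Agent.Lib.Helper27
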