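import Mathlib
import Cfsg.Agent.Lib.Helper27.OrderQuarticB

set_option autoImplicit false

namespace Cfsg.Agent.Lib.Helper27

universe u

section QuarticC

variable {P : Type u} [Group P] [Finite P]

theorem card_sq_or_cube (p : ℕ) [Fact p.Prime] (hcard : Nat.card P = p ^ 4) {L K : Subgroup P}
    (hL : Nat.card L = p ^ 2) (hle : L ≤ K) (hK : K ≠ ⊤) :
    Nat.card K = p ^ 2 ∨ Nat.card K = p ^ 3 := by
  have hp : p.Prime := Fact.out
  have hG : IsPGroup p P := IsPGroup.of_card hcard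
  obtain ⟨k, hk⟩ := IsPGroup.iff_card.mp (hG.to_subgroup K)
  have h1 := Subgroup.card_dvd_of_le hle
  rw [hL, hk] at h1
  have hk2 := (Nat.pow_dvd_pow_iff_le_right hp.one_lt).mp h1
  have h2 : p ^ k ∣ p ^ 4 := by
    rw [← hk, ← hcard]
    exact Subgroup.card_subgroup_dvd_card _
  have hk4 := (Nat.pow_dvd_pow_iff_le_right hp.one_lt).mp h2
  have hk4' : k ≠ 4 := by
    intro h4
    apply hK
    apply Subgroup.eq_top_of_card_eq
    rw [hk, h4, hcard]
  rcases (show k = 2 ∨ k = 3 by omega) with h | h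
  · left
    rw [hk, h]
  · right
    rw [hk, h]

theorem card_cube_of_lt (p : ℕ) [Fact p.Prime] (hcard : Nat.card P = p ^ 4) {L K : Subgroup P}
    (hL : Nat.card L = p ^ 2) (hlt : L < K) (hK : K ≠ ⊤) : Nat.card K = p ^ 3 := by
  rcases card_sq_or_cube p hcard hL hlt.le hK with h | h
  · exact absurd (Subgroup.eq_of_le_of_card_ge hlt.le (by rw [h, hL])) hlt.ne
  · exact h

theorem quartic_quot_facts (p : ℕ) [Fact p.Prime] (hcard : Nat.card P = p ^ 4)
    (hZ : Nat.card (Subgroup.center P) = p ^ 2) :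
    (¬ ∀ a b : P, a * b = b * a) ∧
    (∀ a b : P, a * b * a⁻¹ * b⁻¹ ∈ Subgroup.center P) ∧
      ∀ a : P, a ^ p ∈ Subgroup.center P := by
  have hp : p.Prime := Fact.out
  have hnc : ¬ ∀ a b : P, a * b = b * a := by
    intro hcomm
    have htop : Subgroup.center P = ⊤ := by
      rw [eq_top_iff]
      intro a _
      rw [Subgroup.mem_center_iff]
      intro g
      exact hcomm g a
    rw [htop, Subgroup.card_top, hcard] at hZ
    have h1 := Nat.pow_right_injective hp.two_le hZ
    omega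
  have hq : Nat.card (P ⧸ Subgroup.center P) = p ^ 2 := by
    have h1 := Subgroup.card_eq_card_quotient_mul_card_subgroup (Subgroup.center P)
    rw [hcard, hZ] at h1
    have h3 : p ^ 4 = p ^ 2 * p ^ 2 := by ring
    rw [h3] at h1
    exact (Nat.eq_of_mul_eq_mul_right (pow_pos hp.pos 2) h1).symm
  have hqc := IsPGroup.commutative_of_card_eq_prime_sq hq
  refine ⟨hnc, ?_, ?_⟩
  · intro a b
    rw [← QuotientGroup.eq_one_iff]
    rw [QuotientGroup.mk_mul, QuotientGroup.mk_mul, QuotientGroup.mk_mul, QuotientGroup.mk_inv,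
      QuotientGroup.mk_inv, hqc (a : P ⧸ Subgroup.center P) b, mul_inv_cancel_right,
      mul_inv_cancel]
  · intro a
    rw [← QuotientGroup.eq_one_iff, QuotientGroup.mk_pow]
    have hord : orderOf (a : P ⧸ Subgroup.center P) ∣ p ^ 2 := by
      rw [← hq]
      exact orderOf_dvd_natCard _
    obtain ⟨j, hj, hoj⟩ := (Nat.dvd_prime_pow hp).mp hord
    have hj2 : j ≠ 2 := by
      intro h2
      apply hnc
      have hcyc : IsCyclic (P ⧸ Subgroup.center P) :=
        isCyclic_of_orderOf_eq_card (a : P ⧸ Subgroup.center P) (by rw [hoj, h2, hq])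
      exact commutative_of_cyclic_center_quotient (QuotientGroup.mk' (Subgroup.center P))
        (by rw [QuotientGroup.ker_mk'])
    have hdvd : orderOf (a : P ⧸ Subgroup.center P) ∣ p := by
      rw [hoj]
      have hj1 : j ≤ 1 := by omega
      exact pow_dvd_pow p hj1 |>.trans (by rw [pow_one])
    exact orderOf_dvd_iff_pow_eq_one.mp hdvd

/-- Centre of order `p ^ 2` containing an element of order `p ^ 2`. -/
theorem quartic_cyclic_center (p : ℕ) [Fact p.Prime] (hcard : Nat.card P = p ^ 4)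
    (hZ : Nat.card (Subgroup.center P) = p ^ 2) (z₀ : P) (hz₀ : z₀ ∈ Subgroup.center P)
    (hz₀p : z₀ ^ p ≠ 1) :
    (∃ (m : ℕ) (c : Fin (m + 1) → Subgroup P), NChain ⊤ m c) ∨
    ((¬ ∀ a b : P, a * b = b * a) ∧ (∀ x : P, x ^ (p ^ 2) = 1) ∧
      IsCyclic (Subgroup.center P) ∧ Nat.card (Subgroup.center P) = p ^ 2) := by
  have hp : p.Prime := Fact.out
  have hG : IsPGroup p P := IsPGroup.of_card hcard
  obtain ⟨hnc, hc, hpw⟩ := quartic_quot_facts p hcard hZ
  have hZexp : ∀ z ∈ Subgroup.center P, z ^ (p ^ 2) = 1 := by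
    intro z hz
    have h1 := pow_card_eq_one' (G := ↥(Subgroup.center P)) (x := ⟨z, hz⟩)
    rw [hZ] at h1
    exact congrArg Subtype.val h1
  have hord : orderOf z₀ = p ^ 2 :=
    orderOf_eq_prime_pow (x := z₀) (n := 1) (p := p) (by rw [pow_one]; exact hz₀p)
      (hZexp z₀ hz₀)
  have hZeq : Subgroup.center P = Subgroup.zpowers z₀ := by
    symm
    apply Subgroup.eq_of_le_of_card_ge (Subgroup.zpowers_le.mpr hz₀)
    rw [Nat.card_zpowers, hord, hZ]
  have hcyc : IsCyclic ↥(Subgroup.center P) := by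
    apply isCyclic_of_orderOf_eq_card (⟨z₀, hz₀⟩ : ↥(Subgroup.center P))
    rw [Subgroup.orderOf_mk, hord, hZ]
  have hdp : ∀ x y : P, ((x * y)⁻¹ * (y * x)) ^ p = 1 := by
    intro x y
    obtain ⟨-, h1, -⟩ := class2_defect hc x y
    have h2 := h1 p
    have h3 : y ^ p * x = x * y ^ p := (Subgroup.mem_center_iff.mp (hpw y) x).symm
    rw [h3] at h2
    have h4 : x * y ^ p * 1 = x * y ^ p * ((x * y)⁻¹ * (y * x)) ^ p := by
      rw [mul_one]
      exact h2
    exact (mul_left_cancel h4).symm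
  have hdvd : p ∣ (p ^ 2).choose 2 := hp.dvd_choose_pow (by norm_num) (fun h => by
    have h2 := hp.two_le
    have h3 : 2 * 2 ≤ p * p := Nat.mul_le_mul h2 h2
    rw [sq] at h
    omega)
  obtain ⟨τ, hτ⟩ := class2_pow_hom hc (p ^ 2) (fun x y => by
    obtain ⟨k, hk⟩ := hdvd
    rw [hk, pow_mul, hdp x y, one_pow])
  have hrle : τ.range ≤ Subgroup.center P := by
    rintro _ ⟨x, rfl⟩
    rw [hτ, sq, pow_mul]
    exact Subgroup.pow_mem _ (hpw x) p
  have hz₀r : z₀ ∉ τ.range := by
    rintro ⟨x, hx⟩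
    apply hz₀p
    rw [← hx, hτ, ← pow_mul, mul_comm, pow_mul]
    exact hZexp _ (hpw x)
  have hrcard : Nat.card τ.range ∣ p := by
    have hlt : τ.range < Subgroup.center P :=
      lt_of_le_of_ne hrle (fun h => hz₀r (h ▸ hz₀))
    have h1 := card_mul_prime_dvd_of_lt hG hlt
    rw [hZ, sq] at h1
    exact Nat.dvd_of_mul_dvd_mul_right hp.pos h1
  have hTidx : τ.ker.index ∣ p := by
    rw [Subgroup.index_ker]
    exact hrcard
  have hmemT : ∀ x, x ∈ τ.ker ↔ x ^ (p ^ 2) = 1 := fun x => by rw [MonoidHom.mem_ker, hτ]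
  rcases (Nat.dvd_prime hp).mp hTidx with h | h
  · right
    have htop := Subgroup.index_eq_one.mp h
    refine ⟨hnc, fun x => ?_, hcyc, hZ⟩
    rw [← hmemT, htop]
    exact Subgroup.mem_top x
  · left
    have hTcard : Nat.card τ.ker = p ^ 3 := by
      have h1 := Subgroup.card_mul_index τ.ker
      rw [h, hcard] at h1
      have h3 : p ^ 4 = p ^ 3 * p := by ring
      rw [h3] at h1
      exact Nat.eq_of_mul_eq_mul_right hp.pos h1
    have hZT : Subgroup.center P ≤ τ.ker := fun z hz => (hmemT z).mpr (hZexp z hz)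
    refine chain_of_four (Subgroup.center P) (Subgroup.center P) τ.ker
      (fun α x hx => aut_center_mem' α hx) (fun α x hx => aut_center_mem' α hx) ?_ ?_ ?_ ?_ ?_
    · intro α x hx
      rw [hmemT] at hx ⊢
      rw [← map_pow, hx, map_one]
    · exact ⟨z₀, by rw [bot_sup_eq]; exact hZeq⟩
    · exact ⟨1, by rw [Subgroup.zpowers_one_eq_bot, sup_bot_eq]⟩
    · exact step_of_card hp hZT (by rw [hTcard, hZ]; ring)
    · exact step_of_card hp le_top (by rw [Subgroup.card_top, hcard, hTcard]; ring)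

/-- Centre elementary abelian of order `p ^ 2`: the derived subgroup data. -/
theorem quartic_derived (p : ℕ) [Fact p.Prime] (hcard : Nat.card P = p ^ 4)
    (hZ : Nat.card (Subgroup.center P) = p ^ 2) (hZp : ∀ z ∈ Subgroup.center P, z ^ p = 1) :
    ∃ D : Subgroup P, Nat.card D = p ∧ D ≤ Subgroup.center P ∧
      (∀ a b : P, a * b * a⁻¹ * b⁻¹ ∈ D) ∧ (∀ α : MulAut P, ∀ x ∈ D, α x ∈ D) ∧
      ∃ c₀, D = Subgroup.zpowers c₀ ∧ c₀ ≠ 1 := by
  have hp : p.Prime := Fact.out
  have hG : IsPGroup p P := IsPGroup.of_card hcard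
  obtain ⟨hnc, hc, hpw⟩ := quartic_quot_facts p hcard hZ
  push Not at hnc
  obtain ⟨x₀, y₀, hxy⟩ := hnc
  obtain ⟨c₀, hc₀⟩ : ∃ c₀ : P, c₀ = x₀ * y₀ * x₀⁻¹ * y₀⁻¹ := ⟨_, rfl⟩
  have hc₀Z : c₀ ∈ Subgroup.center P := by
    rw [hc₀]
    exact hc x₀ y₀
  have hc₀1 : c₀ ≠ 1 := by
    intro h
    apply hxy
    rw [hc₀, mul_inv_eq_one, mul_inv_eq_iff_eq_mul] at h
    exact h
  have hord : orderOf c₀ = p := orderOf_eq_prime (hZp c₀ hc₀Z) hc₀1
  have hDZ : Subgroup.zpowers c₀ ≤ Subgroup.center P := Subgroup.zpowers_le.mpr hc₀Z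
  have hDn : (Subgroup.zpowers c₀).Normal := by
    constructor
    intro d hd g
    have h1 := Subgroup.mem_center_iff.mp (hDZ hd) g
    rw [h1, mul_inv_cancel_right]
    exact hd
  have hx₀Z : x₀ ∉ Subgroup.center P := fun h => hxy (Subgroup.mem_center_iff.mp h y₀).symm
  have hlt1 : Subgroup.center P < Subgroup.center P ⊔ Subgroup.zpowers x₀ := by
    refine lt_of_le_of_ne le_sup_left (fun h => hx₀Z ?_)
    rw [h]
    exact Subgroup.mem_sup_right (Subgroup.mem_zpowers x₀)
  have hy₀A : y₀ ∉ Subgroup.center P ⊔ Subgroup.zpowers x₀ := by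
    intro h
    have hle : Subgroup.center P ⊔ Subgroup.zpowers x₀ ≤ Subgroup.centralizer {x₀} := by
      refine sup_le ?_ ?_
      · intro z hz
        rw [Subgroup.mem_centralizer_iff]
        intro h hh
        rw [Set.mem_singleton_iff] at hh
        rw [hh]
        exact Subgroup.mem_center_iff.mp hz _
      · rw [Subgroup.zpowers_le, Subgroup.mem_centralizer_iff]
        intro h hh
        rw [Set.mem_singleton_iff] at hh
        rw [hh]
    have h1 := hle h
    rw [Subgroup.mem_centralizer_iff] at h1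
    exact hxy (h1 x₀ rfl)
  have hlt2 : Subgroup.center P ⊔ Subgroup.zpowers x₀ <
      (Subgroup.center P ⊔ Subgroup.zpowers x₀) ⊔ Subgroup.zpowers y₀ := by
    refine lt_of_le_of_ne le_sup_left (fun h => hy₀A ?_)
    rw [h]
    exact Subgroup.mem_sup_right (Subgroup.mem_zpowers y₀)
  have htop : (⊤ : Subgroup P) =
      (Subgroup.center P ⊔ Subgroup.zpowers x₀) ⊔ Subgroup.zpowers y₀ := by
    symm
    apply Subgroup.eq_top_of_card_eq
    have h1 := card_mul_prime_dvd_of_lt hG hlt1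
    have h2 := card_mul_prime_dvd_of_lt hG hlt2
    rw [hZ] at h1
    have h3 : p ^ 2 * p * p ∣
        Nat.card ↥((Subgroup.center P ⊔ Subgroup.zpowers x₀) ⊔ Subgroup.zpowers y₀) :=
      (Nat.mul_dvd_mul_right h1 p).trans h2
    have h4 : p ^ 2 * p * p = p ^ 4 := by ring
    rw [h4, ← hcard] at h3
    exact Nat.dvd_antisymm (Subgroup.card_subgroup_dvd_card _) h3
  have hall := comm_mod_of_gens (Subgroup.zpowers c₀) (Subgroup.center P) le_rfl x₀ y₀
    (by rw [← hc₀]; exact Subgroup.mem_zpowers c₀) htop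
  refine ⟨Subgroup.zpowers c₀, by rw [Nat.card_zpowers, hord], hDZ, hall, ?_, c₀, rfl, hc₀1⟩
  intro α x hx
  obtain ⟨k, rfl⟩ := Subgroup.mem_zpowers_iff.mp hx
  rw [map_zpow]
  apply Subgroup.zpow_mem
  have e : α c₀ = α x₀ * α y₀ * (α x₀)⁻¹ * (α y₀)⁻¹ := by
    rw [hc₀, map_mul, map_mul, map_mul, map_inv, map_inv]
  rw [e]
  exact hall _ _

/-- Exponent `p`: split off a central factor, leaving an extraspecial group of order `p ^ 3`. -/
theorem quartic_exp_split (p : ℕ) [Fact p.Prime] (hcard : Nat.card P = p ^ 4)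
    (hZ : Nat.card (Subgroup.center P) = p ^ 2) (hnc : ¬ ∀ a b : P, a * b = b * a)
    (D : Subgroup P) (hDcard : Nat.card D = p)
    (hcD : ∀ a b : P, a * b * a⁻¹ * b⁻¹ ∈ D) (hexp : ∀ x : P, x ^ p = 1) :
    ∃ (E : Type) (_ : Group E) (_ : Finite E), Cfsg.IsExtraspecial p E ∧ Nat.card E = p ^ 3 ∧
        (∀ x : E, x ^ p = 1) ∧ Nonempty (P ≃* E × Multiplicative (ZMod p)) := by
  have hp : p.Prime := Fact.out
  have hG : IsPGroup p P := IsPGroup.of_card hcard
  have hfr : frattini P ≤ D :=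
    Cfsg.Agent.Lib.Helper18.frattini_le_of_elementary (p := p) D hcD
      (fun a => by rw [hexp a]; exact one_mem D)
  obtain ⟨w, hwZ, hwD⟩ : ∃ w ∈ Subgroup.center P, w ∉ D := by
    by_contra hcon
    push Not at hcon
    have h1 := Subgroup.card_le_of_le (show Subgroup.center P ≤ D from hcon)
    rw [hZ, hDcard, sq] at h1
    have h3 : p * 1 < p * p := Nat.mul_lt_mul_of_pos_left hp.one_lt hp.pos
    omega
  obtain ⟨M, hM, hwM⟩ : ∃ M : Subgroup P, IsCoatom M ∧ w ∉ M := by
    by_contra hcon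
    push Not at hcon
    apply hwD
    apply hfr
    show w ∈ Order.radical (Subgroup P)
    unfold Order.radical
    rw [Subgroup.mem_iInf]
    intro M
    rw [Subgroup.mem_iInf]
    intro hM
    exact hcon M hM
  have hMidx := Cfsg.Agent.Lib.Helper1.coatom_index_of_pgroup hG hM
  have hMcard : Nat.card M = p ^ 3 := by
    have h1 := Subgroup.card_mul_index M
    rw [hMidx, hcard] at h1
    have h3 : p ^ 4 = p ^ 3 * p := by ring
    rw [h3] at h1
    exact Nat.eq_of_mul_eq_mul_right hp.pos h1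
  obtain ⟨φ⟩ := split_central p M w hwZ hwM (hexp w) (by rw [hcard, hMcard]; ring)
  have hMnc : ¬ ∀ a b : ↥M, a * b = b * a := by
    intro hM'
    apply hnc
    intro a b
    apply φ.injective
    rw [map_mul, map_mul]
    exact Prod.ext (hM' _ _) (mul_comm _ _)
  have e : Shrink.{0} ↥M ≃* ↥M := Shrink.mulEquiv
  have hEcard : Nat.card (Shrink.{0} ↥M) = p ^ 3 := by rw [Nat.card_congr e.toEquiv, hMcard]
  have hEnc : ¬ ∀ a b : Shrink.{0} ↥M, a * b = b * a := by
    intro h
    apply hMnc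
    intro a b
    have h1 := h (e.symm a) (e.symm b)
    rw [← map_mul, ← map_mul] at h1
    exact e.symm.injective h1
  refine ⟨Shrink.{0} ↥M, inferInstance, inferInstance, cube_extraspecial p hEcard hEnc, hEcard,
    ?_, ⟨φ.trans (MulEquiv.prodCongr e.symm (MulEquiv.refl _))⟩⟩
  intro x
  apply e.injective
  rw [map_pow, map_one]
  apply Subtype.ext
  exact hexp _

theorem quartic_odd (p : ℕ) [Fact p.Prime] (hodd : p ≠ 2) (hcard : Nat.card P = p ^ 4)
    (hZ : Nat.card (Subgroup.center P) = p ^ 2) (hZp : ∀ z ∈ Subgroup.center P, z ^ p = 1) :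
    (∃ (m : ℕ) (c : Fin (m + 1) → Subgroup P), NChain ⊤ m c) ∨
    (∃ (E : Type) (_ : Group E) (_ : Finite E), Cfsg.IsExtraspecial p E ∧ Nat.card E = p ^ 3 ∧
        (∀ x : E, x ^ p = 1) ∧ Nonempty (P ≃* E × Multiplicative (ZMod p))) := by
  have hp : p.Prime := Fact.out
  have hG : IsPGroup p P := IsPGroup.of_card hcard
  obtain ⟨hnc, hc, hpw⟩ := quartic_quot_facts p hcard hZ
  obtain ⟨D, hDcard, hDZ, hcD, hDinv, c₀, hDc₀, hc₀1⟩ := quartic_derived p hcard hZ hZp
  by_cases hexp : ∀ x : P, x ^ p = 1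
  · right
    exact quartic_exp_split p hcard hZ hnc D hDcard hcD hexp
  · left
    push Not at hexp
    obtain ⟨x₁, hx₁⟩ := hexp
    have hdvd : p ∣ p.choose 2 :=
      hp.dvd_choose_self (by norm_num) (lt_of_le_of_ne hp.two_le (Ne.symm hodd))
    obtain ⟨π, hπ⟩ := class2_pow_hom hc p (fun x y => by
      obtain ⟨k, hk⟩ := hdvd
      rw [hk, pow_mul, hZp _ (class2_defect hc x y).1, one_pow])
    have hmemΩ : ∀ x, x ∈ π.ker ↔ x ^ p = 1 := fun x => by rw [MonoidHom.mem_ker, hπ]
    have hZΩ : Subgroup.center P ≤ π.ker := fun z hz => (hmemΩ z).mpr (hZp z hz)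
    have hΩinv : ∀ α : MulAut P, ∀ x ∈ π.ker, α x ∈ π.ker := by
      intro α x hx
      rw [hmemΩ] at hx ⊢
      rw [← map_pow, hx, map_one]
    have hΩtop : π.ker ≠ ⊤ := fun h => hx₁ ((hmemΩ x₁).mp (h ▸ Subgroup.mem_top x₁))
    rcases card_sq_or_cube p hcard hZ hZΩ hΩtop with hk | hk
    · have hrange : Nat.card π.range = p ^ 2 := by
        have h1 := Subgroup.card_mul_index π.ker
        rw [Subgroup.index_ker, hk, hcard] at h1
        have h3 : p ^ 4 = p ^ 2 * p ^ 2 := by ring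
        rw [h3] at h1
        exact Nat.eq_of_mul_eq_mul_left (pow_pos hp.pos 2) h1
      have hrle : π.range ≤ Subgroup.center P := by
        rintro _ ⟨x, rfl⟩
        rw [hπ]
        exact hpw x
      have hreq : π.range = Subgroup.center P :=
        Subgroup.eq_of_le_of_card_ge hrle (by rw [hrange, hZ])
      have hc₀D : c₀ ∈ D := by
        rw [hDc₀]
        exact Subgroup.mem_zpowers c₀
      obtain ⟨u, hu⟩ : c₀ ∈ π.range := by
        rw [hreq]
        exact hDZ hc₀D
      rw [hπ] at hu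
      have hmemM : ∀ x, x ∈ D.comap π ↔ x ^ p ∈ D := fun x => by rw [Subgroup.mem_comap, hπ]
      have hZM : Subgroup.center P ≤ D.comap π :=
        fun z hz => (hmemM z).mpr (by rw [hZp z hz]; exact one_mem D)
      have huM : u ∈ D.comap π := (hmemM u).mpr (by rw [hu]; exact hc₀D)
      have huZ : u ∉ Subgroup.center P := by
        intro h
        apply hc₀1
        rw [← hu]
        exact hZp u h
      have hlt : Subgroup.center P < D.comap π :=
        lt_of_le_of_ne hZM (fun h => huZ (h ▸ huM))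
      have hMtop : D.comap π ≠ ⊤ := by
        intro h
        have hle : π.range ≤ D := by
          rintro _ ⟨x, rfl⟩
          have hx : x ∈ D.comap π := h ▸ Subgroup.mem_top x
          exact hx
        have h1 := Subgroup.card_le_of_le hle
        rw [hrange, hDcard, sq] at h1
        have h3 : p * 1 < p * p := Nat.mul_lt_mul_of_pos_left hp.one_lt hp.pos
        omega
      have hMcard := card_cube_of_lt p hcard hZ hlt hMtop
      refine chain_of_cards p hcard D (Subgroup.center P) (D.comap π) hDinv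
        (fun α x hx => aut_center_mem' α hx) ?_ hDcard hZ hMcard hDZ hZM
      intro α x hx
      rw [hmemM] at hx ⊢
      rw [← map_pow]
      exact hDinv α _ hx
    · exact chain_of_cards p hcard D (Subgroup.center P) π.ker hDinv
        (fun α x hx => aut_center_mem' α hx) hΩinv hDcard hZ hk hDZ hZΩ

end QuarticC

end Cfsg.Agent.Lib.Helper27
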