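import Mathlib
import Cfsg.Agent.Lib.Helper27.OrderQuarticC

set_option autoImplicit false

namespace Cfsg.Agent.Lib.Helper27

universe u

section QuarticD

variable {P : Type u} [Group P] [Finite P]

theorem quartic_two_top (hcard : Nat.card P = 2 ^ 4) (hZ : Nat.card (Subgroup.center P) = 2 ^ 2)
    (hZp : ∀ z ∈ Subgroup.center P, z ^ 2 = 1) (hnc : ¬ ∀ a b : P, a * b = b * a)
    (D : Subgroup P) (hDcard : Nat.card D = 2) (hDZ : D ≤ Subgroup.center P)
    (hcD : ∀ a b : P, a * b * a⁻¹ * b⁻¹ ∈ D) (hDinv : ∀ α : MulAut P, ∀ x ∈ D, α x ∈ D)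
    (c₀ : P) (hc₀D : c₀ ∈ D) (hDelts : ∀ d ∈ D, d = 1 ∨ d = c₀)
    (hsqD : ∀ x : P, x ^ 2 ∈ D) :
    (∃ (m : ℕ) (c : Fin (m + 1) → Subgroup P), NChain ⊤ m c) ∨
    Nonempty (P ≃* QuaternionGroup 2 × Multiplicative (ZMod 2)) := by
  have hp2 : Fact (Nat.Prime 2) := ⟨Nat.prime_two⟩
  have hG : IsPGroup 2 P := IsPGroup.of_card hcard
  obtain ⟨N, hN⟩ : ∃ N : Subgroup P, N = Subgroup.centralizer {x : P | x ^ 2 ≠ 1} := ⟨_, rfl⟩
  have hmemN : ∀ n, n ∈ N ↔ ∀ h : P, h ^ 2 ≠ 1 → h * n = n * h := by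
    intro n
    rw [hN, Subgroup.mem_centralizer_iff]
    rfl
  have hZN : Subgroup.center P ≤ N :=
    fun z hz => (hmemN z).mpr (fun h _ => Subgroup.mem_center_iff.mp hz h)
  have hNinv : ∀ α : MulAut P, ∀ x ∈ N, α x ∈ N := by
    intro α x hx
    rw [hmemN] at hx ⊢
    intro h hh
    have h1 := hx (α.symm h) (fun h2 => hh (by
      have h3 := congrArg α h2
      rw [map_pow, MulEquiv.apply_symm_apply, map_one] at h3
      exact h3))
    have h2 := congrArg α h1
    rw [map_mul, map_mul, MulEquiv.apply_symm_apply] at h2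
    exact h2
  obtain ⟨a, ha⟩ : ∃ a : P, a ^ 2 ≠ 1 := by
    by_contra hcon
    push Not at hcon
    apply hnc
    intro x y
    have h1 := hcon (x * y)
    have h2 := hcon x
    have h3 := hcon y
    have hx : x⁻¹ = x := by
      rw [inv_eq_iff_mul_eq_one, ← sq]
      exact h2
    have hy : y⁻¹ = y := by
      rw [inv_eq_iff_mul_eq_one, ← sq]
      exact h3
    have hxy : (x * y)⁻¹ = x * y := by
      rw [inv_eq_iff_mul_eq_one, ← sq]
      exact h1
    rw [mul_inv_rev, hx, hy] at hxy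
    exact hxy.symm
  have haZ : a ∉ Subgroup.center P := fun h => ha (hZp a h)
  have ha2 : a ^ 2 = c₀ := (hDelts _ (hsqD a)).resolve_left ha
  have hNtop : N ≠ ⊤ := by
    intro h
    apply haZ
    rw [Subgroup.mem_center_iff]
    intro g
    have hg : g ∈ N := h ▸ Subgroup.mem_top g
    exact ((hmemN g).mp hg a ha).symm
  rcases card_sq_or_cube 2 hcard hZ hZN hNtop with h4 | h8
  · right
    have hNZ : N = Subgroup.center P :=
      (Subgroup.eq_of_le_of_card_ge hZN (by rw [h4, hZ])).symm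
    have haN : a ∉ N := by
      rw [hNZ]
      exact haZ
    rw [hmemN] at haN
    push Not at haN
    obtain ⟨b, hb2, hba⟩ := haN
    have hb2' : b ^ 2 = c₀ := (hDelts _ (hsqD b)).resolve_left hb2
    have hc₀sq : c₀ ^ 2 = 1 := hZp c₀ (hDZ hc₀D)
    have ha4 : a ^ 4 = 1 := by
      have e : a ^ 4 = (a ^ 2) ^ 2 := by rw [← pow_mul]
      rw [e, ha2, hc₀sq]
    have hord : orderOf a = 2 * 2 := by
      have h1 := orderOf_eq_prime_pow (x := a) (n := 1) (p := 2) (by rw [pow_one]; exact ha)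
        (by norm_num; exact ha4)
      rw [h1]
      norm_num
    have hbb : b * b = a ^ 2 := by rw [← sq, hb2', ha2]
    have hcomm_ab : a * b * a⁻¹ * b⁻¹ = a ^ 2 := by
      rcases hDelts _ (hcD a b) with h | h
      · exfalso
        apply hba
        rw [mul_inv_eq_one, mul_inv_eq_iff_eq_mul] at h
        exact h.symm
      · rw [ha2]
        exact h
    have hconj : a * b = b * a⁻¹ := by
      have h1 : a * b = a ^ 2 * (b * a) := by
        calc a * b = (a * b * a⁻¹ * b⁻¹) * (b * a) := by group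
          _ = a ^ 2 * (b * a) := by rw [hcomm_ab]
      have h2 : a ^ 2 * (b * a) = (b * a) * a ^ 2 := by
        have hz : a ^ 2 ∈ Subgroup.center P := hDZ (hsqD a)
        exact (Subgroup.mem_center_iff.mp hz (b * a)).symm
      have h3 : a⁻¹ = a ^ 3 := by
        rw [inv_eq_iff_mul_eq_one, ← pow_succ']
        exact ha4
      rw [h1, h2, h3, mul_assoc, ← pow_succ']
    have hbA : b ∉ Subgroup.zpowers a := by
      intro h
      apply hba
      obtain ⟨k, rfl⟩ := Subgroup.mem_zpowers_iff.mp h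
      exact (Commute.zpow_self a k).eq
    obtain ⟨φ, h1, h2⟩ := Cfsg.Agent.Lib.Helper3.exists_quat_hom (n := 2) a b hord hbb hconj
    have hinj := Cfsg.Agent.Lib.Helper3.quat_hom_injective (n := 2) a b hord hbA φ h1 h2
    have hcardQ : Nat.card (QuaternionGroup 2) = 8 := by
      rw [Nat.card_eq_fintype_card, QuaternionGroup.card]
    have hRcard : Nat.card φ.range = 2 ^ 3 := by
      rw [← Nat.card_congr (MonoidHom.ofInjective hinj).toEquiv, hcardQ]
      norm_num
    have haR : a ∈ φ.range := by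
      refine ⟨QuaternionGroup.a 1, ?_⟩
      rw [h1]
      have e1 : (1 : ZMod (2 * 2)).val = 1 := by decide
      rw [e1, pow_one]
    have hbR : b ∈ φ.range := by
      refine ⟨QuaternionGroup.xa 0, ?_⟩
      rw [h2]
      have e0 : (0 : ZMod (2 * 2)).val = 0 := by decide
      rw [e0, pow_zero, mul_one]
    obtain ⟨w, hwZ, hwR⟩ : ∃ w ∈ Subgroup.center P, w ∉ φ.range := by
      by_contra hcon
      push Not at hcon
      have hWc : (Subgroup.center P).subgroupOf φ.range ≤ Subgroup.center ↥φ.range := by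
        intro x hx
        rw [Subgroup.mem_subgroupOf] at hx
        rw [Subgroup.mem_center_iff]
        intro g
        apply Subtype.ext
        exact Subgroup.mem_center_iff.mp hx (g : P)
      have hWcard : 2 < Nat.card ↥((Subgroup.center P).subgroupOf φ.range) := by
        rw [Nat.card_congr (Subgroup.subgroupOfEquivOfLe hcon).toEquiv, hZ]
        norm_num
      have hab := abelian_of_cube_center (P := ↥φ.range) 2 hRcard _ hWc hWcard
        ⟨a, haR⟩ ⟨b, hbR⟩
      exact hba (congrArg Subtype.val hab).symm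
    obtain ⟨ψ⟩ := split_central 2 φ.range w hwZ hwR (hZp w hwZ) (by rw [hcard, hRcard]; norm_num)
    exact ⟨ψ.trans (MulEquiv.prodCongr (MonoidHom.ofInjective hinj).symm (MulEquiv.refl _))⟩
  · left
    exact chain_of_cards 2 hcard D (Subgroup.center P) N hDinv
      (fun α x hx => aut_center_mem' α hx) hNinv hDcard hZ h8 hDZ hZN

theorem quartic_two (hcard : Nat.card P = 2 ^ 4)
    (hZ : Nat.card (Subgroup.center P) = 2 ^ 2) (hZp : ∀ z ∈ Subgroup.center P, z ^ 2 = 1) :
    (∃ (m : ℕ) (c : Fin (m + 1) → Subgroup P), NChain ⊤ m c) ∨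
    Nonempty (P ≃* QuaternionGroup 2 × Multiplicative (ZMod 2)) := by
  have hp2 : Fact (Nat.Prime 2) := ⟨Nat.prime_two⟩
  have hG : IsPGroup 2 P := IsPGroup.of_card hcard
  obtain ⟨hnc, hc, hpw⟩ := quartic_quot_facts 2 hcard hZ
  obtain ⟨D, hDcard, hDZ, hcD, hDinv, c₀, hDc₀, hc₀1⟩ := quartic_derived 2 hcard hZ hZp
  have hc₀D : c₀ ∈ D := by
    rw [hDc₀]
    exact Subgroup.mem_zpowers c₀
  have hDelts : ∀ d ∈ D, d = 1 ∨ d = c₀ := by
    intro d hd
    by_cases hd1 : d = 1
    · exact Or.inl hd1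
    · right
      obtain ⟨w, -, hw⟩ := (Nat.card_eq_two_iff' (1 : ↥D)).mp hDcard
      have e1 := hw ⟨d, hd⟩ (fun h => hd1 (congrArg Subtype.val h))
      have e2 := hw ⟨c₀, hc₀D⟩ (fun h => hc₀1 (congrArg Subtype.val h))
      exact congrArg Subtype.val (e1.trans e2.symm)
  have hsq : ∀ x y : P, ∃ c ∈ D, (x * y) ^ 2 = x ^ 2 * y ^ 2 * c := by
    intro x y
    refine ⟨(x * y)⁻¹ * (y * x), ?_, ?_⟩
    · have h1 := hcD y⁻¹ x⁻¹
      rw [inv_inv, inv_inv] at h1
      rw [mul_inv_rev, ← mul_assoc]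
      exact h1
    · have h1 := (class2_defect hc x y).2.2 2
      rw [h1, Nat.choose_self, pow_one]
  obtain ⟨M, hM⟩ : ∃ M : Subgroup P, ∀ x, x ∈ M ↔ x ^ 2 ∈ D :=
    ⟨{ carrier := {x | x ^ 2 ∈ D}
       one_mem' := by
         show (1 : P) ^ 2 ∈ D
         rw [one_pow]
         exact one_mem D
       mul_mem' := by
         intro x y hx hy
         obtain ⟨c, hcD', he⟩ := hsq x y
         show (x * y) ^ 2 ∈ D
         rw [he]
         exact D.mul_mem (D.mul_mem hx hy) hcD'
       inv_mem' := by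
         intro x hx
         show (x⁻¹) ^ 2 ∈ D
         rw [inv_pow]
         exact D.inv_mem hx }, fun x => Iff.rfl⟩
  have hZM : Subgroup.center P ≤ M :=
    fun z hz => (hM z).mpr (by rw [hZp z hz]; exact one_mem D)
  have hMinv : ∀ α : MulAut P, ∀ x ∈ M, α x ∈ M := by
    intro α x hx
    rw [hM] at hx ⊢
    rw [← map_pow]
    exact hDinv α _ hx
  by_cases hMtop : M = ⊤
  · exact quartic_two_top hcard hZ hZp hnc D hDcard hDZ hcD hDinv c₀ hc₀D hDelts
      (fun x => (hM x).mp (hMtop ▸ Subgroup.mem_top x))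
  · left
    have hDsub : (D.subgroupOf (Subgroup.center P)).index = 2 := by
      have h1 := Subgroup.card_mul_index (D.subgroupOf (Subgroup.center P))
      rw [Nat.card_congr (Subgroup.subgroupOfEquivOfLe hDZ).toEquiv, hDcard, hZ] at h1
      omega
    have hprod : ∀ u ∈ Subgroup.center P, ∀ v ∈ Subgroup.center P, u ∉ D → v ∉ D →
        u * v ∈ D := by
      intro u hu v hv huD hvD
      have h1 := Subgroup.mul_mem_iff_of_index_two hDsub (a := ⟨u, hu⟩) (b := ⟨v, hv⟩)
      rw [Subgroup.mem_subgroupOf, Subgroup.mem_subgroupOf, Subgroup.mem_subgroupOf] at h1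
      exact h1.mpr ⟨fun h => absurd h huD, fun h => absurd h hvD⟩
    obtain ⟨a, ha⟩ : ∃ a, a ∉ M := by
      by_contra hcon
      push Not at hcon
      exact hMtop ((Subgroup.eq_top_iff' _).mpr hcon)
    have hMidx : M.index = 2 := by
      rw [Subgroup.index_eq_two_iff]
      refine ⟨a, fun b => ?_⟩
      by_cases hb : b ∈ M
      · right
        exact ⟨hb, fun h => ha ((Subgroup.mul_mem_cancel_left M hb).mp h)⟩
      · left
        refine ⟨?_, hb⟩
        rw [hM]
        obtain ⟨c, hcD', he⟩ := hsq b a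
        rw [he]
        exact D.mul_mem (hprod _ (hpw b) _ (hpw a) (fun h => hb ((hM b).mpr h))
          (fun h => ha ((hM a).mpr h))) hcD'
    have hMcard : Nat.card M = 2 ^ 3 := by
      have h1 := Subgroup.card_mul_index M
      rw [hMidx, hcard] at h1
      omega
    exact chain_of_cards 2 hcard D (Subgroup.center P) M hDinv
      (fun α x hx => aut_center_mem' α hx) hMinv hDcard hZ hMcard hDZ hZM

/-- Groups of order `p ^ 4` with centre of order `p ^ 2`. -/
theorem quartic_center_sq (p : ℕ) [Fact p.Prime] (hcard : Nat.card P = p ^ 4)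
    (hZ : Nat.card (Subgroup.center P) = p ^ 2) :
    (∃ (m : ℕ) (c : Fin (m + 1) → Subgroup P), NChain ⊤ m c) ∨
    (Odd p ∧ ∃ (E : Type) (_ : Group E) (_ : Finite E), Cfsg.IsExtraspecial p E ∧
        Nat.card E = p ^ 3 ∧ (∀ x : E, x ^ p = 1) ∧
        Nonempty (P ≃* E × Multiplicative (ZMod p))) ∨
    (p = 2 ∧ Nonempty (P ≃* QuaternionGroup 2 × Multiplicative (ZMod 2))) ∨
    ((¬ ∀ a b : P, a * b = b * a) ∧ (∀ x : P, x ^ (p ^ 2) = 1) ∧
      IsCyclic (Subgroup.center P) ∧ Nat.card (Subgroup.center P) = p ^ 2) := by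
  have hp : p.Prime := Fact.out
  by_cases hZp : ∀ z ∈ Subgroup.center P, z ^ p = 1
  · by_cases hp2 : p = 2
    · subst hp2
      rcases quartic_two hcard hZ hZp with h | h
      · exact Or.inl h
      · exact Or.inr (Or.inr (Or.inl ⟨rfl, h⟩))
    · rcases quartic_odd p hp2 hcard hZ hZp with h | h
      · exact Or.inl h
      · exact Or.inr (Or.inl ⟨hp.odd_of_ne_two hp2, h⟩)
  · push Not at hZp
    obtain ⟨z₀, hz₀, hz₀p⟩ := hZp
    rcases quartic_cyclic_center p hcard hZ z₀ hz₀ hz₀p with h | h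
    · exact Or.inl h
    · exact Or.inr (Or.inr (Or.inr h))

end QuarticD

end Cfsg.Agent.Lib.Helper27
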