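import Mathlib
import Cfsg.Agent.Lib.Helper27.OrderQuarticD
import Cfsg.Agent.Lib.Helper27.AbEssB

set_option autoImplicit false

namespace Cfsg.Agent.Lib.Helper27

universe u

section QuarticE

variable {P : Type u} [Group P] [Finite P]

theorem quartic_abelian_cases (p : ℕ) [Fact p.Prime] (hcard : Nat.card P = p ^ 4)
    (hcomm : ∀ a b : P, a * b = b * a) :
    (∃ (m : ℕ) (c : Fin (m + 1) → Subgroup P), NChain ⊤ m c) ∨ (∀ a : P, a ^ p = 1) ∨
    Nonempty (P ≃* Multiplicative (ZMod (p ^ 2) × ZMod p × ZMod p)) ∨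
    Nonempty (P ≃* Multiplicative (ZMod (p ^ 2) × ZMod (p ^ 2))) := by
  have hp : p.Prime := Fact.out
  have hG : IsPGroup p P := IsPGroup.of_card hcard
  rcases ab_chain_or_decomp hcomm p hG with ⟨m, c, h0, hm, hinv, hstep⟩ | ⟨n, H, _, hn, ⟨φ⟩⟩
  · left
    refine ⟨m, c, h0, hm, fun i => ⟨⟨fun x hx g => ?_⟩, fun α _ x hx => hinv i α x hx⟩, hstep⟩
    rw [hcomm g x, mul_inv_cancel_right]
    exact hx
  · right
    have hc1 : Nat.card (Multiplicative (ZMod (p ^ n))) = p ^ n := by
      rw [Nat.card_congr Multiplicative.toAdd, Nat.card_zmod]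
    have hcardT : Nat.card P = p ^ n * p ^ n * Nat.card H := by
      rw [Nat.card_congr φ.toEquiv, Nat.card_prod, Nat.card_prod, hc1]
    rw [hcard] at hcardT
    have hn2 : n ≤ 2 := by
      have h1 : p ^ (n + n) ∣ p ^ 4 := by
        rw [hcardT, pow_add]
        exact dvd_mul_right _ _
      have h2 := (Nat.pow_dvd_pow_iff_le_right hp.one_lt).mp h1
      omega
    rcases (show n = 1 ∨ n = 2 by omega) with h1 | h2
    · subst h1
      have hH : Nat.card H = p ^ 2 := by
        have h3 : p ^ 4 = p ^ 1 * p ^ 1 * p ^ 2 := by ring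
        rw [h3] at hcardT
        exact (Nat.eq_of_mul_eq_mul_left (Nat.mul_pos (pow_pos hp.pos 1) (pow_pos hp.pos 1))
          hcardT).symm
      have hHfin : Finite H :=
        Nat.finite_of_card_ne_zero (by rw [hH]; exact pow_ne_zero 2 hp.ne_zero)
      by_cases hHexp : ∀ h : H, h ^ p = 1
      · left
        intro a
        apply φ.injective
        rw [map_pow, map_one]
        refine Prod.ext (Prod.ext ?_ ?_) ?_
        · show (φ a).1.1 ^ p = 1
          have h4 := pow_card_eq_one' (G := Multiplicative (ZMod (p ^ 1))) (x := (φ a).1.1)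
          rw [hc1] at h4
          have h5 : (φ a).1.1 ^ p = (φ a).1.1 ^ (p ^ 1) :=
            congrArg (fun k => (φ a).1.1 ^ k) (pow_one p).symm
          exact h5.trans h4
        · show (φ a).1.2 ^ p = 1
          have h4 := pow_card_eq_one' (G := Multiplicative (ZMod (p ^ 1))) (x := (φ a).1.2)
          rw [hc1] at h4
          have h5 : (φ a).1.2 ^ p = (φ a).1.2 ^ (p ^ 1) :=
            congrArg (fun k => (φ a).1.2 ^ k) (pow_one p).symm
          exact h5.trans h4
        · exact hHexp _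
      · right
        left
        push Not at hHexp
        obtain ⟨h₀, hh₀⟩ := hHexp
        have hord : orderOf h₀ = p ^ 2 :=
          orderOf_eq_prime_pow (x := h₀) (n := 1) (p := p) (by rw [pow_one]; exact hh₀) (by
            have h4 := pow_card_eq_one' (G := H) (x := h₀)
            rw [hH] at h4
            exact h4)
        have hcyc : IsCyclic H := isCyclic_of_orderOf_eq_card h₀ (by rw [hord, hH])
        have e1 : H ≃* Multiplicative (ZMod (Nat.card H)) := (zmodCyclicMulEquiv hcyc).symm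
        have e2 : Multiplicative (ZMod (Nat.card H)) ≃* Multiplicative (ZMod (p ^ 2)) :=
          AddEquiv.toMultiplicative (ZMod.ringEquivCongr hH).toAddEquiv
        have e3 : Multiplicative (ZMod (p ^ 1)) ≃* Multiplicative (ZMod p) :=
          AddEquiv.toMultiplicative (ZMod.ringEquivCongr (pow_one p)).toAddEquiv
        exact ⟨φ.trans (MulEquiv.prodComm.trans
          ((MulEquiv.prodCongr (e1.trans e2) (MulEquiv.prodCongr e3 e3)).trans
            ((MulEquiv.prodCongr (MulEquiv.refl _)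
              (MulEquiv.prodMultiplicative (ZMod p) (ZMod p)).symm).trans
              (MulEquiv.prodMultiplicative (ZMod (p ^ 2)) (ZMod p × ZMod p)).symm)))⟩
    · subst h2
      right
      right
      have hH : Nat.card H = 1 := by
        have h3 : p ^ 4 = p ^ 2 * p ^ 2 * 1 := by ring
        rw [h3] at hcardT
        exact (Nat.eq_of_mul_eq_mul_left (Nat.mul_pos (pow_pos hp.pos 2) (pow_pos hp.pos 2))
          hcardT).symm
      have hsub : Subsingleton H := (Nat.card_eq_one_iff_unique.mp hH).1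
      have huniq : Unique H := ⟨⟨1⟩, fun a => Subsingleton.elim _ _⟩
      exact ⟨(φ.trans MulEquiv.prodUnique).trans
        (MulEquiv.prodMultiplicative (ZMod (p ^ 2)) (ZMod (p ^ 2))).symm⟩

/-- A group of order `p ^ 4` has a characteristic chain with cyclic steps unless it has one of
six explicit shapes. -/
theorem quartic_cases (p : ℕ) [Fact p.Prime] (hcard : Nat.card P = p ^ 4) :
    (∃ (m : ℕ) (c : Fin (m + 1) → Subgroup P), NChain ⊤ m c) ∨
    ((∀ a b : P, a * b = b * a) ∧ ∀ a : P, a ^ p = 1) ∨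
    Nonempty (P ≃* Multiplicative (ZMod (p ^ 2) × ZMod p × ZMod p)) ∨
    Nonempty (P ≃* Multiplicative (ZMod (p ^ 2) × ZMod (p ^ 2))) ∨
    (Odd p ∧ ∃ (E : Type) (_ : Group E) (_ : Finite E), Cfsg.IsExtraspecial p E ∧
        Nat.card E = p ^ 3 ∧ (∀ x : E, x ^ p = 1) ∧
        Nonempty (P ≃* E × Multiplicative (ZMod p))) ∨
    (p = 2 ∧ Nonempty (P ≃* QuaternionGroup 2 × Multiplicative (ZMod 2))) ∨
    ((¬ ∀ a b : P, a * b = b * a) ∧ (∀ x : P, x ^ (p ^ 2) = 1) ∧
      IsCyclic (Subgroup.center P) ∧ Nat.card (Subgroup.center P) = p ^ 2) := by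
  have hp : p.Prime := Fact.out
  have hG : IsPGroup p P := IsPGroup.of_card hcard
  by_cases hcomm : ∀ a b : P, a * b = b * a
  · rcases quartic_abelian_cases p hcard hcomm with h | h | h | h
    · exact Or.inl h
    · exact Or.inr (Or.inl ⟨hcomm, h⟩)
    · exact Or.inr (Or.inr (Or.inl h))
    · exact Or.inr (Or.inr (Or.inr (Or.inl h)))
  · have hnt : Nontrivial P := by
      rw [← Finite.one_lt_card_iff_nontrivial, hcard]
      exact Nat.one_lt_pow (by norm_num) hp.one_lt
    obtain ⟨k, hk⟩ := IsPGroup.iff_card.mp (hG.to_subgroup (Subgroup.center P))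
    have hdvd : p ^ k ∣ p ^ 4 := by
      rw [← hk, ← hcard]
      exact Subgroup.card_subgroup_dvd_card _
    have hk4 : k ≤ 4 := (Nat.pow_dvd_pow_iff_le_right hp.one_lt).mp hdvd
    have hk0 : k ≠ 0 := by
      intro h0
      rw [h0, pow_zero] at hk
      have h1 := hG.center_nontrivial
      have h2 := Finite.one_lt_card_iff_nontrivial.mpr h1
      omega
    have hk4' : k ≠ 4 := by
      intro h4
      apply hcomm
      have htop : Subgroup.center P = ⊤ := Subgroup.eq_top_of_card_eq _ (by rw [hk, h4, hcard])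
      intro a b
      have ha : a ∈ Subgroup.center P := htop ▸ Subgroup.mem_top a
      exact (Subgroup.mem_center_iff.mp ha b).symm
    have hk3 : k ≠ 3 := by
      intro h3
      apply hcomm
      have hq : Nat.card (P ⧸ Subgroup.center P) = p := by
        have h1 := Subgroup.card_eq_card_quotient_mul_card_subgroup (Subgroup.center P)
        rw [hcard, hk, h3] at h1
        have h4 : p ^ 4 = p * p ^ 3 := by ring
        rw [h4] at h1
        exact (Nat.eq_of_mul_eq_mul_right (pow_pos hp.pos 3) h1).symm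
      have hcyc : IsCyclic (P ⧸ Subgroup.center P) := isCyclic_of_prime_card hq
      exact commutative_of_cyclic_center_quotient (QuotientGroup.mk' (Subgroup.center P))
        (by rw [QuotientGroup.ker_mk'])
    rcases (show k = 1 ∨ k = 2 by omega) with h1 | h2
    · left
      exact quartic_center_prime p hcard (by rw [hk, h1, pow_one])
    · rcases quartic_center_sq p hcard (by rw [hk, h2]) with h | h | h | h
      · exact Or.inl h
      · exact Or.inr (Or.inr (Or.inr (Or.inr (Or.inl h))))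
      · exact Or.inr (Or.inr (Or.inr (Or.inr (Or.inr (Or.inl h)))))
      · exact Or.inr (Or.inr (Or.inr (Or.inr (Or.inr (Or.inr h)))))

end QuarticE

section QuadCard

theorem quad_trivial_group_card {G : Type*} [Group G] [Finite G]
    (hcomm : ∀ a b : G, a * b = b * a) (p : ℕ) [Fact p.Prime] (hp5 : 5 ≤ p)
    (hΩ : ∀ x : G, x ^ p = 1 → ∃ y, x = y ^ p) (hexp : ∀ x : G, x ^ (p ^ 2) = 1)
    (hcard : Nat.card G = p ^ 4) (g : MulAut G) (hg : g ^ p = 1) :
    ∀ x, ∃ y, x⁻¹ * g x = y ^ p := by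
  let _inst : CommGroup G := { ‹Group G› with mul_comm := hcomm }
  have hp : p.Prime := Fact.out
  have heq : omegaSub G p 1 = agemoSub G p 1 := by
    apply le_antisymm
    · intro x hx
      rw [mem_omegaSub, pow_one] at hx
      obtain ⟨y, hy⟩ := hΩ x hx
      rw [mem_agemoSub]
      exact ⟨y, by rw [pow_one]; exact hy.symm⟩
    · intro x hx
      rw [mem_agemoSub] at hx
      obtain ⟨y, hy⟩ := hx
      rw [mem_omegaSub, ← hy, ← pow_mul, pow_one, ← sq]
      exact hexp y
  have hk := Subgroup.card_mul_index (omegaSub G p 1)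
  have hik : (omegaSub G p 1).index = Nat.card (agemoSub G p 1) := Subgroup.index_ker _
  rw [hik, heq, hcard] at hk
  have h1 : Nat.card (agemoSub G p 1) = p ^ 2 := by
    have h2 : p ^ 4 = p ^ 2 * p ^ 2 := by ring
    rw [h2] at hk
    exact Nat.mul_self_inj.mp hk
  have hcard' : Nat.card G = p ^ 2 * Nat.card (agemoSub G p 1) := by
    rw [h1, hcard]
    ring
  exact quad_trivial_comm p hp5 hΩ 2 le_rfl hcard' g hg

end QuadCard

section FusionQuartic

open Cfsg Cfsg.FusionSystem Cfsg.Agent.Lib.Helper26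

variable {Ω : Type u} [Group Ω] {S : Subgroup Ω}

theorem essential_card_quartic [Finite S] (p : ℕ) [Fact p.Prime] (hS : IsPGroup p S)
    (F : Cfsg.FusionSystem S) (H : Subgroup Ω) (hH : F.IsEssential p H)
    (hcard : Nat.card H = p ^ 4) :
    Cfsg.IsElementaryAbelian p H ∨
      Nonempty (↥H ≃* Multiplicative (ZMod (p ^ 2) × ZMod p × ZMod p)) ∨
      ((p = 2 ∨ p = 3) ∧ Nonempty (↥H ≃* Multiplicative (ZMod (p ^ 2) × ZMod (p ^ 2)))) ∨
      (Odd p ∧ ∃ (E : Type) (_ : Group E) (_ : Finite E), Cfsg.IsExtraspecial p E ∧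
        Nat.card E = p ^ 3 ∧
        (∀ x : E, x ^ p = 1) ∧ Nonempty (↥H ≃* E × Multiplicative (ZMod p))) ∨
      (p = 2 ∧ Nonempty (↥H ≃* QuaternionGroup 2 × Multiplicative (ZMod 2))) ∨
      (¬ IsMulCommutative ↥H ∧ (∀ x ∈ H, x ^ (p ^ 2) = 1) ∧
        IsCyclic ↥(Subgroup.center ↥H) ∧ Nat.card (Subgroup.center ↥H) = p ^ 2) := by
  have hp : p.Prime := Fact.out
  have hHS : H ≤ S := hH.1.1
  have hfin : Finite ↥H := finite_of_le hHS
  rcases quartic_cases (P := ↥H) p hcard with
    ⟨m, c, hch⟩ | ⟨hcomm, hexp⟩ | h | ⟨⟨ψ⟩⟩ | h | h | ⟨hnc, hexp, hcyc, hZ⟩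
  · exfalso
    exact not_essential_of_chain p hS F (c := c)
      ⟨hch.1, hch.2.1, fun i => ⟨(hch.2.2.1 i).1, fun α _ x hx =>
        (hch.2.2.1 i).2 α (Subgroup.mem_top α) x hx⟩, hch.2.2.2⟩ hH
  · left
    exact ⟨⟨⟨fun a b => hcomm a b⟩⟩, fun a ha => congrArg Subtype.val (hexp ⟨a, ha⟩)⟩
  · exact Or.inr (Or.inl h)
  · refine Or.inr (Or.inr (Or.inl ⟨?_, ⟨ψ⟩⟩))
    by_contra hp23
    push Not at hp23
    have hp5 : 5 ≤ p := by
      have h4 : p ≠ 4 := by
        intro h
        rw [h] at hp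
        exact absurd hp (by norm_num)
      have h2 := hp.two_le
      have h2' := hp23.1
      have h3' := hp23.2
      omega
    obtain ⟨ψ', hψ'⟩ : ∃ ψ' : ↥H ≃* Multiplicative (ZMod (p ^ 2)) × Multiplicative (ZMod (p ^ 2)),
        ψ' = ψ.trans (MulEquiv.prodMultiplicative (ZMod (p ^ 2)) (ZMod (p ^ 2))) := ⟨_, rfl⟩
    have hcomm : ∀ a b : ↥H, a * b = b * a := by
      intro a b
      apply ψ'.injective
      rw [map_mul, map_mul, mul_comm]
    have hne : NeZero (p ^ 2) := ⟨pow_ne_zero 2 hp.ne_zero⟩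
    have hc1 : Nat.card (Multiplicative (ZMod (p ^ 2))) = p ^ 2 := by
      rw [Nat.card_congr Multiplicative.toAdd, Nat.card_zmod]
    have hexp : ∀ x : ↥H, x ^ (p ^ 2) = 1 := by
      intro x
      apply ψ'.injective
      rw [map_pow, map_one]
      refine Prod.ext ?_ ?_
      · show (ψ' x).1 ^ (p ^ 2) = 1
        have h4 := pow_card_eq_one' (G := Multiplicative (ZMod (p ^ 2))) (x := (ψ' x).1)
        rw [hc1] at h4
        exact h4
      · show (ψ' x).2 ^ (p ^ 2) = 1
        have h4 := pow_card_eq_one' (G := Multiplicative (ZMod (p ^ 2))) (x := (ψ' x).2)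
        rw [hc1] at h4
        exact h4
    have hΩ : ∀ x : ↥H, x ^ p = 1 → ∃ y, x = y ^ p := by
      intro x hx
      have h1 : (ψ' x) ^ p = 1 := by rw [← map_pow, hx, map_one]
      obtain ⟨d1, hd1⟩ := zmod_pow_root p 2 hp le_rfl (ψ' x).1 (congrArg Prod.fst h1)
      obtain ⟨d2, hd2⟩ := zmod_pow_root p 2 hp le_rfl (ψ' x).2 (congrArg Prod.snd h1)
      refine ⟨ψ'.symm (d1, d2), ?_⟩
      apply ψ'.injective
      rw [map_pow, MulEquiv.apply_symm_apply]
      exact Prod.ext hd1 hd2
    obtain ⟨g, hgA, hgp, hg1⟩ := exists_order_p_aut p hS F hH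
    have hq := quad_trivial_group_card hcomm p hp5 hΩ hexp hcard g hgp
    exact hg1 (aut_trivial_of_agemo p hS F hH hcomm g hgA hq)
  · exact Or.inr (Or.inr (Or.inr (Or.inl h)))
  · exact Or.inr (Or.inr (Or.inr (Or.inr (Or.inl h))))
  · refine Or.inr (Or.inr (Or.inr (Or.inr (Or.inr ⟨?_, ?_, hcyc, hZ⟩))))
    · intro hcm
      exact hnc (fun a b => hcm.is_comm.comm a b)
    · intro x hx
      exact congrArg Subtype.val (hexp ⟨x, hx⟩)

end FusionQuartic

end Cfsg.Agent.Lib.Helper27
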