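import Mathlib
import Cfsg.Prelude.Def_FusionSystem
import Cfsg.Agent.Lib.Helper1.Cores
import Cfsg.Agent.Lib.Helper26.FusionAut
import Cfsg.Agent.Lib.Helper26.FusionSat
import Cfsg.Agent.Lib.Helper27.Chain
import Cfsg.Agent.Lib.Helper27.MaxClassEss
import Cfsg.Agent.S5096

set_option autoImplicit false

namespace Cfsg.Agent.Lib.Helper27

open Cfsg Cfsg.FusionSystem Cfsg.Agent.Lib.Helper26

section PStableGroup

variable {G : Type*} [Group G]

/-- A `p`-subgroup of `A` normalized by `A` lies in `O_p(A)`. -/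
theorem mem_pCore_map_of_normal (p : ℕ) (A O : Subgroup G) (hOA : O ≤ A)
    (hO : IsPGroup p O) (hn : ∀ a ∈ A, ∀ x ∈ O, a * x * a⁻¹ ∈ O) :
    O ≤ (Cfsg.pCore p A).map A.subtype := by
  intro x hx
  have hN : (O.subgroupOf A).Normal := ⟨fun y hy a => by
    rw [Subgroup.mem_subgroupOf] at hy ⊢
    exact hn a a.2 y hy⟩
  have hP : IsPGroup p (O.subgroupOf A) := hO.comap_subtype
  exact ⟨⟨x, hOA hx⟩, Cfsg.Agent.Lib.Helper1.le_pCore p hN hP (Subgroup.mem_subgroupOf.mpr hx),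
    rfl⟩

theorem pCore_map_isPGroup (p : ℕ) [Fact p.Prime] (A : Subgroup G) [Finite A] :
    IsPGroup p ((Cfsg.pCore p A).map A.subtype) :=
  (Cfsg.Agent.Lib.Helper1.pCore_isPGroup p).map _

theorem pCore_map_conj (p : ℕ) (A : Subgroup G) {a x : G} (ha : a ∈ A)
    (hx : x ∈ (Cfsg.pCore p A).map A.subtype) : a * x * a⁻¹ ∈ (Cfsg.pCore p A).map A.subtype := by
  obtain ⟨y, hy, rfl⟩ := hx
  exact ⟨⟨a, ha⟩ * y * ⟨a, ha⟩⁻¹, (Cfsg.Agent.Lib.Helper1.pCore_normal p).conj_mem y hy ⟨a, ha⟩,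
    rfl⟩

theorem pCore_map_inf_le (p : ℕ) [Fact p.Prime] (A B : Subgroup G) [Finite A] (hBA : B ≤ A) :
    (Cfsg.pCore p A).map A.subtype ⊓ B ≤ (Cfsg.pCore p B).map B.subtype := by
  apply mem_pCore_map_of_normal p B _ inf_le_right
  · exact (pCore_map_isPGroup p A).to_le inf_le_left
  · intro b hb x hx
    obtain ⟨hx1, hx2⟩ := Subgroup.mem_inf.mp hx
    exact Subgroup.mem_inf.mpr
      ⟨pCore_map_conj p A (hBA hb) hx1, B.mul_mem (B.mul_mem hb hx2) (B.inv_mem hb)⟩

theorem pCore_map_equiv {G' : Type*} [Group G'] (p : ℕ) [Fact p.Prime] (f : G ≃* G')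
    (A : Subgroup G) (A' : Subgroup G') [Finite A] (h1 : ∀ a ∈ A, f a ∈ A')
    (h2 : ∀ a' ∈ A', f.symm a' ∈ A) {x : G} (hx : x ∈ (Cfsg.pCore p A).map A.subtype) :
    f x ∈ (Cfsg.pCore p A').map A'.subtype := by
  have hle := mem_pCore_map_of_normal p A' (((Cfsg.pCore p A).map A.subtype).map f.toMonoidHom)
    ?_ ?_ ?_
  · exact hle ⟨x, hx, rfl⟩
  · rintro _ ⟨y, hy, rfl⟩
    exact h1 y (Subgroup.map_subtype_le _ hy)
  · exact (pCore_map_isPGroup p A).map _
  · rintro a' ha' _ ⟨y, hy, rfl⟩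
    refine ⟨f.symm a' * y * (f.symm a')⁻¹, pCore_map_conj p A (h2 a' ha') hy, ?_⟩
    simp

theorem pCore_map_congr (p : ℕ) {A B : Subgroup G} (h : A = B) {x : G}
    (hx : x ∈ (Cfsg.pCore p A).map A.subtype) : x ∈ (Cfsg.pCore p B).map B.subtype := by
  subst h
  exact hx

theorem quad_congr {M M' : Type*} [Group M] [Group M'] (e : M ≃* M') {χ : MulAut M}
    (h : ∀ a : M, (χ a⁻¹) * a * (χ a⁻¹) * (χ (χ a)) = 1) (a : M') :
    (MulAut.congr e χ a⁻¹) * a * (MulAut.congr e χ a⁻¹) *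
      (MulAut.congr e χ (MulAut.congr e χ a)) = 1 := by
  have hb := congrArg e (h (e.symm a))
  have e1 : ∀ y : M', MulAut.congr e χ y = e (χ (e.symm y)) := fun y => rfl
  rw [e1, e1, e1]
  simp only [map_mul, map_one, map_inv, MulEquiv.apply_symm_apply,
    MulEquiv.symm_apply_apply] at hb ⊢
  exact hb

theorem quad_pow_eq_one {P : Type*} [Group P] [Finite P] (χ : MulAut P)
    (h : ∀ a : P, (χ a⁻¹) * a * (χ a⁻¹) * (χ (χ a)) = 1) : χ ^ Nat.card P = 1 := by
  apply MulEquiv.ext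
  intro x
  have h1 := h x
  rw [map_inv] at h1
  have h2 : χ (χ x) = χ x * x⁻¹ * χ x := by
    have := eq_inv_of_mul_eq_one_right h1
    rw [this]
    group
  have h3 : χ (x⁻¹ * χ x) = x⁻¹ * χ x := by
    rw [map_mul, map_inv, h2]
    group
  rw [pow_apply_of_fixed χ x h3, pow_card_eq_one', mul_one]
  rfl

theorem mulAut_comm_cyc {M : Type*} [Group M] [IsCyclic M] (σ τ : MulAut M) :
    σ * τ = τ * σ := by
  apply (IsCyclic.mulAutMulEquiv M).injective
  rw [map_mul, map_mul, mul_comm]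

end PStableGroup

variable {Ω : Type*} [Group Ω] {S : Subgroup Ω}

/-- `p`-stability of a fusion system, in the fully normalized form. -/
def PStableSys (p : ℕ) (F : FusionSystem S) : Prop :=
  ∀ Q : Subgroup Ω, F.IsFullyNormalized Q → ∀ χ : MulAut ↥Q, χ ∈ F.autGroup Q →
    (∀ a : ↥Q, (χ a⁻¹) * a * (χ a⁻¹) * (χ (χ a)) = 1) →
    χ ∈ ((Cfsg.pCore p ↥(F.autGroup Q)).map (F.autGroup Q).subtype : Subgroup (MulAut ↥Q))

/-- In a `p`-stable system the condition holds for all subgroups, fully normalized or not. -/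
theorem pstable_all [Finite S] (p : ℕ) [Fact p.Prime] (F : FusionSystem S)
    (hst : PStableSys p F) {Q : Subgroup Ω} (hQ : Q ≤ S) {χ : MulAut Q}
    (hχ : χ ∈ F.autGroup Q) (hq : ∀ a : ↥Q, (χ a⁻¹) * a * (χ a⁻¹) * (χ (χ a)) = 1) :
    χ ∈ ((Cfsg.pCore p ↥(F.autGroup Q)).map (F.autGroup Q).subtype : Subgroup (MulAut ↥Q)) := by
  obtain ⟨Q', hconj, hfn⟩ := Fusion.exists_fullyNormalized_conj F hQ
  obtain ⟨e, he⟩ := (Fusion.isConj_iff_exists_iso F).1 hconj
  have hQ'fin : Finite Q' := finite_of_le hfn.1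
  have hMfin : Finite (MulAut Q') := inferInstance
  have h1 := hst Q' hfn (MulAut.congr e χ) (Fusion.congr_mem_autGroup F he hχ) (quad_congr e hq)
  have h2 := pCore_map_equiv p (MulAut.congr e).symm (F.autGroup Q') (F.autGroup Q) ?_ ?_ h1
  · have e3 : (MulAut.congr e).symm (MulAut.congr e χ) = χ := MulEquiv.symm_apply_apply _ _
    rw [e3] at h2
    exact h2
  · intro a ha
    exact Fusion.congr_mem_autGroup F he.symm ha
  · intro a ha
    exact Fusion.congr_mem_autGroup F he ha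

theorem normalizer_autGroup_le (F : FusionSystem S) (R : Subgroup Ω)
    (N : FusionSystem (normalizerIn S R)) (hN : F.IsNormalizerSystem R N) {Q : Subgroup Ω}
    (hQN : Q ≤ normalizerIn S R) : N.autGroup Q ≤ F.autGroup Q := by
  intro α hα
  rw [Fusion.mem_autGroup_iff N hQN] at hα
  rw [Fusion.mem_autGroup_iff F (hQN.trans inf_le_left)]
  have : Q.subtype.comp (α : Q ≃* Q).toMonoidHom ∈ F.normalizerHom R Q := by
    rw [← hN Q]
    exact hα
  exact this.1

/-- `p`-stability passes to normalizer systems. -/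
theorem pstable_normalizer [Finite S] (p : ℕ) [Fact p.Prime] (F : FusionSystem S)
    (hst : PStableSys p F) (R : Subgroup Ω) (N : FusionSystem (normalizerIn S R))
    (hN : F.IsNormalizerSystem R N) : PStableSys p N := by
  intro Q hQ χ hχ hq
  have hQN : Q ≤ normalizerIn S R := hQ.1
  have hQS : Q ≤ S := hQN.trans inf_le_left
  have hQfin : Finite Q := finite_of_le hQS
  have hMfin : Finite (MulAut Q) := inferInstance
  have hle := normalizer_autGroup_le F R N hN hQN
  have h1 := pstable_all p F hst hQS (hle hχ) hq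
  exact pCore_map_inf_le p (F.autGroup Q) (N.autGroup Q) hle (Subgroup.mem_inf.mpr ⟨h1, hχ⟩)

/-- Every `F`-automorphism of `Q` is an automorphism in the normalizer system of `Q`. -/
theorem autGroup_le_normalizer (F : FusionSystem S) {Q : Subgroup Ω} (hQS : Q ≤ S)
    (N : FusionSystem (normalizerIn S Q)) (hN : F.IsNormalizerSystem Q N) :
    F.autGroup Q ≤ N.autGroup Q := by
  have hQN : Q ≤ normalizerIn S Q := le_inf hQS Subgroup.le_normalizer
  intro α hα
  rw [Fusion.mem_autGroup_iff F hQS] at hα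
  rw [Fusion.mem_autGroup_iff N hQN]
  show Q.subtype.comp (α : Q ≃* Q).toMonoidHom ∈ N.Hom Q
  rw [hN Q]
  obtain ⟨ψ, hψ, hψα⟩ := hom_transport_eq F (sup_idem Q).symm hα
  refine ⟨hα, hQN, fun x => hQN (α x).2, ψ, hψ, fun x => hψα x x.2 _, ?_⟩
  apply le_antisymm
  · rintro _ ⟨y, hy, rfl⟩
    have hyQ : (y : Ω) ∈ Q := Subgroup.mem_subgroupOf.mp hy
    have hy2 : ψ y = (Q.subtype.comp (MulEquiv.toMonoidHom α)) ⟨y, hyQ⟩ := hψα y hyQ y.2
    show ψ y ∈ Q
    rw [hy2]
    exact (α ⟨y, hyQ⟩).2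
  · intro q hq
    obtain ⟨q0, hq0⟩ : ∃ q0 : Q, α q0 = ⟨q, hq⟩ :=
      ⟨α.symm ⟨q, hq⟩, MulEquiv.apply_symm_apply _ _⟩
    refine ⟨⟨q0, (le_sup_left : Q ≤ Q ⊔ Q) q0.2⟩, Subgroup.mem_subgroupOf.mpr q0.2, ?_⟩
    have hy2 : ψ ⟨q0, (le_sup_left : Q ≤ Q ⊔ Q) q0.2⟩ =
        (Q.subtype.comp (MulEquiv.toMonoidHom α)) ⟨q0, q0.2⟩ := hψα q0 q0.2 _
    rw [hy2]
    show ((α q0 : Q) : Ω) = q
    rw [hq0]

/-- If the normalizer systems of all non-cyclic fully normalized subgroups are `p`-stable, so is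
the system. -/
theorem pstable_of_normalizers [Finite S] (p : ℕ) [Fact p.Prime] (hS : IsPGroup p S)
    (F : FusionSystem S)
    (h : ∀ R : Subgroup Ω, F.IsFullyNormalized R → ¬ IsCyclic ↥R →
      ∀ N : FusionSystem (normalizerIn S R), F.IsNormalizerSystem R N → PStableSys p N) :
    PStableSys p F := by
  intro Q hQ χ hχ hq
  have hp : p.Prime := Fact.out
  have hQS : Q ≤ S := hQ.1
  have hQfin : Finite Q := finite_of_le hQS
  have hMfin : Finite (MulAut Q) := inferInstance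
  by_cases hc : IsCyclic Q
  · have hpow := quad_pow_eq_one χ hq
    apply mem_pCore_map_of_normal p (F.autGroup Q) (Subgroup.zpowers χ) ?_ ?_ ?_
      (Subgroup.mem_zpowers χ)
    · exact Subgroup.zpowers_le.mpr hχ
    · have hQp : IsPGroup p Q :=
        hS.of_injective (Subgroup.inclusion hQS) (Subgroup.inclusion_injective hQS)
      obtain ⟨m, hm⟩ := IsPGroup.iff_card.mp hQp
      rw [hm] at hpow
      obtain ⟨k, -, hk⟩ := (Nat.dvd_prime_pow hp).mp (orderOf_dvd_of_pow_eq_one hpow)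
      apply IsPGroup.of_card (n := k)
      rw [Nat.card_zpowers, hk]
    · intro a _ x hx
      rw [mulAut_comm_cyc a x, mul_inv_cancel_right]
      exact hx
  · obtain ⟨N, hN⟩ := Cfsg.Agent.S5096.result F Q hQS
    have hQN : Q ≤ normalizerIn S Q := le_inf hQS Subgroup.le_normalizer
    have hNfin : Finite (normalizerIn S Q) := finite_of_le inf_le_left
    have hQfnN : N.IsFullyNormalized Q := fullyNormalized_of_normal_sub N hQN inf_le_right
    have hge := autGroup_le_normalizer F hQS N hN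
    have hle := normalizer_autGroup_le F Q N hN hQN
    have h1 := h Q hQ hc N hN Q hQfnN χ (hge hχ) hq
    exact pCore_map_congr p (le_antisymm hle hge) h1

/-- `F` is `p`-stable iff the normalizer systems of its non-cyclic fully normalized subgroups
are. -/
theorem pstable_iff_normalizers [Finite S] (p : ℕ) [Fact p.Prime] (hS : IsPGroup p S)
    (F : FusionSystem S) :
    PStableSys p F ↔ ∀ R : Subgroup Ω, F.IsFullyNormalized R → ¬ IsCyclic ↥R →
      ∀ N : FusionSystem (normalizerIn S R), F.IsNormalizerSystem R N → PStableSys p N :=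
  ⟨fun hst R _ _ N hN => pstable_normalizer p F hst R N hN, pstable_of_normalizers p hS F⟩

end Cfsg.Agent.Lib.Helper27
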