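import Cfsg.Agent.Lib.Helper27.QuotSat
import Cfsg.Agent.Lib.Helper27.NormalCrit
import Cfsg.Agent.Lib.Helper18.Basic
import Cfsg.Prelude.Def_CaseTheorems
import Cfsg.Agent.S5076

set_option autoImplicit false

namespace Cfsg.Agent.Lib.Helper27

open Cfsg Cfsg.FusionSystem Cfsg.Agent.Lib.Helper26

variable {Ω : Type*} [Group Ω] {S : Subgroup Ω} {G : Type*} [Group G]

/-- The inverse of the injective homomorphism `ι : S → G`, defined on a subgroup `T = ι(S)`. -/
noncomputable def invMap (ι : S →* G) (hι : Function.Injective ι) {T : Subgroup G}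
    (hT : T = ι.range) : T →* Ω :=
  S.subtype.comp ((MonoidHom.ofInjective hι).symm.toMonoidHom.comp
    (Subgroup.inclusion (le_of_eq hT)))

theorem invMap_mem (ι : S →* G) (hι : Function.Injective ι) {T : Subgroup G}
    (hT : T = ι.range) (t : T) : invMap ι hι hT t ∈ S :=
  Subtype.property _

theorem iota_invMap (ι : S →* G) (hι : Function.Injective ι) {T : Subgroup G}
    (hT : T = ι.range) (t : T) : ι ⟨invMap ι hι hT t, invMap_mem ι hι hT t⟩ = (t : G) :=
  MonoidHom.apply_ofInjective_symm hι (Subgroup.inclusion (le_of_eq hT) t)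

theorem invMap_iota (ι : S →* G) (hι : Function.Injective ι) {T : Subgroup G}
    (hT : T = ι.range) (s : S) (h : ι s ∈ T) : invMap ι hι hT ⟨ι s, h⟩ = (s : Ω) := by
  have h1 := iota_invMap ι hι hT ⟨ι s, h⟩
  have h2 := hι h1
  exact congrArg Subtype.val h2

/-- The homomorphism `x ↦ ι⁻¹(g ι(x) g⁻¹)` on a subgroup `R ≤ S` whose image under `ι` is
conjugated into `ι(S)` by `g`. -/
noncomputable def pullConj (ι : S →* G) (hι : Function.Injective ι) {R : Subgroup Ω}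
    (hR : R ≤ S) (g : G) (h : ∀ x : R, g * ι ⟨x, hR x.2⟩ * g⁻¹ ∈ ι.range) : R →* Ω :=
  S.subtype.comp ((MonoidHom.ofInjective hι).symm.toMonoidHom.comp
    (((MulAut.conj g).toMonoidHom.comp (ι.comp (Subgroup.inclusion hR))).codRestrict ι.range h))

theorem pullConj_mem (ι : S →* G) (hι : Function.Injective ι) {R : Subgroup Ω}
    (hR : R ≤ S) (g : G) (h : ∀ x : R, g * ι ⟨x, hR x.2⟩ * g⁻¹ ∈ ι.range) (x : R) :
    pullConj ι hι hR g h x ∈ S :=
  Subtype.property _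

theorem pullConj_spec (ι : S →* G) (hι : Function.Injective ι) {R : Subgroup Ω}
    (hR : R ≤ S) (g : G) (h : ∀ x : R, g * ι ⟨x, hR x.2⟩ * g⁻¹ ∈ ι.range) (x : R) :
    ι ⟨pullConj ι hι hR g h x, pullConj_mem ι hι hR g h x⟩ = g * ι ⟨x, hR x.2⟩ * g⁻¹ :=
  MonoidHom.apply_ofInjective_symm hι _

theorem pullConj_hom {F : FusionSystem S} {ι : S →* G} (hF : F.IsRealizedBy ι) {R : Subgroup Ω}
    (hR : R ≤ S) (g : G) (h : ∀ x : R, g * ι ⟨x, hR x.2⟩ * g⁻¹ ∈ ι.range) :
    pullConj ι hF.1 hR g h ∈ F.Hom R :=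
  (hF.2 R hR _ (pullConj_mem ι hF.1 hR g h)).2 ⟨g, pullConj_spec ι hF.1 hR g h⟩

/-- A system realized by `ι` is the image of the group fusion system on `ι(S)` under `ι⁻¹`. -/
theorem surjectiveMorphism_of_realizedBy {F : FusionSystem S} {ι : S →* G}
    (hF : F.IsRealizedBy ι) {T : Subgroup G} (hT : T = ι.range) :
    (groupFusionSystem T).IsSurjectiveMorphism F (invMap ι hF.1 hT) := by
  have hι := hF.1
  refine ⟨⟨invMap_mem ι hι hT, ?_⟩, ?_, ?_⟩
  · rintro P φ ⟨hP, hφT, g, hg⟩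
    have hP'S : imageAlong (invMap ι hι hT) P ≤ S := by
      rintro _ ⟨t, -, rfl⟩
      exact invMap_mem ι hι hT t
    have hex : ∀ y : imageAlong (invMap ι hι hT) P,
        ∃ x : P, ι ⟨y, hP'S y.2⟩ = (x : G) := by
      rintro ⟨_, t, ht, rfl⟩
      exact ⟨⟨t, Subgroup.mem_subgroupOf.mp ht⟩, iota_invMap ι hι hT t⟩
    have hcond : ∀ y : imageAlong (invMap ι hι hT) P,
        g * ι ⟨y, hP'S y.2⟩ * g⁻¹ ∈ ι.range := by
      intro y
      obtain ⟨x, hx⟩ := hex y
      rw [hx, ← hg x]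
      exact hT.le (hφT x)
    refine ⟨pullConj ι hι hP'S g hcond, pullConj_hom hF hP'S g hcond, hP, hφT,
      fun x => ⟨⟨x, hP x.2⟩, Subgroup.mem_subgroupOf.mpr x.2, rfl⟩, fun x => ?_⟩
    have h1 := pullConj_spec ι hι hP'S g hcond
      ⟨invMap ι hι hT ⟨x, hP x.2⟩, ⟨⟨x, hP x.2⟩, Subgroup.mem_subgroupOf.mpr x.2, rfl⟩⟩
    have h2 := iota_invMap ι hι hT ⟨x, hP x.2⟩
    have h3 := iota_invMap ι hι hT ⟨φ x, hφT x⟩
    have h4 : ι ⟨pullConj ι hι hP'S g hcond
        ⟨invMap ι hι hT ⟨x, hP x.2⟩, ⟨⟨x, hP x.2⟩, Subgroup.mem_subgroupOf.mpr x.2, rfl⟩⟩,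
        pullConj_mem ι hι hP'S g hcond _⟩ =
        ι ⟨invMap ι hι hT ⟨φ x, hφT x⟩, invMap_mem ι hι hT _⟩ := by
      rw [h1, h3]
      show g * ι ⟨invMap ι hι hT ⟨x, hP x.2⟩, invMap_mem ι hι hT _⟩ * g⁻¹ = φ x
      rw [h2, hg x]
    exact congrArg Subtype.val (hι h4)
  · apply le_antisymm
    · rintro _ ⟨t, rfl⟩
      exact invMap_mem ι hι hT t
    · intro s hs
      have hmem : ι ⟨s, hs⟩ ∈ T := hT.ge ⟨⟨s, hs⟩, rfl⟩
      exact ⟨⟨ι ⟨s, hs⟩, hmem⟩, invMap_iota ι hι hT ⟨s, hs⟩ hmem⟩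
  · intro P' hP' φ' hφ'
    have hφ'S : ∀ x : P', φ' x ∈ S := hom_mem F hφ'
    obtain ⟨g, hg⟩ := (hF.2 P' hP' φ' hφ'S).1 hφ'
    have hPreT := preimageAlong_le (invMap ι hι hT) P'
    have hval : ∀ x : preimageAlong (invMap ι hι hT) P',
        g * (x : G) * g⁻¹ = ι ⟨φ' ⟨invMap ι hι hT ⟨x, hPreT x.2⟩,
          theta_mem_of_mem_preimageAlong x⟩, hφ'S _⟩ := by
      intro x
      rw [hg]
      show _ = g * ι ⟨invMap ι hι hT ⟨x, hPreT x.2⟩, invMap_mem ι hι hT _⟩ * g⁻¹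
      rw [iota_invMap]
    have hvalT : ∀ x : preimageAlong (invMap ι hι hT) P',
        (conjHom (preimageAlong (invMap ι hι hT) P') g) x ∈ T := by
      intro x
      show g * (x : G) * g⁻¹ ∈ T
      rw [hval x]
      exact hT.ge ⟨_, rfl⟩
    refine ⟨conjHom _ g, ⟨hPreT, hvalT, g, fun x => rfl⟩, hPreT, hvalT,
      fun x => theta_mem_of_mem_preimageAlong x, fun x => ?_⟩
    have h3 := iota_invMap ι hι hT ⟨conjHom (preimageAlong (invMap ι hι hT) P') g x, hvalT x⟩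
    have h4 : ι ⟨φ' ⟨invMap ι hι hT ⟨x, hPreT x.2⟩, theta_mem_of_mem_preimageAlong x⟩, hφ'S _⟩ =
        ι ⟨invMap ι hι hT ⟨conjHom (preimageAlong (invMap ι hι hT) P') g x, hvalT x⟩,
          invMap_mem ι hι hT _⟩ := by
      rw [h3, ← hval x]
      rfl
    exact congrArg Subtype.val (hι h4)

/-- A system realized on a Sylow `p`-subgroup of a finite group is saturated. -/
theorem saturated_of_realizedBy [Finite G] (p : ℕ) [Fact p.Prime] {F : FusionSystem S}
    {ι : S →* G} (hF : F.IsRealizedBy ι) (hsyl : ∃ T : Sylow p G, (T : Subgroup G) = ι.range) :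
    F.IsSaturated p := by
  obtain ⟨T, hT⟩ := hsyl
  have hsm := surjectiveMorphism_of_realizedBy hF hT
  exact saturated_image p T.2 (Cfsg.Agent.S5076.result p T) hsm

/-- A fusion system with a model is constrained. -/
theorem isConstrained_of_isModel [Finite S] (p : ℕ) [Fact p.Prime] (F : FusionSystem S)
    (ι : S →* G) (hG : F.IsModel p G ι) : F.IsConstrained p := by
  obtain ⟨hfin, hF, hsyl, hcent⟩ := hG
  have hι := hF.1
  have hsat := saturated_of_realizedBy p hF hsyl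
  obtain ⟨T, hT⟩ := hsyl
  have hOT : pCore p G ≤ ι.range := hT.le.trans' (Cfsg.Agent.Lib.Helper18.pCore_le_sylow T)
  have hnorm : (pCore p G).Normal := inferInstance
  have hQS : ((pCore p G).comap ι).map S.subtype ≤ S := by
    rintro _ ⟨s, -, rfl⟩
    exact s.2
  have hQmem : ∀ {y : Ω} (hy : y ∈ S),
      y ∈ ((pCore p G).comap ι).map S.subtype ↔ ι ⟨y, hy⟩ ∈ pCore p G := by
    intro y hy
    constructor
    · rintro ⟨s, hs, hsy⟩
      have e : s = ⟨y, hy⟩ := Subtype.ext hsy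
      rw [← e]
      exact hs
    · intro h
      exact ⟨⟨y, hy⟩, h, rfl⟩
  have hnormal : F.IsNormal (((pCore p G).comap ι).map S.subtype) := by
    refine ⟨hQS, fun P φ hφ => ?_⟩
    have hPS := hom_le F hφ
    have hφS := hom_mem F hφ
    obtain ⟨g, hg⟩ := (hF.2 P hPS φ hφS).1 hφ
    have hsup : P ⊔ ((pCore p G).comap ι).map S.subtype ≤ S := sup_le hPS hQS
    have hcond : ∀ x : ↥(P ⊔ ((pCore p G).comap ι).map S.subtype),
        g * ι ⟨x, hsup x.2⟩ * g⁻¹ ∈ ι.range := by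
      have hle : P ⊔ ((pCore p G).comap ι).map S.subtype ≤
          ((ι.range.comap (MulAut.conj g).toMonoidHom).comap ι).map S.subtype := by
        apply sup_le
        · intro x hx
          refine ⟨⟨x, hPS hx⟩, ?_, rfl⟩
          show g * ι ⟨x, hPS hx⟩ * g⁻¹ ∈ ι.range
          rw [← hg ⟨x, hx⟩]
          exact ⟨_, rfl⟩
        · rintro _ ⟨s, hs, rfl⟩
          refine ⟨s, ?_, rfl⟩
          show g * ι s * g⁻¹ ∈ ι.range
          exact hOT (hnorm.conj_mem _ hs g)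
      intro x
      obtain ⟨s, hs, hsx⟩ := hle x.2
      have e : s = ⟨x, hsup x.2⟩ := Subtype.ext hsx
      rw [← e]
      exact hs
    refine ⟨pullConj ι hι hsup g hcond, pullConj_hom hF hsup g hcond, fun x => ?_, ?_⟩
    · have h1 := pullConj_spec ι hι hsup g hcond (Subgroup.inclusion le_sup_left x)
      have h2 : ι ⟨pullConj ι hι hsup g hcond (Subgroup.inclusion le_sup_left x),
          pullConj_mem ι hι hsup g hcond _⟩ = ι ⟨φ x, hφS x⟩ := by
        rw [h1, hg x]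
        rfl
      exact congrArg Subtype.val (hι h2)
    · have hQfin : Finite ↥(((pCore p G).comap ι).map S.subtype) := finite_of_le hQS
      apply Subgroup.eq_of_le_of_card_ge
      · rintro _ ⟨x, hx, rfl⟩
        have hxQ : (x : Ω) ∈ ((pCore p G).comap ι).map S.subtype := Subgroup.mem_subgroupOf.mp hx
        rw [hQmem (pullConj_mem ι hι hsup g hcond x), pullConj_spec]
        exact hnorm.conj_mem _ ((hQmem (hsup x.2)).1 hxQ) g
      · rw [Subgroup.card_map_of_injective (F.injective_of_mem (pullConj_hom hF hsup g hcond))]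
        exact le_of_eq (Nat.card_congr (Subgroup.subgroupOfEquivOfLe le_sup_right).toEquiv).symm
  refine ⟨hsat, _, hnormal, hQS, fun Q₂ hconj => ?_⟩
  have hsc := stronglyClosed_of_isNormal F hnormal
  obtain ⟨φ, hφ, hr⟩ := hconj
  have hQfin : Finite ↥(((pCore p G).comap ι).map S.subtype) := finite_of_le hQS
  have hQ₂ : Q₂ = ((pCore p G).comap ι).map S.subtype := by
    rw [← hr]
    apply Subgroup.eq_of_le_of_card_ge
    · rintro _ ⟨x, rfl⟩
      exact hsc.2 _ le_rfl φ hφ x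
    · exact le_of_eq (Nat.card_congr (Equiv.ofInjective φ (F.injective_of_mem hφ)))
  rw [hQ₂]
  rintro s ⟨hsS, hsC⟩
  rw [hQmem hsS]
  apply hcent
  rw [Subgroup.mem_centralizer_iff]
  intro y hy
  obtain ⟨q, rfl⟩ := hOT hy
  have hqQ : (q : Ω) ∈ ((pCore p G).comap ι).map S.subtype := (hQmem q.2).2 hy
  have h1 := hsC (q : Ω) hqQ
  rw [← map_mul, ← map_mul]
  congr 1
  exact Subtype.ext h1

end Cfsg.Agent.Lib.Helper27
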