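import Mathlib
import Cfsg.Prelude.Def_FusionSystem
import Cfsg.Agent.Lib.Helper27.Realize
import Cfsg.Agent.Lib.Helper27.NormalSub
import Cfsg.Agent.Lib.Helper27.FactorSys
import Cfsg.Agent.Lib.Helper27.PPowerNormal
import Cfsg.Agent.Lib.Helper1.Cores
import Cfsg.Agent.S5118
import Cfsg.Agent.S5191

set_option autoImplicit false

namespace Cfsg.Agent.Lib.Helper27

open Cfsg Cfsg.FusionSystem Cfsg.Agent.Lib.Helper26

variable {Ω : Type*} [Group Ω] {S : Subgroup Ω} {G : Type*} [Group G]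

/-- A homomorphism realized, through `ι`, by conjugation with an element of `N`. -/
def RealHom (ι : S →* G) (N : Subgroup G) (P : Subgroup Ω) (φ : P →* Ω) : Prop :=
  ∃ (hP : P ≤ preimageAlong ι N) (hφ : ∀ x : P, φ x ∈ preimageAlong ι N), ∃ n ∈ N, ∀ x : P,
    ι ⟨φ x, preimageAlong_le ι N (hφ x)⟩ = n * ι ⟨x, preimageAlong_le ι N (hP x.2)⟩ * n⁻¹

theorem realHom_injective {ι : S →* G} (hι : Function.Injective ι) {N : Subgroup G}
    {P : Subgroup Ω} {φ : P →* Ω} (h : RealHom ι N P φ) : Function.Injective φ := by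
  obtain ⟨hP, hφ, n, hn, h⟩ := h
  intro a b hab
  have h1 : ι ⟨φ a, preimageAlong_le ι N (hφ a)⟩ = ι ⟨φ b, preimageAlong_le ι N (hφ b)⟩ := by
    congr 1
    exact Subtype.ext hab
  rw [h a, h b] at h1
  have h2 : ι ⟨a, preimageAlong_le ι N (hP a.2)⟩ = ι ⟨b, preimageAlong_le ι N (hP b.2)⟩ :=
    mul_left_cancel (mul_right_cancel h1)
  have h3 := hι h2
  have h4 : (a : Ω) = (b : Ω) := by
    simpa using congrArg Subtype.val h3
  exact Subtype.ext h4

/-- The subsystem over `ι⁻¹(N)` of the maps realized by conjugation with elements of `N`. -/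
def realSys (ι : S →* G) (hι : Function.Injective ι) (N : Subgroup G) :
    FusionSystem (preimageAlong ι N) where
  Hom P := {φ | RealHom ι N P φ}
  le_of_mem := by
    rintro P φ ⟨hP, hφ, -⟩
    exact ⟨hP, hφ⟩
  injective_of_mem := fun h => realHom_injective hι h
  conj_mem := by
    intro P g hP hg
    have hgS := preimageAlong_le ι N hg
    refine ⟨hP, fun x => Subgroup.mul_mem _ (Subgroup.mul_mem _ hg (hP x.2))
      (Subgroup.inv_mem _ hg), ι ⟨g, hgS⟩, (mem_preimageAlong.mp hg).2, fun x => ?_⟩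
    rw [← map_inv, ← map_mul, ← map_mul]
    rfl
  comp_mem := by
    rintro P Q φ ψ ⟨hP, hφ, n₁, hn₁, h₁⟩ ⟨hQ, hψ, n₂, hn₂, h₂⟩ hval
    refine ⟨hP, fun x => hψ _, n₂ * n₁, N.mul_mem hn₂ hn₁, fun x => ?_⟩
    have e1 := h₂ ⟨φ x, hval x⟩
    have e2 := h₁ x
    show ι ⟨ψ ⟨φ x, hval x⟩, _⟩ = _
    rw [e1]
    show n₂ * ι ⟨φ x, _⟩ * n₂⁻¹ = _
    rw [e2]
    group
  inv_mem := by
    rintro P φ ⟨hP, hφ, n, hn, h⟩
    have hinj : Function.Injective φ := realHom_injective hι ⟨hP, hφ, n, hn, h⟩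
    have hrT : φ.range ≤ preimageAlong ι N := by
      rintro _ ⟨x, rfl⟩
      exact hφ x
    obtain ⟨ψ', hψ'def⟩ : ∃ ψ' : φ.range →* Ω,
        ψ' = P.subtype.comp (MonoidHom.ofInjective hinj).symm.toMonoidHom := ⟨_, rfl⟩
    have hψ'v : ∀ x : P, ψ' ⟨φ x, ⟨x, rfl⟩⟩ = (x : Ω) := by
      intro x
      rw [hψ'def]
      show (((MonoidHom.ofInjective hinj).symm ⟨φ x, ⟨x, rfl⟩⟩ : P) : Ω) = x
      have e : (MonoidHom.ofInjective hinj).symm ⟨φ x, ⟨x, rfl⟩⟩ = x := by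
        rw [MulEquiv.symm_apply_eq]
        rfl
      rw [e]
    have hψ'T : ∀ y : φ.range, ψ' y ∈ preimageAlong ι N := by
      rintro ⟨_, x, rfl⟩
      rw [hψ'v]
      exact hP x.2
    refine ⟨ψ', ⟨hrT, hψ'T, n⁻¹, N.inv_mem hn, ?_⟩, hψ'v⟩
    rintro ⟨_, x, rfl⟩
    have e : (⟨ψ' ⟨φ x, ⟨x, rfl⟩⟩, preimageAlong_le ι N (hψ'T ⟨φ x, ⟨x, rfl⟩⟩)⟩ : S) =
        ⟨x, preimageAlong_le ι N (hP x.2)⟩ := Subtype.ext (hψ'v x)
    rw [e]
    show _ = n⁻¹ * ι ⟨φ x, _⟩ * n⁻¹⁻¹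
    rw [h x]
    group

/-- The restriction of `ι` to the preimage of `N`, with values in `N`. -/
def iotaRes (ι : S →* G) (N : Subgroup G) : ↥(preimageAlong ι N) →* ↥N :=
  (ι.comp (Subgroup.inclusion (preimageAlong_le ι N))).codRestrict N
    (fun x => theta_mem_of_mem_preimageAlong x)

theorem realSys_realizedBy (ι : S →* G) (hι : Function.Injective ι) (N : Subgroup G) :
    (realSys ι hι N).IsRealizedBy (iotaRes ι N) := by
  refine ⟨?_, fun P hP φ hφ => ⟨?_, ?_⟩⟩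
  · intro a b hab
    have h1 : ι ⟨a, preimageAlong_le ι N a.2⟩ = ι ⟨b, preimageAlong_le ι N b.2⟩ :=
      congrArg Subtype.val hab
    have h2 := hι h1
    have h3 : (a : Ω) = (b : Ω) := by
      simpa using congrArg Subtype.val h2
    exact Subtype.ext h3
  · rintro ⟨hP', hφ', n, hn, h⟩
    exact ⟨⟨n, hn⟩, fun x => Subtype.ext (h x)⟩
  · rintro ⟨g, hg⟩
    exact ⟨hP, hφ, g.1, g.2, fun x => congrArg Subtype.val (hg x)⟩

theorem realSys_saturated [Finite G] (p : ℕ) [Fact p.Prime] (ι : S →* G)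
    (hι : Function.Injective ι) (N : Subgroup G) [N.Normal] (T : Sylow p G)
    (hT : (T : Subgroup G) = ι.range) : (realSys ι hι N).IsSaturated p := by
  apply saturated_of_realizedBy p (realSys_realizedBy ι hι N)
  have hcard := card_sylow_inf_normal T N
  have hrange : (iotaRes ι N).range = ((T : Subgroup G) ⊓ N).subgroupOf N := by
    ext y
    rw [Subgroup.mem_subgroupOf]
    constructor
    · rintro ⟨x, rfl⟩
      refine ⟨?_, (iotaRes ι N x).2⟩
      rw [hT]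
      exact ⟨⟨x, preimageAlong_le ι N x.2⟩, rfl⟩
    · rintro ⟨hyT, hyN⟩
      rw [hT] at hyT
      obtain ⟨s, hs⟩ := hyT
      have hsN : ι ⟨(s : Ω), s.2⟩ ∈ N := by
        have e : (⟨(s : Ω), s.2⟩ : S) = s := Subtype.ext rfl
        rw [e, hs]
        exact hyN
      exact ⟨⟨s, mem_preimageAlong.mpr ⟨s.2, hsN⟩⟩, Subtype.ext hs⟩
  have hc : Nat.card ↥(((T : Subgroup G) ⊓ N).subgroupOf N) =
      p ^ (Nat.card N).factorization p := by
    rw [← hcard]
    exact Nat.card_congr (Subgroup.subgroupOfEquivOfLe inf_le_right).toEquiv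
  exact ⟨Sylow.ofCard _ hc, by rw [hrange]; rfl⟩

/-- An automorphism of the realized system is induced by conjugation in `G`. -/
theorem exists_conj_of_autGroup {F : FusionSystem S} {ι : S →* G} (hF : F.IsRealizedBy ι)
    {R : Subgroup Ω} (hR : R ≤ S) {α : MulAut R} (hα : α ∈ F.autGroup R) :
    ∃ g : G, ∀ x : R, ι ⟨α x, hR (α x).2⟩ = g * ι ⟨x, hR x.2⟩ * g⁻¹ :=
  (hF.2 R hR (R.subtype.comp α.toMonoidHom) (fun x => hR (α x).2)).1
    ((Fusion.mem_autGroup_iff F hR).1 hα)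

/-- An element of `G` mapping `ι(R)` into itself induces an automorphism of the realized system. -/
theorem exists_aut_of_conj [Finite S] {F : FusionSystem S} {ι : S →* G} (hF : F.IsRealizedBy ι)
    {R : Subgroup Ω} (hR : R ≤ S) (g : G)
    (h : ∀ x : R, ∃ y : R, ι ⟨y, hR y.2⟩ = g * ι ⟨x, hR x.2⟩ * g⁻¹) :
    ∃ α ∈ F.autGroup R, ∀ x : R, ι ⟨α x, hR (α x).2⟩ = g * ι ⟨x, hR x.2⟩ * g⁻¹ := by
  have hRfin : Finite R := finite_of_le hR
  have h' : ∀ x : R, g * ι ⟨x, hR x.2⟩ * g⁻¹ ∈ ι.range := by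
    intro x
    obtain ⟨y, hy⟩ := h x
    exact ⟨_, hy⟩
  have hψ := pullConj_hom hF hR g h'
  have hval : ∀ x : R, pullConj ι hF.1 hR g h' x ∈ R := by
    intro x
    obtain ⟨y, hy⟩ := h x
    have h1 := pullConj_spec ι hF.1 hR g h' x
    rw [← hy] at h1
    have h2 := hF.1 h1
    have h3 : pullConj ι hF.1 hR g h' x = (y : Ω) := congrArg Subtype.val h2
    rw [h3]
    exact y.2
  have hr : (pullConj ι hF.1 hR g h').range = R := by
    apply Subgroup.eq_of_le_of_card_ge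
    · rintro _ ⟨x, rfl⟩
      exact hval x
    · exact le_of_eq (Nat.card_congr (Equiv.ofInjective _ (F.injective_of_mem hψ)))
  refine ⟨Fusion.equivOfRange _ (F.injective_of_mem hψ) hr,
    (Fusion.mem_autGroup_iff F hR).2 (Fusion.isIso_equivOfRange F hψ hr), fun x => ?_⟩
  exact pullConj_spec ι hF.1 hR g h' x

section Normal

variable [Finite S] [Finite G] (p : ℕ) [Fact p.Prime] {F : FusionSystem S} {ι : S →* G}
  (hF : F.IsRealizedBy ι) (N : Subgroup G) [hN : N.Normal]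

include hF hN in
theorem realSys_subsystem : (realSys ι hF.1 N).IsSubsystemOf F := by
  rintro P φ ⟨hP, hφ, n, hn, h⟩
  exact (hF.2 P (hP.trans (preimageAlong_le ι N)) φ
    (fun x => preimageAlong_le ι N (hφ x))).2 ⟨n, h⟩

include hF hN in
theorem preimage_stronglyClosed : F.StronglyClosed (preimageAlong ι N) := by
  refine ⟨preimageAlong_le ι N, fun R hR φ hφ x => ?_⟩
  have hRS : R ≤ S := hR.trans (preimageAlong_le ι N)
  have hφS : ∀ x : R, φ x ∈ S := fun x => hom_mem F hφ x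
  obtain ⟨g, hg⟩ := (hF.2 R hRS φ hφS).1 hφ
  refine mem_preimageAlong.mpr ⟨hφS x, ?_⟩
  rw [hg x]
  exact hN.conj_mem _ (mem_preimageAlong.mp (hR x.2)).2 g

include hF hN in
theorem realSys_autInv : AutInv (realSys ι hF.1 N) F := by
  intro P hPT φ hφ α hα
  obtain ⟨hP, hφT, n, hn, hφn⟩ := hφ
  have hTS := preimageAlong_le ι N
  obtain ⟨g, hg⟩ := exists_conj_of_autGroup hF hTS hα
  have hQT : imgSub α P ≤ preimageAlong ι N := imgSub_le α P
  have hQS : imgSub α P ≤ S := hQT.trans hTS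
  -- the key computation
  have key : ∀ x : P, g * n * g⁻¹ * ι ⟨((α ⟨x, hP x.2⟩ : preimageAlong ι N) : Ω),
      hTS (α ⟨x, hP x.2⟩).2⟩ * (g * n * g⁻¹)⁻¹ =
      ι ⟨((α ⟨φ x, hφT x⟩ : preimageAlong ι N) : Ω), hTS (α ⟨φ x, hφT x⟩).2⟩ := by
    intro x
    rw [hg ⟨x, hP x.2⟩, hg ⟨φ x, hφT x⟩]
    show _ = g * ι ⟨φ x, _⟩ * g⁻¹
    rw [hφn x]
    group
  have h' : ∀ y : imgSub α P, g * n * g⁻¹ * ι ⟨y, hQS y.2⟩ * (g * n * g⁻¹)⁻¹ ∈ ι.range := by
    rintro ⟨y, hy⟩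
    obtain ⟨t, ht, rfl⟩ := exists_of_mem_imgSub hy
    exact ⟨_, (key ⟨t, ht⟩).symm⟩
  have hχval : ∀ x : P, pullConj ι hF.1 hQS (g * n * g⁻¹) h'
      ⟨((α ⟨x, hP x.2⟩ : preimageAlong ι N) : Ω), mem_imgSub α ⟨x, hP x.2⟩ x.2⟩ =
      ((α ⟨φ x, hφT x⟩ : preimageAlong ι N) : Ω) := by
    intro x
    have h1 := pullConj_spec ι hF.1 hQS (g * n * g⁻¹) h'
      ⟨((α ⟨x, hP x.2⟩ : preimageAlong ι N) : Ω), mem_imgSub α ⟨x, hP x.2⟩ x.2⟩
    have h2 := h1.trans (key x)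
    exact congrArg Subtype.val (hF.1 h2)
  have hχT : ∀ y : imgSub α P, pullConj ι hF.1 hQS (g * n * g⁻¹) h' y ∈ preimageAlong ι N := by
    rintro ⟨y, hy⟩
    obtain ⟨t, ht, rfl⟩ := exists_of_mem_imgSub hy
    have h1 := hχval ⟨t, ht⟩
    have h2 : pullConj ι hF.1 hQS (g * n * g⁻¹) h' ⟨((α t : preimageAlong ι N) : Ω), hy⟩ =
        ((α ⟨φ ⟨t, ht⟩, hφT ⟨t, ht⟩⟩ : preimageAlong ι N) : Ω) := h1
    rw [h2]
    exact (α _).2
  refine ⟨pullConj ι hF.1 hQS (g * n * g⁻¹) h', ⟨hQT, hχT, g * n * g⁻¹, hN.conj_mem n hn g,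
    fun y => pullConj_spec ι hF.1 hQS (g * n * g⁻¹) h' y⟩, fun x hφx hαx => hχval x⟩

include hF in
theorem iota_mem_inf (T : Sylow p G) (hT : (T : Subgroup G) = ι.range)
    (t : preimageAlong ι N) : ι ⟨t, preimageAlong_le ι N t.2⟩ ∈ (T : Subgroup G) ⊓ N := by
  refine ⟨?_, theta_mem_of_mem_preimageAlong t⟩
  rw [hT]
  exact ⟨_, rfl⟩

include hF in
theorem exists_iota_eq_of_mem_inf (T : Sylow p G) (hT : (T : Subgroup G) = ι.range)
    (y : G) (hy : y ∈ (T : Subgroup G) ⊓ N) :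
    ∃ t : preimageAlong ι N, ι ⟨t, preimageAlong_le ι N t.2⟩ = y := by
  obtain ⟨hyT, hyN⟩ := hy
  rw [hT] at hyT
  obtain ⟨s, rfl⟩ := hyT
  exact ⟨⟨s, mem_preimageAlong.mpr ⟨s.2, hyN⟩⟩, rfl⟩

include hF hN in
theorem realSys_frattini (T : Sylow p G) (hT : (T : Subgroup G) = ι.range) (P : Subgroup Ω)
    (hPT : P ≤ preimageAlong ι N) (φ : P →* Ω) (hφ : φ ∈ F.Hom P) :
    ∃ α ∈ F.autGroup (preimageAlong ι N), ∃ φ₀ ∈ (realSys ι hF.1 N).Hom P,
      ∀ (x : P) (hx : φ₀ x ∈ preimageAlong ι N),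
        φ x = ((α ⟨φ₀ x, hx⟩ : preimageAlong ι N) : Ω) := by
  have hTS := preimageAlong_le ι N
  have hPS : P ≤ S := hPT.trans hTS
  have hsc := preimage_stronglyClosed hF N
  have hφS : ∀ x : P, φ x ∈ S := fun x => hom_mem F hφ x
  have hφT : ∀ x : P, φ x ∈ preimageAlong ι N := fun x => hsc.2 P hPT φ hφ x
  obtain ⟨g, hg⟩ := (hF.2 P hPS φ hφS).1 hφ
  have hcard := card_sylow_inf_normal T N
  obtain ⟨m, hmN, h, hhN, rfl⟩ :=
    frattini_decomp (inf_le_right : (T : Subgroup G) ⊓ N ≤ N) hcard g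
  have hmem := iota_mem_inf p hF N T hT
  have hsurj := exists_iota_eq_of_mem_inf p hF N T hT
  have hm_conj : ∀ t : preimageAlong ι N, ∃ y : preimageAlong ι N,
      ι ⟨y, hTS y.2⟩ = m * ι ⟨t, hTS t.2⟩ * m⁻¹ := by
    intro t
    exact hsurj _ ((Subgroup.mem_normalizer_iff.mp hmN _).mp (hmem t))
  obtain ⟨α, hα, hαv⟩ := exists_aut_of_conj hF hTS m hm_conj
  have hh_conj : ∀ x : P, h * ι ⟨x, hPS x.2⟩ * h⁻¹ ∈ (T : Subgroup G) ⊓ N := by
    intro x
    have h1 : m * h * ι ⟨x, hPS x.2⟩ * (m * h)⁻¹ ∈ (T : Subgroup G) ⊓ N := by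
      rw [← hg x]
      exact hmem ⟨φ x, hφT x⟩
    have h2 := (Subgroup.mem_normalizer_iff.mp (Subgroup.inv_mem _ hmN) _).mp h1
    convert h2 using 1
    group
  have h' : ∀ x : P, h * ι ⟨x, hPS x.2⟩ * h⁻¹ ∈ ι.range := by
    intro x
    have h1 := (hh_conj x).1
    rw [hT] at h1
    exact h1
  have hφ₀T : ∀ x : P, pullConj ι hF.1 hPS h h' x ∈ preimageAlong ι N := by
    intro x
    refine mem_preimageAlong.mpr ⟨pullConj_mem ι hF.1 hPS h h' x, ?_⟩
    rw [pullConj_spec]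
    exact (hh_conj x).2
  refine ⟨α, hα, pullConj ι hF.1 hPS h h', ⟨hPT, hφ₀T, h, hhN,
    fun x => pullConj_spec ι hF.1 hPS h h' x⟩, fun x hx => ?_⟩
  have e1 := hαv ⟨pullConj ι hF.1 hPS h h' x, hx⟩
  have e2 := pullConj_spec ι hF.1 hPS h h' x
  have e3 : ι ⟨φ x, hφS x⟩ = ι ⟨((α ⟨pullConj ι hF.1 hPS h h' x, hx⟩ : preimageAlong ι N) : Ω),
      hTS (α ⟨pullConj ι hF.1 hPS h h' x, hx⟩).2⟩ := by
    rw [e1]
    show _ = m * ι ⟨pullConj ι hF.1 hPS h h' x, _⟩ * m⁻¹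
    rw [e2, hg x]
    group
  exact congrArg Subtype.val (hF.1 e3)

include hF in
theorem iota_mem_centralizerIn (T : Sylow p G) (hT : (T : Subgroup G) = ι.range)
    (c : Ω) (hc : c ∈ centralizerIn S (preimageAlong ι N)) :
    ι ⟨c, hc.1⟩ ∈ centralizerIn (T : Subgroup G) ((T : Subgroup G) ⊓ N) := by
  refine ⟨?_, ?_⟩
  · rw [hT]
    exact ⟨_, rfl⟩
  · apply Subgroup.mem_centralizer_iff.mpr
    intro y hy
    obtain ⟨t, rfl⟩ := exists_iota_eq_of_mem_inf p hF N T hT y hy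
    rw [← map_mul, ← map_mul]
    congr 1
    exact Subtype.ext ((Subgroup.mem_centralizer_iff.mp hc.2) t t.2)

include hF hN in
theorem realSys_extension (T : Sylow p G) (hT : (T : Subgroup G) = ι.range) :
    ∀ α ∈ (realSys ι hF.1 N).autGroup (preimageAlong ι N),
      ∃ β ∈ F.autGroup (preimageAlong ι N ⊔ centralizerIn S (preimageAlong ι N)),
        (∀ x : preimageAlong ι N, ((β (Subgroup.inclusion le_sup_left x) :
          ↥(preimageAlong ι N ⊔ centralizerIn S (preimageAlong ι N))) : Ω) =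
            ((α x : preimageAlong ι N) : Ω)) ∧
        ∀ c : ↥(preimageAlong ι N ⊔ centralizerIn S (preimageAlong ι N)),
          (c : Ω) ∈ centralizerIn S (preimageAlong ι N) →
          (c : Ω)⁻¹ * ((β c : ↥(preimageAlong ι N ⊔ centralizerIn S (preimageAlong ι N))) : Ω) ∈
            preimageAlong ι N ⊓ Subgroup.centralizer (preimageAlong ι N : Set Ω) := by
  intro α hα
  have hTS := preimageAlong_le ι N
  obtain ⟨hP₀, hα₀, h, hhN, hh⟩ := (Fusion.mem_autGroup_iff (realSys ι hF.1 N) le_rfl).1 hα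
  have hh' : ∀ x : preimageAlong ι N, ι ⟨((α x : preimageAlong ι N) : Ω), hTS (α x).2⟩ =
      h * ι ⟨x, hTS x.2⟩ * h⁻¹ := hh
  have hmem := iota_mem_inf p hF N T hT
  have hsurj := exists_iota_eq_of_mem_inf p hF N T hT
  have hhNorm : h ∈ Subgroup.normalizer ((((T : Subgroup G) ⊓ N : Subgroup G)) : Set G) := by
    apply mem_normalizer_of_cj_eq
    apply Subgroup.eq_of_le_of_card_ge
    · rintro _ ⟨y, hy, rfl⟩
      obtain ⟨t, rfl⟩ := hsurj y hy
      show h * ι ⟨t, _⟩ * h⁻¹ ∈ (T : Subgroup G) ⊓ N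
      rw [← hh' t]
      exact hmem (α t)
    · rw [card_cj]
  have hα' : ((T : Subgroup G) ⊓ N).normalizerMonoidHom ⟨h, hhNorm⟩ ∈
      (fusionSystemOfSubgroup N ((T : Subgroup G) ⊓ N) inf_le_right).autGroup
        ((T : Subgroup G) ⊓ N) := by
    rw [subgroupFS_autGroup le_rfl, mem_autInducedBy_iff]
    exact ⟨h, hhN, hhNorm, fun x => rfl⟩
  obtain ⟨β', hβ', hβ'ext, hβ'c⟩ := (Cfsg.Agent.S5118.result p T N).2 _ hα'
  have hD : (T : Subgroup G) ⊓ N ⊔ centralizerIn (T : Subgroup G) ((T : Subgroup G) ⊓ N) ≤ T :=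
    sup_le inf_le_left inf_le_left
  rw [groupFS_autGroup hD, mem_autInducedBy_iff] at hβ'
  obtain ⟨g, -, hgN, hg⟩ := hβ'
  have hRS : preimageAlong ι N ⊔ centralizerIn S (preimageAlong ι N) ≤ S :=
    sup_le hTS inf_le_left
  have hιR : ∀ y : ↥(preimageAlong ι N ⊔ centralizerIn S (preimageAlong ι N)),
      ι ⟨y, hRS y.2⟩ ∈
        (T : Subgroup G) ⊓ N ⊔ centralizerIn (T : Subgroup G) ((T : Subgroup G) ⊓ N) := by
    intro y
    have hle : preimageAlong ι N ⊔ centralizerIn S (preimageAlong ι N) ≤ preimageAlong ι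
        ((T : Subgroup G) ⊓ N ⊔ centralizerIn (T : Subgroup G) ((T : Subgroup G) ⊓ N)) := by
      apply sup_le
      · intro t ht
        exact mem_preimageAlong.mpr ⟨hTS ht, Subgroup.mem_sup_left (hmem ⟨t, ht⟩)⟩
      · intro c hc
        exact mem_preimageAlong.mpr ⟨hc.1,
          Subgroup.mem_sup_right (iota_mem_centralizerIn p hF N T hT c hc)⟩
    exact (mem_preimageAlong.mp (hle y.2)).2
  have hιsurj : ∀ z ∈ (T : Subgroup G) ⊓ N ⊔
      centralizerIn (T : Subgroup G) ((T : Subgroup G) ⊓ N),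
      ∃ y : ↥(preimageAlong ι N ⊔ centralizerIn S (preimageAlong ι N)), ι ⟨y, hRS y.2⟩ = z := by
    intro z hz
    have hle : (T : Subgroup G) ⊓ N ⊔ centralizerIn (T : Subgroup G) ((T : Subgroup G) ⊓ N) ≤
        ((preimageAlong ι N ⊔ centralizerIn S (preimageAlong ι N)).subgroupOf S).map ι := by
      apply sup_le
      · intro y hy
        obtain ⟨t, rfl⟩ := hsurj y hy
        exact ⟨⟨t, hTS t.2⟩, Subgroup.mem_subgroupOf.mpr (Subgroup.mem_sup_left t.2), rfl⟩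
      · rintro y ⟨hyT, hyC⟩
        rw [hT] at hyT
        obtain ⟨s, rfl⟩ := hyT
        refine ⟨s, Subgroup.mem_subgroupOf.mpr (Subgroup.mem_sup_right ⟨s.2, ?_⟩), rfl⟩
        apply Subgroup.mem_centralizer_iff.mpr
        intro t ht
        have h1 := (Subgroup.mem_centralizer_iff.mp hyC) _ (hmem ⟨t, ht⟩)
        rw [← map_mul, ← map_mul] at h1
        exact congrArg Subtype.val (hF.1 h1)
    obtain ⟨s, hs, rfl⟩ := hle hz
    exact ⟨⟨s, Subgroup.mem_subgroupOf.mp hs⟩, rfl⟩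
  have hg_conj : ∀ y : ↥(preimageAlong ι N ⊔ centralizerIn S (preimageAlong ι N)),
      ∃ y' : ↥(preimageAlong ι N ⊔ centralizerIn S (preimageAlong ι N)),
        ι ⟨y', hRS y'.2⟩ = g * ι ⟨y, hRS y.2⟩ * g⁻¹ := by
    intro y
    exact hιsurj _ ((Subgroup.mem_normalizer_iff.mp hgN _).mp (hιR y))
  obtain ⟨β, hβ, hβv⟩ := exists_aut_of_conj hF hRS g hg_conj
  refine ⟨β, hβ, fun x => ?_, fun c hc => ?_⟩
  · have e1 := hβv (Subgroup.inclusion le_sup_left x)
    have e2 := hβ'ext ⟨ι ⟨x, hTS x.2⟩, hmem x⟩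
    have e3 := hg (Subgroup.inclusion le_sup_left ⟨ι ⟨x, hTS x.2⟩, hmem x⟩)
    have e4 := hh' x
    have e5 : ι ⟨((β (Subgroup.inclusion le_sup_left x) :
        ↥(preimageAlong ι N ⊔ centralizerIn S (preimageAlong ι N))) : Ω), hRS (β _).2⟩ =
        ι ⟨((α x : preimageAlong ι N) : Ω), hTS (α x).2⟩ := by
      rw [e1]
      exact (e3.symm.trans e2).trans e4.symm
    exact congrArg Subtype.val (hF.1 e5)
  · have hιc := iota_mem_centralizerIn p hF N T hT c hc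
    have e1 := hβ'c ⟨ι ⟨c, hRS c.2⟩, hιR c⟩ hιc
    have e3 := hg ⟨ι ⟨c, hRS c.2⟩, hιR c⟩
    have e4 := hβv c
    have e5 : ι (⟨c, hRS c.2⟩⁻¹ * ⟨β c, hRS (β c).2⟩) ∈
        ((T : Subgroup G) ⊓ N) ⊓ Subgroup.centralizer ((((T : Subgroup G) ⊓ N : Subgroup G)) : Set G) := by
      rw [map_mul, map_inv, e4]
      have e6 : g * ι ⟨c, hRS c.2⟩ * g⁻¹ = ((β' ⟨ι ⟨c, hRS c.2⟩, hιR c⟩ :
          ↥((T : Subgroup G) ⊓ N ⊔ centralizerIn (T : Subgroup G) ((T : Subgroup G) ⊓ N))) : G) :=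
        e3.symm
      rw [e6]
      exact e1
    refine ⟨mem_preimageAlong.mpr ⟨S.mul_mem (S.inv_mem (hRS c.2)) (hRS (β c).2), e5.1.2⟩, ?_⟩
    apply Subgroup.mem_centralizer_iff.mpr
    intro t ht
    have h1 := (Subgroup.mem_centralizer_iff.mp e5.2) _ (hmem ⟨t, ht⟩)
    rw [← map_mul, ← map_mul] at h1
    exact congrArg Subtype.val (hF.1 h1)

include hF hN in
/-- The subsystem realized by a normal subgroup is a normal subsystem. -/
theorem realSys_isNormalIn (hFs : F.IsSaturated p) (T : Sylow p G)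
    (hT : (T : Subgroup G) = ι.range) : (realSys ι hF.1 N).IsNormalIn F p :=
  ⟨⟨realSys_saturated p ι hF.1 N T hT, hFs, realSys_subsystem hF N,
    preimage_stronglyClosed hF N, realSys_autInv hF N, realSys_frattini p hF N T hT⟩,
    realSys_extension p hF N T hT⟩

end Normal

/-- The quotient by the largest normal subgroup of order prime to `p` realizes the same system. -/
theorem realizedBy_quotient [Finite G] (p : ℕ) [Fact p.Prime] {F : FusionSystem S} {ι : S →* G}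
    (hF : F.IsRealizedBy ι) [hK : (pPrimeCore p G).Normal] (T : Sylow p G)
    (hT : (T : Subgroup G) = ι.range) :
    F.IsRealizedBy ((QuotientGroup.mk' (pPrimeCore p G)).comp ι) ∧
      ∃ T' : Sylow p (G ⧸ pPrimeCore p G),
        (T' : Subgroup (G ⧸ pPrimeCore p G)) = ((QuotientGroup.mk' (pPrimeCore p G)).comp ι).range := by
  have hcop := Cfsg.Agent.Lib.Helper1.pPrimeCore_coprime (G := G) p
  obtain ⟨k, hk⟩ := IsPGroup.exists_card_eq T.2
  have hKT : pPrimeCore p G ⊓ (T : Subgroup G) = ⊥ := by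
    apply Subgroup.inf_eq_bot_of_coprime
    rw [hk]
    exact Nat.Coprime.pow_right k hcop
  have key : ∀ a b : G, a ∈ (T : Subgroup G) → b ∈ (T : Subgroup G) →
      (QuotientGroup.mk a : G ⧸ pPrimeCore p G) = QuotientGroup.mk b → a = b := by
    intro a b ha hb hab
    have h1 : a⁻¹ * b ∈ pPrimeCore p G := QuotientGroup.eq.mp hab
    have h2 : a⁻¹ * b ∈ pPrimeCore p G ⊓ (T : Subgroup G) :=
      ⟨h1, Subgroup.mul_mem _ (Subgroup.inv_mem _ ha) hb⟩
    rw [hKT, Subgroup.mem_bot] at h2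
    exact inv_mul_eq_one.mp h2
  have hιT : ∀ s : S, ι s ∈ (T : Subgroup G) := by
    intro s
    rw [hT]
    exact ⟨s, rfl⟩
  refine ⟨⟨?_, fun P hP φ hφ => ⟨?_, ?_⟩⟩, ?_⟩
  · intro a b hab
    exact hF.1 (key _ _ (hιT a) (hιT b) hab)
  · intro h
    obtain ⟨g, hg⟩ := (hF.2 P hP φ hφ).1 h
    refine ⟨QuotientGroup.mk g, fun x => ?_⟩
    show (QuotientGroup.mk (ι ⟨φ x, hφ x⟩) : G ⧸ pPrimeCore p G) =
      QuotientGroup.mk g * QuotientGroup.mk (ι ⟨x, hP x.2⟩) * (QuotientGroup.mk g)⁻¹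
    rw [hg x]
    rfl
  · rintro ⟨γ, hγ⟩
    have hγ' : ∀ x : P, (QuotientGroup.mk (ι ⟨φ x, hφ x⟩) : G ⧸ pPrimeCore p G) =
        γ * QuotientGroup.mk (ι ⟨x, hP x.2⟩) * γ⁻¹ := hγ
    have hP₁ : (P.subgroupOf S).map ι ≤ (T : Subgroup G) := by
      rintro _ ⟨s, -, rfl⟩
      exact hιT s
    obtain ⟨g, hg⟩ := Cfsg.Agent.S5191.result T ((P.subgroupOf S).map ι) hP₁ γ (by
      rintro _ ⟨s, hs, rfl⟩
      have hsP : (s : Ω) ∈ P := Subgroup.mem_subgroupOf.mp hs
      have h1 := hγ' ⟨s, hsP⟩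
      have h2 : (QuotientGroup.mk (ι s) : G ⧸ pPrimeCore p G) =
          QuotientGroup.mk (ι ⟨(⟨s, hsP⟩ : P), hP hsP⟩) := rfl
      rw [h2, ← h1]
      exact ⟨_, hιT _, rfl⟩)
    refine (hF.2 P hP φ hφ).2 ⟨g, fun x => ?_⟩
    have hmem : ι ⟨x, hP x.2⟩ ∈ (P.subgroupOf S).map ι :=
      ⟨⟨x, hP x.2⟩, Subgroup.mem_subgroupOf.mpr x.2, rfl⟩
    obtain ⟨h1, h2⟩ := hg _ hmem
    exact key _ _ (hιT _) h1 ((hγ' x).trans h2.symm)
  · refine ⟨T.mapSurjective (QuotientGroup.mk'_surjective (pPrimeCore p G)), ?_⟩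
    rw [Sylow.coe_mapSurjective, MonoidHom.range_comp, hT]

/-- If the subsystem realized by `N` over `ι⁻¹(N)` is the whole system, then `N` realizes the
system. -/
theorem realizedBy_subgroup [Finite G] (p : ℕ) [Fact p.Prime] {F : FusionSystem S} {ι : S →* G}
    (hF : F.IsRealizedBy ι) (N : Subgroup G) (T : Sylow p G) (hT : (T : Subgroup G) = ι.range)
    (htop : preimageAlong ι N = S)
    (hE : ∀ P : Subgroup Ω, (realSys ι hF.1 N).Hom P = F.Hom P) :
    ∃ ι' : S →* ↥N, F.IsRealizedBy ι' ∧ ∃ T' : Sylow p ↥N, (T' : Subgroup ↥N) = ι'.range := by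
  have hιN : ∀ s : S, ι s ∈ N := by
    intro s
    have h1 : (s : Ω) ∈ preimageAlong ι N := by
      rw [htop]
      exact s.2
    exact (mem_preimageAlong.mp h1).2
  have hTN : (T : Subgroup G) ≤ N := by
    rw [hT]
    rintro _ ⟨s, rfl⟩
    exact hιN s
  refine ⟨ι.codRestrict N hιN, ⟨?_, fun P hP φ hφ => ⟨?_, ?_⟩⟩, T.subtype hTN, ?_⟩
  · intro a b hab
    exact hF.1 (congrArg Subtype.val hab)
  · intro h
    rw [← hE P] at h
    obtain ⟨hP', hφ', n, hn, hh⟩ := h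
    exact ⟨⟨n, hn⟩, fun x => Subtype.ext (hh x)⟩
  · rintro ⟨g, hg⟩
    exact (hF.2 P hP φ hφ).2 ⟨g.1, fun x => congrArg Subtype.val (hg x)⟩
  · rw [Sylow.coe_subtype]
    ext y
    rw [Subgroup.mem_subgroupOf, hT]
    constructor
    · rintro ⟨s, hs⟩
      exact ⟨s, Subtype.ext hs⟩
    · rintro ⟨s, rfl⟩
      exact ⟨s, rfl⟩

universe u

/-- A simple system realized by a finite group is realized by a finite simple group: induction
on the order of the realizing group. -/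
theorem exists_simple_realization {Ω : Type u} [Group Ω] {S : Subgroup Ω} [Finite S] (p : ℕ)
    [Fact p.Prime] (F : FusionSystem S) (hsimple : F.IsSimple p) :
    ∀ n : ℕ, ∀ (G : Type u) [Group G] [Finite G] (ι : S →* G), Nat.card G = n →
      F.IsRealizedBy ι → (∃ T : Sylow p G, (T : Subgroup G) = ι.range) →
      ∃ (G' : Type u) (_ : Group G') (_ : Finite G') (_ : IsSimpleGroup G') (ι' : S →* G'),
        F.IsRealizedBy ι' ∧ ∃ T : Sylow p G', (T : Subgroup G') = ι'.range := by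
  intro n
  induction n using Nat.strong_induction_on with
  | _ n ih =>
  intro G _ _ ι hn hF hsyl
  obtain ⟨T, hT⟩ := hsyl
  by_cases hs : IsSimpleGroup G
  · exact ⟨G, inferInstance, inferInstance, hs, ι, hF, T, hT⟩
  · have hnt : Nontrivial G := by
      obtain ⟨s, hs1, hs2⟩ : ∃ s ∈ S, s ≠ 1 := by
        by_contra hcon
        push Not at hcon
        exact hsimple.2.1 ((Subgroup.eq_bot_iff_forall S).2 hcon)
      refine ⟨⟨ι ⟨s, hs1⟩, 1, fun h => hs2 ?_⟩⟩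
      have h1 := hF.1 (h.trans (map_one ι).symm)
      exact congrArg Subtype.val h1
    obtain ⟨N, hNn, hN1, hN2⟩ : ∃ N : Subgroup G, N.Normal ∧ N ≠ ⊥ ∧ N ≠ ⊤ := by
      by_contra hcon
      push Not at hcon
      exact hs { toNontrivial := hnt
                 eq_bot_or_eq_top_of_normal := fun H hH => by
                   by_cases h : H = ⊥
                   · exact Or.inl h
                   · exact Or.inr (hcon H hH h) }
    have hnormal := realSys_isNormalIn p hF N hsimple.1 T hT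
    rcases hsimple.2.2 _ _ hnormal with hbot | ⟨htop, hE⟩
    · -- `N` is a `p'`-group
      have hTN : (T : Subgroup G) ⊓ N = ⊥ := by
        rw [Subgroup.eq_bot_iff_forall]
        intro y hy
        obtain ⟨t, rfl⟩ := exists_iota_eq_of_mem_inf p hF N T hT y hy
        have h1 : (t : Ω) ∈ (⊥ : Subgroup Ω) := by
          rw [← hbot]
          exact t.2
        rw [Subgroup.mem_bot] at h1
        have h2 : (⟨(t : Ω), preimageAlong_le ι N t.2⟩ : S) = 1 := Subtype.ext h1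
        rw [h2, map_one]
      have hcard := card_sylow_inf_normal T N
      rw [hTN, Subgroup.card_bot] at hcard
      have hp : p.Prime := Fact.out
      have hfac : (Nat.card N).factorization p = 0 := by
        rcases Nat.pow_eq_one.mp hcard.symm with h | h
        · exact absurd h hp.one_lt.ne'
        · exact h
      have hcop : (Nat.card N).Coprime p := by
        rcases (Nat.factorization_eq_zero_iff _ _).mp hfac with h | h | h
        · exact absurd hp h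
        · exact ((Nat.Prime.coprime_iff_not_dvd hp).2 h).symm
        · exact absurd h Nat.card_pos.ne'
      have hNK : N ≤ pPrimeCore p G := Cfsg.Agent.Lib.Helper1.le_pPrimeCore p hNn hcop
      have hK1 : pPrimeCore p G ≠ ⊥ := fun h => hN1 (le_bot_iff.mp (h ▸ hNK))
      have hKn : (pPrimeCore p G).Normal := Cfsg.Agent.Lib.Helper1.pPrimeCore_normal p
      obtain ⟨hF', hsyl'⟩ := realizedBy_quotient p hF T hT
      have hmul := Subgroup.card_eq_card_quotient_mul_card_subgroup (pPrimeCore p G)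
      have hK2 : 1 < Nat.card (pPrimeCore p G) := (pPrimeCore p G).one_lt_card_iff_ne_bot.mpr hK1
      have hq : 0 < Nat.card (G ⧸ pPrimeCore p G) := Nat.card_pos
      have hlt : Nat.card (G ⧸ pPrimeCore p G) < n := by
        rw [← hn, hmul]
        exact lt_mul_of_one_lt_right hq hK2
      exact ih _ hlt (G ⧸ pPrimeCore p G) _ rfl hF' hsyl'
    · obtain ⟨ι', hF', hsyl'⟩ := realizedBy_subgroup p hF N T hT htop hE
      have h1 : Nat.card N < Nat.card (⊤ : Subgroup G) :=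
        card_lt_of_lt' (lt_top_iff_ne_top.mpr hN2)
      rw [Subgroup.card_top] at h1
      have hlt : Nat.card N < n := by
        rw [← hn]
        exact h1
      exact ih _ hlt ↥N ι' rfl hF' hsyl'

end Cfsg.Agent.Lib.Helper27
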