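import Mathlib
import Cfsg.Agent.Lib.Helper27.AbIndexPF

set_option autoImplicit false

namespace Cfsg.Agent.Lib.Helper27

section AbFD

variable {X : Type*} [Group X]

/-- The `D`-part of the abstract transvection argument (all primes). -/
theorem abf_D {p : ℕ} [Fact p.Prime] (hc : ∀ a b : X, a * b = b * a)
    (Zs : Subgroup X) (hgen : ∀ y : X, y ∉ Zs → ∀ w : X, ∃ i : ℕ, w * (y ^ i)⁻¹ ∈ Zs)
    (e₁ : X) (he₁Z : e₁ ∈ Zs) (he₁p : e₁ ^ p = 1)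
    (τ : MulAut X) (hτ1 : ∀ z ∈ Zs, τ z = z) (hτ2 : ∀ y : X, ∃ i : ℕ, τ y = y * e₁ ^ i)
    (hτ3 : ∀ y : X, τ y = y → y ∈ Zs)
    (G : Subgroup (MulAut X)) (hτG : τ ∈ G) (g : MulAut X) (hgG : g ∈ G) (hg : g e₁ ∉ Zs)
    (hPW : ∀ k ∈ G, k e₁ ∈ Zs → ∀ z : X, k z ∈ Zs ↔ z ∈ Zs) :
    ∃ D : Subgroup X, D ≤ Zs ∧ (∀ k ∈ G, ∀ d ∈ D, k d ∈ D) ∧
      (∀ z ∈ Zs, ∃ i : ℕ, z * (e₁ ^ i)⁻¹ ∈ D) ∧ e₁ ∉ D ∧
      (∀ d : X, d ∈ D ↔ d ∈ Zs ∧ g⁻¹ d ∈ Zs) := by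
  have hp : p.Prime := Fact.out
  have hg' : g⁻¹ e₁ ∉ Zs := by
    intro h
    have h1 := hPW g⁻¹ (G.inv_mem hgG) h
    have h2 := (h1 (g e₁)).mp (by rw [MulAut.inv_apply_self]; exact he₁Z)
    exact hg h2
  obtain ⟨e₂, he₂⟩ : ∃ e₂ : X, e₂ = g e₁ := ⟨_, rfl⟩
  have he₂Z : e₂ ∉ Zs := by rw [he₂]; exact hg
  have he₂p : e₂ ^ p = 1 := by rw [he₂, ← map_pow, he₁p, map_one]
  obtain ⟨τ', hτ'⟩ : ∃ τ' : MulAut X, τ' = g * τ * g⁻¹ := ⟨_, rfl⟩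
  have hτ'G : τ' ∈ G := by
    rw [hτ']
    exact G.mul_mem (G.mul_mem hgG hτG) (G.inv_mem hgG)
  have hτ'app : ∀ y : X, τ' y = g (τ (g⁻¹ y)) := by
    intro y
    rw [hτ']
    rfl
  have hτ'e₂ : τ' e₂ = e₂ := by
    rw [hτ'app, he₂, MulAut.inv_apply_self, hτ1 e₁ he₁Z]
  have hτ'D : ∀ d : X, g⁻¹ d ∈ Zs → τ' d = d := by
    intro d hd
    rw [hτ'app, hτ1 _ hd, MulAut.apply_inv_self]
  obtain ⟨c', hc'⟩ := hτ2 (g⁻¹ e₁)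
  have hτ'e₁ : τ' e₁ = e₁ * e₂ ^ c' := by
    rw [hτ'app, hc', map_mul, MulAut.apply_inv_self, map_pow, he₂]
  have hc'p : ¬ p ∣ c' := by
    intro hdvd
    apply hg'
    apply hτ3
    rw [hc']
    obtain ⟨m, rfl⟩ := hdvd
    rw [pow_mul, he₁p, one_pow, mul_one]
  obtain ⟨c, hcc⟩ := hτ2 e₂
  have hcp : ¬ p ∣ c := by
    intro hdvd
    apply he₂Z
    apply hτ3
    rw [hcc]
    obtain ⟨m, rfl⟩ := hdvd
    rw [pow_mul, he₁p, one_pow, mul_one]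
  obtain ⟨b₁, hb₁⟩ := abf_normalize τ e₂ e₁ c hcc (hτ1 e₁ he₁Z) he₁p hcp
  obtain ⟨b₂, hb₂⟩ := abf_normalize τ' e₁ e₂ c' hτ'e₁ hτ'e₂ he₂p hc'p
  obtain ⟨τ₁, hτ₁⟩ : ∃ τ₁ : MulAut X, τ₁ = τ ^ b₁ := ⟨_, rfl⟩
  obtain ⟨τ₂, hτ₂⟩ : ∃ τ₂ : MulAut X, τ₂ = τ' ^ b₂ := ⟨_, rfl⟩
  rw [← hτ₁] at hb₁
  rw [← hτ₂] at hb₂
  have hτ₁G : τ₁ ∈ G := by rw [hτ₁]; exact G.pow_mem hτG b₁
  have hτ₂G : τ₂ ∈ G := by rw [hτ₂]; exact G.pow_mem hτ'G b₂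
  have hτ₁Z : ∀ z ∈ Zs, τ₁ z = z := by
    intro z hz
    rw [hτ₁]
    exact abf_pow_fix τ z (hτ1 z hz) b₁
  have hτ₂D : ∀ d : X, g⁻¹ d ∈ Zs → τ₂ d = d := by
    intro d hd
    rw [hτ₂]
    exact abf_pow_fix τ' d (hτ'D d hd) b₂
  have hτ₂e₂ : τ₂ e₂ = e₂ := by
    rw [hτ₂]
    exact abf_pow_fix τ' e₂ hτ'e₂ b₂
  have hτ₂pow : ∀ i : ℕ, (τ₂ ^ i) e₁ = e₁ * e₂ ^ i := by
    intro i
    have h1 := abf_pow_transv τ₂ e₁ e₂ 1 (by rw [pow_one]; exact hb₂) hτ₂e₂ i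
    rwa [one_mul] at h1
  have hL1 : ∀ k ∈ G, ∀ d : X, d ∈ Zs → g⁻¹ d ∈ Zs → k d ∈ Zs := by
    intro k hk d hd hgd
    by_cases hke : k e₂ ∈ Zs
    · have h1 := hPW (k * g) (G.mul_mem hk hgG) (by
        show k (g e₁) ∈ Zs
        rw [← he₂]
        exact hke)
      have h2 := (h1 (g⁻¹ d)).mpr hgd
      have e : (k * g) (g⁻¹ d) = k d := by
        show k (g (g⁻¹ d)) = k d
        rw [MulAut.apply_inv_self]
      rwa [e] at h2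
    · obtain ⟨i, hi⟩ := hgen (k e₂) hke (k e₁)⁻¹
      have h3 : k (e₁ * e₂ ^ i) ∈ Zs := by
        have h4 := Zs.inv_mem hi
        have e : ((k e₁)⁻¹ * ((k e₂) ^ i)⁻¹)⁻¹ = k (e₁ * e₂ ^ i) := by
          rw [map_mul, map_pow, mul_inv_rev, inv_inv, inv_inv]
          exact hc _ _
        rwa [e] at h4
      have h1 := hPW (k * τ₂ ^ i) (G.mul_mem hk (G.pow_mem hτ₂G i)) (by
        show k ((τ₂ ^ i) e₁) ∈ Zs
        rw [hτ₂pow]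
        exact h3)
      have h2 := (h1 d).mpr hd
      have e : (k * τ₂ ^ i) d = k d := by
        show k ((τ₂ ^ i) d) = k d
        rw [abf_pow_fix τ₂ d (hτ₂D d hgd) i]
      rwa [e] at h2
  obtain ⟨D, hD⟩ : ∃ D : Subgroup X, ∀ d : X, d ∈ D ↔ d ∈ Zs ∧ g⁻¹ d ∈ Zs :=
    ⟨Zs ⊓ Zs.comap (g⁻¹ : MulAut X).toMonoidHom, fun d => by
      rw [Subgroup.mem_inf, Subgroup.mem_comap]
      rfl⟩
  refine ⟨D, fun d hd => ((hD d).mp hd).1, ?_, ?_, fun h => hg' ((hD e₁).mp h).2, hD⟩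
  · intro k hk d hd
    obtain ⟨h1, h2⟩ := (hD d).mp hd
    rw [hD]
    refine ⟨hL1 k hk d h1 h2, ?_⟩
    exact hL1 (g⁻¹ * k) (G.mul_mem (G.inv_mem hgG) hk) d h1 h2
  · intro z hz
    obtain ⟨i, hi⟩ := hgen (g⁻¹ e₁) hg' (g⁻¹ z)
    refine ⟨i, ?_⟩
    rw [hD]
    refine ⟨Zs.mul_mem hz (Zs.inv_mem (Zs.pow_mem he₁Z i)), ?_⟩
    rw [map_mul, map_inv, map_pow]
    exact hi

theorem abf_sq_pow (e : X) (he : e ^ 2 = 1) (i : ℕ) : e ^ i = 1 ∨ e ^ i = e := by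
  rcases Nat.even_or_odd' i with ⟨m, rfl | rfl⟩
  · left
    rw [pow_mul, he, one_pow]
  · right
    rw [pow_succ, pow_mul, he, one_pow, one_mul]

/-- The `V`-part for `p = 2`: the orbit of `e₁` is contained in `{e₁, e₂, e₁e₂}`. -/
theorem abf_V (hc : ∀ a b : X, a * b = b * a)
    (Zs : Subgroup X) (hgen : ∀ y : X, y ∉ Zs → ∀ w : X, ∃ i : ℕ, w * (y ^ i)⁻¹ ∈ Zs)
    (e₁ : X) (he₁Z : e₁ ∈ Zs) (he₁p : e₁ ^ 2 = 1)
    (τ : MulAut X) (hτ1 : ∀ z ∈ Zs, τ z = z) (hτ2 : ∀ y : X, ∃ i : ℕ, τ y = y * e₁ ^ i)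
    (hτ3 : ∀ y : X, τ y = y → y ∈ Zs)
    (G : Subgroup (MulAut X)) (hτG : τ ∈ G) (g : MulAut X) (hgG : g ∈ G) (hg : g e₁ ∉ Zs)
    (hPW' : ∀ k ∈ G, k e₁ ∈ Zs → k e₁ = e₁) :
    ∀ k ∈ G, k e₁ = e₁ ∨ k e₁ = g e₁ ∨ k e₁ = e₁ * g e₁ := by
  obtain ⟨e₂, he₂⟩ : ∃ e₂ : X, e₂ = g e₁ := ⟨_, rfl⟩
  rw [← he₂] at hg ⊢
  have he₂p : e₂ ^ 2 = 1 := by rw [he₂, ← map_pow, he₁p, map_one]
  have he₂sq : e₂ * e₂ = 1 := by rw [← pow_two]; exact he₂p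
  obtain ⟨τ', hτ'⟩ : ∃ τ' : MulAut X, τ' = g * τ * g⁻¹ := ⟨_, rfl⟩
  have hτ'G : τ' ∈ G := by
    rw [hτ']
    exact G.mul_mem (G.mul_mem hgG hτG) (G.inv_mem hgG)
  have hτ'app : ∀ y : X, τ' y = g (τ (g⁻¹ y)) := by
    intro y
    rw [hτ']
    rfl
  have hF1 : τ e₂ = e₂ * e₁ := by
    obtain ⟨i, hi⟩ := hτ2 e₂
    rcases abf_sq_pow e₁ he₁p i with h | h
    · exfalso
      apply hg
      apply hτ3
      rw [hi, h, mul_one]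
    · rw [hi, h]
  have hF2 : τ' e₂ = e₂ := by
    rw [hτ'app, he₂, MulAut.inv_apply_self, hτ1 e₁ he₁Z]
  have hF3 : ∀ w : X, τ' w = w ∨ τ' w = w * e₂ := by
    intro w
    obtain ⟨i, hi⟩ := hτ2 (g⁻¹ w)
    rcases abf_sq_pow e₁ he₁p i with h | h
    · left
      rw [hτ'app, hi, h, mul_one, MulAut.apply_inv_self]
    · right
      rw [hτ'app, hi, h, map_mul, MulAut.apply_inv_self, he₂]
  have hF4 : τ' e₁ = e₁ * e₂ := by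
    rcases hF3 e₁ with h | h
    · exfalso
      rw [hτ'app] at h
      have h1 : τ (g⁻¹ e₁) = g⁻¹ e₁ := by
        apply g.injective
        rw [h, MulAut.apply_inv_self]
      have h2 : g⁻¹ e₁ ∈ Zs := hτ3 _ h1
      have h3 := hPW' g⁻¹ (G.inv_mem hgG) h2
      apply hg
      rw [he₂]
      have h4 : g (g⁻¹ e₁) = g e₁ := by rw [h3]
      rw [MulAut.apply_inv_self] at h4
      rw [← h4]
      exact he₁Z
    · exact h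
  intro k hk
  by_cases hy : k e₁ ∈ Zs
  · left
    exact hPW' k hk hy
  · right
    obtain ⟨y, hyd⟩ : ∃ y : X, y = k e₁ := ⟨_, rfl⟩
    rw [← hyd] at hy ⊢
    have hyp : y ^ 2 = 1 := by rw [hyd, ← map_pow, he₁p, map_one]
    have hysq : y * y = 1 := by rw [← pow_two]; exact hyp
    obtain ⟨z, hz⟩ : ∃ z : X, z = y * e₂ := ⟨_, rfl⟩
    have hzZ : z ∈ Zs := by
      obtain ⟨i, hi⟩ := hgen y hy e₂
      rcases abf_sq_pow y hyp i with h | h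
      · exfalso
        rw [h, inv_one, mul_one] at hi
        exact hg hi
      · rw [h] at hi
        have h1 : z = (e₂ * y⁻¹)⁻¹ := by
          rw [hz, mul_inv_rev, inv_inv, inv_eq_of_mul_eq_one_left he₂sq]
        rw [h1]
        exact Zs.inv_mem hi
    have hyz : y = z * e₂ := by
      rw [hz, mul_assoc, he₂sq, mul_one]
    rcases hF3 z with h | h
    · left
      have h1 : (τ' * τ * k) e₁ = z * e₁ := by
        show τ' (τ (k e₁)) = z * e₁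
        rw [← hyd, hyz, map_mul, hτ1 z hzZ, hF1, map_mul, map_mul, h, hF2, hF4]
        calc z * (e₂ * (e₁ * e₂)) = z * (e₁ * (e₂ * e₂)) := by
              rw [← mul_assoc e₂ e₁ e₂, hc e₂ e₁, mul_assoc e₁ e₂ e₂]
          _ = z * e₁ := by rw [he₂sq, mul_one]
      have h2 := hPW' (τ' * τ * k) (G.mul_mem (G.mul_mem hτ'G hτG) hk)
        (by rw [h1]; exact Zs.mul_mem hzZ he₁Z)
      rw [h1] at h2
      have h3 : z = 1 := by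
        have h4 : z * e₁ = 1 * e₁ := by rw [one_mul]; exact h2
        exact mul_right_cancel h4
      rw [hyz, h3, one_mul]
    · right
      have h1 : (τ' * k) e₁ = z := by
        show τ' (k e₁) = z
        rw [← hyd, hyz, map_mul, h, hF2, mul_assoc, he₂sq, mul_one]
      have h2 := hPW' (τ' * k) (G.mul_mem hτ'G hk) (by rw [h1]; exact hzZ)
      rw [h1] at h2
      rw [hyz, h2]

end AbFD

end Cfsg.Agent.Lib.Helper27
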