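import Mathlib
import Cfsg.Agent.Lib.Helper27.SmallZA
import Cfsg.Agent.Lib.Helper27.SmallZB

set_option autoImplicit false

namespace Cfsg.Agent.Lib.Helper27

open Cfsg Cfsg.FusionSystem Cfsg.Agent.Lib.Helper26

open scoped commutatorElement

section AbKC

variable {Ω : Type*} [Group Ω] {S : Subgroup Ω}

/-- Structure of an abelian essential subgroup `P = Z⟨x⟩` for `p = 2`. -/
theorem abk_struct2 [Finite S] (p : ℕ) [Fact p.Prime] (hS : IsPGroup p S) (F : FusionSystem S)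
    (hF : F.IsSaturated p) (hp2 : p = 2) (A : Subgroup Ω)
    (hAS : A ≤ S) (hAab : ∀ a ∈ A, ∀ b ∈ A, a * b = b * a)
    (hidx : (A.subgroupOf S).index = p)
    (hZA : S ⊓ Subgroup.centralizer (S : Set Ω) ≤ A)
    (hZ₀ : Nat.card ↥((S ⊓ Subgroup.centralizer (S : Set Ω)) ⊓
      ((commutator ↥S).map S.subtype)) = p)
    (x : Ω) (hxS : x ∈ S) (hxA : x ∉ A) (P : Subgroup Ω)
    (hPdef : P = (S ⊓ Subgroup.centralizer (S : Set Ω)) ⊔ Subgroup.zpowers x)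
    (hP : F.IsEssential p P) :
    ∃ e₁ : Ω, e₁ ∈ (S ⊓ Subgroup.centralizer (S : Set Ω)) ⊓ ((commutator ↥S).map S.subtype) ∧
    e₁ ≠ 1 ∧
    ∃ u ∈ P, u ∉ S ⊓ Subgroup.centralizer (S : Set Ω) ∧ u * u = 1 ∧
    ∃ D : Subgroup Ω, D ≤ S ⊓ Subgroup.centralizer (S : Set Ω) ∧
      (∀ k ∈ F.autGroup P, ∀ d : ↥P, (d : Ω) ∈ D → ((k d : ↥P) : Ω) ∈ D) ∧
      (∀ z ∈ S ⊓ Subgroup.centralizer (S : Set Ω), z ∈ D ∨ z * e₁ ∈ D) ∧
      e₁ ∉ D ∧
      (∀ k ∈ F.autGroup P, ∀ v : ↥P, ((v : Ω) = e₁ ∨ (v : Ω) = u) →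
        (((k v : ↥P) : Ω) = e₁ ∨ ((k v : ↥P) : Ω) = u ∨ ((k v : ↥P) : Ω) = e₁ * u)) ∧
      (∀ k ∈ F.autGroup P, ∀ v : ↥P, (v : Ω) = e₁ →
        ((k v : ↥P) : Ω) ∈ S ⊓ Subgroup.centralizer (S : Set Ω) → ((k v : ↥P) : Ω) = e₁) ∧
      (∃ g ∈ F.autGroup P, ∀ v : ↥P, (v : Ω) = e₁ → ((g v : ↥P) : Ω) = u) := by
  have hp : p.Prime := Fact.out
  have hPS : P ≤ S := hP.1.1
  have hPfin : Finite P := finite_of_le hPS
  obtain ⟨hAn, hAc, hApow, hAgen⟩ := abIndex_facts p hS A hAS hidx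
  have hdecS := hAgen x hxS hxA
  have hθA : ∀ a ∈ A, x⁻¹ * (a * x * a⁻¹) ∈ A := by
    intro a ha
    have h1 := hAc x⁻¹ (S.inv_mem hxS) a (hAS ha)
    rw [inv_inv] at h1
    have e : x⁻¹ * (a * x * a⁻¹) = x⁻¹ * a * x * a⁻¹ := by group
    rw [e]
    exact h1
  have hxP : x ∈ P := by
    rw [hPdef]
    exact Subgroup.mem_sup_right (Subgroup.mem_zpowers x)
  have hZP : S ⊓ Subgroup.centralizer (S : Set Ω) ≤ P := by
    rw [hPdef]
    exact le_sup_left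
  obtain ⟨hPx, hPab, hPA, hPdec, hxpZ⟩ := abg_basic A hAS hAab x hxS hdecS (hApow x hxS) P hPdef
  have hautS := abg_autS p A hAS hAab hAn hZ₀ x hxS hdecS hθA P hxP hPab hPA hPdec hxpZ
  -- the element a₁
  obtain ⟨s, hsS, hsN, hsP⟩ := essential_exists_normalizer p hS F hF hP
  obtain ⟨i₀, hi₀⟩ := hdecS s hsS
  obtain ⟨a₁, ha₁⟩ : ∃ a₁, a₁ = s * (x ^ i₀)⁻¹ := ⟨_, rfl⟩
  have ha₁A : a₁ ∈ A := by
    rw [ha₁]
    exact hi₀
  have ha₁N : a₁ ∈ Subgroup.normalizer (P : Set Ω) := by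
    rw [ha₁]
    exact Subgroup.mul_mem _ hsN (Subgroup.inv_mem _ (Subgroup.le_normalizer (P.pow_mem hxP i₀)))
  have ha₁P : a₁ ∉ P := by
    intro h
    apply hsP
    have e : s = a₁ * x ^ i₀ := by
      rw [ha₁]
      group
    rw [e]
    exact P.mul_mem h (P.pow_mem hxP i₀)
  have ha₁x : a₁ * x * a₁⁻¹ ∈ P := (Subgroup.mem_normalizer_iff.mp ha₁N x).mp hxP
  obtain ⟨hu₁Z, hca₁Z, hca₁⟩ := abg_conj A hAS x hxS hθA P hxP hPA a₁ ha₁A ha₁x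
  obtain ⟨u₁, hu₁⟩ : ∃ u₁, u₁ = x⁻¹ * (a₁ * x * a₁⁻¹) := ⟨_, rfl⟩
  rw [← hu₁] at hu₁Z hca₁
  have hu₁ne : u₁ ≠ 1 := by
    intro h
    rw [hu₁] at h
    exact ha₁P (hZP ((abd_ker A hAS hAab x hxS hdecS a₁ ha₁A).mp h))
  have hu₁S' : u₁ ∈ (commutator ↥S).map S.subtype :=
    (abd_comm_eq A hAS hAab hAn x hxS hdecS hθA _).mpr ⟨a₁, ha₁A, hu₁⟩
  have hu₁Z₀ : u₁ ∈ (S ⊓ Subgroup.centralizer (S : Set Ω)) ⊓ ((commutator ↥S).map S.subtype) :=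
    Subgroup.mem_inf.mpr ⟨hu₁Z, hu₁S'⟩
  have hu₁p : u₁ ^ p = 1 := abg_pow_card p _ hZ₀ _ hu₁Z₀
  -- the automorphism τ
  obtain ⟨τ, hτ⟩ : ∃ τ : MulAut P, ∀ y : P, ((τ y : P) : Ω) = a₁ * y * a₁⁻¹ :=
    ⟨P.normalizerMonoidHom ⟨a₁, ha₁N⟩, fun y => rfl⟩
  have hτS : τ ∈ autInducedBy S P := Fusion.mem_autInducedBy_iff.2 ⟨a₁, hAS ha₁A, hτ⟩
  have hτG : τ ∈ F.autGroup P := Fusion.autInducedBy_le_autGroup F hPS hτS
  have hPa : F.IsFullyAutomized p P := (((Cfsg.Agent.S5077.result p hS F).1 hF).1 P hP.2.1).2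
  have hτne : τ ≠ 1 := by
    intro h
    apply hu₁ne
    have h1 := hτ ⟨x, hxP⟩
    rw [h] at h1
    have h2 : a₁ * x * a₁⁻¹ = x := h1.symm
    rw [hu₁, h2, inv_mul_cancel]
  -- abstract setting
  have hc : ∀ a b : ↥P, a * b = b * a := fun a b => Subtype.ext (hPab a a.2 b b.2)
  obtain ⟨Zs, hZs⟩ : ∃ Zs : Subgroup ↥P, ∀ y : ↥P,
      y ∈ Zs ↔ (y : Ω) ∈ S ⊓ Subgroup.centralizer (S : Set Ω) :=
    ⟨(S ⊓ Subgroup.centralizer (S : Set Ω)).subgroupOf P, fun y => Subgroup.mem_subgroupOf⟩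
  have hZsn : Zs.Normal := by
    constructor
    intro n hn g
    rw [hc g n, mul_inv_cancel_right]
    exact hn
  have hZsidx : Zs.index = p := by
    apply index_eq_prime_of_gen Zs ⟨x, hxP⟩
    · intro h
      exact hxA (hZA ((hZs _).mp h))
    · rw [hZs]
      exact hxpZ
    · intro y
      obtain ⟨i, hi⟩ := hPdec y y.2
      exact ⟨i, (hZs _).mpr hi⟩
  have hgen : ∀ y : ↥P, y ∉ Zs → ∀ w : ↥P, ∃ i : ℕ, w * (y ^ i)⁻¹ ∈ Zs :=
    fun y hy => gen_of_index_prime Zs hZsidx y hy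
  obtain ⟨e₁, he₁⟩ : ∃ e₁ : ↥P, (e₁ : Ω) = u₁ := ⟨⟨u₁, hZP hu₁Z⟩, rfl⟩
  have he₁Z : e₁ ∈ Zs := by
    rw [hZs, he₁]
    exact hu₁Z
  have he₁p : e₁ ^ p = 1 := by
    apply Subtype.ext
    rw [Subgroup.coe_pow, he₁]
    exact hu₁p
  have hτ1 : ∀ z ∈ Zs, τ z = z := fun z hz => (hautS τ hτS).1 z ((hZs z).mp hz)
  have hτ2 : ∀ y : ↥P, ∃ i : ℕ, τ y = y * e₁ ^ i := by
    intro y
    obtain ⟨i, hi⟩ := hPdec y y.2
    refine ⟨i, Subtype.ext ?_⟩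
    rw [hτ, hca₁ y i hi, Subgroup.coe_mul, Subgroup.coe_pow, he₁]
  have hτ3 : ∀ y : ↥P, τ y = y → y ∈ Zs :=
    fun y hy => (hZs y).mpr ((hautS τ hτS).2 hτne y hy)
  obtain ⟨g, hgG, hgtw⟩ := exists_twist_of_essential p hS F hP
  have hPW0 : ∀ k ∈ F.autGroup P, k e₁ ∈ Zs → k * τ * k⁻¹ ∈ autInducedBy S P := by
    intro k hk hke
    apply mem_autS_of_stab p hS F hPa (Subgroup.zpowers (k e₁)) _ (k * τ * k⁻¹)
      (mul_mem (mul_mem hk hτG) (inv_mem hk))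
    · intro d hd
      obtain ⟨j, rfl⟩ := Subgroup.mem_zpowers_iff.mp hd
      show k (τ (k⁻¹ ((k e₁) ^ j))) = (k e₁) ^ j
      rw [map_zpow, MulAut.inv_apply_self, hτ1 _ (Zs.zpow_mem he₁Z j), map_zpow]
    · intro y
      obtain ⟨i, hi⟩ := hτ2 (k⁻¹ y)
      have e : y⁻¹ * (k * τ * k⁻¹) y = (k e₁) ^ i := by
        show y⁻¹ * k (τ (k⁻¹ y)) = (k e₁) ^ i
        rw [hi, map_mul, MulAut.apply_inv_self, map_pow, inv_mul_cancel_left]
      rw [e]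
      exact Subgroup.pow_mem _ (Subgroup.mem_zpowers _) i
    · intro t ht d hd
      have hdZ : d ∈ Zs := (Subgroup.zpowers_le.mpr hke) hd
      rw [(hautS t ht).1 d ((hZs d).mp hdZ)]
      exact hd
  have hPW : ∀ k ∈ F.autGroup P, k e₁ ∈ Zs → ∀ z : ↥P, k z ∈ Zs ↔ z ∈ Zs := by
    intro k hk hke z
    have ht := hPW0 k hk hke
    have hne : k * τ * k⁻¹ ≠ 1 := by
      intro h
      apply hτne
      have e : τ = k⁻¹ * (k * τ * k⁻¹) * k := by group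
      rw [e, h]
      group
    have happ : ∀ y : ↥P, (k * τ * k⁻¹) (k y) = k (τ y) := by
      intro y
      show k (τ (k⁻¹ (k y))) = k (τ y)
      rw [MulAut.inv_apply_self]
    constructor
    · intro hkz
      apply hτ3
      apply k.injective
      rw [← happ]
      exact (hautS _ ht).1 (k z) ((hZs _).mp hkz)
    · intro hz
      rw [hZs]
      apply (hautS _ ht).2 hne
      rw [happ, hτ1 z hz]
  have hg : g e₁ ∉ Zs := by
    intro h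
    have h1 := hPW0 g hgG h
    exact hτne (abg_inn_trivial hPab τ (hgtw τ hτS h1))
  have he₁2 : e₁ ^ 2 = 1 := by rw [← hp2]; exact he₁p
  have hZ₀el : ∀ v ∈ (S ⊓ Subgroup.centralizer (S : Set Ω)) ⊓ ((commutator ↥S).map S.subtype),
      v = 1 ∨ v = u₁ := by
    intro v hv
    rw [hp2] at hZ₀
    obtain ⟨y, hy, huniq⟩ := (Nat.card_eq_two_iff' (1 : ↥((S ⊓ Subgroup.centralizer (S : Set Ω)) ⊓
      ((commutator ↥S).map S.subtype)))).mp hZ₀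
    by_cases hv1 : v = 1
    · exact Or.inl hv1
    · right
      have h1 : (⟨v, hv⟩ : ↥((S ⊓ Subgroup.centralizer (S : Set Ω)) ⊓
          ((commutator ↥S).map S.subtype))) = y :=
        huniq _ (fun h0 => hv1 (congrArg Subtype.val h0))
      have h2 : (⟨u₁, hu₁Z₀⟩ : ↥((S ⊓ Subgroup.centralizer (S : Set Ω)) ⊓
          ((commutator ↥S).map S.subtype))) = y :=
        huniq _ (fun h0 => hu₁ne (congrArg Subtype.val h0))
      exact congrArg Subtype.val (h1.trans h2.symm)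
  have hτx : τ ⟨x, hxP⟩ = ⟨x, hxP⟩ * e₁ := by
    apply Subtype.ext
    rw [hτ, hca₁ x 1 (by rw [pow_one, mul_inv_cancel]; exact one_mem _), pow_one,
      Subgroup.coe_mul, he₁]
  have hPW' : ∀ k ∈ F.autGroup P, k e₁ ∈ Zs → k e₁ = e₁ := by
    intro k hk hke
    have ht := hPW0 k hk hke
    obtain ⟨s', hs'S, hs't⟩ := Fusion.mem_autInducedBy_iff.1 ht
    have h1 : (k * τ * k⁻¹) (k ⟨x, hxP⟩) = k ⟨x, hxP⟩ * k e₁ := by
      show k (τ (k⁻¹ (k ⟨x, hxP⟩))) = _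
      rw [MulAut.inv_apply_self, hτx, map_mul]
    have h2 : ((k e₁ : ↥P) : Ω) =
        ((k ⟨x, hxP⟩ : ↥P) : Ω)⁻¹ * (s' * ((k ⟨x, hxP⟩ : ↥P) : Ω) * s'⁻¹) := by
      rw [← hs't, h1, Subgroup.coe_mul, inv_mul_cancel_left]
    have h3 : ((k e₁ : ↥P) : Ω) ∈ (commutator ↥S).map S.subtype := by
      rw [h2]
      refine ⟨⁅(⟨((k ⟨x, hxP⟩ : ↥P) : Ω)⁻¹, S.inv_mem (hPS (k ⟨x, hxP⟩).2)⟩ : ↥S),
        (⟨s', hs'S⟩ : ↥S)⁆, ?_, ?_⟩
      · rw [commutator_def]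
        exact Subgroup.commutator_mem_commutator (Subgroup.mem_top _) (Subgroup.mem_top _)
      · rw [commutatorElement_def]
        simp [mul_assoc]
    rcases hZ₀el _ (Subgroup.mem_inf.mpr ⟨(hZs _).mp hke, h3⟩) with h4 | h4
    · exfalso
      apply hu₁ne
      have h5 : k e₁ = 1 := Subtype.ext h4
      have h6 : e₁ = 1 := by
        rw [← map_one k] at h5
        exact k.injective h5
      rw [← he₁, h6]
      rfl
    · exact Subtype.ext (by rw [h4, he₁])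
  obtain ⟨D', hD'Z, hD'inv, hD'dec, he₁D', -⟩ :=
    abf_D hc Zs hgen e₁ he₁Z he₁p τ hτ1 hτ2 hτ3 (F.autGroup P) hτG g hgG hg hPW
  have hV := abf_V hc Zs hgen e₁ he₁Z he₁2 τ hτ1 hτ2 hτ3 (F.autGroup P) hτG g hgG hg hPW'
  have hDmem : ∀ d : ↥P, (d : Ω) ∈ D'.map P.subtype ↔ d ∈ D' := by
    intro d
    constructor
    · rintro ⟨d', hd', hdd⟩
      have e : d' = d := Subtype.ext hdd
      rw [← e]
      exact hd'
    · intro hd
      exact ⟨d, hd, rfl⟩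
  obtain ⟨u, hu⟩ : ∃ u : ↥P, u = g e₁ := ⟨_, rfl⟩
  have hVk : ∀ k ∈ F.autGroup P, ((k e₁ : ↥P) : Ω) = u₁ ∨ ((k e₁ : ↥P) : Ω) = (u : Ω) ∨
      ((k e₁ : ↥P) : Ω) = u₁ * (u : Ω) := by
    intro k hk
    rcases hV k hk with h | h | h
    · left
      rw [h, he₁]
    · right
      left
      rw [h, hu]
    · right
      right
      rw [h, Subgroup.coe_mul, he₁, hu]
  refine ⟨u₁, hu₁Z₀, hu₁ne, (u : Ω), u.2, ?_, ?_, D'.map P.subtype, ?_, ?_, ?_, ?_, ?_, ?_, ?_⟩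
  · intro h
    apply hg
    rw [← hu]
    exact (hZs u).mpr h
  · have h1 : u ^ 2 = 1 := by rw [hu, ← map_pow, he₁2, map_one]
    have h2 := congrArg (fun q : ↥P => (q : Ω)) h1
    simp only [Subgroup.coe_pow, Subgroup.coe_one] at h2
    rw [← pow_two]
    exact h2
  · rintro _ ⟨d', hd', rfl⟩
    exact (hZs d').mp (hD'Z hd')
  · intro k hk d hd
    exact (hDmem _).mpr (hD'inv k hk d ((hDmem d).mp hd))
  · intro z hz
    obtain ⟨i, hi⟩ := hD'dec ⟨z, hZP hz⟩ ((hZs _).mpr hz)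
    rcases abf_sq_pow e₁ he₁2 i with h | h
    · left
      rw [h, inv_one, mul_one] at hi
      exact ⟨_, hi, rfl⟩
    · right
      rw [h] at hi
      have hinv : e₁⁻¹ = e₁ := inv_eq_of_mul_eq_one_left (by rw [← pow_two]; exact he₁2)
      rw [hinv] at hi
      refine ⟨_, hi, ?_⟩
      show z * (e₁ : Ω) = z * u₁
      rw [he₁]
  · rintro ⟨d', hd', hdd⟩
    apply he₁D'
    have e : d' = e₁ := Subtype.ext (by rw [← he₁] at hdd; exact hdd)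
    rw [← e]
    exact hd'
  · intro k hk v hv
    rcases hv with hv | hv
    · have hve : v = e₁ := Subtype.ext (by rw [hv, he₁])
      rw [hve]
      exact hVk k hk
    · have hve : v = g e₁ := by
        rw [← hu]
        exact Subtype.ext hv
      rw [hve]
      exact hVk (k * g) (mul_mem hk hgG)
  · intro k hk v hv hkv
    have hve : v = e₁ := Subtype.ext (by rw [hv, he₁])
    rw [hve] at hkv ⊢
    have h1 := hPW' k hk ((hZs _).mpr hkv)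
    rw [h1, he₁]
  · refine ⟨g, hgG, fun v hv => ?_⟩
    have hve : v = e₁ := Subtype.ext (by rw [hv, he₁])
    rw [hve, hu]

end AbKC

end Cfsg.Agent.Lib.Helper27
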