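import Mathlib
import Cfsg.Agent.Lib.Helper27.SmallZC

set_option autoImplicit false

namespace Cfsg.Agent.Lib.Helper27

open Cfsg Cfsg.FusionSystem Cfsg.Agent.Lib.Helper26

open scoped commutatorElement

section AbkExt

variable {G : Type*} [Group G]

/-- The extension of `H` by an element `u` normalizing `H` with `u * u ∈ H`. -/
def abkExt (H : Subgroup G) (u : G) (hu : u * u ∈ H) (hn : ∀ h ∈ H, u * h * u⁻¹ ∈ H) :
    Subgroup G where
  carrier := {s | s ∈ H ∨ s * u ∈ H}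
  one_mem' := Or.inl (one_mem H)
  mul_mem' := by
    have hn' : ∀ h ∈ H, u⁻¹ * h * u ∈ H := by
      intro h hh
      have e : u⁻¹ * h * u = (u * u)⁻¹ * (u * h * u⁻¹) * (u * u) := by group
      rw [e]
      exact H.mul_mem (H.mul_mem (H.inv_mem hu) (hn h hh)) hu
    rintro a b (ha | ha) (hb | hb)
    · exact Or.inl (H.mul_mem ha hb)
    · right
      have e : a * b * u = a * (b * u) := by group
      rw [e]
      exact H.mul_mem ha hb
    · right
      have e : a * b * u = (a * u) * (u⁻¹ * b * u) := by group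
      rw [e]
      exact H.mul_mem ha (hn' b hb)
    · left
      have e : a * b = (a * u) * (u⁻¹ * (b * u) * u) * (u * u)⁻¹ := by group
      rw [e]
      exact H.mul_mem (H.mul_mem ha (hn' _ hb)) (H.inv_mem hu)
  inv_mem' := by
    rintro a (ha | ha)
    · exact Or.inl (H.inv_mem ha)
    · right
      have e : a⁻¹ * u = (u * (a * u)⁻¹ * u⁻¹) * (u * u) := by group
      rw [e]
      exact H.mul_mem (hn _ (H.inv_mem ha)) hu

theorem mem_abkExt (H : Subgroup G) (u : G) (hu : u * u ∈ H) (hn : ∀ h ∈ H, u * h * u⁻¹ ∈ H)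
    {s : G} : s ∈ abkExt H u hu hn ↔ s ∈ H ∨ s * u ∈ H := Iff.rfl

theorem abk_two_unique (H : Subgroup G) (hH : Nat.card ↥H = 2) (a b : G) (ha : a ∈ H)
    (hb : b ∈ H) (ha1 : a ≠ 1) (hb1 : b ≠ 1) : a = b := by
  obtain ⟨y, hy, huniq⟩ := (Nat.card_eq_two_iff' (1 : ↥H)).mp hH
  have h1 : (⟨a, ha⟩ : ↥H) = y := huniq _ (fun h0 => ha1 (congrArg Subtype.val h0))
  have h2 : (⟨b, hb⟩ : ↥H) = y := huniq _ (fun h0 => hb1 (congrArg Subtype.val h0))
  exact congrArg Subtype.val (h1.trans h2.symm)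

end AbkExt

section AbKE

variable {Ω : Type*} [Group Ω] {S : Subgroup Ω}

/-- The data attached to an essential subgroup `P` for `p = 2`. -/
structure AbkData (F : FusionSystem S) (c : Ω) (P : Subgroup Ω) (u : Ω) (D : Subgroup Ω) :
    Prop where
  hPS : P ≤ S
  hZP : S ⊓ Subgroup.centralizer (S : Set Ω) ≤ P
  huP : u ∈ P
  huZ : u ∉ S ⊓ Subgroup.centralizer (S : Set Ω)
  huu : u * u = 1
  hdec : ∀ y ∈ P, y ∈ S ⊓ Subgroup.centralizer (S : Set Ω) ∨
    y * u ∈ S ⊓ Subgroup.centralizer (S : Set Ω)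
  hDZ : D ≤ S ⊓ Subgroup.centralizer (S : Set Ω)
  hDinv : ∀ k ∈ F.autGroup P, ∀ d : ↥P, (d : Ω) ∈ D → ((k d : ↥P) : Ω) ∈ D
  hDdec : ∀ z ∈ S ⊓ Subgroup.centralizer (S : Set Ω), z ∈ D ∨ z * c ∈ D
  hcD : c ∉ D
  hV : ∀ k ∈ F.autGroup P, ∀ v : ↥P, ((v : Ω) = c ∨ (v : Ω) = u) →
    (((k v : ↥P) : Ω) = c ∨ ((k v : ↥P) : Ω) = u ∨ ((k v : ↥P) : Ω) = c * u)
  hfix : ∀ k ∈ F.autGroup P, ∀ v : ↥P, (v : Ω) = c →
    ((k v : ↥P) : Ω) ∈ S ⊓ Subgroup.centralizer (S : Set Ω) → ((k v : ↥P) : Ω) = c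
  horb : ∃ g ∈ F.autGroup P, ∀ v : ↥P, (v : Ω) = c → ((g v : ↥P) : Ω) = u
  hidx : ∀ v ∈ S, v ∉ P → ∀ s ∈ S, ∃ i : ℕ, s * (v ^ i)⁻¹ ∈ P
  hPab : ∀ y ∈ P, ∀ y' ∈ P, y * y' = y' * y

theorem abk_data [Finite S] (p : ℕ) [Fact p.Prime] (hS : IsPGroup p S) (F : FusionSystem S)
    (hF : F.IsSaturated p) (hp2 : p = 2) (hna : ¬ ∀ s ∈ S, ∀ t ∈ S, s * t = t * s)
    (hZ : (Subgroup.center ↥S).index ≤ p ^ 2)
    (c : Ω) (hc : c ∈ (S ⊓ Subgroup.centralizer (S : Set Ω)) ⊓ ((commutator ↥S).map S.subtype))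
    (hc1 : c ≠ 1) (P : Subgroup Ω) (hP : F.IsEssential p P) :
    ∃ (u : Ω) (D : Subgroup Ω), AbkData F c P u D := by
  obtain ⟨x, hxS, A, hAS, hAab, hidx, hZA, hxA, hPdef, hZ₀⟩ := abk_shape p hS F hF hna hZ P hP
  obtain ⟨e₁, he₁, he₁ne, u, huP, huZ, huu, D, hDZ, hDinv, hDdec, he₁D, hV, hfix, horb⟩ :=
    abk_struct2 p hS F hF hp2 A hAS hAab hidx hZA hZ₀ x hxS hxA P hPdef hP
  have hec : e₁ = c := abk_two_unique _ (by rw [← hp2]; exact hZ₀) e₁ c he₁ hc he₁ne hc1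
  subst hec
  have hPS : P ≤ S := hP.1.1
  have hPlt : P < S := lt_of_isEssential F hF hP
  have hZP : S ⊓ Subgroup.centralizer (S : Set Ω) ≤ P := by
    rw [hPdef]
    exact le_sup_left
  obtain ⟨hgen, hPab, hPidx⟩ := abk_gen p hS hna hZ P hPlt hZP u huP huZ
  obtain ⟨-, -, -, hAgen⟩ := abIndex_facts p hS P hPS hPidx
  have hu2 : u ^ 2 = 1 := by rw [pow_two]; exact huu
  have huinv : u⁻¹ = u := inv_eq_of_mul_eq_one_left huu
  refine ⟨u, D, ⟨hPS, hZP, huP, huZ, huu, ?_, hDZ, hDinv, hDdec, he₁D, hV, hfix, horb, hAgen,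
    hPab⟩⟩
  intro y hy
  obtain ⟨i, hi⟩ := hgen y hy
  rcases abf_sq_pow u hu2 i with h | h
  · left
    rw [h, inv_one, mul_one] at hi
    exact hi
  · right
    rw [h, huinv] at hi
    exact hi

/-- Basic facts on the central involution `c` generating `S'`. -/
theorem abk_two_basic [Finite S] (p : ℕ) [Fact p.Prime] (hS : IsPGroup p S)
    (hna : ¬ ∀ s ∈ S, ∀ t ∈ S, s * t = t * s)
    (hZ : (Subgroup.center ↥S).index ≤ p ^ 2)
    (hZ₀ : Nat.card ↥((S ⊓ Subgroup.centralizer (S : Set Ω)) ⊓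
      ((commutator ↥S).map S.subtype)) = 2)
    (c : Ω) (hc : c ∈ (S ⊓ Subgroup.centralizer (S : Set Ω)) ⊓ ((commutator ↥S).map S.subtype))
    (hc1 : c ≠ 1) :
    c * c = 1 ∧ (∀ s ∈ S, ∀ t ∈ S, s * t * s⁻¹ * t⁻¹ = 1 ∨ s * t * s⁻¹ * t⁻¹ = c) := by
  constructor
  · have h1 := abg_pow_card 2 _ hZ₀ c hc
    rw [← pow_two]
    exact h1
  · intro s hs t ht
    obtain ⟨hcomm, -⟩ := abk_quot_facts p hS hna hZ
    by_cases h1 : s * t * s⁻¹ * t⁻¹ = 1
    · exact Or.inl h1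
    · right
      have h2 : s * t * s⁻¹ * t⁻¹ ∈ (commutator ↥S).map S.subtype := by
        refine ⟨⁅(⟨s, hs⟩ : ↥S), (⟨t, ht⟩ : ↥S)⁆, ?_, ?_⟩
        · rw [commutator_def]
          exact Subgroup.commutator_mem_commutator (Subgroup.mem_top _) (Subgroup.mem_top _)
        · rw [commutatorElement_def]
          rfl
      exact abk_two_unique _ hZ₀ _ c (Subgroup.mem_inf.mpr ⟨hcomm s hs t ht, h2⟩) hc h1 hc1

/-- The three-involutions argument. -/
theorem abk_inv3 (F : FusionSystem S) (c : Ω)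
    (hcZ : c ∈ S ⊓ Subgroup.centralizer (S : Set Ω)) (hcc : c * c = 1)
    (hcomm2 : ∀ s ∈ S, ∀ t ∈ S, s * t * s⁻¹ * t⁻¹ = 1 ∨ s * t * s⁻¹ * t⁻¹ = c)
    (P : Subgroup Ω) (u : Ω) (D : Subgroup Ω) (hd : AbkData F c P u D)
    (v : Ω) (hvS : v ∈ S) (hvP : v ∉ P) (hvv : v * v = 1)
    (z : Ω) (hz : z ∈ S ⊓ Subgroup.centralizer (S : Set Ω))
    (hw : (z * u * v) * (z * u * v) = 1) : False := by
  have huS : u ∈ S := hd.hPS hd.huP
  have huinv : u⁻¹ = u := inv_eq_of_mul_eq_one_left hd.huu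
  have hvinv : v⁻¹ = v := inv_eq_of_mul_eq_one_left hvv
  have hcinv : c⁻¹ = c := inv_eq_of_mul_eq_one_left hcc
  obtain ⟨hzS, hzc⟩ := (abx_mem_Z).mp hz
  obtain ⟨hcS, hccen⟩ := (abx_mem_Z).mp hcZ
  have huv : u * v * u⁻¹ * v⁻¹ = c := by
    rcases hcomm2 u huS v hvS with h | h
    · exfalso
      apply hd.huZ
      rw [abx_mem_Z]
      refine ⟨huS, fun s hs => ?_⟩
      have hcuv : u * v = v * u := by
        have h1 : u * v * u⁻¹ * v⁻¹ * v * u = 1 * v * u := by rw [h]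
        rw [one_mul] at h1
        rw [← h1]
        group
      obtain ⟨i, hi⟩ := hd.hidx v hvS hvP s hs
      have hc1 : (s * (v ^ i)⁻¹) * u = u * (s * (v ^ i)⁻¹) := hd.hPab _ hi u hd.huP
      have hc2 : v ^ i * u = u * v ^ i := ((show Commute v u from hcuv.symm).pow_left i).eq
      calc s * u = (s * (v ^ i)⁻¹) * (v ^ i * u) := by group
        _ = (s * (v ^ i)⁻¹) * (u * v ^ i) := by rw [hc2]
        _ = ((s * (v ^ i)⁻¹) * u) * v ^ i := by group
        _ = (u * (s * (v ^ i)⁻¹)) * v ^ i := by rw [hc1]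
        _ = u * s := by group
    · exact h
  rw [huinv, hvinv] at huv
  have hzz : z * z = c := by
    have h1 : (z * u * v) * (z * u * v) = (z * z) * (u * v * u * v) := by
      have h2 : u * v * z = z * (u * v) := hzc _ (S.mul_mem huS hvS)
      calc (z * u * v) * (z * u * v) = z * (u * v * z) * (u * v) := by group
        _ = z * (z * (u * v)) * (u * v) := by rw [h2]
        _ = (z * z) * (u * v * u * v) := by group
    rw [h1, huv] at hw
    have h3 : z * z = c⁻¹ := eq_inv_of_mul_eq_one_left hw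
    rw [h3, hcinv]
  apply hd.hcD
  rw [← hzz]
  rcases hd.hDdec z hz with h | h
  · exact D.mul_mem h h
  · have h4 : z * z = (z * c) * (z * c) := by
      have h5 : z * c = c * z := hccen z hzS
      calc z * z = z * z * (c * c) := by rw [hcc, mul_one]
        _ = z * (z * c) * c := by group
        _ = z * (c * z) * c := by rw [h5]
        _ = (z * c) * (z * c) := by group
    rw [h4]
    exact D.mul_mem h h

/-- Elements of `Aut_F(S)` have an odd power which is inner. -/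
theorem abk_odd_inner [Finite S] (p : ℕ) [Fact p.Prime] (F : FusionSystem S)
    (hF : F.IsSaturated p) (hp2 : p = 2) (σ : MulAut ↥S) (hσ : σ ∈ F.autGroup S) :
    ∃ k : ℕ, ∃ s₀ ∈ S, ∀ y : ↥S, (((σ ^ (2 * k + 1)) y : ↥S) : Ω) = s₀ * y * s₀⁻¹ := by
  obtain ⟨-, R, hR⟩ := Fusion.top_fullyAutomized F hF
  have hRn : (R : Subgroup (F.autGroup S)).Normal := by
    rw [hR]
    constructor
    intro n hn g
    rw [Subgroup.mem_subgroupOf] at hn ⊢
    obtain ⟨s, hs, hsn⟩ := Fusion.mem_autInducedBy_iff.1 hn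
    refine Fusion.mem_autInducedBy_iff.2 ⟨(((g : MulAut ↥S) ⟨s, hs⟩ : ↥S) : Ω),
      ((g : MulAut ↥S) ⟨s, hs⟩ : ↥S).2, fun y => ?_⟩
    have h1 : (n : MulAut ↥S) ((g : MulAut ↥S)⁻¹ y) =
        ⟨s, hs⟩ * ((g : MulAut ↥S)⁻¹ y) * (⟨s, hs⟩ : ↥S)⁻¹ := Subtype.ext (hsn _)
    show ((((g : MulAut ↥S) ((n : MulAut ↥S) ((g : MulAut ↥S)⁻¹ y))) : ↥S) : Ω) = _
    rw [h1, map_mul, map_mul, map_inv, MulAut.apply_inv_self]
    rfl
  have hodd : ¬ p ∣ (R : Subgroup (F.autGroup S)).index := Sylow.not_dvd_index R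
  have hodd2 : ¬ 2 ∣ (R : Subgroup (F.autGroup S)).index := by
    intro h
    apply hodd
    have h2 : p ∣ 2 := by rw [hp2]
    exact h2.trans h
  have hm := Subgroup.pow_index_mem (R : Subgroup (F.autGroup S)) ⟨σ, hσ⟩
  obtain ⟨k, hk⟩ : ∃ k, (R : Subgroup (F.autGroup S)).index = 2 * k + 1 :=
    Nat.odd_iff.mpr (Nat.two_dvd_ne_zero.mp hodd2)
  rw [hk] at hm
  rw [hR, Subgroup.mem_subgroupOf] at hm
  obtain ⟨s₀, hs₀, hσm⟩ := Fusion.mem_autInducedBy_iff.1 hm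
  exact ⟨k, s₀, hs₀, fun y => hσm y⟩

/-- `Aut_F(S)` stabilizes every essential subgroup (for `p = 2`). -/
theorem abk_sigma_P [Finite S] (p : ℕ) [Fact p.Prime] (F : FusionSystem S)
    (hF : F.IsSaturated p) (hp2 : p = 2) (c : Ω)
    (hcZ : c ∈ S ⊓ Subgroup.centralizer (S : Set Ω)) (hcc : c * c = 1)
    (hcomm2 : ∀ s ∈ S, ∀ t ∈ S, s * t * s⁻¹ * t⁻¹ = 1 ∨ s * t * s⁻¹ * t⁻¹ = c)
    (P : Subgroup Ω) (u : Ω) (D : Subgroup Ω) (hd : AbkData F c P u D)
    (σ : MulAut ↥S) (hσ : σ ∈ F.autGroup S) :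
    ∀ y : ↥S, (y : Ω) ∈ P → ((σ y : ↥S) : Ω) ∈ P := by
  have hσZ : ∀ τ : MulAut ↥S, ∀ z : ↥S, (z : Ω) ∈ S ⊓ Subgroup.centralizer (S : Set Ω) →
      ((τ z : ↥S) : Ω) ∈ S ⊓ Subgroup.centralizer (S : Set Ω) :=
    fun τ z hz => abh_center_inv _ (fun z hz y hy => ((abx_mem_Z).mp hz).2 y hy)
      (fun y hy hyc => (abx_mem_Z).mpr ⟨hy, hyc⟩) τ z hz
  have huS : u ∈ S := hd.hPS hd.huP
  obtain ⟨uS, huS'⟩ : ∃ uS : ↥S, (uS : Ω) = u := ⟨⟨u, huS⟩, rfl⟩
  have huuS : uS * uS = 1 := Subtype.ext (by rw [Subgroup.coe_mul, huS', hd.huu]; rfl)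
  have hkey : ((σ uS : ↥S) : Ω) ∈ P := by
    by_contra hv
    obtain ⟨v, hvd⟩ : ∃ v : ↥S, v = σ uS := ⟨_, rfl⟩
    rw [← hvd] at hv
    obtain ⟨w, hwd⟩ : ∃ w : ↥S, w = σ v := ⟨_, rfl⟩
    have hvv : v * v = 1 := by rw [hvd, ← map_mul, huuS, map_one]
    have hww : w * w = 1 := by rw [hwd, ← map_mul, hvv, map_one]
    have hvvΩ : (v : Ω) * (v : Ω) = 1 := by
      have h0 := congrArg (fun q : ↥S => (q : Ω)) hvv
      simpa using h0
    have hvZ : (v : Ω) ∉ S ⊓ Subgroup.centralizer (S : Set Ω) := by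
      intro h
      apply hd.huZ
      have h1 := hσZ σ⁻¹ v h
      rw [hvd, MulAut.inv_apply_self, huS'] at h1
      exact h1
    have hwZ : (w : Ω) ∉ S ⊓ Subgroup.centralizer (S : Set Ω) := by
      intro h
      apply hvZ
      have h1 := hσZ σ⁻¹ w h
      rw [hwd, MulAut.inv_apply_self] at h1
      exact h1
    have hvinv : (v : Ω)⁻¹ = (v : Ω) := inv_eq_of_mul_eq_one_left hvvΩ
    have hv2 : (v : Ω) ^ 2 = 1 := by rw [pow_two]; exact hvvΩ
    have hcos : (w : Ω) ∈ P ∨ (w : Ω) * (v : Ω) ∈ P := by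
      obtain ⟨i, hi⟩ := hd.hidx (v : Ω) v.2 hv (w : Ω) w.2
      rcases abf_sq_pow (v : Ω) hv2 i with h | h
      · left
        rw [h, inv_one, mul_one] at hi
        exact hi
      · right
        rw [h, hvinv] at hi
        exact hi
    rcases hcos with hwP | hwvP
    · rcases hd.hdec _ hwP with h | h
      · exact hwZ h
      · obtain ⟨k, s₀, hs₀, hσm⟩ := abk_odd_inner p F hF hp2 σ hσ
        have hiter : ∀ j : ℕ, ((((σ ^ 2) ^ j) uS : ↥S) : Ω) * u ∈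
            S ⊓ Subgroup.centralizer (S : Set Ω) := by
          intro j
          induction j with
          | zero =>
            rw [pow_zero, MulAut.one_apply, huS', hd.huu]
            exact one_mem _
          | succ j ih =>
            obtain ⟨t, ht⟩ : ∃ t : ↥S, t = ((σ ^ 2) ^ j) uS := ⟨_, rfl⟩
            rw [← ht] at ih
            have e1 : ((σ ^ 2) ^ (j + 1)) uS = σ (σ t) := by
              rw [pow_succ', MulAut.mul_apply, ← ht, pow_two, MulAut.mul_apply]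
            have e2 : t = (t * uS) * uS := by rw [mul_assoc, huuS, mul_one]
            have e3 : σ (σ t) = σ (σ (t * uS)) * w := by
              conv_lhs => rw [e2]
              rw [map_mul, map_mul, hwd, hvd]
            rw [e1, e3, Subgroup.coe_mul, mul_assoc]
            refine Subgroup.mul_mem _ (hσZ σ _ (hσZ σ _ ?_)) h
            rw [Subgroup.coe_mul, huS']
            exact ih
        have hm1 : (σ ^ (2 * k + 1)) uS = σ (((σ ^ 2) ^ k) uS) := by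
          rw [pow_succ', MulAut.mul_apply, pow_mul]
        obtain ⟨t, ht⟩ : ∃ t : ↥S, t = ((σ ^ 2) ^ k) uS := ⟨_, rfl⟩
        have htZ := hiter k
        rw [← ht] at htZ hm1
        have e2 : t = (t * uS) * uS := by rw [mul_assoc, huuS, mul_one]
        have e4 : σ t = σ (t * uS) * v := by
          conv_lhs => rw [e2]
          rw [map_mul, hvd]
        have h5 := hσm uS
        rw [hm1, e4, Subgroup.coe_mul, huS'] at h5
        have h6 : s₀ * u * s₀⁻¹ ∈ P := by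
          have e : s₀ * u * s₀⁻¹ = (s₀ * u * s₀⁻¹ * u⁻¹) * u := by group
          rcases hcomm2 s₀ hs₀ u huS with h7 | h7
          · rw [e, h7, one_mul]
            exact hd.huP
          · rw [e, h7]
            exact P.mul_mem (hd.hZP hcZ) hd.huP
        rw [← h5] at h6
        have h8 : ((σ (t * uS) : ↥S) : Ω) ∈ P := by
          apply hd.hZP
          apply hσZ σ
          rw [Subgroup.coe_mul, huS']
          exact htZ
        apply hv
        have e : (v : Ω) = ((σ (t * uS) : ↥S) : Ω)⁻¹ *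
            (((σ (t * uS) : ↥S) : Ω) * (v : Ω)) := by group
        rw [e]
        exact P.mul_mem (P.inv_mem h8) h6
    · rcases hd.hdec _ hwvP with h | h
      · have h1 : ((σ (v * uS) : ↥S) : Ω) ∈ S ⊓ Subgroup.centralizer (S : Set Ω) := by
          rw [map_mul, ← hwd, ← hvd, Subgroup.coe_mul]
          exact h
        have h2 := hσZ σ⁻¹ _ h1
        rw [MulAut.inv_apply_self, Subgroup.coe_mul, huS'] at h2
        apply hv
        have e : (v : Ω) = ((v : Ω) * u) * u := by rw [mul_assoc, hd.huu, mul_one]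
        rw [e]
        exact P.mul_mem (hd.hZP h2) hd.huP
      · have hwwΩ : (w : Ω) * (w : Ω) = 1 := by
          have h0 := congrArg (fun q : ↥S => (q : Ω)) hww
          simpa using h0
        have huinv : u⁻¹ = u := inv_eq_of_mul_eq_one_left hd.huu
        have e : (w : Ω) = ((w : Ω) * (v : Ω) * u) * u * (v : Ω) := by
          calc (w : Ω) = ((w : Ω) * (v : Ω) * u) * u⁻¹ * (v : Ω)⁻¹ := by group
            _ = ((w : Ω) * (v : Ω) * u) * u * (v : Ω) := by rw [huinv, hvinv]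
        rw [e] at hwwΩ
        exact abk_inv3 F c hcZ hcc hcomm2 P u D hd (v : Ω) v.2 hv hvvΩ _ h hwwΩ
  intro y hy
  rcases hd.hdec _ hy with h | h
  · exact hd.hZP (hσZ σ y h)
  · have e2 : y = (y * uS) * uS := by rw [mul_assoc, huuS, mul_one]
    rw [e2, map_mul, Subgroup.coe_mul]
    refine P.mul_mem (hd.hZP (hσZ σ _ ?_)) hkey
    rw [Subgroup.coe_mul, huS']
    exact h

theorem abk_sigma_facts [Finite S] (p : ℕ) [Fact p.Prime] (F : FusionSystem S)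
    (hF : F.IsSaturated p) (hp2 : p = 2) (c : Ω)
    (hcZ : c ∈ S ⊓ Subgroup.centralizer (S : Set Ω)) (hcc : c * c = 1)
    (hcomm2 : ∀ s ∈ S, ∀ t ∈ S, s * t * s⁻¹ * t⁻¹ = 1 ∨ s * t * s⁻¹ * t⁻¹ = c)
    (P : Subgroup Ω) (u : Ω) (D : Subgroup Ω) (hd : AbkData F c P u D)
    (σ : MulAut ↥S) (hσ : σ ∈ F.autGroup S) :
    (∀ d : ↥S, (d : Ω) ∈ D → ((σ d : ↥S) : Ω) ∈ D) ∧
    (∀ v : ↥S, (v : Ω) = c → ((σ v : ↥S) : Ω) = c) ∧
    ∃ γ ∈ F.autGroup P, ∀ z : ↥P, ((γ z : ↥P) : Ω) = ((σ ⟨z, hd.hPS z.2⟩ : ↥S) : Ω) := by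
  have hinv := abk_sigma_P p F hF hp2 c hcZ hcc hcomm2 P u D hd σ hσ
  obtain ⟨γ, hγ, hγσ⟩ := abh_restrict F P S hd.hPS le_rfl σ hσ hinv
  refine ⟨?_, ?_, γ, hγ, hγσ⟩
  · intro d hdD
    have hdP : (d : Ω) ∈ P := hd.hZP (hd.hDZ hdD)
    have h1 := hd.hDinv γ hγ ⟨d, hdP⟩ hdD
    rw [hγσ] at h1
    exact h1
  · intro v hv
    have hvP : (v : Ω) ∈ P := by
      rw [hv]
      exact hd.hZP hcZ
    have h1 := hd.hfix γ hγ ⟨v, hvP⟩ hv
    rw [hγσ] at h1
    apply h1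
    exact abh_center_inv _ (fun z hz y hy => ((abx_mem_Z).mp hz).2 y hy)
      (fun y hy hyc => (abx_mem_Z).mpr ⟨hy, hyc⟩) σ v (by rw [hv]; exact hcZ)

end AbKE

end Cfsg.Agent.Lib.Helper27
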