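import Mathlib
import Cfsg.Agent.Lib.Helper27.SmallZE
import Cfsg.Agent.Lib.Helper27.SmallZD
import Cfsg.Agent.S5092

set_option autoImplicit false

namespace Cfsg.Agent.Lib.Helper27

open Cfsg Cfsg.FusionSystem Cfsg.Agent.Lib.Helper26

open scoped commutatorElement

section AbKF

variable {Ω : Type*} [Group Ω] {S : Subgroup Ω}

theorem abk_D_le (F : FusionSystem S) (c : Ω)
    (hcZ : c ∈ S ⊓ Subgroup.centralizer (S : Set Ω))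
    (P : Subgroup Ω) (u u' : Ω) (D D' : Subgroup Ω)
    (hd : AbkData F c P u D) (hd' : AbkData F c P u' D') : D' ≤ D := by
  intro d hdD'
  rcases hd.hDdec d (hd'.hDZ hdD') with h | h
  · exact h
  · exfalso
    obtain ⟨g, hg, hgc⟩ := hd.horb
    have hdP : d ∈ P := hd.hZP (hd'.hDZ hdD')
    have hcP : c ∈ P := hd.hZP hcZ
    have h1 := hd.hDinv g hg (⟨d, hdP⟩ * ⟨c, hcP⟩) h
    have h2 := hd'.hDinv g hg ⟨d, hdP⟩ hdD'
    rw [map_mul, Subgroup.coe_mul, hgc ⟨c, hcP⟩ rfl] at h1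
    apply hd.huZ
    have e : u = ((g ⟨d, hdP⟩ : ↥P) : Ω)⁻¹ * (((g ⟨d, hdP⟩ : ↥P) : Ω) * u) := by group
    rw [e]
    exact Subgroup.mul_mem _ (Subgroup.inv_mem _ (hd'.hDZ h2)) (hd.hDZ h1)

theorem abk_P_eq (F : FusionSystem S) (c : Ω)
    (P₁ : Subgroup Ω) (u₁ : Ω) (D₁ : Subgroup Ω) (hd₁ : AbkData F c P₁ u₁ D₁)
    (P₂ : Subgroup Ω) (u₂ : Ω) (D₂ : Subgroup Ω) (hd₂ : AbkData F c P₂ u₂ D₂)
    (h : u₂ ∈ P₁) : P₁ = P₂ := by
  have hu₁P₂ : u₁ ∈ P₂ := by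
    rcases hd₁.hdec u₂ h with h1 | h1
    · exact absurd h1 hd₂.huZ
    · have e : u₁ = u₂ * (u₂ * u₁) := by rw [← mul_assoc, hd₂.huu, one_mul]
      rw [e]
      exact P₂.mul_mem hd₂.huP (hd₂.hZP h1)
  apply le_antisymm
  · intro y hy
    rcases hd₁.hdec y hy with h1 | h1
    · exact hd₂.hZP h1
    · have e : y = (y * u₁) * u₁ := by rw [mul_assoc, hd₁.huu, mul_one]
      rw [e]
      exact P₂.mul_mem (hd₂.hZP h1) hu₁P₂
  · intro y hy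
    rcases hd₂.hdec y hy with h1 | h1
    · exact hd₁.hZP h1
    · have e : y = (y * u₂) * u₂ := by rw [mul_assoc, hd₂.huu, mul_one]
      rw [e]
      exact P₁.mul_mem (hd₁.hZP h1) h

/-- `Aut_F(P)` acts trivially on `D` modulo `D ⊓ D'`. -/
theorem abk_Dquot [Finite S] (p : ℕ) [Fact p.Prime] (hS : IsPGroup p S) (F : FusionSystem S)
    (hF : F.IsSaturated p) (hp2 : p = 2) (c : Ω)
    (hcZ : c ∈ S ⊓ Subgroup.centralizer (S : Set Ω)) (hcc : c * c = 1)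
    (hcomm2 : ∀ s ∈ S, ∀ t ∈ S, s * t * s⁻¹ * t⁻¹ = 1 ∨ s * t * s⁻¹ * t⁻¹ = c)
    (P : Subgroup Ω) (u : Ω) (D : Subgroup Ω) (hd : AbkData F c P u D)
    (P' : Subgroup Ω) (u' : Ω) (D' : Subgroup Ω) (hd' : AbkData F c P' u' D')
    (α : MulAut ↥P) (hα : α ∈ F.autGroup P) (d : ↥P) (hdD : (d : Ω) ∈ D) :
    (d : Ω)⁻¹ * ((α d : ↥P) : Ω) ∈ D ⊓ D' := by
  have hsat := (Cfsg.Agent.S5077.result p hS F).1 hF
  have hDc : ∀ z ∈ D, ∀ s ∈ S, s * z = z * s :=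
    fun z hz s hs => ((abx_mem_Z).mp (hd.hDZ hz)).2 s hs
  have hDfn := abh_fn F D (hd.hDZ.trans inf_le_left) hDc
  have hDr : F.IsReceptive D := hsat.2 _ (hsat.1 _ hDfn).1
  obtain ⟨γ, hγ, hγα⟩ := abh_restrict F D P (hd.hDZ.trans hd.hZP) hd.hPS α hα
    (fun z hz => hd.hDinv α hα z hz)
  obtain ⟨σ, hσ, hσγ⟩ := abh_extend F D hDr hDc γ hγ
  have hdS : (d : Ω) ∈ S := hd.hPS d.2
  have h1 : ((α d : ↥P) : Ω) = ((σ ⟨(d : Ω), hdS⟩ : ↥S) : Ω) := by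
    rw [hσγ ⟨(d : Ω), hdD⟩ hdS, hγα]
  obtain ⟨hσD', hσc, -⟩ := abk_sigma_facts p F hF hp2 c hcZ hcc hcomm2 P' u' D' hd' σ hσ
  refine Subgroup.mem_inf.mpr ⟨D.mul_mem (D.inv_mem hdD) (hd.hDinv α hα d hdD), ?_⟩
  rw [h1]
  obtain ⟨hcS, hccen⟩ := (abx_mem_Z).mp hcZ
  rcases hd'.hDdec (d : Ω) (hd.hDZ hdD) with h | h
  · exact D'.mul_mem (D'.inv_mem h) (hσD' ⟨d, hdS⟩ h)
  · have h2 := hσD' (⟨(d : Ω), hdS⟩ * ⟨c, hcS⟩) h
    rw [map_mul, Subgroup.coe_mul, hσc ⟨c, hcS⟩ rfl] at h2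
    obtain ⟨X, hX⟩ : ∃ X : Ω, X = ((σ ⟨(d : Ω), hdS⟩ : ↥S) : Ω) := ⟨_, rfl⟩
    rw [← hX] at h2 ⊢
    have hXS : X ∈ S := by
      rw [hX]
      exact (σ ⟨(d : Ω), hdS⟩).2
    have hcen : ((d : Ω)⁻¹ * X) * c = c * ((d : Ω)⁻¹ * X) :=
      hccen _ (S.mul_mem (S.inv_mem hdS) hXS)
    have e : (d : Ω)⁻¹ * X = ((d : Ω) * c)⁻¹ * (X * c) := by
      calc (d : Ω)⁻¹ * X = c⁻¹ * (c * ((d : Ω)⁻¹ * X)) := by group
        _ = c⁻¹ * (((d : Ω)⁻¹ * X) * c) := by rw [hcen]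
        _ = ((d : Ω) * c)⁻¹ * (X * c) := by group
    rw [e]
    exact D'.mul_mem (D'.inv_mem h) h2

/-- Focal quotients of `Aut_F(P)` lie in `T`. -/
theorem abk_foc_P (F : FusionSystem S) (c : Ω)
    (hcZ : c ∈ S ⊓ Subgroup.centralizer (S : Set Ω)) (hcc : c * c = 1)
    (P : Subgroup Ω) (u : Ω) (D : Subgroup Ω) (hd : AbkData F c P u D)
    (T : Subgroup Ω) (hcT : c ∈ T) (huT : u ∈ T)
    (hD0 : ∀ α ∈ F.autGroup P, ∀ d : ↥P, (d : Ω) ∈ D → (d : Ω)⁻¹ * ((α d : ↥P) : Ω) ∈ T)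
    (α : MulAut ↥P) (hα : α ∈ F.autGroup P) (y : ↥P) :
    (y : Ω)⁻¹ * ((α y : ↥P) : Ω) ∈ T := by
  obtain ⟨hcS, hccen⟩ := (abx_mem_Z).mp hcZ
  have hcinv : c⁻¹ = c := inv_eq_of_mul_eq_one_left hcc
  have huinv : u⁻¹ = u := inv_eq_of_mul_eq_one_left hd.huu
  obtain ⟨cP, hcP⟩ : ∃ cP : ↥P, (cP : Ω) = c := ⟨⟨c, hd.hZP hcZ⟩, rfl⟩
  obtain ⟨uP, huP⟩ : ∃ uP : ↥P, (uP : Ω) = u := ⟨⟨u, hd.huP⟩, rfl⟩
  have hccP : cP * cP = 1 := Subtype.ext (by rw [Subgroup.coe_mul, hcP, hcc]; rfl)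
  have huuP : uP * uP = 1 := Subtype.ext (by rw [Subgroup.coe_mul, huP, hd.huu]; rfl)
  have hαc : ((α cP : ↥P) : Ω) ∈ T := by
    rcases hd.hV α hα cP (Or.inl hcP) with h | h | h
    · rw [h]
      exact hcT
    · rw [h]
      exact huT
    · rw [h]
      exact T.mul_mem hcT huT
  have hαu : ((α uP : ↥P) : Ω) ∈ T := by
    rcases hd.hV α hα uP (Or.inr huP) with h | h | h
    · rw [h]
      exact hcT
    · rw [h]
      exact huT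
    · rw [h]
      exact T.mul_mem hcT huT
  have hZstep : ∀ z : ↥P, (z : Ω) ∈ S ⊓ Subgroup.centralizer (S : Set Ω) →
      (z : Ω)⁻¹ * ((α z : ↥P) : Ω) ∈ T := by
    intro z hz
    rcases hd.hDdec _ hz with h | h
    · exact hD0 α hα z h
    · have e2 : z = (z * cP) * cP := by rw [mul_assoc, hccP, mul_one]
      have hzc : (((z * cP : ↥P) : Ω)) = (z : Ω) * c := by rw [Subgroup.coe_mul, hcP]
      have h1 := hD0 α hα (z * cP) (by rw [hzc]; exact h)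
      obtain ⟨A, hA⟩ : ∃ A : Ω, A = ((α (z * cP) : ↥P) : Ω) := ⟨_, rfl⟩
      obtain ⟨B, hB⟩ : ∃ B : Ω, B = ((α cP : ↥P) : Ω) := ⟨_, rfl⟩
      have h4 : ((α z : ↥P) : Ω) = A * B := by
        conv_lhs => rw [e2]
        rw [map_mul, Subgroup.coe_mul, hA, hB]
      rw [← hA, hzc] at h1
      rw [← hB] at hαc
      have hAS : A ∈ S := by
        rw [hA]
        exact hd.hPS (α (z * cP)).2
      have hcen : (((z : Ω) * c)⁻¹ * A) * c = c * (((z : Ω) * c)⁻¹ * A) :=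
        hccen _ (S.mul_mem (S.inv_mem (S.mul_mem (hd.hPS z.2) hcS)) hAS)
      have e3 : (z : Ω)⁻¹ * (A * B) = ((((z : Ω) * c)⁻¹ * A)) * (c⁻¹ * B) := by
        calc (z : Ω)⁻¹ * (A * B) = (c * (((z : Ω) * c)⁻¹ * A)) * B := by group
          _ = ((((z : Ω) * c)⁻¹ * A) * c) * B := by rw [hcen]
          _ = ((((z : Ω) * c)⁻¹ * A)) * (c⁻¹ * B) := by rw [hcinv]; group
      rw [h4, e3]
      exact T.mul_mem h1 (T.mul_mem (T.inv_mem hcT) hαc)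
  rcases hd.hdec y y.2 with h | h
  · exact hZstep y h
  · have e2 : y = (y * uP) * uP := by rw [mul_assoc, huuP, mul_one]
    have hyu : (((y * uP : ↥P) : Ω)) = (y : Ω) * u := by rw [Subgroup.coe_mul, huP]
    have h1 := hZstep (y * uP) (by rw [hyu]; exact h)
    obtain ⟨A, hA⟩ : ∃ A : Ω, A = ((α (y * uP) : ↥P) : Ω) := ⟨_, rfl⟩
    obtain ⟨B, hB⟩ : ∃ B : Ω, B = ((α uP : ↥P) : Ω) := ⟨_, rfl⟩
    have h4 : ((α y : ↥P) : Ω) = A * B := by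
      conv_lhs => rw [e2]
      rw [map_mul, Subgroup.coe_mul, hA, hB]
    rw [← hA, hyu] at h1
    rw [← hB] at hαu
    have hAP : A ∈ P := by
      rw [hA]
      exact (α (y * uP)).2
    have hcen : (((y : Ω) * u)⁻¹ * A) * u = u * (((y : Ω) * u)⁻¹ * A) :=
      hd.hPab _ (P.mul_mem (P.inv_mem (P.mul_mem y.2 hd.huP)) hAP) u hd.huP
    have e3 : (y : Ω)⁻¹ * (A * B) = ((((y : Ω) * u)⁻¹ * A)) * (u⁻¹ * B) := by
      calc (y : Ω)⁻¹ * (A * B) = (u * (((y : Ω) * u)⁻¹ * A)) * B := by group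
        _ = ((((y : Ω) * u)⁻¹ * A) * u) * B := by rw [hcen]
        _ = ((((y : Ω) * u)⁻¹ * A)) * (u⁻¹ * B) := by rw [huinv]; group
    rw [h4, e3]
    exact T.mul_mem h1 (T.mul_mem (T.inv_mem huT) hαu)

/-- Two essential subgroups with different invariant complements contradict `hyp(F) = S`. -/
theorem abk_focal [Finite S] (p : ℕ) [Fact p.Prime] (hS : IsPGroup p S) (F : FusionSystem S)
    (hF : F.IsSaturated p) (hp2 : p = 2) (c : Ω)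
    (hcZ : c ∈ S ⊓ Subgroup.centralizer (S : Set Ω)) (hcc : c * c = 1)
    (hcomm2 : ∀ s ∈ S, ∀ t ∈ S, s * t * s⁻¹ * t⁻¹ = 1 ∨ s * t * s⁻¹ * t⁻¹ = c)
    (P₁ : Subgroup Ω) (u₁ : Ω) (D₁ : Subgroup Ω) (hd₁ : AbkData F c P₁ u₁ D₁)
    (P₂ : Subgroup Ω) (u₂ : Ω) (D₂ : Subgroup Ω) (hd₂ : AbkData F c P₂ u₂ D₂)
    (hu₂ : u₂ ∉ P₁) (hess : ∀ P : Subgroup Ω, F.IsEssential p P → P = P₁ ∨ P = P₂)
    (d₀ : Ω) (hd₀1 : d₀ ∈ D₁) (hd₀2 : d₀ ∉ D₂)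
    (hhyp : F.hyperfocalSubgroup p = S) : False := by
  obtain ⟨hcS, hccen⟩ := (abx_mem_Z).mp hcZ
  have hcinv : c⁻¹ = c := inv_eq_of_mul_eq_one_left hcc
  have hu₁S : u₁ ∈ S := hd₁.hPS hd₁.huP
  have hu₂S : u₂ ∈ S := hd₂.hPS hd₂.huP
  have hu₂inv : u₂⁻¹ = u₂ := inv_eq_of_mul_eq_one_left hd₂.huu
  have hZconj : ∀ z ∈ S ⊓ Subgroup.centralizer (S : Set Ω), ∀ s ∈ S, s * z * s⁻¹ = z := by
    intro z hz s hs
    rw [((abx_mem_Z).mp hz).2 s hs, mul_inv_cancel_right]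
  have hD₀Z : D₁ ⊓ D₂ ≤ S ⊓ Subgroup.centralizer (S : Set Ω) := inf_le_left.trans hd₁.hDZ
  obtain ⟨W₀, hW₀⟩ : ∃ W₀ : Subgroup Ω, ∀ s : Ω, s ∈ W₀ ↔ s ∈ D₁ ⊓ D₂ ∨ s * c ∈ D₁ ⊓ D₂ :=
    ⟨abkExt (D₁ ⊓ D₂) c (by rw [hcc]; exact one_mem _)
      (fun h hh => by rw [hZconj h (hD₀Z hh) c hcS]; exact hh), fun s => Iff.rfl⟩
  have hW₀Z : W₀ ≤ S ⊓ Subgroup.centralizer (S : Set Ω) := by
    intro s hs
    rcases (hW₀ s).mp hs with h | h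
    · exact hD₀Z h
    · have e : s = (s * c) * c⁻¹ := by group
      rw [e]
      exact Subgroup.mul_mem _ (hD₀Z h) (Subgroup.inv_mem _ hcZ)
  obtain ⟨P', hP'⟩ : ∃ P' : Subgroup Ω, ∀ s : Ω, s ∈ P' ↔ s ∈ W₀ ∨ s * u₁ ∈ W₀ :=
    ⟨abkExt W₀ u₁ (by rw [hd₁.huu]; exact one_mem _)
      (fun h hh => by rw [hZconj h (hW₀Z hh) u₁ hu₁S]; exact hh), fun s => Iff.rfl⟩
  have hP'P₁ : P' ≤ P₁ := by
    intro s hs
    rcases (hP' s).mp hs with h | h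
    · exact hd₁.hZP (hW₀Z h)
    · have e : s = (s * u₁) * u₁ := by rw [mul_assoc, hd₁.huu, mul_one]
      rw [e]
      exact P₁.mul_mem (hd₁.hZP (hW₀Z h)) hd₁.huP
  have hcW₀ : c ∈ W₀ := (hW₀ c).mpr (Or.inr (by rw [hcc]; exact one_mem _))
  have hcP' : c ∈ P' := (hP' c).mpr (Or.inl hcW₀)
  obtain ⟨T, hT⟩ : ∃ T : Subgroup Ω, ∀ s : Ω, s ∈ T ↔ s ∈ P' ∨ s * u₂ ∈ P' :=
    ⟨abkExt P' u₂ (by rw [hd₂.huu]; exact one_mem _)
      (fun h hh => by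
        have hhS : h ∈ S := hd₁.hPS (hP'P₁ hh)
        have e : u₂ * h * u₂⁻¹ = (u₂ * h * u₂⁻¹ * h⁻¹) * h := by group
        rw [e]
        rcases hcomm2 u₂ hu₂S h hhS with h7 | h7
        · rw [h7, one_mul]
          exact hh
        · rw [h7]
          exact P'.mul_mem hcP' hh), fun s => Iff.rfl⟩
  have hP'T : P' ≤ T := fun s hs => (hT s).mpr (Or.inl hs)
  have hcT : c ∈ T := hP'T hcP'
  have hu₁T : u₁ ∈ T :=
    hP'T ((hP' u₁).mpr (Or.inr (by rw [hd₁.huu]; exact one_mem _)))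
  have hu₂T : u₂ ∈ T := (hT u₂).mpr (Or.inr (by rw [hd₂.huu]; exact one_mem _))
  have hD₀T : D₁ ⊓ D₂ ≤ T :=
    fun s hs => hP'T ((hP' s).mpr (Or.inl ((hW₀ s).mpr (Or.inl hs))))
  have hTS : T ≤ S := by
    intro s hs
    rcases (hT s).mp hs with h | h
    · exact hd₁.hPS (hP'P₁ h)
    · have e : s = (s * u₂) * u₂⁻¹ := by group
      rw [e]
      exact S.mul_mem (hd₁.hPS (hP'P₁ h)) (S.inv_mem hu₂S)
  have hTcomm : ⁅(S : Subgroup Ω), S⁆ ≤ T := by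
    rw [Subgroup.commutator_le]
    intro g₁ hg₁ g₂ hg₂
    rw [commutatorElement_def]
    rcases hcomm2 g₁ hg₁ g₂ hg₂ with h | h
    · rw [h]
      exact one_mem _
    · rw [h]
      exact hcT
  have hTn : ∀ t ∈ T, ∀ s ∈ S, s * t * s⁻¹ ∈ T := by
    intro t ht s hs
    have e : s * t * s⁻¹ = (s * t * s⁻¹ * t⁻¹) * t := by group
    rw [e]
    rcases hcomm2 s hs t (hTS ht) with h | h
    · rw [h, one_mul]
      exact ht
    · rw [h]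
      exact T.mul_mem hcT ht
  have hd₀T : d₀ ∉ T := by
    intro h
    have hd₀Z : d₀ ∈ S ⊓ Subgroup.centralizer (S : Set Ω) := hd₁.hDZ hd₀1
    rcases (hT d₀).mp h with h | h
    · rcases (hP' d₀).mp h with h | h
      · rcases (hW₀ d₀).mp h with h | h
        · exact hd₀2 (Subgroup.mem_inf.mp h).2
        · apply hd₁.hcD
          have e : c = d₀⁻¹ * (d₀ * c) := by group
          rw [e]
          exact D₁.mul_mem (D₁.inv_mem hd₀1) (Subgroup.mem_inf.mp h).1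
      · apply hd₁.huZ
        have e : u₁ = d₀⁻¹ * (d₀ * u₁) := by group
        rw [e]
        exact Subgroup.mul_mem _ (Subgroup.inv_mem _ hd₀Z) (hW₀Z h)
    · apply hu₂
      have e : u₂ = d₀⁻¹ * (d₀ * u₂) := by group
      rw [e]
      exact P₁.mul_mem (P₁.inv_mem (hd₁.hZP hd₀Z)) (hP'P₁ h)
  have hfoc₁ : ∀ α ∈ F.autGroup P₁, ∀ y : ↥P₁, (y : Ω)⁻¹ * ((α y : ↥P₁) : Ω) ∈ T :=
    fun α hα y => abk_foc_P F c hcZ hcc P₁ u₁ D₁ hd₁ T hcT hu₁T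
      (fun α hα d hdD => hD₀T (abk_Dquot p hS F hF hp2 c hcZ hcc hcomm2 P₁ u₁ D₁ hd₁
        P₂ u₂ D₂ hd₂ α hα d hdD)) α hα y
  have hfoc₂ : ∀ α ∈ F.autGroup P₂, ∀ y : ↥P₂, (y : Ω)⁻¹ * ((α y : ↥P₂) : Ω) ∈ T :=
    fun α hα y => abk_foc_P F c hcZ hcc P₂ u₂ D₂ hd₂ T hcT hu₂T
      (fun α hα d hdD => hD₀T (by
        have h0 := abk_Dquot p hS F hF hp2 c hcZ hcc hcomm2 P₂ u₂ D₂ hd₂ P₁ u₁ D₁ hd₁ α hα d hdD
        rw [inf_comm] at h0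
        exact h0)) α hα y
  have hSstep : ∀ σ ∈ F.autGroup S, ∀ y : ↥S, (y : Ω)⁻¹ * ((σ y : ↥S) : Ω) ∈ T := by
    intro σ hσ y
    obtain ⟨-, -, γ₁, hγ₁, hγ₁σ⟩ :=
      abk_sigma_facts p F hF hp2 c hcZ hcc hcomm2 P₁ u₁ D₁ hd₁ σ hσ
    obtain ⟨-, -, γ₂, hγ₂, hγ₂σ⟩ :=
      abk_sigma_facts p F hF hp2 c hcZ hcc hcomm2 P₂ u₂ D₂ hd₂ σ hσ
    have hP1step : ∀ y : ↥S, (y : Ω) ∈ P₁ → (y : Ω)⁻¹ * ((σ y : ↥S) : Ω) ∈ T := by
      intro y hy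
      have h1 := hfoc₁ γ₁ hγ₁ ⟨y, hy⟩
      rw [hγ₁σ] at h1
      exact h1
    obtain ⟨u₂S, hu₂S'⟩ : ∃ u₂S : ↥S, u₂S = ⟨u₂, hu₂S⟩ := ⟨_, rfl⟩
    have hu₂Sc : (u₂S : Ω) = u₂ := by rw [hu₂S']
    have hu₂step : u₂ * ((σ u₂S : ↥S) : Ω) ∈ T := by
      have h1 := hfoc₂ γ₂ hγ₂ ⟨u₂, hd₂.huP⟩
      rw [hγ₂σ] at h1
      rw [hu₂S']
      have h2 : u₂⁻¹ * ((σ ⟨u₂, hu₂S⟩ : ↥S) : Ω) ∈ T := h1
      rw [hu₂inv] at h2
      exact h2
    have hu₂sq : u₂ ^ 2 = 1 := by rw [pow_two]; exact hd₂.huu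
    obtain ⟨i, hi⟩ := hd₁.hidx u₂ hu₂S hu₂ (y : Ω) y.2
    rcases abf_sq_pow u₂ hu₂sq i with h | h
    · rw [h, inv_one, mul_one] at hi
      exact hP1step y hi
    · rw [h, hu₂inv] at hi
      have huuS : u₂S * u₂S = 1 :=
        Subtype.ext (by rw [Subgroup.coe_mul, hu₂Sc, hd₂.huu]; rfl)
      have e2 : y = (y * u₂S) * u₂S := by rw [mul_assoc, huuS, mul_one]
      have hyu : (((y * u₂S : ↥S) : Ω)) = (y : Ω) * u₂ := by rw [Subgroup.coe_mul, hu₂Sc]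
      have h1 := hP1step (y * u₂S) (by rw [hyu]; exact hi)
      obtain ⟨A, hA⟩ : ∃ A : Ω, A = ((σ (y * u₂S) : ↥S) : Ω) := ⟨_, rfl⟩
      obtain ⟨B, hB⟩ : ∃ B : Ω, B = ((σ u₂S : ↥S) : Ω) := ⟨_, rfl⟩
      have h4 : ((σ y : ↥S) : Ω) = A * B := by
        conv_lhs => rw [e2]
        rw [map_mul, Subgroup.coe_mul, hA, hB]
      rw [← hA, hyu] at h1
      rw [← hB] at hu₂step
      have e3 : (y : Ω)⁻¹ * (A * B) =
          (u₂ * ((((y : Ω) * u₂)⁻¹ * A)) * u₂⁻¹) * (u₂ * B) := by group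
      rw [h4, e3]
      exact T.mul_mem (hTn _ h1 u₂ hu₂S) hu₂step
  have hle : F ≤ Fusion.focSys F T hTcomm := by
    apply alperin p hS F hF
    intro R hR α hα
    rcases hR with hR | hR
    · subst hR
      apply Subgroup.subset_closure
      refine ⟨(Fusion.mem_autGroup_iff F le_rfl).1 hα, fun x => ?_⟩
      exact hSstep α hα x
    · apply Subgroup.subset_closure
      refine ⟨(Fusion.mem_autGroup_iff F hR.1.1).1 hα, fun x => ?_⟩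
      rcases hess R hR with h | h
      · subst h
        exact hfoc₁ α hα x
      · subst h
        exact hfoc₂ α hα x
  have hfocT : F.focalSubgroup ≤ T := by
    rw [Cfsg.FusionSystem.focalSubgroup, Subgroup.closure_le]
    rintro _ ⟨P, φ, x, hφ, rfl⟩
    exact (hle P hφ).2 x
  have hhf : F.hyperfocalSubgroup p ≤ F.focalSubgroup := by
    rw [Cfsg.Agent.S5092.result p hS F hF]
    exact le_sup_left
  apply hd₀T
  apply hfocT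
  apply hhf
  rw [hhyp]
  exact (hd₁.hDZ hd₀1).1

/-- The case `p = 2`: `|Z(S)| = 2` and there is a noncentral involution. -/
theorem abk_two [Finite S] (p : ℕ) [Fact p.Prime] (hS : IsPGroup p S) (F : FusionSystem S)
    (hF : F.IsSaturated p) (hp2 : p = 2) (hna : ¬ ∀ s ∈ S, ∀ t ∈ S, s * t = t * s)
    (hZ : (Subgroup.center ↥S).index ≤ p ^ 2) (hcore : F.core = ⊥)
    (hhyp : F.hyperfocalSubgroup p = S) :
    Nat.card ↥(S ⊓ Subgroup.centralizer (S : Set Ω)) = 2 ∧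
    ∃ u ∈ S, u ∉ S ⊓ Subgroup.centralizer (S : Set Ω) ∧ u * u = 1 := by
  obtain ⟨P₁, hP₁⟩ := abk_exists_ess p hS F hF hna hcore
  obtain ⟨x, hxS, A, hAS, hAab, hidx, hZA, hxA, hPdef, hZ₀⟩ := abk_shape p hS F hF hna hZ P₁ hP₁
  have hZ₀' : Nat.card ↥((S ⊓ Subgroup.centralizer (S : Set Ω)) ⊓
      ((commutator ↥S).map S.subtype)) = 2 := by
    rw [← hp2]
    exact hZ₀
  obtain ⟨c, hc, hc1⟩ : ∃ c ∈ (S ⊓ Subgroup.centralizer (S : Set Ω)) ⊓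
      ((commutator ↥S).map S.subtype), c ≠ 1 := by
    obtain ⟨y, hy, -⟩ := (Nat.card_eq_two_iff' (1 : ↥((S ⊓ Subgroup.centralizer (S : Set Ω)) ⊓
      ((commutator ↥S).map S.subtype)))).mp hZ₀'
    exact ⟨y, y.2, fun h => hy (Subtype.ext h)⟩
  have hcZ : c ∈ S ⊓ Subgroup.centralizer (S : Set Ω) := (Subgroup.mem_inf.mp hc).1
  obtain ⟨hcc, hcomm2⟩ := abk_two_basic p hS hna hZ hZ₀' c hc hc1
  have hdata := fun (P : Subgroup Ω) (hP : F.IsEssential p P) =>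
    abk_data p hS F hF hp2 hna hZ c hc hc1 P hP
  obtain ⟨u₁, D₁, hd₁⟩ := hdata P₁ hP₁
  by_cases hall : ∀ P : Subgroup Ω, F.IsEssential p P → ∀ (u : Ω) (D : Subgroup Ω),
      AbkData F c P u D → D = D₁
  · have hn : F.IsNormal D₁ := by
      apply isNormal_of_forall_essential p hS F hF
      intro R hR
      rcases hR with hR | hR
      · rw [hR]
        exact ⟨hd₁.hDZ.trans inf_le_left, abh_map_eq _ _ (fun α hα w hw =>
          (abk_sigma_facts p F hF hp2 c hcZ hcc hcomm2 P₁ u₁ D₁ hd₁ α hα).1 w hw)⟩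
      · obtain ⟨u', D', hd'⟩ := hdata R hR
        have hDD := hall R hR u' D' hd'
        rw [← hDD]
        exact ⟨hd'.hDZ.trans hd'.hZP, abh_map_eq _ _ (fun α hα w hw => hd'.hDinv α hα w hw)⟩
    have hbot : D₁ = ⊥ := by
      have hle : D₁ ≤ F.core := le_sSup hn
      rw [hcore] at hle
      exact le_bot_iff.mp hle
    have hZel : ∀ z ∈ S ⊓ Subgroup.centralizer (S : Set Ω), z = 1 ∨ z = c := by
      intro z hz
      rcases hd₁.hDdec z hz with h | h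
      · left
        rw [hbot, Subgroup.mem_bot] at h
        exact h
      · right
        rw [hbot, Subgroup.mem_bot] at h
        have h1 : z = c⁻¹ := eq_inv_of_mul_eq_one_left h
        rw [h1]
        exact inv_eq_of_mul_eq_one_left hcc
    refine ⟨?_, u₁, hd₁.hPS hd₁.huP, hd₁.huZ, hd₁.huu⟩
    have hZS' : S ⊓ Subgroup.centralizer (S : Set Ω) ≤ (commutator ↥S).map S.subtype := by
      intro z hz
      rcases hZel z hz with h | h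
      · rw [h]
        exact one_mem _
      · rw [h]
        exact (Subgroup.mem_inf.mp hc).2
    have e : (S ⊓ Subgroup.centralizer (S : Set Ω)) ⊓ (commutator ↥S).map S.subtype =
        S ⊓ Subgroup.centralizer (S : Set Ω) := inf_eq_left.mpr hZS'
    rw [e] at hZ₀'
    exact hZ₀'
  · exfalso
    push Not at hall
    obtain ⟨P₂, hP₂, u₂, D₂, hd₂, hne⟩ := hall
    have hu₂ : u₂ ∉ P₁ := by
      intro h
      have hPP := abk_P_eq F c P₁ u₁ D₁ hd₁ P₂ u₂ D₂ hd₂ h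
      subst hPP
      exact hne (le_antisymm (abk_D_le F c hcZ _ u₁ u₂ D₁ D₂ hd₁ hd₂)
        (abk_D_le F c hcZ _ u₂ u₁ D₂ D₁ hd₂ hd₁))
    have hu₁ : u₁ ∉ P₂ := by
      intro h
      have hPP := abk_P_eq F c P₂ u₂ D₂ hd₂ P₁ u₁ D₁ hd₁ h
      apply hu₂
      rw [← hPP]
      exact hd₂.huP
    have hess : ∀ P : Subgroup Ω, F.IsEssential p P → P = P₁ ∨ P = P₂ := by
      intro P hP
      obtain ⟨u₃, D₃, hd₃⟩ := hdata P hP
      by_contra hcon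
      push Not at hcon
      have h31 : u₃ ∉ P₁ := fun h => hcon.1 (abk_P_eq F c P₁ u₁ D₁ hd₁ P u₃ D₃ hd₃ h).symm
      have h32 : u₃ ∉ P₂ := fun h => hcon.2 (abk_P_eq F c P₂ u₂ D₂ hd₂ P u₃ D₃ hd₃ h).symm
      have hu₃S : u₃ ∈ S := hd₃.hPS hd₃.huP
      have hu₂sq : u₂ ^ 2 = 1 := by rw [pow_two]; exact hd₂.huu
      have hu₂inv : u₂⁻¹ = u₂ := inv_eq_of_mul_eq_one_left hd₂.huu
      have hu₁inv : u₁⁻¹ = u₁ := inv_eq_of_mul_eq_one_left hd₁.huu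
      obtain ⟨i, hi⟩ := hd₁.hidx u₂ (hd₂.hPS hd₂.huP) hu₂ u₃ hu₃S
      rcases abf_sq_pow u₂ hu₂sq i with h | h
      · rw [h, inv_one, mul_one] at hi
        exact h31 hi
      · rw [h, hu₂inv] at hi
        rcases hd₁.hdec _ hi with h1 | h1
        · apply h32
          have e : u₃ = (u₃ * u₂) * u₂ := by rw [mul_assoc, hd₂.huu, mul_one]
          rw [e]
          exact P₂.mul_mem (hd₂.hZP h1) hd₂.huP
        · have e : u₃ = (u₃ * u₂ * u₁) * u₁ * u₂ := by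
            calc u₃ = (u₃ * u₂ * u₁) * u₁⁻¹ * u₂⁻¹ := by group
              _ = (u₃ * u₂ * u₁) * u₁ * u₂ := by rw [hu₁inv, hu₂inv]
          have h33 : ((u₃ * u₂ * u₁) * u₁ * u₂) * ((u₃ * u₂ * u₁) * u₁ * u₂) = 1 := by
            rw [← e]
            exact hd₃.huu
          exact abk_inv3 F c hcZ hcc hcomm2 P₁ u₁ D₁ hd₁ u₂ (hd₂.hPS hd₂.huP) hu₂ hd₂.huu _ h1 h33
    rcases (not_and_or.mp (fun h : D₁ ≤ D₂ ∧ D₂ ≤ D₁ => hne (le_antisymm h.2 h.1))) with h | h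
    · obtain ⟨d₀, h1, h2⟩ := SetLike.not_le_iff_exists.mp h
      exact abk_focal p hS F hF hp2 c hcZ hcc hcomm2 P₁ u₁ D₁ hd₁ P₂ u₂ D₂ hd₂ hu₂ hess
        d₀ h1 h2 hhyp
    · obtain ⟨d₀, h1, h2⟩ := SetLike.not_le_iff_exists.mp h
      exact abk_focal p hS F hF hp2 c hcZ hcc hcomm2 P₂ u₂ D₂ hd₂ P₁ u₁ D₁ hd₁ hu₁
        (fun P hP => (hess P hP).symm) d₀ h1 h2 hhyp

end AbKF

end Cfsg.Agent.Lib.Helper27
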