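import Mathlib
import Cfsg.Agent.Lib.Helper27.SmallZF
import Cfsg.Agent.Lib.Helper27.OrderCube
import Cfsg.Agent.Lib.Helper21.Dihedral

set_option autoImplicit false

namespace Cfsg.Agent.Lib.Helper27

open Cfsg Cfsg.FusionSystem Cfsg.Agent.Lib.Helper26

open scoped commutatorElement

section AbKG

variable {Ω : Type*} [Group Ω] {S : Subgroup Ω}

/-- An abelian essential subgroup `P = Z⟨x⟩` contains a noncentral element of order `p`. -/
theorem abk_exp_elt [Finite S] (p : ℕ) [Fact p.Prime] (hS : IsPGroup p S) (F : FusionSystem S)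
    (hF : F.IsSaturated p) (A : Subgroup Ω)
    (hAS : A ≤ S) (hAab : ∀ a ∈ A, ∀ b ∈ A, a * b = b * a)
    (hidx : (A.subgroupOf S).index = p)
    (hZA : S ⊓ Subgroup.centralizer (S : Set Ω) ≤ A)
    (hZ₀ : Nat.card ↥((S ⊓ Subgroup.centralizer (S : Set Ω)) ⊓
      ((commutator ↥S).map S.subtype)) = p)
    (x : Ω) (hxS : x ∈ S) (hxA : x ∉ A) (P : Subgroup Ω)
    (hPdef : P = (S ⊓ Subgroup.centralizer (S : Set Ω)) ⊔ Subgroup.zpowers x)
    (hP : F.IsEssential p P) :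
    ∃ u ∈ P, u ∉ S ⊓ Subgroup.centralizer (S : Set Ω) ∧ u ^ p = 1 := by
  have hp : p.Prime := Fact.out
  have hPS : P ≤ S := hP.1.1
  have hPfin : Finite P := finite_of_le hPS
  obtain ⟨hAn, hAc, hApow, hAgen⟩ := abIndex_facts p hS A hAS hidx
  have hdecS := hAgen x hxS hxA
  have hθA : ∀ a ∈ A, x⁻¹ * (a * x * a⁻¹) ∈ A := by
    intro a ha
    have h1 := hAc x⁻¹ (S.inv_mem hxS) a (hAS ha)
    rw [inv_inv] at h1
    have e : x⁻¹ * (a * x * a⁻¹) = x⁻¹ * a * x * a⁻¹ := by group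
    rw [e]
    exact h1
  have hxP : x ∈ P := by
    rw [hPdef]
    exact Subgroup.mem_sup_right (Subgroup.mem_zpowers x)
  have hZP : S ⊓ Subgroup.centralizer (S : Set Ω) ≤ P := by
    rw [hPdef]
    exact le_sup_left
  obtain ⟨hPx, hPab, hPA, hPdec, hxpZ⟩ := abg_basic A hAS hAab x hxS hdecS (hApow x hxS) P hPdef
  have hautS := abg_autS p A hAS hAab hAn hZ₀ x hxS hdecS hθA P hxP hPab hPA hPdec hxpZ
  -- the element a₁
  obtain ⟨s, hsS, hsN, hsP⟩ := essential_exists_normalizer p hS F hF hP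
  obtain ⟨i₀, hi₀⟩ := hdecS s hsS
  obtain ⟨a₁, ha₁⟩ : ∃ a₁, a₁ = s * (x ^ i₀)⁻¹ := ⟨_, rfl⟩
  have ha₁A : a₁ ∈ A := by
    rw [ha₁]
    exact hi₀
  have ha₁N : a₁ ∈ Subgroup.normalizer (P : Set Ω) := by
    rw [ha₁]
    exact Subgroup.mul_mem _ hsN (Subgroup.inv_mem _ (Subgroup.le_normalizer (P.pow_mem hxP i₀)))
  have ha₁P : a₁ ∉ P := by
    intro h
    apply hsP
    have e : s = a₁ * x ^ i₀ := by
      rw [ha₁]
      group
    rw [e]
    exact P.mul_mem h (P.pow_mem hxP i₀)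
  have ha₁x : a₁ * x * a₁⁻¹ ∈ P := (Subgroup.mem_normalizer_iff.mp ha₁N x).mp hxP
  obtain ⟨hu₁Z, hca₁Z, hca₁⟩ := abg_conj A hAS x hxS hθA P hxP hPA a₁ ha₁A ha₁x
  obtain ⟨u₁, hu₁⟩ : ∃ u₁, u₁ = x⁻¹ * (a₁ * x * a₁⁻¹) := ⟨_, rfl⟩
  rw [← hu₁] at hu₁Z hca₁
  have hu₁ne : u₁ ≠ 1 := by
    intro h
    rw [hu₁] at h
    exact ha₁P (hZP ((abd_ker A hAS hAab x hxS hdecS a₁ ha₁A).mp h))
  have hu₁S' : u₁ ∈ (commutator ↥S).map S.subtype :=
    (abd_comm_eq A hAS hAab hAn x hxS hdecS hθA _).mpr ⟨a₁, ha₁A, hu₁⟩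
  have hu₁Z₀ : u₁ ∈ (S ⊓ Subgroup.centralizer (S : Set Ω)) ⊓ ((commutator ↥S).map S.subtype) :=
    Subgroup.mem_inf.mpr ⟨hu₁Z, hu₁S'⟩
  have hu₁p : u₁ ^ p = 1 := abg_pow_card p _ hZ₀ _ hu₁Z₀
  -- the automorphism τ
  obtain ⟨τ, hτ⟩ : ∃ τ : MulAut P, ∀ y : P, ((τ y : P) : Ω) = a₁ * y * a₁⁻¹ :=
    ⟨P.normalizerMonoidHom ⟨a₁, ha₁N⟩, fun y => rfl⟩
  have hτS : τ ∈ autInducedBy S P := Fusion.mem_autInducedBy_iff.2 ⟨a₁, hAS ha₁A, hτ⟩
  have hτG : τ ∈ F.autGroup P := Fusion.autInducedBy_le_autGroup F hPS hτS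
  have hPa : F.IsFullyAutomized p P := (((Cfsg.Agent.S5077.result p hS F).1 hF).1 P hP.2.1).2
  have hτne : τ ≠ 1 := by
    intro h
    apply hu₁ne
    have h1 := hτ ⟨x, hxP⟩
    rw [h] at h1
    have h2 : a₁ * x * a₁⁻¹ = x := h1.symm
    rw [hu₁, h2, inv_mul_cancel]
  -- abstract setting
  have hc : ∀ a b : ↥P, a * b = b * a := fun a b => Subtype.ext (hPab a a.2 b b.2)
  obtain ⟨Zs, hZs⟩ : ∃ Zs : Subgroup ↥P, ∀ y : ↥P,
      y ∈ Zs ↔ (y : Ω) ∈ S ⊓ Subgroup.centralizer (S : Set Ω) :=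
    ⟨(S ⊓ Subgroup.centralizer (S : Set Ω)).subgroupOf P, fun y => Subgroup.mem_subgroupOf⟩
  have hZsn : Zs.Normal := by
    constructor
    intro n hn g
    rw [hc g n, mul_inv_cancel_right]
    exact hn
  have hZsidx : Zs.index = p := by
    apply index_eq_prime_of_gen Zs ⟨x, hxP⟩
    · intro h
      exact hxA (hZA ((hZs _).mp h))
    · rw [hZs]
      exact hxpZ
    · intro y
      obtain ⟨i, hi⟩ := hPdec y y.2
      exact ⟨i, (hZs _).mpr hi⟩
  have hgen : ∀ y : ↥P, y ∉ Zs → ∀ w : ↥P, ∃ i : ℕ, w * (y ^ i)⁻¹ ∈ Zs :=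
    fun y hy => gen_of_index_prime Zs hZsidx y hy
  obtain ⟨e₁, he₁⟩ : ∃ e₁ : ↥P, (e₁ : Ω) = u₁ := ⟨⟨u₁, hZP hu₁Z⟩, rfl⟩
  have he₁Z : e₁ ∈ Zs := by
    rw [hZs, he₁]
    exact hu₁Z
  have he₁p : e₁ ^ p = 1 := by
    apply Subtype.ext
    rw [Subgroup.coe_pow, he₁]
    exact hu₁p
  have hτ1 : ∀ z ∈ Zs, τ z = z := fun z hz => (hautS τ hτS).1 z ((hZs z).mp hz)
  have hτ2 : ∀ y : ↥P, ∃ i : ℕ, τ y = y * e₁ ^ i := by
    intro y
    obtain ⟨i, hi⟩ := hPdec y y.2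
    refine ⟨i, Subtype.ext ?_⟩
    rw [hτ, hca₁ y i hi, Subgroup.coe_mul, Subgroup.coe_pow, he₁]
  have hτ3 : ∀ y : ↥P, τ y = y → y ∈ Zs :=
    fun y hy => (hZs y).mpr ((hautS τ hτS).2 hτne y hy)
  obtain ⟨g, hgG, hgtw⟩ := exists_twist_of_essential p hS F hP
  have hPW0 : ∀ k ∈ F.autGroup P, k e₁ ∈ Zs → k * τ * k⁻¹ ∈ autInducedBy S P := by
    intro k hk hke
    apply mem_autS_of_stab p hS F hPa (Subgroup.zpowers (k e₁)) _ (k * τ * k⁻¹)
      (mul_mem (mul_mem hk hτG) (inv_mem hk))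
    · intro d hd
      obtain ⟨j, rfl⟩ := Subgroup.mem_zpowers_iff.mp hd
      show k (τ (k⁻¹ ((k e₁) ^ j))) = (k e₁) ^ j
      rw [map_zpow, MulAut.inv_apply_self, hτ1 _ (Zs.zpow_mem he₁Z j), map_zpow]
    · intro y
      obtain ⟨i, hi⟩ := hτ2 (k⁻¹ y)
      have e : y⁻¹ * (k * τ * k⁻¹) y = (k e₁) ^ i := by
        show y⁻¹ * k (τ (k⁻¹ y)) = (k e₁) ^ i
        rw [hi, map_mul, MulAut.apply_inv_self, map_pow, inv_mul_cancel_left]
      rw [e]
      exact Subgroup.pow_mem _ (Subgroup.mem_zpowers _) i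
    · intro t ht d hd
      have hdZ : d ∈ Zs := (Subgroup.zpowers_le.mpr hke) hd
      rw [(hautS t ht).1 d ((hZs d).mp hdZ)]
      exact hd
  have hPW : ∀ k ∈ F.autGroup P, k e₁ ∈ Zs → ∀ z : ↥P, k z ∈ Zs ↔ z ∈ Zs := by
    intro k hk hke z
    have ht := hPW0 k hk hke
    have hne : k * τ * k⁻¹ ≠ 1 := by
      intro h
      apply hτne
      have e : τ = k⁻¹ * (k * τ * k⁻¹) * k := by group
      rw [e, h]
      group
    have happ : ∀ y : ↥P, (k * τ * k⁻¹) (k y) = k (τ y) := by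
      intro y
      show k (τ (k⁻¹ (k y))) = k (τ y)
      rw [MulAut.inv_apply_self]
    constructor
    · intro hkz
      apply hτ3
      apply k.injective
      rw [← happ]
      exact (hautS _ ht).1 (k z) ((hZs _).mp hkz)
    · intro hz
      rw [hZs]
      apply (hautS _ ht).2 hne
      rw [happ, hτ1 z hz]
  have hg : g e₁ ∉ Zs := by
    intro h
    have h1 := hPW0 g hgG h
    exact hτne (abg_inn_trivial hPab τ (hgtw τ hτS h1))
  refine ⟨((g e₁ : ↥P) : Ω), (g e₁).2, fun h => hg ((hZs _).mpr h), ?_⟩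
  have h1 : (g e₁) ^ p = 1 := by rw [← map_pow, he₁p, map_one]
  have h2 := congrArg (fun q : ↥P => (q : Ω)) h1
  simpa using h2

/-- Odd case: `S` has exponent `p`. -/
theorem abk_exp [Finite S] (p : ℕ) [Fact p.Prime] (hS : IsPGroup p S) (F : FusionSystem S)
    (hF : F.IsSaturated p) (hp2 : p ≠ 2) (hna : ¬ ∀ s ∈ S, ∀ t ∈ S, s * t = t * s)
    (hZ : (Subgroup.center ↥S).index ≤ p ^ 2) (hcore : F.core = ⊥)
    (hZcard : Nat.card ↥(S ⊓ Subgroup.centralizer (S : Set Ω)) = p) :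
    ∀ s ∈ S, s ^ p = 1 := by
  have hp : p.Prime := Fact.out
  obtain ⟨hcomm, hpow⟩ := abk_quot_facts p hS hna hZ
  have hZp : ∀ z ∈ S ⊓ Subgroup.centralizer (S : Set Ω), z ^ p = 1 :=
    fun z hz => abg_pow_card p _ hZcard z hz
  have hmulpow : ∀ s ∈ S, ∀ t ∈ S, (s * t) ^ p = s ^ p * t ^ p := by
    intro s hs t ht
    obtain ⟨k, hk⟩ : ∃ k, k = t⁻¹ * s⁻¹ * t * s := ⟨_, rfl⟩
    have hkZ : k ∈ S ⊓ Subgroup.centralizer (S : Set Ω) := by
      have h0 := hcomm t⁻¹ (S.inv_mem ht) s⁻¹ (S.inv_mem hs)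
      rw [inv_inv, inv_inv] at h0
      rw [hk]
      exact h0
    obtain ⟨hkS, hkc⟩ := (abx_mem_Z).mp hkZ
    have h1 := mul_pow_of_central_comm s t k (by rw [hk]; group) (hkc s hs).symm
      (hkc t ht).symm p
    have h2 : p ∣ p.choose 2 := hp.dvd_choose_self (by norm_num) (by
      have := hp.two_le
      omega)
    obtain ⟨m, hm⟩ := h2
    rw [h1, hm, pow_mul, hZp k hkZ, one_pow, mul_one]
  obtain ⟨Om, hOm⟩ : ∃ Om : Subgroup Ω, ∀ s : Ω, s ∈ Om ↔ s ∈ S ∧ s ^ p = 1 :=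
    ⟨{ carrier := {s | s ∈ S ∧ s ^ p = 1}
       one_mem' := ⟨one_mem S, one_pow p⟩
       mul_mem' := by
         rintro a b ⟨ha, ha'⟩ ⟨hb, hb'⟩
         exact ⟨S.mul_mem ha hb, by rw [hmulpow a ha b hb, ha', hb', one_mul]⟩
       inv_mem' := by
         rintro a ⟨ha, ha'⟩
         exact ⟨S.inv_mem ha, by rw [inv_pow, ha', inv_one]⟩ }, fun s => Iff.rfl⟩
  by_contra hcon
  push Not at hcon
  obtain ⟨t, htS, htp⟩ := hcon
  have hOmS : Om ≤ S := fun s hs => ((hOm s).mp hs).1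
  have hOmlt : Om < S := by
    refine lt_of_le_of_ne hOmS (fun h => htp ?_)
    have h1 : t ∈ Om := by
      rw [h]
      exact htS
    exact ((hOm t).mp h1).2
  have hZOm : S ⊓ Subgroup.centralizer (S : Set Ω) ≤ Om :=
    fun z hz => (hOm z).mpr ⟨hz.1, hZp z hz⟩
  have hPOm : ∀ P : Subgroup Ω, F.IsEssential p P → P = Om := by
    intro P hP
    obtain ⟨x, hxS, A, hAS, hAab, hidx, hZA, hxA, hPdef, hZ₀⟩ :=
      abk_shape p hS F hF hna hZ P hP
    obtain ⟨u, huP, huZ, hup⟩ :=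
      abk_exp_elt p hS F hF A hAS hAab hidx hZA hZ₀ x hxS hxA P hPdef hP
    have hPS : P ≤ S := hP.1.1
    have hPlt : P < S := lt_of_isEssential F hF hP
    have hZP : S ⊓ Subgroup.centralizer (S : Set Ω) ≤ P := by
      rw [hPdef]
      exact le_sup_left
    obtain ⟨hgen, hPab, hPidx⟩ := abk_gen p hS hna hZ P hPlt hZP u huP huZ
    have hPle : P ≤ Om := by
      intro y hy
      obtain ⟨i, hi⟩ := hgen y hy
      rw [hOm]
      refine ⟨hPS hy, ?_⟩
      have e : y = (y * (u ^ i)⁻¹) * u ^ i := by group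
      have hc : Commute (y * (u ^ i)⁻¹) (u ^ i) := hPab _ (hZP hi) _ (P.pow_mem huP i)
      rw [e, hc.mul_pow, hZp _ hi, one_mul, ← pow_mul, mul_comm, pow_mul, hup, one_pow]
    have h1 := Subgroup.relIndex_mul_relIndex P Om S hPle hOmS
    have h2 : P.relIndex S = p := hPidx
    have h3 : Om.relIndex S ≠ 1 :=
      fun h => (not_le_of_gt hOmlt) (Subgroup.relIndex_eq_one.mp h)
    rw [h2] at h1
    have h4 : Om.relIndex S = p := by
      have h5 : Om.relIndex S ∣ p := Dvd.intro_left _ h1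
      rcases (Nat.dvd_prime hp).mp h5 with h | h
      · exact absurd h h3
      · exact h
    rw [h4] at h1
    have h6 : P.relIndex Om = 1 := by
      have h7 : P.relIndex Om * p = 1 * p := by rw [one_mul]; exact h1
      exact Nat.eq_of_mul_eq_mul_right hp.pos h7
    exact le_antisymm hPle (Subgroup.relIndex_eq_one.mp h6)
  have hn : F.IsNormal Om := by
    apply isNormal_of_forall_essential p hS F hF
    intro R hR
    rcases hR with hR | hR
    · rw [hR]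
      refine ⟨hOmS, abh_map_eq _ _ (fun α _ w hw => ?_)⟩
      rw [hOm] at hw ⊢
      refine ⟨(α w).2, ?_⟩
      have h2 : w ^ p = 1 := Subtype.ext (by rw [Subgroup.coe_pow]; exact hw.2)
      have h1 : (α w) ^ p = 1 := by rw [← map_pow, h2, map_one]
      have h3 := congrArg (fun q : ↥S => (q : Ω)) h1
      simpa using h3
    · have hRO := hPOm R hR
      rw [← hRO]
      exact ⟨le_rfl, abh_map_eq _ _ (fun α _ w _ => (α w).2)⟩
  have hle : Om ≤ F.core := le_sSup hn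
  rw [hcore] at hle
  exact abi_center_ne_bot p hS hna (hZOm.trans hle)

end AbKG

section Dih8

variable {G : Type*} [Group G] [Finite G]

theorem abk_dih8 (hcard : Nat.card G = 8) (s r : G) (hs : s * s = 1) (hr : orderOf r = 4)
    (hsr : s * r * s⁻¹ = r⁻¹) : Nonempty (G ≃* DihedralGroup 4) := by
  have hs' : s ∉ Subgroup.zpowers r := by
    intro h
    obtain ⟨j, hj⟩ := Subgroup.mem_zpowers_iff.mp h
    have hc : s * r = r * s := by
      rw [← hj]
      exact ((Commute.refl r).zpow_left j).eq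
    have h1 : r⁻¹ = r := by
      rw [← hsr, hc, mul_inv_cancel_right]
    have h2 : r ^ 2 = 1 := by
      rw [pow_two]
      nth_rewrite 1 [← h1]
      exact inv_mul_cancel r
    have h3 := orderOf_dvd_of_pow_eq_one h2
    rw [hr] at h3
    omega
  have hgen : Subgroup.closure ({s, r} : Set G) = ⊤ := by
    obtain ⟨H, hH⟩ : ∃ H : Subgroup G, H = Subgroup.closure ({s, r} : Set G) := ⟨_, rfl⟩
    rw [← hH]
    have hsH : s ∈ H := by
      rw [hH]
      exact Subgroup.subset_closure (Set.mem_insert s {r})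
    have hrH : r ∈ H := by
      rw [hH]
      exact Subgroup.subset_closure (Set.mem_insert_of_mem s rfl)
    have hle : Subgroup.zpowers r ≤ H := Subgroup.zpowers_le.mpr hrH
    have hc4 : Nat.card ↥(Subgroup.zpowers r) = 4 := by rw [Nat.card_zpowers, hr]
    have hd1 : 4 ∣ Nat.card ↥H := hc4 ▸ Subgroup.card_dvd_of_le hle
    have hd2 : Nat.card ↥H ∣ 8 := hcard ▸ Subgroup.card_subgroup_dvd_card H
    have hne4 : Nat.card ↥H ≠ 4 := by
      intro h4
      apply hs'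
      have e : Subgroup.zpowers r = H :=
        Subgroup.eq_of_le_of_card_ge hle (by rw [h4, hc4])
      rw [e]
      exact hsH
    have h8 : Nat.card ↥H = 8 := by
      have hle8 : Nat.card ↥H ≤ 8 := Nat.le_of_dvd (by norm_num) hd2
      have hpos : 0 < Nat.card ↥H := Nat.card_pos
      obtain ⟨k, hk⟩ := hd1
      have hk2 : k ≤ 2 := by omega
      interval_cases k <;> omega
    exact (Subgroup.card_eq_iff_eq_top H).mp (by rw [h8, hcard])
  obtain ⟨e⟩ := Cfsg.Agent.Lib.Helper21.nonempty_dihedral_mulEquiv s r 4 hs hr (by norm_num)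
    hsr hgen hs'
  exact ⟨e.symm⟩

end Dih8

section AbKG2

variable {Ω : Type*} [Group Ω] {S : Subgroup Ω}

theorem abk_dihedral [Finite S] (hcard : Nat.card S = 8)
    (hZcard : Nat.card ↥(S ⊓ Subgroup.centralizer (S : Set Ω)) = 2)
    (hcomm : ∀ s ∈ S, ∀ t ∈ S, s * t * s⁻¹ * t⁻¹ ∈ S ⊓ Subgroup.centralizer (S : Set Ω))
    (hpow : ∀ s ∈ S, s ^ 2 ∈ S ⊓ Subgroup.centralizer (S : Set Ω))
    (u : Ω) (huS : u ∈ S) (huZ : u ∉ S ⊓ Subgroup.centralizer (S : Set Ω)) (huu : u * u = 1) :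
    Nonempty (↥S ≃* DihedralGroup 4) := by
  obtain ⟨c', hc', -⟩ := (Nat.card_eq_two_iff'
    (1 : ↥(S ⊓ Subgroup.centralizer (S : Set Ω)))).mp hZcard
  obtain ⟨c, hc⟩ : ∃ c : Ω, c = (c' : Ω) := ⟨_, rfl⟩
  have hcZ : c ∈ S ⊓ Subgroup.centralizer (S : Set Ω) := by
    rw [hc]
    exact c'.2
  have hc1 : c ≠ 1 := by
    intro h
    apply hc'
    apply Subtype.ext
    rw [← hc, h]
    rfl
  have hZel : ∀ z ∈ S ⊓ Subgroup.centralizer (S : Set Ω), z = 1 ∨ z = c := by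
    intro z hz
    by_cases h : z = 1
    · exact Or.inl h
    · exact Or.inr (abk_two_unique _ hZcard z c hz hcZ h hc1)
  have hcc : c * c = 1 := by
    have h1 := abg_pow_card 2 _ hZcard c hcZ
    rw [← pow_two]
    exact h1
  obtain ⟨hcS, hccen⟩ := (abx_mem_Z).mp hcZ
  have huinv : u⁻¹ = u := inv_eq_of_mul_eq_one_left huu
  obtain ⟨b, hbS, hbu⟩ : ∃ b ∈ S, b * u ≠ u * b := by
    by_contra h
    push Not at h
    exact huZ ((abx_mem_Z).mpr ⟨huS, h⟩)
  have hub : u * b * u⁻¹ * b⁻¹ = c := by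
    rcases hZel _ (hcomm u huS b hbS) with h | h
    · exfalso
      apply hbu
      have h1 : u * b * u⁻¹ * b⁻¹ * b * u = 1 * b * u := by rw [h]
      rw [one_mul] at h1
      rw [← h1]
      group
    · exact h
  have hcard' : Nat.card ↥S = 8 := hcard
  have hss : (⟨u, huS⟩ : ↥S) * ⟨u, huS⟩ = 1 := Subtype.ext huu
  by_cases hbb : b * b = 1
  · have hbinv : b⁻¹ = b := inv_eq_of_mul_eq_one_left hbb
    have hrr : (u * b) * (u * b) = c := by
      calc (u * b) * (u * b) = u * b * u * b := by group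
        _ = u * b * u⁻¹ * b⁻¹ := by rw [huinv, hbinv]
        _ = c := hub
    have hr4 : orderOf ((⟨u, huS⟩ : ↥S) * ⟨b, hbS⟩) = 4 := by
      have h2 : ((⟨u, huS⟩ : ↥S) * ⟨b, hbS⟩) ^ 2 = ⟨c, hcS⟩ := by
        rw [pow_two]
        exact Subtype.ext hrr
      have hf2 : Fact (Nat.Prime 2) := ⟨Nat.prime_two⟩
      have e : (2 : ℕ) ^ (1 + 1) = 2 * 2 := by norm_num
      have h1 : orderOf ((⟨u, huS⟩ : ↥S) * ⟨b, hbS⟩) = 2 ^ (1 + 1) :=
        orderOf_eq_prime_pow (p := 2) (n := 1)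
        (by
          rw [pow_one, h2]
          intro h
          exact hc1 (congrArg Subtype.val h))
        (by
          rw [e, pow_mul, h2, pow_two]
          exact Subtype.ext hcc)
      rw [h1]
      norm_num
    apply abk_dih8 hcard' ⟨u, huS⟩ ((⟨u, huS⟩ : ↥S) * ⟨b, hbS⟩) hss hr4
    apply Subtype.ext
    show u * (u * b) * u⁻¹ = (u * b)⁻¹
    rw [← mul_assoc, huu, one_mul, mul_inv_rev, hbinv]
  · have hbc : b * b = c := by
      have h1 := hpow b hbS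
      rw [pow_two] at h1
      rcases hZel _ h1 with h | h
      · exact absurd h hbb
      · exact h
    have hr4 : orderOf (⟨b, hbS⟩ : ↥S) = 4 := by
      have h2 : (⟨b, hbS⟩ : ↥S) ^ 2 = ⟨c, hcS⟩ := by
        rw [pow_two]
        exact Subtype.ext hbc
      have hf2 : Fact (Nat.Prime 2) := ⟨Nat.prime_two⟩
      have e : (2 : ℕ) ^ (1 + 1) = 2 * 2 := by norm_num
      have h1 : orderOf (⟨b, hbS⟩ : ↥S) = 2 ^ (1 + 1) :=
        orderOf_eq_prime_pow (p := 2) (n := 1)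
        (by
          rw [pow_one, h2]
          intro h
          exact hc1 (congrArg Subtype.val h))
        (by
          rw [e, pow_mul, h2, pow_two]
          exact Subtype.ext hcc)
      rw [h1]
      norm_num
    apply abk_dih8 hcard' ⟨u, huS⟩ ⟨b, hbS⟩ hss hr4
    apply Subtype.ext
    show u * b * u⁻¹ = b⁻¹
    have h1 : u * b * u⁻¹ = c * b := by
      rw [← hub]
      group
    have h2 : b⁻¹ = c * b := by
      apply inv_eq_of_mul_eq_one_left
      rw [mul_assoc, hbc, hcc]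
    rw [h1, h2]

end AbKG2

end Cfsg.Agent.Lib.Helper27
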