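import Mathlib
import Cfsg.Agent.Lib.Helper27.SmallZG

set_option autoImplicit false

namespace Cfsg.Agent.Lib.Helper27

open Cfsg Cfsg.FusionSystem Cfsg.Agent.Lib.Helper26

section AbKH

variable {Ω : Type*} [Group Ω] {S : Subgroup Ω}

/-- `|S : Z(S)| ≤ p²`, `O_p(F) = 1` and `hyp(F) = S` force `S` extraspecial of order `p³`, of
exponent `p` for odd `p` and dihedral for `p = 2`. -/
theorem abk_result [Finite S] (p : ℕ) [Fact p.Prime] (hS : IsPGroup p S) (F : FusionSystem S)
    (hF : F.IsSaturated p) (hS1 : S ≠ ⊥) (hcore : F.core = ⊥)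
    (hhyp : F.hyperfocalSubgroup p = S) (hZ : (Subgroup.center ↥S).index ≤ p ^ 2) :
    Cfsg.IsExtraspecial p ↥S ∧ Nat.card S = p ^ 3 ∧ (p ≠ 2 → Monoid.exponent ↥S = p) ∧
      (p = 2 → Nonempty (↥S ≃* DihedralGroup 4)) := by
  have hp : p.Prime := Fact.out
  have hna := abk_nonab p hS F hF hS1 hcore
  have hcardQ := abk_card_quot p hS hna hZ
  have hZcard : Nat.card ↥(S ⊓ Subgroup.centralizer (S : Set Ω)) = p := by
    by_cases hp2 : p = 2
    · have h1 := (abk_two p hS F hF hp2 hna hZ hcore hhyp).1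
      rw [h1, hp2]
    · exact (abk_odd p hS F hF hp2 hna hZ hcore).2
  have hcenter : Nat.card (Subgroup.center ↥S) = p := by
    have e : (S ⊓ Subgroup.centralizer (S : Set Ω)).subgroupOf S = Subgroup.center ↥S := by
      ext s
      rw [Subgroup.mem_subgroupOf]
      exact (abk_mem_center s).symm
    rw [← e, abd_card_sub inf_le_left]
    exact hZcard
  have hcard : Nat.card S = p ^ 3 := by
    have h1 := Subgroup.card_eq_card_quotient_mul_card_subgroup (Subgroup.center ↥S)
    rw [hcardQ, hcenter] at h1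
    rw [h1]
    ring
  have hnc : ¬ ∀ a b : ↥S, a * b = b * a :=
    fun h => hna (fun s hs t ht => congrArg Subtype.val (h ⟨s, hs⟩ ⟨t, ht⟩))
  refine ⟨cube_extraspecial p hcard hnc, hcard, ?_, ?_⟩
  · intro hp2
    have hexp := abk_exp p hS F hF hp2 hna hZ hcore hZcard
    have hd : Monoid.exponent ↥S ∣ p :=
      Monoid.exponent_dvd_of_forall_pow_eq_one (fun g => Subtype.ext (by
        rw [Subgroup.coe_pow]
        exact hexp g g.2))
    rcases (Nat.dvd_prime hp).mp hd with h | h
    · exfalso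
      rw [Monoid.exp_eq_one_iff] at h
      exact hS1 (Subgroup.eq_bot_of_subsingleton S)
    · exact h
  · intro hp2
    obtain ⟨-, u, huS, huZ, huu⟩ := abk_two p hS F hF hp2 hna hZ hcore hhyp
    obtain ⟨hcomm, hpow⟩ := abk_quot_facts p hS hna hZ
    rw [hp2] at hZcard hpow hcard
    exact abk_dihedral (by rw [hcard]; norm_num) hZcard hcomm hpow u huS huZ huu

end AbKH

end Cfsg.Agent.Lib.Helper27
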