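import Mathlib
import Cfsg.Prelude.Def_FusionSystem
import Cfsg.Agent.Lib.Helper27.Lift
import Cfsg.Agent.Lib.Helper27.KNormAux
import Cfsg.Agent.Lib.Helper18.Basic

set_option autoImplicit false

namespace Cfsg.Agent.Lib.Helper27

open Cfsg Cfsg.FusionSystem Cfsg.Agent.Lib.Helper26

variable {Ω : Type*} [Group Ω] {S : Subgroup Ω}

/-- Frattini step for a strongly closed subgroup `T ≰ P`: `Aut_F(P) ≤ Aut_E(P)` as soon as `E`
contains the automorphisms of `P` acting trivially modulo `T` and all maps of `F` on larger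
subgroups. -/
theorem autGroup_le_of_tGroup [Finite S] (p : ℕ) [Fact p.Prime] (hS : IsPGroup p S)
    (F : FusionSystem S) {T : Subgroup Ω} (hT : F.StronglyClosed T) (E : FusionSystem S)
    {P : Subgroup Ω} (hPa : F.IsFullyAutomized p P) (hPr : F.IsReceptive P)
    (IH : ∀ N : Subgroup Ω, N ≤ S → Nat.card P < Nat.card N → F.Hom N ⊆ E.Hom N)
    (hTP : ¬ T ≤ P)
    (hκE : ∀ κ : F.autGroup P, κ ∈ tGroup F T P → (κ : MulAut P) ∈ E.autGroup P) :
    F.autGroup P ≤ E.autGroup P := by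
  intro α hα
  have hSNT := normal_of_stronglyClosed F hT
  have hPS : P ≤ S := hPa.1
  have hPfin : Finite P := finite_of_le hPS
  obtain ⟨-, R, hR⟩ := hPa
  have hKn : (tGroup F T P).Normal := tGroup_normal F hT hPS
  have hcard := card_sylow_inf_normal R (tGroup F T P)
  obtain ⟨n, hn, κ, hκ, hnκ⟩ := frattini_decomp
    (inf_le_right : (R : Subgroup (F.autGroup P)) ⊓ tGroup F T P ≤ tGroup F T P) hcard
    ⟨α, hα⟩
  have hnE : (n : MulAut P) ∈ E.autGroup P := by
    apply mem_autGroup_of_extender_lt F E hPr IH n.2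
    have hlt : P < P ⊔ T :=
      lt_of_le_of_ne le_sup_left (fun h => hTP (h ▸ le_sup_right))
    have hPTS : P ⊔ T ≤ S := sup_le hPS hT.1
    have hPTfin : Finite ↥(P ⊔ T) := finite_of_le hPTS
    obtain ⟨g, hg, hgN, hgP⟩ := exists_mem_normalizer_not_mem (hS.to_le hPTS) hlt
    have hmem : g ∈ ((P ⊔ T : Subgroup Ω) : Set Ω) := hg
    rw [Subgroup.coe_mul_of_left_le_normalizer_right P T (hPS.trans hSNT)] at hmem
    obtain ⟨u, hu, t, ht, rfl⟩ := Set.mem_mul.mp hmem
    have htN : t ∈ Subgroup.normalizer (P : Set Ω) := by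
      have : t = u⁻¹ * (u * t) := by group
      rw [this]
      exact Subgroup.mul_mem _ (Subgroup.inv_mem _ (Subgroup.le_normalizer hu)) hgN
    have htP : t ∉ P := fun h => hgP (P.mul_mem hu h)
    have htS : t ∈ S := hT.1 ht
    refine lt_of_le_not_ge (le_extender hPS (fun x => hPS (n.1 x).2)) (fun hle => htP (hle ?_))
    have hτA : P.normalizerMonoidHom ⟨t, htN⟩ ∈ F.autGroup P :=
      Fusion.autInducedBy_le_autGroup F hPS
        (Subgroup.subset_closure ⟨t, htS, fun x => rfl⟩)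
    have hτRK : (⟨P.normalizerMonoidHom ⟨t, htN⟩, hτA⟩ : F.autGroup P) ∈
        (R : Subgroup (F.autGroup P)) ⊓ tGroup F T P := by
      rw [Subgroup.mem_inf]
      refine ⟨?_, ?_⟩
      · rw [hR, Subgroup.mem_subgroupOf]
        exact Subgroup.subset_closure ⟨t, htS, fun x => rfl⟩
      · intro x
        show (x : Ω)⁻¹ * (t * (x : Ω) * t⁻¹) ∈ T
        have h1 : (x : Ω)⁻¹ * t * ((x : Ω)⁻¹)⁻¹ ∈ T :=
          (Subgroup.mem_normalizer_iff.mp (hSNT (S.inv_mem (hPS x.2))) t).mp ht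
        have e : (x : Ω)⁻¹ * (t * (x : Ω) * t⁻¹) = ((x : Ω)⁻¹ * t * ((x : Ω)⁻¹)⁻¹) * t⁻¹ := by
          group
        rw [e]
        exact T.mul_mem h1 (T.inv_mem ht)
    have hconj := (Subgroup.mem_normalizer_iff.mp hn _).mp hτRK
    rw [Subgroup.mem_inf] at hconj
    have hconjR := hconj.1
    rw [hR, Subgroup.mem_subgroupOf] at hconjR
    obtain ⟨h, hhS, -, hh⟩ := mem_autInducedBy_iff.mp hconjR
    refine Subgroup.subset_closure ⟨htS, htN, h, hhS, fun x hx => ?_⟩
    have h3 := hh ((n : MulAut P) x)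
    have e4 : ((n * (⟨P.normalizerMonoidHom ⟨t, htN⟩, hτA⟩ : F.autGroup P) * n⁻¹ :
        F.autGroup P) : MulAut P) ((n : MulAut P) x) =
        (n : MulAut P) (P.normalizerMonoidHom ⟨t, htN⟩ x) := by
      show (n : MulAut P) (P.normalizerMonoidHom ⟨t, htN⟩ ((n : MulAut P)⁻¹ ((n : MulAut P) x)))
        = _
      simp
    rw [e4] at h3
    exact h3
  have hαeq : α = (n : MulAut P) * (κ : MulAut P) := congrArg Subtype.val hnκ
  rw [hαeq]
  exact Subgroup.mul_mem _ hnE (hκE κ hκ)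

/-- The subsystem of `F` of maps preserving membership in an `S`-invariant subgroup `X`. -/
def stabSys (F : FusionSystem S) (X : Subgroup Ω)
    (hX : S ≤ Subgroup.normalizer (X : Set Ω)) : FusionSystem S where
  Hom P := {φ | φ ∈ F.Hom P ∧ ∀ x : P, (x : Ω) ∈ X ↔ φ x ∈ X}
  le_of_mem h := F.le_of_mem h.1
  injective_of_mem h := F.injective_of_mem h.1
  conj_mem := by
    intro P g hP hg
    exact ⟨F.conj_mem hP hg, fun x => Subgroup.mem_normalizer_iff.1 (hX hg) x⟩
  comp_mem := by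
    rintro P Q φ ψ ⟨hφ, h1⟩ ⟨hψ, h2⟩ h
    exact ⟨F.comp_mem hφ hψ h, fun x => (h1 x).trans (h2 (φ.codRestrict Q h x))⟩
  inv_mem := by
    rintro P φ ⟨hφ, h1⟩
    obtain ⟨ψ, hψ, hinv⟩ := F.inv_mem hφ
    refine ⟨ψ, ⟨hψ, ?_⟩, hinv⟩
    rintro ⟨_, x, rfl⟩
    rw [hinv]
    exact (h1 x).symm

/-- If `T` is strongly closed in the saturated system `F`, then so is `T C_S(T)`. -/
theorem stronglyClosed_sup_centralizerIn [Finite S] (p : ℕ) [Fact p.Prime] (hS : IsPGroup p S)
    (F : FusionSystem S) (hF : F.IsSaturated p) (T : Subgroup Ω) (hT : F.StronglyClosed T) :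
    F.StronglyClosed (T ⊔ centralizerIn S T) := by
  have hSNT := normal_of_stronglyClosed F hT
  have hTS := hT.1
  have hXS : T ⊔ centralizerIn S T ≤ S := sup_le hTS inf_le_left
  have hCN : S ≤ Subgroup.normalizer ((centralizerIn S T : Subgroup Ω) : Set Ω) := fun g hg =>
    Cfsg.Agent.Lib.Helper18.normalizer_inf_le S (Subgroup.centralizer (T : Set Ω))
      ⟨Subgroup.le_normalizer hg, normalizer_le_normalizer_centralizer T (hSNT hg)⟩
  have hXN : S ≤ Subgroup.normalizer ((T ⊔ centralizerIn S T : Subgroup Ω) : Set Ω) :=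
    fun g hg => Subgroup.normalizer_inf_normalizer_le_normalizer_sup _ _ ⟨hSNT hg, hCN hg⟩
  have key : F ≤ stabSys F (T ⊔ centralizerIn S T) hXN := by
    apply fusion_induction p hS F hF
    intro P hPa hPr IH
    have hPS := hPa.1
    have hPfin : Finite P := finite_of_le hPS
    by_cases hTP : T ≤ P
    · intro α hα
      rw [Fusion.mem_autGroup_iff _ hPS]
      refine ⟨(Fusion.mem_autGroup_iff F hPS).1 hα,
        stab_iff_of_imp (T ⊔ centralizerIn S T) α (fun m hm => ?_)⟩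
      have hmem : (m : Ω) ∈ ((T ⊔ centralizerIn S T : Subgroup Ω) : Set Ω) := hm
      rw [Subgroup.coe_mul_of_right_le_normalizer_left T (centralizerIn S T)
        (inf_le_left.trans hSNT)] at hmem
      obtain ⟨t, ht, c, hc, htc⟩ := Set.mem_mul.mp hmem
      have hcP : c ∈ P := by
        have : c = t⁻¹ * (m : Ω) := by rw [← htc]; group
        rw [this]
        exact P.mul_mem (P.inv_mem (hTP ht)) m.2
      have e : m = ⟨t, hTP ht⟩ * ⟨c, hcP⟩ := Subtype.ext htc.symm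
      rw [e, map_mul]
      have h1 : ((α ⟨t, hTP ht⟩ : P) : Ω) ∈ T :=
        apply_mem_of_stronglyClosed F hT hPS hα ⟨t, hTP ht⟩ ht
      have h2 : ((α ⟨c, hcP⟩ : P) : Ω) ∈ centralizerIn S T := by
        refine ⟨hPS (α ⟨c, hcP⟩).2, ?_⟩
        show ((α ⟨c, hcP⟩ : P) : Ω) ∈ Subgroup.centralizer (T : Set Ω)
        rw [Subgroup.mem_centralizer_iff]
        intro y hy
        have hy0 : ((α⁻¹ ⟨y, hTP hy⟩ : P) : Ω) ∈ T :=
          apply_mem_of_stronglyClosed F hT hPS (Subgroup.inv_mem _ hα) ⟨y, hTP hy⟩ hy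
        have hcomm : ((α⁻¹ ⟨y, hTP hy⟩ : P) : Ω) * c = c * ((α⁻¹ ⟨y, hTP hy⟩ : P) : Ω) :=
          (Subgroup.mem_centralizer_iff.1 hc.2) _ hy0
        have hcomm' : (α⁻¹ ⟨y, hTP hy⟩ : P) * ⟨c, hcP⟩ = ⟨c, hcP⟩ * (α⁻¹ ⟨y, hTP hy⟩ : P) :=
          Subtype.ext hcomm
        have h3 := congrArg (fun z : P => ((α z : P) : Ω)) hcomm'
        simp only [map_mul, MulAut.apply_inv_self] at h3
        exact h3
      exact Subgroup.mul_mem _ (Subgroup.mem_sup_left h1) (Subgroup.mem_sup_right h2)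
    · refine autGroup_le_of_tGroup p hS F hT _ hPa hPr IH hTP (fun κ hκ => ?_)
      rw [Fusion.mem_autGroup_iff _ hPS]
      refine ⟨(Fusion.mem_autGroup_iff F hPS).1 κ.2,
        stab_iff_of_imp (T ⊔ centralizerIn S T) (κ : MulAut P) (fun m hm => ?_)⟩
      have h1 := hκ m
      have e : ((((κ : MulAut P) m : P)) : Ω) = (m : Ω) * ((m : Ω)⁻¹ * (((κ : MulAut P) m : P) : Ω)) := by
        group
      rw [e]
      exact Subgroup.mul_mem _ hm (Subgroup.mem_sup_left h1)
  refine ⟨hXS, fun R hR φ hφ x => ?_⟩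
  exact ((key R hφ).2 x).1 (hR x.2)

end Cfsg.Agent.Lib.Helper27
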